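import Cfsg.Agent.Lib.Helper1.CD3.Defs
import Cfsg.Agent.Lib.Helper76.CD2Basic
import Mathlib

/-!
CD3B project (helper1, S4460): piece (K7) `exists_nonlinear_meta`, verbatim.
-/

set_option autoImplicit false

namespace Cfsg.Agent.Helper56.CD3B

open Cfsg Cfsg.Agent.Helper81 Cfsg.Agent.Helper1.CD3
open scoped commutatorElement

universe u

/-- if `W' ≤ W''` in a solvable group then `W' = ⊥` -/
theorem k7_commutator_eq_bot {W : Type u} [Group W] (hsolv : Group.IsSolvable W)
    (h : commutator W ≤ ⁅commutator W, commutator W⁆) : commutator W = ⊥ := by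
  have h1 : derivedSeries W 1 = commutator W := rfl
  have h2 : derivedSeries W 2 = ⁅commutator W, commutator W⁆ := rfl
  have hall : ∀ n : ℕ, derivedSeries W (n + 1) = commutator W := by
    intro n
    induction n with
    | zero => exact h1
    | succ n ih =>
      rw [derivedSeries_succ, ih]
      exact le_antisymm (Subgroup.commutator_le_left _ _) h
  obtain ⟨n, hn⟩ := hsolv.solvable
  rw [eq_bot_iff, ← hn, ← hall n]
  exact (derivedSeries_antitone W) (Nat.le_succ n)

/-- (K7) [MED] a nonabelian solvable group has a nonlinear irreducible character trivial on `W''`. -/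
theorem exists_nonlinear_meta {W : Type u} [Group W] [Finite W] (hsolv : Group.IsSolvable W)
    (hna : ¬ ∀ x y : W, x * y = y * x) :
    ∃ ω : W → ℂ, IsIrrCharacter W ω ∧ ω 1 ≠ 1 ∧
      ∀ x : W, x ∈ ⁅commutator W, commutator W⁆ → ω x = ω 1 := by
  classical
  set N : Subgroup W := ⁅commutator W, commutator W⁆ with hN
  have hNn : N.Normal := by
    rw [hN]; infer_instance
  -- the quotient is not abelian
  have hQ : ¬ ∀ a b : W ⧸ N, a * b = b * a := by
    intro hab
    apply hna
    have hle : commutator W ≤ N := by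
      rw [commutator_def, Subgroup.commutator_le]
      intro x _ y _
      rw [← QuotientGroup.eq_one_iff, commutatorElement_def]
      simp only [QuotientGroup.mk_mul, QuotientGroup.mk_inv]
      rw [hab (x : W ⧸ N) (y : W ⧸ N), mul_inv_cancel_right, mul_inv_cancel]
    have hbot := k7_commutator_eq_bot hsolv hle
    intro x y
    have : ⁅x, y⁆ ∈ commutator W :=
      Subgroup.commutator_mem_commutator (Subgroup.mem_top x) (Subgroup.mem_top y)
    rw [hbot, Subgroup.mem_bot, commutatorElement_eq_one_iff_mul_comm] at this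
    exact this
  have hex : ∃ ψ : IrrCharacter (W ⧸ N), charDegree (ψ : W ⧸ N → ℂ) ≠ 1 := by
    by_contra hcon
    push Not at hcon
    exact hQ (Cfsg.Agent.Helper76.CD2.comm_of_all_linear hcon)
  obtain ⟨ψ, hψ⟩ := hex
  refine ⟨(Cfsg.Agent.Helper79.inflate N ψ : W → ℂ), (Cfsg.Agent.Helper79.inflate N ψ).2, ?_, ?_⟩
  · intro h1
    apply hψ
    rw [← Cfsg.Agent.Helper79.charDegree_inflate N ψ]
    unfold charDegree
    rw [h1]
    simp
  · intro x hx
    rw [Cfsg.Agent.Helper79.inflate_apply, Cfsg.Agent.Helper79.inflate_apply,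
      (QuotientGroup.eq_one_iff x).mpr hx, QuotientGroup.mk_one]

end Cfsg.Agent.Helper56.CD3B
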