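import Mathlib
import Cfsg.Agent.Lib.Helper64.S4017Defs

/-!
S4017M project (helper64, S4017): piece (CT1) `Setting.ct1`, verbatim: `C(t) = Z Q` by orders.
-/

set_option autoImplicit false

namespace Cfsg.Agent.Helper56.S4017M

open Cfsg.Agent.Helper64.S4017

variable {G : Type*} [Group G] [Finite G] {a p : ℕ} {Q : Subgroup G} {x : G}

/-- a positive number all of whose prime factors are `2` or `p` is `2 ^ i * p ^ j` -/
theorem ct1_two_prime_card {n p : ℕ} (hn : n ≠ 0) (hp : p.Prime)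
    (hord : ∀ r : ℕ, r.Prime → r ∣ n → r = 2 ∨ r = p) :
    ∃ i j : ℕ, n = 2 ^ i * p ^ j := by
  set m := n / 2 ^ n.factorization 2 with hm
  have h1 : 2 ^ n.factorization 2 * m = n := Nat.ordProj_mul_ordCompl_eq_self n 2
  have hm0 : m ≠ 0 := by
    intro h0
    rw [h0, mul_zero] at h1
    exact hn h1.symm
  set m' := m / p ^ m.factorization p with hm'
  have h2 : p ^ m.factorization p * m' = m := Nat.ordProj_mul_ordCompl_eq_self m p
  have hm'1 : m' = 1 := by
    by_contra hne
    obtain ⟨r, hr, hrm'⟩ := Nat.exists_prime_and_dvd hne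
    have hrm : r ∣ m := dvd_trans hrm' (Nat.ordCompl_dvd m p)
    have hrn : r ∣ n := dvd_trans hrm (Nat.ordCompl_dvd n 2)
    rcases hord r hr hrn with h | h
    · subst h
      exact Nat.not_dvd_ordCompl Nat.prime_two hn hrm
    · subst h
      exact Nat.not_dvd_ordCompl hp hm0 hrm'
  rw [hm'1, mul_one] at h2
  exact ⟨n.factorization 2, m.factorization p, by rw [h2, h1]⟩

theorem ct1_p_ne_two (h : Setting a p Q x) : p ≠ 2 := by
  intro h2
  have h1 := h.p_eq
  have h3 := h.two_le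
  obtain ⟨b, rfl⟩ : ∃ b, a = b + 1 := ⟨a - 1, by omega⟩
  rw [pow_succ, h2] at h1
  omega

/-- `Q` is abelian (exponent two). -/
theorem ct1_Q_comm (h : Setting a p Q x) : ∀ s ∈ Q, ∀ s' ∈ Q, s * s' = s' * s := by
  intro s hs s' hs'
  have h1 := h.elem s hs
  have h2 := h.elem s' hs'
  have h3 := h.elem (s * s') (Q.mul_mem hs hs')
  have e1 : s⁻¹ = s := inv_eq_of_mul_eq_one_right h1
  have e2 : s'⁻¹ = s' := inv_eq_of_mul_eq_one_right h2
  have e3 : (s * s')⁻¹ = s * s' := inv_eq_of_mul_eq_one_right h3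
  rw [mul_inv_rev, e1, e2] at e3
  exact e3.symm

/-- the centraliser of a nontrivial element is proper (`G` is simple with `|Q| ≥ 4`) -/
theorem ct1_centralizer_ne_top (h : Setting a p Q x) {c : G} (hc : c ≠ 1) :
    Subgroup.centralizer {c} ≠ ⊤ := by
  classical
  intro htop
  haveI := h.simple
  have hcz : c ∈ Subgroup.center G := by
    rw [Subgroup.mem_center_iff]
    intro g
    have : g ∈ Subgroup.centralizer {c} := by rw [htop]; trivial
    rw [Subgroup.mem_centralizer_singleton_iff] at this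
    exact this
  have hcen : Subgroup.center G = ⊤ := by
    rcases (Subgroup.Normal.eq_bot_or_eq_top (inferInstance : (Subgroup.center G).Normal)) with h0 | h0
    · exfalso
      rw [h0, Subgroup.mem_bot] at hcz
      exact hc hcz
    · exact h0
  have hcomm : ∀ g k : G, g * k = k * g := by
    intro g k
    have : k ∈ Subgroup.center G := by rw [hcen]; trivial
    rw [Subgroup.mem_center_iff] at this
    exact this g
  -- a subgroup of order two
  have hQ1 : 1 < Nat.card Q := by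
    rw [h.card_Q]
    exact Nat.one_lt_two_pow (by have := h.two_le; omega)
  haveI : Finite Q := inferInstance
  haveI : Nontrivial Q := Finite.one_lt_card_iff_nontrivial.mp hQ1
  obtain ⟨⟨t, htQ⟩, ht1⟩ := exists_ne (1 : Q)
  have ht1' : t ≠ 1 := fun h0 => ht1 (Subtype.ext h0)
  have htt : t * t = 1 := h.elem t htQ
  have hN : (Subgroup.zpowers t).Normal := by
    refine ⟨fun n hn g => ?_⟩
    rw [hcomm g n, mul_assoc, mul_inv_cancel, mul_one]
    exact hn
  have hord : orderOf t = 2 := by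
    refine orderOf_eq_prime ?_ ht1'
    rw [pow_two]; exact htt
  have hcardz : Nat.card (Subgroup.zpowers t) = 2 := by
    rw [Nat.card_zpowers, hord]
  rcases hN.eq_bot_or_eq_top with h0 | h0
  · rw [h0, Subgroup.card_bot] at hcardz
    omega
  · have hQle : Nat.card Q ∣ Nat.card (Subgroup.zpowers t) := by
      apply Subgroup.card_dvd_of_le
      rw [h0]; exact le_top
    rw [hcardz, h.card_Q] at hQle
    have h4 : 2 ^ 2 ∣ 2 ^ a := pow_dvd_pow 2 h.two_le
    have := Nat.le_of_dvd (by norm_num) (dvd_trans h4 hQle)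
    omega

/-- (CT1) `C(t) = Z Q`, by orders. -/
theorem Setting.ct1 (h : Setting a p Q x) {t : G} (ht : t ∈ Q) (ht1 : t ≠ 1) (Z : Subgroup G)
    (hZ : ∀ z, z ∈ Z ↔ (z * t = t * z ∧ IsPel p z)) {g : G} (hg : g * t = t * g) :
    ∃ z s : G, IsPel p z ∧ z * t = t * z ∧ s ∈ Q ∧ g = z * s := by
  classical
  have hp : p.Prime := h.prime
  haveI : Fact p.Prime := ⟨hp⟩
  have hp2 : p ≠ 2 := ct1_p_ne_two h
  have hpodd : Nat.Coprime 2 p := (Nat.coprime_primes Nat.prime_two hp).mpr (Ne.symm hp2)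
  set C : Subgroup G := Subgroup.centralizer {t} with hC
  have hmemC : ∀ k : G, k ∈ C ↔ k * t = t * k := fun k =>
    Subgroup.mem_centralizer_singleton_iff
  have hQC : Q ≤ C := fun s hs => (hmemC s).mpr (ct1_Q_comm h s hs t ht)
  have hZC : Z ≤ C := fun z hz => (hmemC z).mpr ((hZ z).mp hz).1
  have hCtop : C ≠ ⊤ := ct1_centralizer_ne_top h ht1
  have hQdvd : Nat.card Q ∣ Nat.card C := Subgroup.card_dvd_of_le hQC
  have h2a : 2 ^ a ∣ Nat.card C := by rw [← h.card_Q]; exact hQdvd
  have h2C : 2 ∣ Nat.card C := dvd_trans (dvd_pow_self 2 (by have := h.two_le; omega)) h2a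
  have hord := h.star C hCtop h2C
  obtain ⟨i, j, hij⟩ := ct1_two_prime_card (Nat.card_pos (α := C)).ne' hp hord
  have hsyl : ¬ 2 ^ (a + 1) ∣ Nat.card C := fun hd =>
    h.sylow (dvd_trans hd (Subgroup.card_subgroup_dvd_card C))
  have hcop : ∀ m n : ℕ, Nat.Coprime (2 ^ m) (p ^ n) := fun m n =>
    Nat.Coprime.pow m n hpodd
  have hia : i = a := by
    have h1 : a ≤ i := by
      rw [hij] at h2a
      have := (hcop a j).dvd_of_dvd_mul_right h2a
      exact (Nat.pow_dvd_pow_iff_le_right (by norm_num)).mp this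
    have h2 : i < a + 1 := by
      by_contra hcon
      push_neg at hcon
      apply hsyl
      rw [hij]
      exact dvd_mul_of_dvd_left (pow_dvd_pow 2 hcon) _
    omega
  subst hia
  -- `Z` is a `p`-group
  have hZp : IsPGroup p Z := by
    rw [IsPGroup.iff_orderOf]
    intro z
    obtain ⟨k, hk⟩ := ((hZ z).mp z.2).2
    exact ⟨k, by rw [Subgroup.orderOf_coe] at hk; exact hk⟩
  obtain ⟨k, hk⟩ := IsPGroup.iff_card.mp hZp
  -- a subgroup of `C` of order `p ^ j`
  have hpj : p ^ j ∣ Nat.card C := by rw [hij]; exact dvd_mul_left _ _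
  obtain ⟨K, hK⟩ := Sylow.exists_subgroup_card_pow_prime p hpj
  have hKp : IsPGroup p K := IsPGroup.of_card hK
  have hKZ : K.map C.subtype ≤ Z := by
    rintro _ ⟨c, hc, rfl⟩
    rw [hZ]
    refine ⟨(hmemC _).mp c.2, ?_⟩
    obtain ⟨n, hn⟩ := (IsPGroup.iff_orderOf.mp hKp) ⟨c, hc⟩
    refine ⟨n, ?_⟩
    rw [← hn]
    change orderOf (c : G) = orderOf (⟨c, hc⟩ : K)
    rw [← Subgroup.orderOf_coe (⟨c, hc⟩ : K)]
    rw [← Subgroup.orderOf_coe c]
  have hKcard : Nat.card (K.map C.subtype) = p ^ j := by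
    rw [Subgroup.card_map_of_injective C.subtype_injective, hK]
  have hjk : j = k := by
    have h1 : p ^ j ∣ p ^ k := by
      rw [← hKcard, ← hk]
      exact Subgroup.card_dvd_of_le hKZ
    have h2 : p ^ k ∣ p ^ j := by
      have h3 : p ^ k ∣ 2 ^ i * p ^ j := by
        rw [← hk, ← hij]
        exact Subgroup.card_dvd_of_le hZC
      exact (hcop i k).symm.dvd_of_dvd_mul_left h3
    have e1 := (Nat.pow_dvd_pow_iff_le_right hp.one_lt).mp h1
    have e2 := (Nat.pow_dvd_pow_iff_le_right hp.one_lt).mp h2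
    omega
  subst hjk
  -- complements
  have hcZ : Nat.card (Z.subgroupOf C) = p ^ j := by
    rw [Nat.card_congr (Subgroup.subgroupOfEquivOfLe hZC).toEquiv, hk]
  have hcQ : Nat.card (Q.subgroupOf C) = 2 ^ i := by
    rw [Nat.card_congr (Subgroup.subgroupOfEquivOfLe hQC).toEquiv, h.card_Q]
  have hcomp : Subgroup.IsComplement' (Z.subgroupOf C) (Q.subgroupOf C) := by
    apply Subgroup.isComplement'_of_coprime
    · rw [hcZ, hcQ, hij, mul_comm]
    · rw [hcZ, hcQ]
      exact (hcop i j).symm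
  obtain ⟨⟨⟨z, hz⟩, ⟨s, hs⟩⟩, hzs, -⟩ := hcomp.existsUnique ⟨g, (hmemC g).mpr hg⟩
  rw [SetLike.mem_coe, Subgroup.mem_subgroupOf] at hz hs
  have hz' := (hZ _).mp hz
  refine ⟨(z : G), (s : G), hz'.2, hz'.1, hs, ?_⟩
  have := congrArg (Subtype.val) hzs
  simpa using this.symm

end Cfsg.Agent.Helper56.S4017M
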