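import Mathlib
import Cfsg.Prelude.Def_Transfer
import Cfsg.Agent.Lib.Helper24.CYCDefs

/-!
Shared small facts for helper56's pieces of the lemma server "CYC" (helper24, row S4016).
-/

set_option autoImplicit false

namespace Cfsg.Agent.Helper56.CYC

open Subgroup Cfsg.Agent.Helper24.CYC

universe u

variable {G : Type u} [Group G] [Finite G] {p : ℕ} [Fact p.Prime]

/-- a `p`-element of `N_G(P)` lies in `P`. -/
theorem h56_mem_sylow_of_mem_normalizer (P : Sylow p G) {x : G} (hx : x ∈ NP P)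
    (hxp : IsPGroup p (zpowers x)) : x ∈ P := by
  have h1 := hxp.inf_normalizer_sylow P
  have h2 : x ∈ zpowers x ⊓ normalizer ((P : Subgroup G) : Set G) :=
    ⟨mem_zpowers x, hx⟩
  have h3 : x ∈ zpowers x ⊓ (P : Subgroup G) := h1 ▸ h2
  exact h3.2

theorem h56_isPGroup_zpowers (x : G) (n : ℕ) (h : orderOf x = p ^ n) : IsPGroup p (zpowers x) := by
  apply IsPGroup.of_card (n := n)
  rw [Nat.card_zpowers, h]

/-- a nontrivial Sylow subgroup has a nontrivial element. -/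
theorem h56_exists_ne_one (hpd : p ∣ Nat.card G) (P : Sylow p G) : ∃ a ∈ P, a ≠ 1 := by
  have h := P.ne_bot_of_dvd_card hpd
  by_contra hcon
  apply h
  rw [Subgroup.eq_bot_iff_forall]
  intro x hx
  by_contra hx1
  exact hcon ⟨x, hx, hx1⟩

theorem h56_coprime_of_sq (hp2 : p ≠ 2) (s : G) (hs : s * s = 1) : (orderOf s).Coprime p := by
  have h1 : orderOf s ∣ 2 := orderOf_dvd_of_pow_eq_one (by rw [pow_two]; exact hs)
  have h2 : Nat.Coprime 2 p := (Nat.coprime_primes Nat.prime_two (Fact.out)).mpr (Ne.symm hp2)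
  exact Nat.Coprime.coprime_dvd_left h1 h2

theorem h56_sylow_comm (P : Sylow p G) (hcyc : IsCyclic P) (a b : G) (ha : a ∈ P) (hb : b ∈ P) :
    a * b = b * a := by
  obtain ⟨g, hg⟩ := hcyc.exists_generator
  obtain ⟨i, hi⟩ := Subgroup.mem_zpowers_iff.mp (hg ⟨a, ha⟩)
  obtain ⟨j, hj⟩ := Subgroup.mem_zpowers_iff.mp (hg ⟨b, hb⟩)
  have h1 : (⟨a, ha⟩ : P) * ⟨b, hb⟩ = ⟨b, hb⟩ * ⟨a, ha⟩ := by
    rw [← hi, ← hj, ← zpow_add, ← zpow_add, add_comm]
  exact congrArg Subtype.val h1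

theorem h56_not_dvd_card_sylow2 (hp2 : p ≠ 2) (S : Sylow 2 G) : ¬ p ∣ Nat.card S := by
  obtain ⟨n, hn⟩ := IsPGroup.exists_card_eq S.2
  intro h
  rw [hn] at h
  have h3 := (Nat.Prime.dvd_of_dvd_pow (Fact.out : p.Prime) h)
  exact hp2 ((Nat.prime_dvd_prime_iff_eq (Fact.out) Nat.prime_two).mp h3)

theorem h56_sylow2_comm (h1 : Core1 p G) (S : Sylow 2 G) (a b : G) (ha : a ∈ S) (hb : b ∈ S) :
    a * b = b * a :=
  h1.min.ab (S : Subgroup G) (h56_not_dvd_card_sylow2 h1.podd S) a ha b hb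

/-- an involution (possibly trivial) that is a `p`-element, `p` odd, is trivial. -/
theorem h56_eq_one_of_sq_of_mem (hp2 : p ≠ 2) (Q : Subgroup G) (hQ : IsPGroup p Q) (b : G) (hb : b ∈ Q)
    (hbb : b * b = 1) : b = 1 := by
  obtain ⟨k, hk⟩ := hQ ⟨b, hb⟩
  have hk' : b ^ (p ^ k) = 1 := by
    have := congrArg Subtype.val hk
    simpa using this
  have h1 : orderOf b ∣ p ^ k := orderOf_dvd_of_pow_eq_one hk'
  have h2 : orderOf b ∣ 2 := orderOf_dvd_of_pow_eq_one (by rw [pow_two]; exact hbb)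
  have h3 : Nat.Coprime (p ^ k) 2 := by
    apply Nat.Coprime.pow_left
    exact (Nat.coprime_primes (Fact.out) Nat.prime_two).mpr hp2
  have h4 : orderOf b ∣ 1 := by
    have := Nat.dvd_gcd h1 h2
    rwa [h3] at this
  exact orderOf_eq_one_iff.mp (Nat.dvd_one.mp h4)

end Cfsg.Agent.Helper56.CYC
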