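import Mathlib
import Cfsg.Prelude.Def_Transfer
import Cfsg.Agent.Lib.Helper24.CYCDefs
import Cfsg.Agent.Lib.Helper56.CYCBase

/-!
Piece (E5) of the lemma server "CYC" (helper24, row S4016): two non-commuting involutions lie in `Ivs P` for exactly one
Sylow `p`-subgroup `P`.
-/

set_option autoImplicit false

namespace Cfsg.Agent.Helper56.CYC

open Subgroup Cfsg.Agent.Helper24.CYC

universe u

variable {G : Type u} [Group G] [Finite G] {p : ℕ} [Fact p.Prime]

/-- if `s x s⁻¹ = x⁻¹` then `s` normalises `⟨x⟩`. -/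
theorem h56_mem_nrm_zpowers (s x : G) (h : s * x * s⁻¹ = x⁻¹) : s ∈ nrm (zpowers x) := by
  apply mem_normalizer_fintype
  intro n hn
  obtain ⟨k, rfl⟩ := Subgroup.mem_zpowers_iff.mp hn
  have h1 : s * x ^ k * s⁻¹ = (s * x * s⁻¹) ^ k := by
    rw [conj_zpow]
  rw [h1, h]
  exact Subgroup.zpow_mem _ (Subgroup.inv_mem _ (mem_zpowers x)) k

/-- if `s x s⁻¹ = x⁻¹` then `s` inverts every power of `x`. -/
theorem h56_conj_pow (s x : G) (h : s * x * s⁻¹ = x⁻¹) (k : ℕ) : s * x ^ k * s⁻¹ = (x ^ k)⁻¹ := by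
  have h1 : s * x ^ k * s⁻¹ = (s * x * s⁻¹) ^ k := by
    rw [conj_pow]
  rw [h1, h, inv_pow]

/-- existence part of (E5). -/
theorem h56_exists_sylow_of_not_comm (hC : Core p G) (s t : G) (hs : s * s = 1) (ht : t * t = 1)
    (hst : s * t ≠ t * s) : ∃ P : Sylow p G, s ∈ Ivs P ∧ t ∈ Ivs P := by
  have hp2 := hC.c1.podd
  have hsinv : s⁻¹ = s := inv_eq_of_mul_eq_one_right hs
  have htinv : t⁻¹ = t := inv_eq_of_mul_eq_one_right ht
  have hsw : s * (s * t) * s⁻¹ = (s * t)⁻¹ := by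
    rw [mul_inv_rev, hsinv, htinv, ← mul_assoc, hs, one_mul]
  have htw : t * (s * t) * t⁻¹ = (s * t)⁻¹ := by
    rw [mul_inv_rev, hsinv, htinv, mul_assoc, mul_assoc, ht, mul_one]
  -- `p ∣ o(st)`
  have hpw : p ∣ orderOf (s * t) := by
    by_contra hnd
    have hR : ¬ p ∣ Nat.card (zpowers (s * t)) := by rwa [Nat.card_zpowers]
    have hsn : s ∈ nrm (zpowers (s * t)) := h56_mem_nrm_zpowers s (s * t) hsw
    have h1 := hC.c1.pcent (zpowers (s * t)) hR s hsn (h56_coprime_of_sq hp2 s hs)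
    have h2 : s * t * s = s * (s * t) := h1 (s * t) (mem_zpowers _)
    apply hst
    have h3 : s * (s * t * s) = s * (s * (s * t)) := by rw [h2]
    have h4 : s * (s * t * s) = t * s := by
      rw [← mul_assoc s (s * t), ← mul_assoc s s t, hs, one_mul]
    have h5 : s * (s * (s * t)) = s * t := by
      rw [← mul_assoc s s, hs, one_mul]
    exact h5.symm.trans (h3.symm.trans h4)
  -- an element `u` of order `p` inverted by `s` and `t`
  set u := (s * t) ^ (orderOf (s * t) / p) with hu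
  have huo : orderOf u = p := by
    have hpos : 0 < orderOf (s * t) := orderOf_pos _
    exact orderOf_pow_orderOf_div hpos.ne' hpw
  have hsu : s * u * s⁻¹ = u⁻¹ := h56_conj_pow s (s * t) hsw _
  have htu : t * u * t⁻¹ = u⁻¹ := h56_conj_pow t (s * t) htw _
  have hu1 : u ≠ 1 := by
    intro h
    rw [h, orderOf_one] at huo
    exact (Fact.out : p.Prime).one_lt.ne huo
  have hup : IsPGroup p (zpowers u) := h56_isPGroup_zpowers u 1 (by rw [huo, pow_one])
  obtain ⟨P, hP⟩ := hup.exists_le_sylow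
  refine ⟨P, ?_, ?_⟩
  all_goals
    have hQ : zpowers u ≠ ⊥ := by
      intro h
      apply hu1
      have : u ∈ (⊥ : Subgroup G) := h ▸ mem_zpowers u
      simpa using this
    have hnq := hC.c1.nq P (zpowers u) hP hQ
  · refine ⟨hs, ?_, ?_⟩
    · have : s ∈ nrm (zpowers u) := h56_mem_nrm_zpowers s u hsu
      rw [hnq] at this
      exact this
    · intro hsc
      have h1 : u * s = s * u := hsc u (hP (mem_zpowers u))
      have h2 : u = u⁻¹ := by
        rw [← hsu, ← h1, mul_inv_cancel_right]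
      have h3 : u * u = 1 := by
        nth_rewrite 2 [h2]
        exact mul_inv_cancel u
      exact hu1 (h56_eq_one_of_sq_of_mem hp2 (zpowers u) hup u (mem_zpowers u) h3)
  · refine ⟨ht, ?_, ?_⟩
    · have : t ∈ nrm (zpowers u) := h56_mem_nrm_zpowers t u htu
      rw [hnq] at this
      exact this
    · intro hsc
      have h1 : u * t = t * u := hsc u (hP (mem_zpowers u))
      have h2 : u = u⁻¹ := by
        rw [← htu, ← h1, mul_inv_cancel_right]
      have h3 : u * u = 1 := by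
        nth_rewrite 2 [h2]
        exact mul_inv_cancel u
      exact hu1 (h56_eq_one_of_sq_of_mem hp2 (zpowers u) hup u (mem_zpowers u) h3)

/-- a product of two elements of `Ivs P` centralises `P`. -/
theorem h56_mul_mem_CP (hC : Core p G) (P : Sylow p G) (s t : G) (hs : s ∈ Ivs P) (ht : t ∈ Ivs P) :
    s * t ∈ CP P := by
  intro b hb
  have h1 := hC.invert P t ht b hb
  have h2 := hC.invert P s hs b⁻¹ (Subgroup.inv_mem _ hb)
  rw [inv_inv] at h2
  -- s (t b t⁻¹) s⁻¹ = b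
  have h3 : s * t * b * (s * t)⁻¹ = b := by
    rw [mul_inv_rev]
    calc s * t * b * (t⁻¹ * s⁻¹) = s * (t * b * t⁻¹) * s⁻¹ := by group
      _ = b := by rw [h1, h2]
  calc b * (s * t) = (s * t * b * (s * t)⁻¹) * (s * t) := by rw [h3]
    _ = s * t * b := by group

/-- uniqueness part of (E5). -/
theorem h56_sylow_unique_of_not_comm (hC : Core p G) (s t : G) (hst : s * t ≠ t * s)
    (P₁ P₂ : Sylow p G) (h1 : s ∈ Ivs P₁ ∧ t ∈ Ivs P₁) (h2 : s ∈ Ivs P₂ ∧ t ∈ Ivs P₂) : P₁ = P₂ := by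
  have hw1 : s * t ∈ CP P₁ := h56_mul_mem_CP hC P₁ s t h1.1 h1.2
  have hw2 : s * t ∈ CP P₂ := h56_mul_mem_CP hC P₂ s t h2.1 h2.2
  have hwne : s * t ≠ 1 := by
    intro h
    apply hst
    have hsinv : s⁻¹ = t := inv_eq_of_mul_eq_one_right h
    have : t * s = 1 := by rw [← hsinv]; exact inv_mul_cancel s
    rw [h, this]
  obtain ⟨a₁, ha₁, ha₁1⟩ := h56_exists_ne_one hC.c1.min.pdvd P₁
  obtain ⟨a₂, ha₂, ha₂1⟩ := h56_exists_ne_one hC.c1.min.pdvd P₂
  have hpos : orderOf (s * t) ≠ 0 := (orderOf_pos _).ne'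
  obtain ⟨k, m, hm, hkm⟩ := Nat.exists_eq_pow_mul_and_not_dvd hpos p (Fact.out : p.Prime).ne_one
  by_cases hm1 : m = 1
  · -- `st` is a `p`-element
    rw [hm1, mul_one] at hkm
    have hwp : IsPGroup p (zpowers (s * t)) := h56_isPGroup_zpowers _ k hkm
    have hn1 : s * t ∈ NP P₁ := Subgroup.centralizer_le_normalizer _ hw1
    have hn2 : s * t ∈ NP P₂ := Subgroup.centralizer_le_normalizer _ hw2
    exact hC.c1.ti P₁ P₂ (s * t) (h56_mem_sylow_of_mem_normalizer P₁ hn1 hwp)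
      (h56_mem_sylow_of_mem_normalizer P₂ hn2 hwp) hwne
  · -- the `p'`-part of `st`
    set t' := (s * t) ^ (p ^ k) with ht'
    have hpk : p ^ k ∣ orderOf (s * t) := ⟨m, hkm⟩
    have hto : orderOf t' = m := by
      rw [ht', orderOf_pow_of_dvd (pow_ne_zero _ (Fact.out : p.Prime).ne_zero) hpk, hkm]
      exact Nat.mul_div_cancel_left m (pow_pos (Fact.out : p.Prime).pos k)
    have ht'1 : t' ≠ 1 := by
      intro h
      rw [h, orderOf_one] at hto
      exact hm1 hto.symm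
    have ht'p : (orderOf t').Coprime p := by
      rw [hto]
      exact (Nat.Coprime.symm ((Nat.Prime.coprime_iff_not_dvd (Fact.out : p.Prime)).mpr hm))
    have hc1 : a₁ * t' = t' * a₁ :=
      (Subgroup.pow_mem _ hw1 (p ^ k)) a₁ ha₁
    have hc2 : a₂ * t' = t' * a₂ :=
      (Subgroup.pow_mem _ hw2 (p ^ k)) a₂ ha₂
    have hk1 := hC.key P₁ a₁ t' ha₁ ha₁1 ht'1 ht'p hc1
    have hk2 := hC.key P₂ a₂ t' ha₂ ha₂1 ht'1 ht'p hc2
    have hNN : NP P₁ = NP P₂ := hk1.symm.trans hk2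
    -- `P₂ ≤ N_G(P₁)` is a `p`-subgroup
    have hle : (P₂ : Subgroup G) ≤ NP P₁ := by
      rw [hNN]
      exact Subgroup.le_normalizer
    have hfix : P₁ ∈ MulAction.fixedPoints (P₂ : Subgroup G) (Sylow p G) :=
      (Subgroup.sylow_mem_fixedPoints_iff (P₂ : Subgroup G)).mpr hle
    have hle2 : (P₂ : Subgroup G) ≤ P₁ := (P₂.2.sylow_mem_fixedPoints_iff).mp hfix
    have := P₂.3 P₁.2 hle2
    exact Sylow.ext this

/-- (E5) two non-commuting involutions lie in `Ivs P` for exactly one `P`. -/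
theorem exists_unique_sylow_of_not_comm (hC : Core p G) (s t : G) (hs : s * s = 1) (ht : t * t = 1) (hst : s * t ≠ t * s) :
    ∃! P : Sylow p G, s ∈ Ivs P ∧ t ∈ Ivs P := by
  obtain ⟨P, hP⟩ := h56_exists_sylow_of_not_comm hC s t hs ht hst
  exact ⟨P, hP, fun Q hQ => h56_sylow_unique_of_not_comm hC s t hst Q P hQ hP⟩

end Cfsg.Agent.Helper56.CYC
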