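import Mathlib
import Cfsg.Prelude.Def_Transfer
import Cfsg.Agent.Lib.Helper24.CYCDefs
import Cfsg.Agent.Lib.Helper56.CYCBase
import Cfsg.Agent.Lib.Helper56.CYCE5

/-!
Piece (E6a) of the lemma server "CYC" (helper24, row S4016): the structure of `Ivs P`.
-/

set_option autoImplicit false

namespace Cfsg.Agent.Helper56.CYC

open Subgroup Cfsg.Agent.Helper24.CYC

universe u

variable {G : Type u} [Group G] [Finite G] {p : ℕ} [Fact p.Prime]

theorem h56_e6_inf (P : Sylow p G) (K : Subgroup G) (hKp : ¬ p ∣ Nat.card K) :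
    ∀ x, x ∈ P → x ∈ K → x = 1 := by
  intro x hxP hxK
  have hcop : Nat.Coprime (Nat.card (P : Subgroup G)) (Nat.card K) := by
    obtain ⟨n, hn⟩ := IsPGroup.exists_card_eq P.2
    rw [hn]
    exact Nat.Coprime.pow_left n ((Nat.Prime.coprime_iff_not_dvd Fact.out).mpr hKp)
  have h := Subgroup.inf_eq_bot_of_coprime hcop
  have hx : x ∈ (P : Subgroup G) ⊓ K := ⟨hxP, hxK⟩
  rw [h] at hx
  exact Subgroup.mem_bot.mp hx

theorem h56_e6_unique (P : Sylow p G) (K : Subgroup G) (hKp : ¬ p ∣ Nat.card K)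
    (b k b' k' : G) (hb : b ∈ P) (hk : k ∈ K) (hb' : b' ∈ P) (hk' : k' ∈ K) (h : b * k = b' * k') :
    b = b' ∧ k = k' := by
  have h1 : b'⁻¹ * b = k' * k⁻¹ := by
    have e1 : b'⁻¹ * b = b'⁻¹ * (b * k) * k⁻¹ := by group
    rw [e1, h]; group
  have h2 : b'⁻¹ * b = 1 :=
    h56_e6_inf P K hKp _ (mul_mem (inv_mem hb') hb) (h1 ▸ mul_mem hk' (inv_mem hk))
  have h3 : b' = b := inv_mul_eq_one.mp h2
  subst h3
  exact ⟨rfl, mul_left_cancel h⟩

theorem h56_e6_decomp (P : Sylow p G) (K : Subgroup G) (hKN : K ≤ NP P) (hKp : ¬ p ∣ Nat.card K)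
    (hcard : Nat.card K * Nat.card P = Nat.card (NP P)) (x : G) (hx : x ∈ NP P) :
    ∃ b ∈ P, ∃ k ∈ K, x = b * k := by
  let f : (↥(P : Subgroup G)) × (↥K) → NP P := fun y =>
    ⟨y.1.1 * y.2.1, mul_mem (Subgroup.le_normalizer y.1.2) (hKN y.2.2)⟩
  have hinj : Function.Injective f := by
    intro y z hyz
    have h : y.1.1 * y.2.1 = z.1.1 * z.2.1 := congrArg Subtype.val hyz
    have h2 := h56_e6_unique P K hKp _ _ _ _ y.1.2 y.2.2 z.1.2 z.2.2 h
    exact Prod.ext (Subtype.ext h2.1) (Subtype.ext h2.2)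
  have hc : Nat.card (NP P) ≤ Nat.card ((↥(P : Subgroup G)) × (↥K)) := by
    rw [Nat.card_prod, ← hcard, mul_comm]
  have hbij := hinj.bijective_of_nat_card_le hc
  obtain ⟨y, hy⟩ := hbij.2 ⟨x, hx⟩
  exact ⟨y.1.1, y.1.2, y.2.1, y.2.2, (congrArg Subtype.val hy).symm⟩

/-- (E6a) structure of `Ivs P`. -/
theorem inv_count (hC : Core p G) (P : Sylow p G) :
    ∃ j : ℕ, (j = 0 ∨ ∃ m : ℕ, j = 2 ^ m) ∧ Nat.card (Ivs P) = Nat.card P * j ∧
      ∀ s ∈ Ivs P, Nat.card {t : G // t ∈ Ivs P ∧ s * t = t * s} = j := by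
  obtain ⟨K, hKN, hKp, hKcard, hKC⟩ := hC.c1.compl P
  have hKab := hC.c1.min.ab K hKp
  have hp2 := hC.c1.podd
  have hcyc := hC.c1.min.cyc P
  have hPC : ∀ b ∈ P, b ∈ CP P := fun b hb c hc => h56_sylow_comm P hcyc c b hc hb
  set J : Set G := {k | k ∈ K ∧ k * k = 1 ∧ k ∉ CP P} with hJ
  have hJI : ∀ k ∈ J, k ∈ Ivs P := fun k hk => ⟨hk.2.1, hKN hk.1, hk.2.2⟩
  have hinv : ∀ k ∈ J, ∀ b ∈ P, k * b = b⁻¹ * k := by
    intro k hk b hb
    have h := hC.invert P k (hJI k hk) b hb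
    rw [← h]; group
  have F4 : ∀ b ∈ P, ∀ k ∈ J, b * k ∈ Ivs P := by
    intro b hb k hk
    refine ⟨?_, mul_mem (Subgroup.le_normalizer hb) (hKN hk.1), ?_⟩
    · calc b * k * (b * k) = b * (k * b) * k := by group
        _ = b * (b⁻¹ * k) * k := by rw [hinv k hk b hb]
        _ = k * k := by group
        _ = 1 := hk.2.1
    · intro h
      apply hk.2.2
      have e : k = b⁻¹ * (b * k) := by group
      rw [e]
      exact mul_mem (hPC _ (inv_mem hb)) h
  have F5 : ∀ s ∈ Ivs P, ∃ b ∈ P, ∃ k ∈ J, s = b * k := by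
    intro s hs
    obtain ⟨b, hb, k, hk, rfl⟩ := h56_e6_decomp P K hKN hKp hKcard s hs.2.1
    refine ⟨b, hb, k, ?_, rfl⟩
    have hkn : k * b * k⁻¹ ∈ P := (Subgroup.mem_set_normalizer_iff.mp (hKN hk) b).mp hb
    have h1 : (b * (k * b * k⁻¹)) * (k * k) = 1 * 1 := by
      rw [one_mul]
      calc (b * (k * b * k⁻¹)) * (k * k) = b * k * (b * k) := by group
        _ = 1 := hs.1
    have h2 := h56_e6_unique P K hKp _ _ _ _ (mul_mem hb hkn) (mul_mem hk hk) (one_mem _) (one_mem _) h1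
    refine ⟨hk, h2.2, ?_⟩
    intro hkc
    have h3 : k * b * k⁻¹ = b := by
      have h := hkc b hb
      rw [← h]; group
    have h4 : b * b = 1 := by
      have h := h2.1
      rwa [h3] at h
    have h5 : b = 1 := h56_eq_one_of_sq_of_mem hp2 (P : Subgroup G) P.2 b hb h4
    apply hs.2.2
    rw [h5, one_mul]
    exact hkc
  have F6 : ∀ b ∈ P, ∀ k ∈ J, ∀ b' ∈ P, ∀ k' ∈ J,
      (b * k * (b' * k') = b' * k' * (b * k) ↔ b = b') := by
    intro b hb k hk b' hb' k' hk'
    have e1 : b * k * (b' * k') = (b * b'⁻¹) * (k * k') := by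
      calc b * k * (b' * k') = b * (k * b') * k' := by group
        _ = b * (b'⁻¹ * k) * k' := by rw [hinv k hk b' hb']
        _ = (b * b'⁻¹) * (k * k') := by group
    have e2 : b' * k' * (b * k) = (b' * b⁻¹) * (k * k') := by
      calc b' * k' * (b * k) = b' * (k' * b) * k := by group
        _ = b' * (b⁻¹ * k') * k := by rw [hinv k' hk' b hb]
        _ = (b' * b⁻¹) * (k' * k) := by group
        _ = (b' * b⁻¹) * (k * k') := by rw [hKab k' hk'.1 k hk.1]
    rw [e1, e2]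
    constructor
    · intro h
      have h1 : b * b'⁻¹ = b' * b⁻¹ := mul_right_cancel h
      have h2 : (b * b'⁻¹) * (b * b'⁻¹) = 1 := by
        nth_rewrite 2 [h1]; group
      have h3 := h56_eq_one_of_sq_of_mem hp2 (P : Subgroup G) P.2 _ (mul_mem hb (inv_mem hb')) h2
      exact mul_inv_eq_one.mp h3
    · intro h
      subst h
      rfl
  have hB : Nat.card (Ivs P) = Nat.card P * Nat.card J := by
    let φ : (↥(P : Subgroup G)) × (↥J) → Ivs P := fun y => ⟨y.1.1 * y.2.1, F4 _ y.1.2 _ y.2.2⟩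
    have hbij : Function.Bijective φ := by
      constructor
      · intro y z hyz
        have h : y.1.1 * y.2.1 = z.1.1 * z.2.1 := congrArg Subtype.val hyz
        have h2 := h56_e6_unique P K hKp _ _ _ _ y.1.2 y.2.2.1 z.1.2 z.2.2.1 h
        exact Prod.ext (Subtype.ext h2.1) (Subtype.ext h2.2)
      · rintro ⟨s, hs⟩
        obtain ⟨b, hb, k, hk, rfl⟩ := F5 s hs
        exact ⟨(⟨b, hb⟩, ⟨k, hk⟩), rfl⟩
    rw [← Nat.card_congr (Equiv.ofBijective φ hbij), Nat.card_prod]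
  have hCc : ∀ s ∈ Ivs P, Nat.card {t : G // t ∈ Ivs P ∧ s * t = t * s} = Nat.card J := by
    intro s hs
    obtain ⟨b, hb, k, hk, rfl⟩ := F5 s hs
    let ψ : J → {t : G // t ∈ Ivs P ∧ b * k * t = t * (b * k)} := fun k' =>
      ⟨b * k'.1, F4 b hb _ k'.2, (F6 b hb k hk b hb k'.1 k'.2).mpr rfl⟩
    have hbij : Function.Bijective ψ := by
      constructor
      · intro y z hyz
        have h : b * y.1 = b * z.1 := congrArg Subtype.val hyz
        exact Subtype.ext (mul_left_cancel h)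
      · rintro ⟨t, ht, hc⟩
        obtain ⟨b', hb', k', hk', rfl⟩ := F5 t ht
        have h := (F6 b hb k hk b' hb' k' hk').mp hc
        subst h
        exact ⟨⟨k', hk'⟩, rfl⟩
    exact (Nat.card_congr (Equiv.ofBijective ψ hbij)).symm
  have hA : Nat.card J = 0 ∨ ∃ m : ℕ, Nat.card J = 2 ^ m := by
    by_cases hne : J.Nonempty
    · right
      obtain ⟨k₀, hk₀⟩ := hne
      have hk₀inv : k₀⁻¹ = k₀ := inv_eq_of_mul_eq_one_right hk₀.2.1
      let Ω₀ : Subgroup G :=
        { carrier := {x | x ∈ K ∧ x * x = 1 ∧ x ∈ CP P}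
          mul_mem' := by
            rintro a b ⟨ha, ha2, hac⟩ ⟨hb, hb2, hbc⟩
            refine ⟨mul_mem ha hb, ?_, mul_mem hac hbc⟩
            calc a * b * (a * b) = a * (b * a) * b := by group
              _ = a * (a * b) * b := by rw [hKab b hb a ha]
              _ = (a * a) * (b * b) := by group
              _ = 1 := by rw [ha2, hb2, one_mul]
          one_mem' := ⟨one_mem _, one_mul 1, one_mem _⟩
          inv_mem' := by
            rintro a ⟨ha, ha2, hac⟩
            have e : a⁻¹ = a := inv_eq_of_mul_eq_one_right ha2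
            show a⁻¹ ∈ K ∧ a⁻¹ * a⁻¹ = 1 ∧ a⁻¹ ∈ CP P
            rw [e]
            exact ⟨ha, ha2, hac⟩ }
      have hΩ2 : IsPGroup 2 Ω₀ := by
        intro x
        refine ⟨1, ?_⟩
        apply Subtype.ext
        have h : (x : G) * (x : G) = 1 := x.2.2.1
        simp [pow_two, h]
      obtain ⟨m, hm⟩ := hΩ2.exists_card_eq
      refine ⟨m, ?_⟩
      rw [← hm]
      have hχ : ∀ x : Ω₀, k₀ * x.1 ∈ J := by
        intro x
        obtain ⟨hxK, hx2, hxc⟩ := x.2
        refine ⟨mul_mem hk₀.1 hxK, ?_, ?_⟩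
        · calc k₀ * x.1 * (k₀ * x.1) = k₀ * (x.1 * k₀) * x.1 := by group
            _ = k₀ * (k₀ * x.1) * x.1 := by rw [hKab x.1 hxK k₀ hk₀.1]
            _ = (k₀ * k₀) * (x.1 * x.1) := by group
            _ = 1 := by rw [hk₀.2.1, hx2, one_mul]
        · intro h
          apply hk₀.2.2
          have e : k₀ = (k₀ * x.1) * x.1⁻¹ := by group
          rw [e]
          exact mul_mem h (inv_mem hxc)
      let χ : Ω₀ → J := fun x => ⟨k₀ * x.1, hχ x⟩
      have hbij : Function.Bijective χ := by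
        constructor
        · intro y z hyz
          have h : k₀ * y.1 = k₀ * z.1 := congrArg Subtype.val hyz
          exact Subtype.ext (mul_left_cancel h)
        · rintro ⟨k, hk⟩
          have hx : k₀ * k ∈ Ω₀ := by
            refine ⟨mul_mem hk₀.1 hk.1, ?_, h56_mul_mem_CP hC P k₀ k (hJI _ hk₀) (hJI _ hk)⟩
            calc k₀ * k * (k₀ * k) = k₀ * (k * k₀) * k := by group
              _ = k₀ * (k₀ * k) * k := by rw [hKab k hk.1 k₀ hk₀.1]
              _ = (k₀ * k₀) * (k * k) := by group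
              _ = 1 := by rw [hk₀.2.1, hk.2.1, one_mul]
          refine ⟨⟨k₀ * k, hx⟩, ?_⟩
          apply Subtype.ext
          show k₀ * (k₀ * k) = k
          rw [← mul_assoc, hk₀.2.1, one_mul]
      exact (Nat.card_congr (Equiv.ofBijective χ hbij)).symm
    · left
      rw [Set.not_nonempty_iff_eq_empty] at hne
      rw [hne]
      simp
  refine ⟨Nat.card J, hA, hB, hCc⟩

end Cfsg.Agent.Helper56.CYC
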