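import Mathlib
import Cfsg.Agent.S3370
import Cfsg.Agent.Lib.Helper63.ImprimP
import Cfsg.Agent.Lib.Helper11.PGroup
import Cfsg.Agent.Lib.Helper49.UniqueOrderP
import Cfsg.Agent.Lib.Helper53.UniqueInvol4

set_option autoImplicit false

/-! Half-transitive linear `p`-groups (Passman): basic facts. -/

namespace Cfsg.Agent.Helper56.HT

open Cfsg.Agent.Helper63 Cfsg.Agent.S3370

section basic

variable {q : ℕ} [Fact q.Prime] {V : Type*} [AddCommGroup V] [Module (ZMod q) V]
  {G : Type*} [Group G] (ρ : G →* (V ≃ₗ[ZMod q] V))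

/-- all stabilizers of nonzero vectors have the same order -/
def HalfT : Prop := ∀ v w : V, v ≠ 0 → w ≠ 0 → Nat.card (Stab ρ v) = Nat.card (Stab ρ w)

lemma card_orbit_mul [Finite G] (v : V) :
    Nat.card {u : V | ∃ g : G, ρ g v = u} * Nat.card (Stab ρ v) = Nat.card G := by
  let _ : MulAction G V := act ρ
  have h1 := Nat.card_congr (MulAction.orbitEquivQuotientStabilizer G v)
  have hst : MulAction.stabilizer G v = Stab ρ v := by
    ext g; exact Iff.rfl
  have horb : MulAction.orbit G v = {u : V | ∃ g : G, ρ g v = u} := by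
    ext w
    constructor
    · rintro ⟨g, rfl⟩
      exact ⟨g, rfl⟩
    · rintro ⟨g, rfl⟩
      exact ⟨g, rfl⟩
  rw [Subgroup.card_eq_card_quotient_mul_card_subgroup (Stab ρ v), ← hst, ← h1, horb]

lemma halfT_of_orbits [Finite G]
    (hhalf : ∀ v w : V, v ≠ 0 → w ≠ 0 →
      Nat.card {u : V | ∃ g : G, ρ g v = u} = Nat.card {u : V | ∃ g : G, ρ g w = u}) :
    HalfT ρ := by
  intro v w hv hw
  have h1 := card_orbit_mul ρ v
  have h2 := card_orbit_mul ρ w
  rw [hhalf v w hv hw] at h1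
  have hpos : 0 < Nat.card {u : V | ∃ g : G, ρ g w = u} := by
    rcases Nat.eq_zero_or_pos (Nat.card {u : V | ∃ g : G, ρ g w = u}) with h | h
    · rw [h, zero_mul] at h2
      exact absurd h2.symm (Nat.card_pos.ne')
    · exact h
  exact Nat.eq_of_mul_eq_mul_left hpos (h1.trans h2.symm)

lemma stab_eq_top_of_card [Finite G] (v : V) (h : Nat.card (Stab ρ v) = Nat.card G) :
    Stab ρ v = ⊤ := (Subgroup.card_eq_iff_eq_top _).mp h

lemma stab_eq_bot_of_card (v : V) (h : Nat.card (Stab ρ v) = 1) :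
    Stab ρ v = ⊥ := Subgroup.card_eq_one.mp h

/-- In characteristic `p` a half-transitive `p`-group is trivial. -/
lemma eq_one_of_char [Finite G] [Nontrivial V] (p : ℕ) [Fact p.Prime] (hG : IsPGroup p G)
    (hρ : Function.Injective ρ) (hh : HalfT ρ) (hp0 : (p : ZMod q) = 0) (g : G) : g = 1 := by
  let σ : G →* Module.End (ZMod q) V :=
    { toFun := fun g => ((ρ g : V ≃ₗ[ZMod q] V) : V →ₗ[ZMod q] V)
      map_one' := by
        ext v
        simp
      map_mul' := by
        intro g h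
        ext v
        simp }
  obtain ⟨w, hw0, hw⟩ := LinPGroup.exists_fixed (F := ZMod q) (p := p) hp0 hG σ
  have htop : Stab ρ w = ⊤ := by
    rw [eq_top_iff]
    intro g _
    exact hw g
  apply hρ
  rw [map_one]
  ext v
  by_cases hv : v = 0
  · rw [hv, map_zero, map_zero]
  · have h1 : Stab ρ v = ⊤ := by
      apply stab_eq_top_of_card
      rw [hh v w hv hw0, htop, Subgroup.card_top]
    have : g ∈ Stab ρ v := by rw [h1]; trivial
    exact this

end basic

section maschke

variable {q : ℕ} [Fact q.Prime] {V : Type*} [AddCommGroup V] [Module (ZMod q) V]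
  {G : Type*} [Group G] (ρ : G →* (V ≃ₗ[ZMod q] V))

lemma maschke [Finite G] (hG : (Nat.card G : ZMod q) ≠ 0) (W : Submodule (ZMod q) V)
    (hW : ∀ g : G, ∀ w ∈ W, ρ g w ∈ W) :
    ∃ W' : Submodule (ZMod q) V, (∀ g : G, ∀ w ∈ W', ρ g w ∈ W') ∧ W ⊓ W' = ⊥ ∧ W ⊔ W' = ⊤ := by
  classical
  have : Fintype G := Fintype.ofFinite G
  obtain ⟨W₀, hW₀⟩ := Submodule.exists_isCompl W
  let π : V →ₗ[ZMod q] V := W.projection W₀ hW₀
  have hπW : ∀ v, π v ∈ W := by
    intro v
    have h1 : π v ∈ LinearMap.range (W.projection W₀ hW₀) := LinearMap.mem_range_self _ v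
    rwa [Submodule.range_projection] at h1
  have hπid : ∀ w ∈ W, π w = w := by
    intro w hw
    exact Submodule.projection_apply_of_mem_left hW₀ hw
  let P : V →ₗ[ZMod q] V := ∑ g : G, ((ρ g : V ≃ₗ[ZMod q] V) : V →ₗ[ZMod q] V) ∘ₗ π ∘ₗ
    ((ρ g⁻¹ : V ≃ₗ[ZMod q] V) : V →ₗ[ZMod q] V)
  have hP : ∀ v, P v = ∑ g : G, ρ g (π (ρ g⁻¹ v)) := by
    intro v
    show (∑ g : G, ((ρ g : V ≃ₗ[ZMod q] V) : V →ₗ[ZMod q] V) ∘ₗ π ∘ₗ
      ((ρ g⁻¹ : V ≃ₗ[ZMod q] V) : V →ₗ[ZMod q] V)) v = _
    rw [LinearMap.sum_apply]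
    rfl
  have hPW : ∀ v, P v ∈ W := by
    intro v
    rw [hP]
    exact Submodule.sum_mem _ (fun g _ => hW g _ (hπW _))
  have hPid : ∀ w ∈ W, P w = (Nat.card G : ZMod q) • w := by
    intro w hw
    rw [hP]
    have : ∀ g : G, ρ g (π (ρ g⁻¹ w)) = w := by
      intro g
      rw [hπid _ (hW g⁻¹ w hw), ImprimP.rho_cancel_inv]
    rw [Fintype.sum_congr _ _ this, Finset.sum_const, Finset.card_univ, Nat.card_eq_fintype_card,
      Nat.cast_smul_eq_nsmul]
  have hPeq : ∀ (h : G) (v : V), P (ρ h v) = ρ h (P v) := by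
    intro h v
    rw [hP, hP, map_sum]
    rw [← Equiv.sum_comp (Equiv.mulLeft h) (fun g : G => ρ g (π (ρ g⁻¹ (ρ h v))))]
    apply Fintype.sum_congr
    intro g
    show ρ (h * g) (π (ρ (h * g)⁻¹ (ρ h v))) = ρ h (ρ g (π (ρ g⁻¹ v)))
    rw [ImprimP.rho_mul, mul_inv_rev, ImprimP.rho_mul, ImprimP.rho_inv_cancel]
  refine ⟨LinearMap.ker P, ?_, ?_, ?_⟩
  · intro g w hw
    rw [LinearMap.mem_ker] at hw ⊢
    rw [hPeq, hw, map_zero]
  · rw [eq_bot_iff]
    intro w hw
    obtain ⟨hw1, hw2⟩ := Submodule.mem_inf.mp hw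
    rw [LinearMap.mem_ker, hPid w hw1] at hw2
    rcases smul_eq_zero.mp hw2 with h | h
    · exact absurd h hG
    · exact (Submodule.mem_bot _).mpr h
  · rw [eq_top_iff]
    intro v _
    have hv : v = (Nat.card G : ZMod q)⁻¹ • P v + (v - (Nat.card G : ZMod q)⁻¹ • P v) := by abel
    rw [hv]
    apply Submodule.add_mem_sup
    · exact Submodule.smul_mem _ _ (hPW v)
    · rw [LinearMap.mem_ker, map_sub, map_smul, hPid _ (hPW v), smul_smul, inv_mul_cancel₀ hG,
        one_smul, sub_self]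

/-- A half-transitive, not semiregular group of order prime to `q` acts irreducibly. -/
lemma irreducible [Finite G] (hG : (Nat.card G : ZMod q) ≠ 0) (hρ : Function.Injective ρ)
    (hh : HalfT ρ) (hns : ∃ v : V, v ≠ 0 ∧ ∃ g : G, g ≠ 1 ∧ ρ g v = v)
    (W : Submodule (ZMod q) V) (hW : ∀ g : G, ∀ w ∈ W, ρ g w ∈ W) : W = ⊥ ∨ W = ⊤ := by
  by_contra hcon
  rw [not_or] at hcon
  obtain ⟨hWb, hWt⟩ := hcon
  obtain ⟨W', hW', hinf, hsup⟩ := maschke ρ hG W hW
  have hW'b : W' ≠ ⊥ := by
    intro h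
    rw [h, sup_bot_eq] at hsup
    exact hWt hsup
  obtain ⟨w₀, hw₀W, hw₀⟩ := (Submodule.ne_bot_iff W).mp hWb
  obtain ⟨w₀', hw₀'W, hw₀'⟩ := (Submodule.ne_bot_iff W').mp hW'b
  -- stabilizers of w ∈ W and w' ∈ W' coincide
  have key : ∀ w ∈ W, ∀ w' ∈ W', w ≠ 0 → w' ≠ 0 → Stab ρ w = Stab ρ w' := by
    intro w hw w' hw' hw0 hw'0
    have hsum0 : w + w' ≠ 0 := by
      intro h
      have h1 : w = -w' := eq_neg_of_add_eq_zero_left h
      have h2 : w ∈ W ⊓ W' := Submodule.mem_inf.mpr ⟨hw, by rw [h1]; exact W'.neg_mem hw'⟩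
      rw [hinf, Submodule.mem_bot] at h2
      exact hw0 h2
    have hsub : Stab ρ (w + w') ≤ Stab ρ w ⊓ Stab ρ w' := by
      intro g hg
      rw [mem_Stab, map_add] at hg
      have h1 : ρ g w - w = w' - ρ g w' := by
        have : ρ g w + ρ g w' - (w + w') = 0 := by rw [hg, sub_self]
        have h2 : ρ g w - w - (w' - ρ g w') = ρ g w + ρ g w' - (w + w') := by abel
        rw [← sub_eq_zero, h2, this]
      have h2 : ρ g w - w ∈ W ⊓ W' := by
        refine Submodule.mem_inf.mpr ⟨W.sub_mem (hW g w hw) hw, ?_⟩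
        rw [h1]
        exact W'.sub_mem hw' (hW' g w' hw')
      rw [hinf, Submodule.mem_bot] at h2
      have h3 : w' - ρ g w' = 0 := by rw [← h1, h2]
      refine Subgroup.mem_inf.mpr ⟨?_, ?_⟩
      · rw [mem_Stab]; exact sub_eq_zero.mp h2
      · rw [mem_Stab]; exact (sub_eq_zero.mp h3).symm
    have hle1 : Stab ρ w ≤ Stab ρ (w + w') := by
      apply le_of_eq
      symm
      apply Subgroup.eq_of_le_of_card_ge (hsub.trans inf_le_left)
      rw [hh w (w + w') hw0 hsum0]
    have hle2 : Stab ρ w' ≤ Stab ρ (w + w') := by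
      apply le_of_eq
      symm
      apply Subgroup.eq_of_le_of_card_ge (hsub.trans inf_le_right)
      rw [hh w' (w + w') hw'0 hsum0]
    apply le_antisymm
    · exact hle1.trans (hsub.trans inf_le_right)
    · exact hle2.trans (hsub.trans inf_le_left)
  -- hence the common stabilizer is trivial
  have htriv : Stab ρ w₀ = ⊥ := by
    rw [eq_bot_iff]
    intro g hg
    rw [Subgroup.mem_bot]
    apply hρ
    rw [map_one]
    ext v
    have hv : v ∈ W ⊔ W' := by rw [hsup]; trivial
    obtain ⟨w, hw, w', hw', rfl⟩ := Submodule.mem_sup.mp hv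
    have h1 : ρ g w = w := by
      by_cases h0 : w = 0
      · rw [h0, map_zero]
      · have : g ∈ Stab ρ w := by rw [key w hw w₀' hw₀'W h0 hw₀', ← key w₀ hw₀W w₀' hw₀'W hw₀ hw₀']; exact hg
        exact this
    have h2 : ρ g w' = w' := by
      by_cases h0 : w' = 0
      · rw [h0, map_zero]
      · have : g ∈ Stab ρ w' := by rw [← key w₀ hw₀W w' hw' hw₀ h0]; exact hg
        exact this
    show ρ g (w + w') = w + w'
    rw [map_add, h1, h2]
  obtain ⟨v, hv0, g, hg1, hgv⟩ := hns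
  have h1 : Stab ρ v = ⊥ := by
    apply stab_eq_bot_of_card
    rw [hh v w₀ hv0 hw₀, htriv, Subgroup.card_bot]
  have : g ∈ Stab ρ v := hgv
  rw [h1, Subgroup.mem_bot] at this
  exact hg1 this

end maschke

section semireg

open Finset

variable {q : ℕ} [Fact q.Prime] {V : Type*} [AddCommGroup V] [Module (ZMod q) V] [Nontrivial V]
  {G : Type*} [Group G] (ρ : G →* (V ≃ₗ[ZMod q] V))

lemma tr_eq_zero_of_semireg (hsr : ∀ v : V, v ≠ 0 → ∀ g : G, ρ g v = v → g = 1) (p : ℕ)
    (g : G) (hg1 : g ≠ 1) (hgp : g ^ p = 1) (v : V) : ImprimP.trL ρ p g v = 0 := by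
  by_contra h
  exact hg1 (hsr _ h g (ImprimP.tr_fixed ρ p g hgp v))

/-- variant of `ImprimP.sum_tr` with the vanishing of the `N`-trace as a hypothesis -/
lemma sum_tr' (p : ℕ) [Fact p.Prime] (N : Subgroup G) [Fintype N] (hNc : N ≤ Subgroup.center G)
    (hNp : Fintype.card N = p) (hN0 : ∀ v : V, ∑ n : N, ρ (n : G) v = 0) (y : G) (v : V) :
    ∑ n : N, ImprimP.trL ρ p (y * (n : G)) v = (p : ZMod q) • v := by
  have hpp : p.Prime := Fact.out
  simp only [ImprimP.trL_apply]
  rw [sum_comm]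
  have hterm : ∀ i ∈ range p, ∑ n : N, ρ ((y * (n : G)) ^ i) v
      = ρ (y ^ i) (∑ n : N, ρ ((n : G) ^ i) v) := by
    intro i _
    rw [map_sum]
    apply Fintype.sum_congr
    intro n
    have hc : Commute y (n : G) := Subgroup.mem_center_iff.mp (hNc n.2) y
    rw [hc.mul_pow, ImprimP.rho_mul]
  rw [sum_congr rfl hterm, sum_eq_single 0]
  · simp only [pow_zero, ImprimP.rho_one, sum_const, card_univ, hNp, Nat.cast_smul_eq_nsmul]
  · intro i hi hi0
    have hip : i < p := mem_range.mp hi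
    have hcop : (Nat.card N).Coprime i := by
      rw [Nat.card_eq_fintype_card, hNp]
      exact (Nat.Prime.coprime_iff_not_dvd hpp).mpr
        (Nat.not_dvd_of_pos_of_lt (Nat.pos_of_ne_zero hi0) hip)
    have h1 : ∑ n : N, ρ ((n : G) ^ i) v = ∑ n : N, ρ (n : G) v := by
      have : ∀ n : N, ρ ((n : G) ^ i) v = ρ (((powCoprime hcop) n : N) : G) v := by
        intro n
        rfl
      rw [Fintype.sum_congr _ _ this]
      exact Equiv.sum_comp (powCoprime hcop) (fun n : N => ρ (n : G) v)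
    rw [h1, hN0, map_zero]
  · intro h
    exact absurd (mem_range.mpr hpp.pos) h

/-- A semiregular linear `p`-group is cyclic or generalized quaternion. -/
theorem semiregular_case [Finite G] (p : ℕ) [Fact p.Prime] (hG : IsPGroup p G)
    (hsr : ∀ v : V, v ≠ 0 → ∀ g : G, ρ g v = v → g = 1) :
    IsCyclic G ∨ ∃ n : ℕ, Nonempty (G ≃* QuaternionGroup n) := by
  classical
  have hpp : p.Prime := Fact.out
  by_cases htriv : ∀ g : G, g = 1
  · left
    haveI : Subsingleton G := ⟨fun a b => by rw [htriv a, htriv b]⟩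
    exact isCyclic_of_subsingleton
  -- the characteristic is not `p`
  have hpq : (p : ZMod q) ≠ 0 := by
    intro hp0
    apply htriv
    intro g
    let σ : G →* Module.End (ZMod q) V :=
      { toFun := fun g => ((ρ g : V ≃ₗ[ZMod q] V) : V →ₗ[ZMod q] V)
        map_one' := by
          ext v
          simp
        map_mul' := by
          intro g h
          ext v
          simp }
    obtain ⟨w, hw0, hw⟩ := LinPGroup.exists_fixed (F := ZMod q) (p := p) hp0 hG σ
    exact hsr w hw0 g (hw g)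
  have htop : (⊤ : Subgroup G) ≠ ⊥ := by
    intro h
    apply htriv
    intro g
    have : g ∈ (⊤ : Subgroup G) := trivial
    rwa [h, Subgroup.mem_bot] at this
  obtain ⟨x, -, hxc, hxo⟩ := Cfsg.Agent.Helper11.exists_mem_center_orderOf_eq_of_normal hG ⊤ htop
  have hx1 : x ≠ 1 := by
    intro h
    rw [h, orderOf_one] at hxo
    exact hpp.one_lt.ne hxo
  set N : Subgroup G := Subgroup.zpowers x with hN
  have hNc : N ≤ Subgroup.center G := by
    rw [hN, Subgroup.zpowers_le]; exact hxc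
  letI : Fintype N := Fintype.ofFinite N
  have hNp : Fintype.card N = p := by
    rw [← Nat.card_eq_fintype_card, hN, Nat.card_zpowers, hxo]
  have hN0 : ∀ v : V, ∑ n : N, ρ (n : G) v = 0 := by
    intro v
    by_contra h
    apply hx1
    apply hsr _ h x
    rw [map_sum]
    have hxN : x ∈ N := Subgroup.mem_zpowers x
    have : ∀ n : N, ρ x (ρ (n : G) v) = ρ (((Equiv.mulLeft (⟨x, hxN⟩ : N)) n : N) : G) v := by
      intro n
      rw [← ImprimP.rho_mul]
      rfl
    rw [Fintype.sum_congr _ _ this]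
    exact Equiv.sum_comp (Equiv.mulLeft (⟨x, hxN⟩ : N)) (fun n : N => ρ (n : G) v)
  -- every element of order `p` lies in `N`
  have huniq : ∀ y : G, y ^ p = 1 → y ∈ N := by
    intro y hyp
    by_contra hyN
    obtain ⟨v, hv⟩ := exists_ne (0 : V)
    have h1 := sum_tr' ρ p N hNc hNp hN0 y v
    have h2 : ∀ n : N, ImprimP.trL ρ p (y * (n : G)) v = 0 := by
      intro n
      apply tr_eq_zero_of_semireg ρ hsr p
      · intro h
        apply hyN
        have : y = (n : G)⁻¹ := eq_inv_of_mul_eq_one_left h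
        rw [this]
        exact N.inv_mem n.2
      · exact ImprimP.yn_pow p N hNc hNp y hyp n
    rw [Fintype.sum_congr _ _ h2, sum_const_zero] at h1
    rcases smul_eq_zero.mp h1.symm with h | h
    · exact hpq h
    · exact hv h
  have hU : ∀ y z : G, orderOf y = p → orderOf z = p → z ∈ Subgroup.zpowers y := by
    intro y z hy hz
    have hyN : y ∈ N := huniq y (by rw [← hy]; exact pow_orderOf_eq_one y)
    have hzN : z ∈ N := huniq z (by rw [← hz]; exact pow_orderOf_eq_one z)
    have hle : Subgroup.zpowers y ≤ N := Subgroup.zpowers_le.mpr hyN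
    have heq : Subgroup.zpowers y = N := by
      apply Subgroup.eq_of_le_of_card_ge hle
      show Nat.card N ≤ Nat.card (Subgroup.zpowers y)
      rw [Nat.card_zpowers y, hy, Nat.card_eq_fintype_card, hNp]
    rw [heq]
    exact hzN
  by_cases hp2 : p = 2
  · subst hp2
    have hU2 : ∀ a b : G, orderOf a = 2 → orderOf b = 2 → a = b := by
      intro a b ha hb
      have hb' := hU a b ha hb
      obtain ⟨k, hk⟩ := Subgroup.mem_zpowers_iff.mp hb'
      have h2n : a ^ 2 = 1 := by
        rw [← ha]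
        exact pow_orderOf_eq_one a
      have h2 : a ^ (2 : ℤ) = 1 := by
        rw [show (2 : ℤ) = ((2 : ℕ) : ℤ) from rfl, zpow_natCast]
        exact h2n
      rcases Int.emod_two_eq_zero_or_one k with hk0 | hk1
      · exfalso
        have : a ^ k = 1 := by
          rw [← Int.emod_add_mul_ediv k 2, hk0, zero_add, zpow_mul, h2, one_zpow]
        rw [this] at hk
        rw [← hk, orderOf_one] at hb
        omega
      · have : a ^ k = a := by
          rw [← Int.emod_add_mul_ediv k 2, hk1, zpow_add, zpow_one, zpow_mul, h2, one_zpow, mul_one]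
        rw [this] at hk
        exact hk
    rcases Cfsg.Agent.Helper53.isCyclic_or_quaternion_of_unique_invol hG hU2 with h | ⟨n, -, hn⟩
    · exact Or.inl h
    · exact Or.inr ⟨2 ^ n, hn⟩
  · left
    have h1 := Cfsg.Agent.Helper49.isCyclic_of_unique_order_p hp2 hU ⊤ (hG.to_subgroup ⊤)
    exact (Subgroup.topEquiv (G := G)).isCyclic.mp h1

end semireg

end Cfsg.Agent.Helper56.HT
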