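import Mathlib
import Cfsg.Agent.Lib.Helper56.HalfTransA

set_option autoImplicit false
set_option linter.unusedSectionVars false
set_option linter.style.haveILetI false

/-! Groups with a semiregular linear action (as Frobenius complements have): basic consequences. -/

namespace Cfsg.Agent.Helper56.FC

open Cfsg.Agent.Helper63 Cfsg.Agent.S3370 Cfsg.Agent.Helper56

section sr

variable {q : ℕ} [Fact q.Prime] {V : Type*} [AddCommGroup V] [Module (ZMod q) V] [Finite V]
  [Nontrivial V] {G : Type*} [Group G] [Finite G] (ρ : G →* (V ≃ₗ[ZMod q] V))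
  (hsr : ∀ v : V, v ≠ 0 → ∀ g : G, ρ g v = v → g = 1)

include hsr in
lemma sr_pgroup (p : ℕ) [Fact p.Prime] (P : Subgroup G) (hP : IsPGroup p P) :
    IsCyclic P ∨ ∃ n : ℕ, Nonempty (P ≃* QuaternionGroup n) :=
  HT.semiregular_case (ρ.comp P.subtype) p hP (fun v hv g hg => Subtype.ext (hsr v hv g hg))

include hsr in
lemma sr_not_dvd : ¬ q ∣ Nat.card G := by
  intro hdvd
  have hqp : q.Prime := Fact.out
  obtain ⟨g, hg⟩ := exists_prime_orderOf_dvd_card' q hdvd
  have hP : IsPGroup q (Subgroup.zpowers g) := by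
    apply IsPGroup.of_card (n := 1)
    rw [Nat.card_zpowers, hg, pow_one]
  let σ : Subgroup.zpowers g →* Module.End (ZMod q) V :=
    { toFun := fun x => ((ρ (x : G) : V ≃ₗ[ZMod q] V) : V →ₗ[ZMod q] V)
      map_one' := by
        ext v
        simp
      map_mul' := by
        intro x y
        ext v
        simp }
  obtain ⟨w, hw0, hw⟩ := LinPGroup.exists_fixed (F := ZMod q) (p := q) (ZMod.natCast_self q) hP σ
  have h1 : g = 1 := hsr w hw0 g (hw ⟨g, Subgroup.mem_zpowers g⟩)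
  rw [h1, orderOf_one] at hg
  exact hqp.one_lt.ne hg

include hsr in
lemma sr_sum_zero (B : Subgroup G) (hB : B ≠ ⊥) [Fintype B] (v : V) :
    ∑ b : B, ρ (b : G) v = 0 := by
  by_contra h
  apply hB
  rw [eq_bot_iff]
  intro b₀ hb₀
  rw [Subgroup.mem_bot]
  apply hsr _ h b₀
  rw [map_sum]
  have : ∀ b : B, ρ b₀ (ρ (b : G) v) = ρ (((Equiv.mulLeft (⟨b₀, hb₀⟩ : B)) b : B) : G) v := by
    intro b
    rw [← ImprimP.rho_mul]
    rfl
  rw [Fintype.sum_congr _ _ this]
  exact Equiv.sum_comp (Equiv.mulLeft (⟨b₀, hb₀⟩ : B)) (fun b : B => ρ (b : G) v)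

/-- the twisted power map -/
def twP (u : G) : ℕ → G → G
  | 0, _ => 1
  | j + 1, a => u⁻¹ * twP u j a * u * a

lemma twP_mem (u : G) (A : Subgroup G) (hnorm : ∀ a ∈ A, u⁻¹ * a * u ∈ A) (j : ℕ) (a : G)
    (ha : a ∈ A) : twP u j a ∈ A := by
  induction j with
  | zero => exact A.one_mem
  | succ j ih => exact A.mul_mem (hnorm _ ih) ha

lemma mul_pow_twP (u a : G) (j : ℕ) : (u * a) ^ j = u ^ j * twP u j a := by
  induction j with
  | zero => simp [twP]
  | succ j ih =>
    rw [pow_succ, ih, pow_succ]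
    show u ^ j * twP u j a * (u * a) = u ^ j * u * (u⁻¹ * twP u j a * u * a)
    group

lemma eq_of_pow_eq {x y : G} {p j : ℕ} (hp : p.Prime) (hx : x ^ p = 1) (hy : y ^ p = 1)
    (hj0 : 0 < j) (hjp : j < p) (h : x ^ j = y ^ j) : x = y := by
  have hcop : Nat.Coprime j p :=
    ((Nat.Prime.coprime_iff_not_dvd hp).mpr (Nat.not_dvd_of_pos_of_lt hj0 hjp)).symm
  obtain ⟨k, -, hk⟩ := Nat.exists_mul_mod_eq_one_of_coprime hcop hp.one_lt
  have h1 : x ^ (j * k) = x := by
    rw [pow_eq_pow_mod (j * k) hx, hk, pow_one]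
  have h2 : y ^ (j * k) = y := by
    rw [pow_eq_pow_mod (j * k) hy, hk, pow_one]
  rw [← h1, ← h2, pow_mul, pow_mul, h]

include hsr in
/-- no element of prime order acts fixed-point-freely on a nontrivial abelian subgroup -/
theorem sr_fpf (u : G) (p : ℕ) [Fact p.Prime] (hu : orderOf u = p) (A : Subgroup G)
    (hAc : ∀ a ∈ A, ∀ b ∈ A, a * b = b * a) (hA1 : A ≠ ⊥)
    (hnorm : ∀ a ∈ A, u⁻¹ * a * u ∈ A) (hfix : ∀ a ∈ A, u⁻¹ * a * u = a → a = 1) : False := by
  classical
  have hpp : p.Prime := Fact.out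
  letI : Fintype A := Fintype.ofFinite A
  have hup : u ^ p = 1 := by
    rw [← hu]
    exact pow_orderOf_eq_one u
  have hu1 : u ≠ 1 := by
    intro h
    rw [h, orderOf_one] at hu
    exact hpp.one_lt.ne hu
  have hpow : ∀ a ∈ A, (u * a) ^ p = 1 := by
    intro a ha
    have hb : (u * a) ^ p ∈ A := by
      rw [mul_pow_twP, hup, one_mul]
      exact twP_mem u A hnorm p a ha
    apply hfix _ hb
    have hc : (u * a) * (u * a) ^ p = (u * a) ^ p * (u * a) := by rw [← pow_succ', ← pow_succ]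
    set b := (u * a) ^ p with hbdef
    have h1 : a * b = (u⁻¹ * b * u) * a := by
      have : u⁻¹ * ((u * a) * b) = u⁻¹ * (b * (u * a)) := by rw [hc]
      calc a * b = u⁻¹ * ((u * a) * b) := by group
        _ = u⁻¹ * (b * (u * a)) := this
        _ = (u⁻¹ * b * u) * a := by group
    have h2 : a * b = b * a := hAc a ha b hb
    rw [h2] at h1
    exact (mul_right_cancel h1).symm
  have hne : ∀ a ∈ A, u * a ≠ 1 := by
    intro a ha h
    have hua : u = a⁻¹ := eq_inv_of_mul_eq_one_left h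
    have huA : u ∈ A := by
      rw [hua]
      exact A.inv_mem ha
    apply hu1
    apply hfix u huA
    group
  obtain ⟨v, hv⟩ := exists_ne (0 : V)
  have htr : ∀ a : A, ImprimP.trL ρ p (u * (a : G)) v = 0 := by
    intro a
    by_contra h
    exact hne a a.2 (hsr _ h _ (ImprimP.tr_fixed ρ p _ (hpow a a.2) v))
  have hsum : ∑ a : A, ImprimP.trL ρ p (u * (a : G)) v = 0 := by
    rw [Fintype.sum_congr _ _ htr, Finset.sum_const_zero]
  simp only [ImprimP.trL_apply] at hsum
  rw [Finset.sum_comm] at hsum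
  have hterm : ∀ j ∈ Finset.range p, j ≠ 0 → ∑ a : A, ρ ((u * (a : G)) ^ j) v = 0 := by
    intro j hj hj0
    have hjp : j < p := Finset.mem_range.mp hj
    let Φ : A → A := fun a => ⟨twP u j a, twP_mem u A hnorm j a a.2⟩
    have hΦinj : Function.Injective Φ := by
      intro a b hab
      have h1 : twP u j a = twP u j b := congrArg Subtype.val hab
      have h2 : (u * (a : G)) ^ j = (u * (b : G)) ^ j := by
        rw [mul_pow_twP, mul_pow_twP, h1]
      have h3 := eq_of_pow_eq hpp (hpow a a.2) (hpow b b.2) (Nat.pos_of_ne_zero hj0) hjp h2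
      exact Subtype.ext (mul_left_cancel h3)
    have hΦbij : Function.Bijective Φ := Finite.injective_iff_bijective.mp hΦinj
    have h1 : ∀ a : A, ρ ((u * (a : G)) ^ j) v = ρ (u ^ j) (ρ ((Φ a : A) : G) v) := by
      intro a
      rw [mul_pow_twP, ImprimP.rho_mul]
    rw [Fintype.sum_congr _ _ h1, ← map_sum]
    have h2 : ∑ a : A, ρ ((Φ a : A) : G) v = ∑ a : A, ρ (a : G) v :=
      (Equiv.ofBijective Φ hΦbij).sum_comp (fun a : A => ρ (a : G) v)
    rw [h2, sr_sum_zero ρ hsr A hA1 v, map_zero]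
  rw [Finset.sum_eq_single 0] at hsum
  · simp only [pow_zero, ImprimP.rho_one, Finset.sum_const, Finset.card_univ] at hsum
    have h3 : (Fintype.card A : ZMod q) • v = 0 := by
      rw [Nat.cast_smul_eq_nsmul]
      exact hsum
    rcases smul_eq_zero.mp h3 with h | h
    · rw [ZMod.natCast_eq_zero_iff] at h
      apply sr_not_dvd ρ hsr
      rw [← Nat.card_eq_fintype_card] at h
      exact h.trans (Subgroup.card_subgroup_dvd_card A)
    · exact hv h
  · intro j hj hj0
    exact hterm j hj hj0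
  · intro h
    exact absurd (Finset.mem_range.mpr hpp.pos) h

include hsr in
/-- an element of prime order `p` normalizing an abelian `p'`-subgroup centralizes it -/
theorem sr_cc (u : G) (p : ℕ) [Fact p.Prime] (hu : orderOf u = p) (C : Subgroup G)
    (hCc : ∀ a ∈ C, ∀ b ∈ C, a * b = b * a) (hnorm : ∀ c ∈ C, u⁻¹ * c * u ∈ C)
    (hp : ¬ p ∣ Nat.card C) : ∀ c ∈ C, u⁻¹ * c * u = c := by
  have hpp : p.Prime := Fact.out
  have hup : u ^ p = 1 := by
    rw [← hu]
    exact pow_orderOf_eq_one u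
  let κ : C →* G := MonoidHom.mk' (fun c => (c : G)⁻¹ * (u⁻¹ * c * u)) (by
    intro c d
    have h1 : (c : G)⁻¹ * (u⁻¹ * c * u) ∈ C := C.mul_mem (C.inv_mem c.2) (hnorm c c.2)
    have h2 := hCc _ (C.inv_mem d.2) _ h1
    show ((c : G) * d)⁻¹ * (u⁻¹ * ((c : G) * d) * u) =
      (c : G)⁻¹ * (u⁻¹ * c * u) * ((d : G)⁻¹ * (u⁻¹ * d * u))
    calc ((c : G) * d)⁻¹ * (u⁻¹ * ((c : G) * d) * u)
        = ((d : G)⁻¹ * ((c : G)⁻¹ * (u⁻¹ * c * u))) * (u⁻¹ * d * u) := by group
      _ = (((c : G)⁻¹ * (u⁻¹ * c * u)) * (d : G)⁻¹) * (u⁻¹ * d * u) := by rw [h2]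
      _ = (c : G)⁻¹ * (u⁻¹ * c * u) * ((d : G)⁻¹ * (u⁻¹ * d * u)) := by group)
  have hκ : ∀ c : C, κ c = (c : G)⁻¹ * (u⁻¹ * c * u) := fun c => rfl
  have hκC : ∀ c : C, κ c ∈ C := fun c => C.mul_mem (C.inv_mem c.2) (hnorm c c.2)
  by_contra hcon
  have hcon' : ∃ c ∈ C, u⁻¹ * c * u ≠ c := by
    by_contra h
    apply hcon
    intro c hc
    by_contra h'
    exact h ⟨c, hc, h'⟩
  obtain ⟨c₀, hc₀, hc₀'⟩ := hcon'
  have hD1 : κ.range ≠ ⊥ := by
    intro h
    have h1 : κ ⟨c₀, hc₀⟩ ∈ κ.range := ⟨_, rfl⟩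
    rw [h, Subgroup.mem_bot, hκ] at h1
    apply hc₀'
    have := inv_mul_eq_one.mp h1
    exact this.symm
  apply sr_fpf ρ hsr u p hu κ.range
  · rintro _ ⟨c, rfl⟩ _ ⟨d, rfl⟩
    exact hCc _ (hκC c) _ (hκC d)
  · exact hD1
  · rintro _ ⟨c, rfl⟩
    refine ⟨⟨u⁻¹ * c * u, hnorm c c.2⟩, ?_⟩
    rw [hκ, hκ]
    show (u⁻¹ * (c : G) * u)⁻¹ * (u⁻¹ * (u⁻¹ * (c : G) * u) * u) =
      u⁻¹ * ((c : G)⁻¹ * (u⁻¹ * c * u)) * u
    group
  · rintro _ ⟨c, rfl⟩ hfixd
    set d := κ c with hd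
    have hdu : Commute d u := by
      have : d * u = u * d := by
        calc d * u = u * (u⁻¹ * d * u) := by group
          _ = u * d := by rw [hfixd]
      exact this
    have hσc : u⁻¹ * (c : G) * u = c * d := by
      rw [hd, hκ]
      group
    have hiter : ∀ j : ℕ, (u ^ j)⁻¹ * (c : G) * u ^ j = c * d ^ j := by
      intro j
      induction j with
      | zero => simp
      | succ j ih =>
        have hdj : Commute (d ^ j) u := hdu.pow_left j
        calc (u ^ (j + 1))⁻¹ * (c : G) * u ^ (j + 1)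
            = u⁻¹ * ((u ^ j)⁻¹ * (c : G) * u ^ j) * u := by
              rw [pow_succ]
              group
          _ = u⁻¹ * ((c : G) * d ^ j) * u := by rw [ih]
          _ = (u⁻¹ * (c : G) * u) * (u⁻¹ * (d ^ j * u)) := by group
          _ = (c * d) * (u⁻¹ * (u * d ^ j)) := by rw [hσc, hdj.eq]
          _ = c * d ^ (j + 1) := by
              rw [pow_succ']
              group
    have hdp : d ^ p = 1 := by
      have := hiter p
      rw [hup, inv_one, one_mul, mul_one] at this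
      exact (mul_eq_left.mp this.symm)
    have hord : orderOf d ∣ p := orderOf_dvd_of_pow_eq_one hdp
    rcases (Nat.dvd_prime hpp).mp hord with h | h
    · exact orderOf_eq_one_iff.mp h
    · exfalso
      apply hp
      have h1 : orderOf (⟨d, hκC c⟩ : C) = p := by rw [Subgroup.orderOf_mk, h]
      rw [← h1]
      exact orderOf_dvd_natCard _

end sr

end Cfsg.Agent.Helper56.FC
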