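import Mathlib
import Cfsg.Agent.Lib.Helper56.FrobComplA
import Cfsg.Agent.S3742
import Cfsg.Agent.S3215
import Cfsg.Agent.Lib.Helper53.OddAut
import Cfsg.Agent.Lib.Helper55.Cores

set_option autoImplicit false
set_option linter.unusedSectionVars false
set_option linter.style.haveILetI false
set_option maxHeartbeats 1600000

/-! Solvable groups with a semiregular linear action: a normal `Z`-subgroup with quotient in `S₄`. -/

namespace Cfsg.Agent.Helper56.FC

open Cfsg.Agent.Helper63 Cfsg.Agent.S3370 Cfsg.Agent.Helper56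

lemma quat_two_pow {P : Type*} [Group P] [Finite P] (hP : IsPGroup 2 P) {n : ℕ}
    (e : P ≃* QuaternionGroup n) : ∃ k, n = 2 ^ k := by
  haveI : Fact (Nat.Prime 2) := ⟨Nat.prime_two⟩
  have hn : n ≠ 0 := by
    rintro rfl
    have hinf : Infinite (QuaternionGroup 0) :=
      Infinite.of_injective _
        (QuaternionGroup.quaternionGroupZeroEquivDihedralGroupZero).symm.injective
    have : Finite (QuaternionGroup 0) := Finite.of_equiv P e.toEquiv
    exact not_finite (QuaternionGroup 0)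
  haveI : NeZero n := ⟨hn⟩
  have hcard : Nat.card P = 4 * n := by
    rw [Nat.card_congr e.toEquiv, Nat.card_eq_fintype_card, QuaternionGroup.card]
  obtain ⟨j, hj⟩ := IsPGroup.iff_card.mp hP
  have : n ∣ 2 ^ j := ⟨4, by rw [← hj, hcard]; ring⟩
  obtain ⟨k, -, hk⟩ := (Nat.dvd_prime_pow Nat.prime_two).mp this
  exact ⟨k, hk⟩

lemma quat_one_cyclic : IsCyclic (QuaternionGroup 1) := by
  apply isCyclic_of_orderOf_eq_card (QuaternionGroup.xa 0)
  rw [QuaternionGroup.orderOf_xa, Nat.card_eq_fintype_card, QuaternionGroup.card]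

lemma not_quat_of_odd {P : Type*} [Group P] [Finite P] {p : ℕ} [Fact p.Prime] (hp2 : p ≠ 2)
    (hP : IsPGroup p P) {n : ℕ} (e : P ≃* QuaternionGroup n) : False := by
  have hpp : p.Prime := Fact.out
  have hn : n ≠ 0 := by
    rintro rfl
    have hinf : Infinite (QuaternionGroup 0) :=
      Infinite.of_injective _
        (QuaternionGroup.quaternionGroupZeroEquivDihedralGroupZero).symm.injective
    have : Finite (QuaternionGroup 0) := Finite.of_equiv P e.toEquiv
    exact not_finite (QuaternionGroup 0)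
  haveI : NeZero n := ⟨hn⟩
  have hcard : Nat.card P = 4 * n := by
    rw [Nat.card_congr e.toEquiv, Nat.card_eq_fintype_card, QuaternionGroup.card]
  obtain ⟨j, hj⟩ := IsPGroup.iff_card.mp hP
  have h1 : 2 ∣ p ^ j := by
    rw [← hj, hcard]
    exact ⟨2 * n, by ring⟩
  have h2 := Nat.Prime.dvd_of_dvd_pow Nat.prime_two h1
  exact hp2 ((Nat.prime_dvd_prime_iff_eq Nat.prime_two hpp).mp h2).symm

/-- the homomorphism from a (generalized) quaternion group onto a group of order two -/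
def quatSign (n : ℕ) : QuaternionGroup n →* Equiv.Perm (Fin 4) :=
  MonoidHom.mk' (fun x => match x with
    | QuaternionGroup.a _ => 1
    | QuaternionGroup.xa _ => Equiv.swap 0 1) (by
    rintro (i | i) (j | j) <;> simp [Equiv.swap_mul_self])

lemma quatSign_ker (n : ℕ) (x : QuaternionGroup n) (hx : quatSign n x = 1) :
    ∃ i, x = QuaternionGroup.a i := by
  rcases x with i | i
  · exact ⟨i, rfl⟩
  · exfalso
    have h1 : Equiv.swap (0 : Fin 4) 1 = 1 := hx
    have h2 := congrArg (fun σ : Equiv.Perm (Fin 4) => σ 0) h1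
    simp at h2

section sr

variable {q : ℕ} [Fact q.Prime] {V : Type*} [AddCommGroup V] [Module (ZMod q) V] [Finite V]
  [Nontrivial V] {G : Type*} [Group G] [Finite G] (ρ : G →* (V ≃ₗ[ZMod q] V))
  (hsr : ∀ v : V, v ≠ 0 → ∀ g : G, ρ g v = v → g = 1)

include hsr in
lemma sr_two (P : Subgroup G) (hP : IsPGroup 2 P) :
    IsCyclic P ∨ ∃ k : ℕ, 1 ≤ k ∧ Nonempty (P ≃* QuaternionGroup (2 ^ k)) := by
  haveI : Fact (Nat.Prime 2) := ⟨Nat.prime_two⟩
  rcases sr_pgroup ρ hsr 2 P hP with h | ⟨n, ⟨e⟩⟩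
  · exact Or.inl h
  · obtain ⟨k, rfl⟩ := quat_two_pow hP e
    rcases Nat.eq_zero_or_pos k with rfl | hk
    · left
      rw [pow_zero] at e
      haveI := quat_one_cyclic
      exact isCyclic_of_surjective e.symm.toMonoidHom e.symm.surjective
    · exact Or.inr ⟨k, hk, ⟨e⟩⟩

include hsr in
theorem exists_hom_perm4 (hsol : Group.IsSolvable G) :
    ∃ f : G →* Equiv.Perm (Fin 4), ∀ P₂ : Subgroup G, P₂ ≤ f.ker → IsPGroup 2 P₂ →
      ∀ x ∈ P₂, ∀ y ∈ P₂, x * y = y * x := by
  classical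
  haveI : Fact (Nat.Prime 2) := ⟨Nat.prime_two⟩
  by_cases hab : ∀ S : Sylow 2 G, ∀ x ∈ (S : Subgroup G), ∀ y ∈ (S : Subgroup G), x * y = y * x
  · refine ⟨1, ?_⟩
    intro P₂ _ hP₂ x hx y hy
    obtain ⟨Q, hQ⟩ := hP₂.exists_le_sylow
    exact hab Q x (hQ hx) y (hQ hy)
  have hab' : ∃ S : Sylow 2 G, ∃ x ∈ (S : Subgroup G), ∃ y ∈ (S : Subgroup G), x * y ≠ y * x := by
    by_contra h
    apply hab
    intro S x hx y hy
    by_contra h'
    exact h ⟨S, x, hx, y, hy, h'⟩
  obtain ⟨S, x₀, hx₀, y₀, hy₀, hxy₀⟩ := hab'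
  obtain ⟨k, hk, ⟨eS⟩⟩ : ∃ k : ℕ, 1 ≤ k ∧ Nonempty ((S : Subgroup G) ≃* QuaternionGroup (2 ^ k)) := by
    rcases sr_two ρ hsr (S : Subgroup G) S.2 with h | h
    · exfalso
      apply hxy₀
      have := (IsCyclic.isMulCommutative (α := (S : Subgroup G))).is_comm.comm
        ⟨x₀, hx₀⟩ ⟨y₀, hy₀⟩
      exact congrArg Subtype.val this
    · exact h
  set K : Subgroup G := Cfsg.pPrimeCore 2 G with hKdef
  haveI hKn : K.Normal := by
    rw [hKdef]
    infer_instance
  have hKodd : (Nat.card K).Coprime 2 := Cfsg.Agent.Helper55.pPrimeCore_coprime 2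
  have hK2 : ∀ P₂ : Subgroup G, IsPGroup 2 P₂ → ∀ x ∈ P₂, x ∈ K → x = 1 := by
    intro P₂ hP₂ x hx hxK
    obtain ⟨j, hj⟩ := hP₂ ⟨x, hx⟩
    have hj' : x ^ 2 ^ j = 1 := by
      have := congrArg Subtype.val hj
      simpa using this
    have h1 : orderOf x ∣ 2 ^ j := orderOf_dvd_of_pow_eq_one hj'
    have h2 : orderOf x ∣ Nat.card K := by
      have := orderOf_dvd_natCard (⟨x, hxK⟩ : K)
      rwa [Subgroup.orderOf_mk] at this
    have h3 : (Nat.card K).Coprime (2 ^ j) := Nat.Coprime.pow_right j hKodd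
    have h4 : orderOf x = 1 := Nat.eq_one_of_dvd_coprimes h3 h2 h1
    exact orderOf_eq_one_iff.mp h4
  let π : G →* G ⧸ K := QuotientGroup.mk' K
  have hπsurj : Function.Surjective π := QuotientGroup.mk'_surjective K
  have hπker : ∀ g : G, π g = 1 → g ∈ K := fun g hg => (QuotientGroup.eq_one_iff g).mp hg
  have hcomm_of : ∀ P₂ : Subgroup G, IsPGroup 2 P₂ → ∀ x ∈ P₂, ∀ y ∈ P₂,
      π x * π y = π y * π x → x * y = y * x := by
    intro P₂ hP₂ x hx y hy h
    have h1 : π ((y * x)⁻¹ * (x * y)) = 1 := by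
      rw [map_mul, map_inv, map_mul, map_mul, h]
      group
    have h2 := hK2 P₂ hP₂ _ (P₂.mul_mem (P₂.inv_mem (P₂.mul_mem hy hx)) (P₂.mul_mem hx hy))
      (hπker _ h1)
    have := inv_mul_eq_one.mp h2
    exact this.symm
  have hO : Cfsg.pPrimeCore 2 (G ⧸ K) = ⊥ := Cfsg.Agent.Helper55.pPrimeCore_quotient_eq_bot 2
  have hsolq : Group.IsSolvable (G ⧸ K) := inferInstance
  set Tb : Subgroup (G ⧸ K) := Cfsg.pCore 2 (G ⧸ K) with hTb
  haveI hTbn : Tb.Normal := by
    rw [hTb]
    infer_instance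
  have hC : Subgroup.centralizer (Tb : Set (G ⧸ K)) ≤ Tb :=
    Cfsg.Agent.S3215.centralizer_pCore_le hsolq hO
  have hT2 : IsPGroup 2 Tb := Cfsg.Agent.Helper55.isPGroup_pCore
  have hTbS : Tb ≤ (S : Subgroup G).map π := by
    have := Cfsg.Agent.Helper55.pCore_le_sylow (S.mapSurjective hπsurj)
    rwa [Sylow.coe_mapSurjective] at this
  set T₂ : Subgroup G := (S : Subgroup G) ⊓ Tb.comap π with hT₂
  have hT₂2 : IsPGroup 2 T₂ := S.2.to_le inf_le_left
  let φ : T₂ →* Tb :=
    { toFun := fun t => ⟨π t, (Subgroup.mem_inf.mp t.2).2⟩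
      map_one' := Subtype.ext (map_one π)
      map_mul' := fun a b => Subtype.ext (map_mul π (a : G) (b : G)) }
  have hφinj : Function.Injective φ := by
    rw [injective_iff_map_eq_one]
    intro t ht
    have h1 : π (t : G) = 1 := congrArg Subtype.val ht
    exact Subtype.ext (hK2 T₂ hT₂2 t t.2 (hπker _ h1))
  have hφsurj : Function.Surjective φ := by
    rintro ⟨t, ht⟩
    obtain ⟨s, hs, hst⟩ := hTbS ht
    refine ⟨⟨s, Subgroup.mem_inf.mpr ⟨hs, ?_⟩⟩, Subtype.ext hst⟩
    show π s ∈ Tb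
    rw [hst]
    exact ht
  let eT : T₂ ≃* Tb := MulEquiv.ofBijective φ ⟨hφinj, hφsurj⟩
  have hcases : IsPGroup 2 (MulAut Tb) ∨ Nonempty (Tb ≃* QuaternionGroup 2) := by
    rcases sr_two ρ hsr T₂ hT₂2 with h | ⟨j, hj, ⟨e⟩⟩
    · left
      haveI := h
      have hc : IsCyclic Tb := isCyclic_of_surjective eT.toMonoidHom eT.surjective
      exact Cfsg.Agent.Helper53.isPGroup_mulAut_of_isCyclic hT2 hc
    · rcases Nat.lt_or_ge j 2 with hj2 | hj2
      · right
        have hj1 : j = 1 := by omega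
        subst hj1
        rw [pow_one] at e
        exact ⟨eT.symm.trans e⟩
      · left
        exact Cfsg.Agent.Helper53.isPGroup_mulAut_of_quaternion j hj2 (eT.symm.trans e)
  rcases hcases with hA | ⟨⟨e₂⟩⟩
  · -- the quotient is a 2-group
    have hG2 : IsPGroup 2 (G ⧸ K) := by
      intro g
      have hne : orderOf g ≠ 0 := (orderOf_pos g).ne'
      obtain ⟨a, m', hm'odd, hom⟩ := Nat.exists_eq_two_pow_mul_odd hne
      refine ⟨a, ?_⟩
      have hordh : orderOf (g ^ 2 ^ a) = m' := by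
        rw [orderOf_pow_of_dvd (by positivity) ⟨m', hom⟩, hom,
          Nat.mul_div_cancel_left _ (by positivity)]
      have hcent : g ^ 2 ^ a ∈ Subgroup.centralizer (Tb : Set (G ⧸ K)) := by
        rw [Subgroup.mem_centralizer_iff]
        intro t ht
        have h1 := Cfsg.Agent.Helper53.conj_eq_of_isPGroup_mulAut Tb (g ^ 2 ^ a)
          (by rw [Subgroup.normalizer_eq_top]; trivial) (hordh ▸ hm'odd) hA t ht
        calc t * g ^ 2 ^ a = (g ^ 2 ^ a * t * (g ^ 2 ^ a)⁻¹) * g ^ 2 ^ a := by rw [h1]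
          _ = g ^ 2 ^ a * t := by group
      have hhT := hC hcent
      obtain ⟨b, hb⟩ := hT2 ⟨g ^ 2 ^ a, hhT⟩
      have hb' : (g ^ 2 ^ a) ^ 2 ^ b = 1 := by
        have := congrArg Subtype.val hb
        simpa using this
      have h2 : orderOf (g ^ 2 ^ a) ∣ 2 ^ b := orderOf_dvd_of_pow_eq_one hb'
      rw [hordh] at h2
      have hcop : Nat.Coprime m' (2 ^ b) :=
        Nat.Coprime.pow_right b (Nat.coprime_two_right.mpr hm'odd)
      have hm1 : m' = 1 := Nat.Coprime.eq_one_of_dvd hcop h2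
      rw [← orderOf_eq_one_iff, hordh, hm1]
    let πS : (S : Subgroup G) →* G ⧸ K := π.comp (S : Subgroup G).subtype
    have hπSinj : Function.Injective πS := by
      rw [injective_iff_map_eq_one]
      intro s hs
      exact Subtype.ext (hK2 S S.2 s s.2 (hπker _ hs))
    have hcardle : Nat.card (G ⧸ K) ≤ Nat.card (S : Subgroup G) := by
      obtain ⟨b, hb⟩ := IsPGroup.iff_card.mp hG2
      have h1 : 2 ^ b ∣ Nat.card G := by
        rw [Subgroup.card_eq_card_quotient_mul_card_subgroup K, hb]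
        exact dvd_mul_right _ _
      have h2 := S.pow_dvd_card_of_pow_dvd_card h1
      rw [hb]
      exact Nat.le_of_dvd Nat.card_pos h2
    have hπSbij : Function.Bijective πS := hπSinj.bijective_of_nat_card_le hcardle
    let eQ : G ⧸ K ≃* QuaternionGroup (2 ^ k) := (MulEquiv.ofBijective πS hπSbij).symm.trans eS
    refine ⟨(quatSign (2 ^ k)).comp (eQ.toMonoidHom.comp π), ?_⟩
    intro P₂ hle hP₂ x hx y hy
    apply hcomm_of P₂ hP₂ x hx y hy
    obtain ⟨i, hi⟩ := quatSign_ker _ (eQ (π x)) (hle hx)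
    obtain ⟨j, hj⟩ := quatSign_ker _ (eQ (π y)) (hle hy)
    apply eQ.injective
    rw [map_mul, map_mul, hi, hj, QuaternionGroup.a_mul_a, QuaternionGroup.a_mul_a, add_comm]
  · -- `O₂` of the quotient is quaternion of order 8
    let ψ : G ⧸ K →* MulAut Tb := MulAut.conjNormal
    let ι : MulAut Tb ≃* Equiv.Perm (Fin 4) :=
      (MulAut.congr e₂).trans (Classical.choice Cfsg.Agent.S3742.result)
    refine ⟨ι.toMonoidHom.comp (ψ.comp π), ?_⟩
    have hker : ∀ x : G, x ∈ (ι.toMonoidHom.comp (ψ.comp π)).ker →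
        π x ∈ Subgroup.centralizer (Tb : Set (G ⧸ K)) := by
      intro x hx
      have h1 : ι (ψ (π x)) = 1 := hx
      have h2 : ψ (π x) = 1 := by
        apply ι.injective
        rw [h1, map_one]
      rw [Subgroup.mem_centralizer_iff]
      intro t ht
      have h3 : ψ (π x) ⟨t, ht⟩ = ⟨t, ht⟩ := by
        rw [h2]
        rfl
      have h4 := congrArg Subtype.val h3
      rw [MulAut.conjNormal_apply] at h4
      simp only at h4
      calc t * π x = (π x * t * (π x)⁻¹) * π x := by rw [h4]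
        _ = π x * t := by group
    intro P₂ hle hP₂ x hx y hy
    apply hcomm_of P₂ hP₂ x hx y hy
    have hxc := hker x (hle hx)
    have hyT : π y ∈ Tb := hC (hker y (hle hy))
    exact ((Subgroup.mem_centralizer_iff.mp hxc) (π y) hyT).symm

end sr

end Cfsg.Agent.Helper56.FC
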