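import Mathlib
import Cfsg.Agent.Lib.Helper32.C3Defs
import Cfsg.Agent.Lib.Helper2.Nilpotent

/-!
# C3 (S2) (helper56, for helper32's C3 server, S4415): `O_2(G)` is extraspecial-like in case (S)
-/

set_option autoImplicit false
set_option linter.style.haveILetI false
set_option linter.unusedSectionVars false
set_option linter.unusedVariables false

namespace Cfsg.Agent.Helper56.C3

open Cfsg.Agent.Helper32.C3

universe u v

section Aux

variable {G : Type u} [Group G]

/-- the two-element central subgroup `{1, z}` -/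
def s2Z (z : G) (hz2 : z * z = 1) : Subgroup G where
  carrier := {x | x = 1 ∨ x = z}
  one_mem' := Or.inl rfl
  mul_mem' := by
    rintro a c (rfl | rfl) (rfl | rfl)
    · left; exact mul_one 1
    · right; exact one_mul _
    · right; exact mul_one _
    · left; exact hz2
  inv_mem' := by
    rintro a (rfl | rfl)
    · left; exact inv_one
    · right; exact inv_eq_of_mul_eq_one_right hz2

theorem mem_s2Z (z : G) (hz2 : z * z = 1) (x : G) : x ∈ s2Z z hz2 ↔ x = 1 ∨ x = z := Iff.rfl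

/-- elements of `{1,z}` are central when `z` is -/
theorem s2Z_comm (z : G) (hz2 : z * z = 1) (hzc : ∀ g : G, g * z = z * g) {c : G}
    (hc : c ∈ s2Z z hz2) (g : G) : g * c = c * g := by
  rcases hc with rfl | rfl
  · rw [mul_one, one_mul]
  · exact hzc g

/-- commutator in `{1,z}` spelled out -/
theorem s2_comm_iff (z : G) (hz2 : z * z = 1) (t u : G) :
    t * u * t⁻¹ * u⁻¹ ∈ s2Z z hz2 ↔ (t * u = u * t ∨ t * u = z * (u * t)) := by
  rw [mem_s2Z]
  constructor
  · rintro (h | h)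
    · left
      have : t * u = (t * u * t⁻¹ * u⁻¹) * (u * t) := by group
      rw [this, h, one_mul]
    · right
      have : t * u = (t * u * t⁻¹ * u⁻¹) * (u * t) := by group
      rw [this, h]
  · rintro (h | h)
    · left
      have : t * u * t⁻¹ * u⁻¹ = (t * u) * (u * t)⁻¹ := by group
      rw [this, h, mul_inv_cancel]
    · right
      have : t * u * t⁻¹ * u⁻¹ = (t * u) * (u * t)⁻¹ := by group
      rw [this, h, mul_assoc, mul_inv_cancel, mul_one]

/-- the subgroup `N = {t ∈ T | t² ∈ Z, [t, T] ⊆ Z}` -/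
def s2N (T : Subgroup G) (z : G) (hz2 : z * z = 1) (hzc : ∀ g : G, g * z = z * g) :
    Subgroup G where
  carrier := {t | t ∈ T ∧ t * t ∈ s2Z z hz2 ∧ ∀ u ∈ T, t * u * t⁻¹ * u⁻¹ ∈ s2Z z hz2}
  one_mem' := by
    refine ⟨T.one_mem, ?_, ?_⟩
    · rw [mul_one]; exact (s2Z z hz2).one_mem
    · intro u _
      have : (1 : G) * u * 1⁻¹ * u⁻¹ = 1 := by group
      rw [this]; exact (s2Z z hz2).one_mem
  mul_mem' := by
    rintro a c ⟨haT, ha2, hac⟩ ⟨hcT, hc2, hcc⟩
    refine ⟨T.mul_mem haT hcT, ?_, ?_⟩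
    · -- (a c)(a c) = [c,a] a² c²
      have hk := hcc a haT
      have hkc := s2Z_comm z hz2 hzc hk
      have e : a * c * (a * c) = (c * a * c⁻¹ * a⁻¹) * (a * a) * (c * c) := by
        calc a * c * (a * c) = (a * (c * a * c⁻¹ * a⁻¹)) * (a * c * c) := by group
          _ = ((c * a * c⁻¹ * a⁻¹) * a) * (a * c * c) := by rw [hkc a]
          _ = (c * a * c⁻¹ * a⁻¹) * (a * a) * (c * c) := by group
      rw [e]
      exact (s2Z z hz2).mul_mem ((s2Z z hz2).mul_mem hk ha2) hc2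
    · intro u hu
      have hk := hcc u hu
      have e : a * c * u * (a * c)⁻¹ * u⁻¹ = (c * u * c⁻¹ * u⁻¹) * (a * u * a⁻¹ * u⁻¹) := by
        have h1 : a * c * u * (a * c)⁻¹ * u⁻¹ = a * (c * u * c⁻¹ * u⁻¹) * u * a⁻¹ * u⁻¹ := by
          group
        rw [h1, s2Z_comm z hz2 hzc hk a]
        group
      rw [e]
      exact (s2Z z hz2).mul_mem hk (hac u hu)
  inv_mem' := by
    rintro a ⟨haT, ha2, hac⟩
    refine ⟨T.inv_mem haT, ?_, ?_⟩
    · have : a⁻¹ * a⁻¹ = (a * a)⁻¹ := by group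
      rw [this]
      exact (s2Z z hz2).inv_mem ha2
    · intro u hu
      have hk := hac u hu
      have e : a⁻¹ * u * a⁻¹⁻¹ * u⁻¹ = a⁻¹ * (a * u * a⁻¹ * u⁻¹)⁻¹ * a := by group
      rw [e, s2Z_comm z hz2 hzc ((s2Z z hz2).inv_mem hk) a⁻¹]
      have : (a * u * a⁻¹ * u⁻¹)⁻¹ * a⁻¹ * a = (a * u * a⁻¹ * u⁻¹)⁻¹ := by group
      rw [this]
      exact (s2Z z hz2).inv_mem hk

theorem mem_s2N (T : Subgroup G) (z : G) (hz2 : z * z = 1) (hzc : ∀ g : G, g * z = z * g)
    (t : G) : t ∈ s2N T z hz2 hzc ↔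
      t ∈ T ∧ t * t ∈ s2Z z hz2 ∧ ∀ u ∈ T, t * u * t⁻¹ * u⁻¹ ∈ s2Z z hz2 := Iff.rfl

theorem s2N_normal (T : Subgroup G) [hTn : T.Normal] (z : G) (hz2 : z * z = 1)
    (hzc : ∀ g : G, g * z = z * g) : (s2N T z hz2 hzc).Normal := by
  constructor
  rintro t ⟨htT, ht2, htc⟩ g
  refine ⟨hTn.conj_mem t htT g, ?_, ?_⟩
  · have e : g * t * g⁻¹ * (g * t * g⁻¹) = g * (t * t) * g⁻¹ := by group
    rw [e, s2Z_comm z hz2 hzc ht2 g]
    have : t * t * g * g⁻¹ = t * t := by group
    rw [this]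
    exact ht2
  · intro u hu
    have hu' : g⁻¹ * u * g⁻¹⁻¹ ∈ T := hTn.conj_mem u hu g⁻¹
    have hk := htc _ hu'
    have e : g * t * g⁻¹ * u * (g * t * g⁻¹)⁻¹ * u⁻¹ =
        g * (t * (g⁻¹ * u * g⁻¹⁻¹) * t⁻¹ * (g⁻¹ * u * g⁻¹⁻¹)⁻¹) * g⁻¹ := by group
    rw [e, s2Z_comm z hz2 hzc hk g]
    have : t * (g⁻¹ * u * g⁻¹⁻¹) * t⁻¹ * (g⁻¹ * u * g⁻¹⁻¹)⁻¹ * g * g⁻¹ =
        t * (g⁻¹ * u * g⁻¹⁻¹) * t⁻¹ * (g⁻¹ * u * g⁻¹⁻¹)⁻¹ := by group
    rw [this]
    exact hk

end Aux

/-- **S2.** Not (M): `T = O_2(G)` is extraspecial-like. -/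
theorem eslike_of_caseS {G : Type u} [Group G] [Finite G] {V : Type v} [AddCommGroup V]
    [Module (ZMod 3) V] [Finite V] (ρ : Representation (ZMod 3) G V) (R Q : Subgroup G) (b : G)
    (h : Cfg ρ R Q b) (T : Subgroup G) (hT : IsO2 R T)
    (hP2 : ∀ z ∈ Subgroup.center G, z = 1 ∨ ρ z = -1)
    (hS1 : ∀ A : Subgroup G, A.Normal → A ≤ R → IsPGroup 2 ↥A →
      (∀ x ∈ A, ∀ y ∈ A, x * y = y * x) → A ≤ Subgroup.center G)
    (hS2b : ∀ (N : Subgroup G) (z : G), N ≤ T → z ∈ N → z ≠ 1 → z * z = 1 →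
      (∀ t ∈ T, t * z = z * t) → (∀ n ∈ N, n * n = 1 ∨ n * n = z) →
      (∀ t ∈ T, ∀ n ∈ N, t * n = n * t ∨ t * n = z * (n * t)) →
      (∀ t ∈ T, (∀ n ∈ N, t * n = n * t) → t = 1 ∨ t = z) → Nat.card ↥T ≤ Nat.card ↥N) :
    ∃ z : G, ESLike ρ T z := by
  classical
  haveI hTn : T.Normal := hT.normal
  haveI : Fact (Nat.Prime 2) := ⟨Nat.prime_two⟩
  -- `T ≠ ⊥`
  have hTne : T ≠ ⊥ := by
    intro hT0
    have hR : ∀ r ∈ R, r = 1 := by
      intro r hr
      have := hT.selfc r hr (by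
        intro t ht
        rw [hT0, Subgroup.mem_bot] at ht
        rw [ht, mul_one, one_mul])
      rw [hT0, Subgroup.mem_bot] at this
      exact this
    have hQ : Q = ⊥ := by
      rw [eq_bot_iff]
      intro q hq
      rw [Subgroup.mem_bot]
      exact hR q (h.QR hq)
    have h4 := h.four.1
    rw [hQ, Subgroup.card_bot] at h4
    omega
  -- abelian normal subgroups of `G` inside `T` are central
  have hcent : ∀ A : Subgroup G, A.Normal → A ≤ T → (∀ x ∈ A, ∀ y ∈ A, x * y = y * x) →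
      A ≤ Subgroup.center G := by
    intro A hAn hAT hAc
    exact hS1 A hAn (hAT.trans hT.le) (hT.pg.to_le hAT) hAc
  -- the centre of `T`
  haveI : Nontrivial ↥T := (Subgroup.nontrivial_iff_ne_bot T).2 hTne
  have hcn : Nontrivial ↥(Subgroup.center ↥T) := hT.pg.center_nontrivial
  obtain ⟨c, hc1⟩ := exists_ne (1 : ↥(Subgroup.center ↥T))
  set ZT : Subgroup G := T ⊓ Subgroup.centralizer (T : Set G) with hZT
  have hZTn : ZT.Normal := by
    rw [hZT]
    infer_instance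
  have hZTc : ZT ≤ Subgroup.center G := by
    apply hcent ZT hZTn inf_le_left
    intro x hx y hy
    exact (Subgroup.mem_centralizer_iff.1 hy.2 x hx.1)
  have hcenter_mem : ∀ c : ↥T, c ∈ Subgroup.center ↥T → (c : G) ∈ ZT := by
    intro c hc
    refine ⟨c.2, Subgroup.mem_centralizer_iff.2 ?_⟩
    intro u hu
    have := (Subgroup.mem_center_iff.1 hc) ⟨u, hu⟩
    exact congrArg Subtype.val this
  set z : G := ((c : ↥T) : G) with hzdef
  have hzZT : z ∈ ZT := hcenter_mem c c.2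
  have hzT : z ∈ T := hzZT.1
  have hz1 : z ≠ 1 := by
    intro hz
    apply hc1
    apply Subtype.ext
    apply Subtype.ext
    exact hz
  have hzcen : z ∈ Subgroup.center G := hZTc hzZT
  have hρz : ρ z = -1 := by
    rcases hP2 z hzcen with h1 | h1
    · exact absurd h1 hz1
    · exact h1
  have hzc : ∀ g : G, g * z = z * g := fun g => Subgroup.mem_center_iff.1 hzcen g
  have hz2 : z * z = 1 := by
    apply h.faith
    rw [map_mul, hρz, map_one, neg_mul_neg, one_mul]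
  -- central elements of `G` are in `{1,z}`
  have hcen_Z : ∀ x ∈ Subgroup.center G, x = 1 ∨ x = z := by
    intro x hx
    rcases hP2 x hx with h1 | h1
    · left; exact h1
    · right
      apply h.faith
      rw [h1, hρz]
  have hab_Z : ∀ A : Subgroup G, A.Normal → A ≤ T → (∀ x ∈ A, ∀ y ∈ A, x * y = y * x) →
      ∀ x ∈ A, x = 1 ∨ x = z := by
    intro A hAn hAT hAc x hx
    exact hcen_Z x (hcent A hAn hAT hAc hx)
  have hC_Z : ∀ c : ↥T, c ∈ Subgroup.center ↥T → (c : G) = 1 ∨ (c : G) = z := by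
    intro c hc
    exact hcen_Z _ (hZTc (hcenter_mem c hc))
  have hZ_C : ∀ c : ↥T, ((c : G) = 1 ∨ (c : G) = z) → c ∈ Subgroup.center ↥T := by
    intro c hc
    rw [Subgroup.mem_center_iff]
    intro u
    apply Subtype.ext
    show (u : G) * (c : G) = (c : G) * (u : G)
    rcases hc with hc | hc
    · rw [hc, mul_one, one_mul]
    · rw [hc]; exact hzc _
  -- the subgroup `N`
  set N : Subgroup G := s2N T z hz2 hzc with hNdef
  haveI hNn : N.Normal := s2N_normal T z hz2 hzc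
  have hNT : N ≤ T := fun t ht => ht.1
  have hzN : z ∈ N := by
    refine ⟨hzT, ?_, ?_⟩
    · rw [hz2]; exact (s2Z z hz2).one_mem
    · intro u _
      have : z * u * z⁻¹ * u⁻¹ = (u * z) * z⁻¹ * u⁻¹ := by rw [hzc u]
      rw [this]
      have : u * z * z⁻¹ * u⁻¹ = 1 := by group
      rw [this]
      exact (s2Z z hz2).one_mem
  -- the centre of `N` is `{1,z}`
  have hZN : ∀ x ∈ N ⊓ Subgroup.centralizer (N : Set G), x = 1 ∨ x = z := by
    have hn : (N ⊓ Subgroup.centralizer (N : Set G)).Normal := inferInstance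
    apply hab_Z _ hn (inf_le_left.trans hNT)
    intro x hx y hy
    exact (Subgroup.mem_centralizer_iff.1 hy.2 x hx.1)
  -- `C_T(N) = {1,z}`
  have hCTN : ∀ t ∈ T, (∀ n ∈ N, t * n = n * t) → t = 1 ∨ t = z := by
    intro t htT htN
    by_contra hcon
    set D : Subgroup G := T ⊓ Subgroup.centralizer (N : Set G) with hD
    have hDn : D.Normal := by
      rw [hD]; infer_instance
    have htD : t ∈ D := by
      refine ⟨htT, Subgroup.mem_centralizer_iff.2 ?_⟩
      intro n hn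
      exact (htN n hn).symm
    -- pass to `T / Z(T)`
    set C : Subgroup ↥T := Subgroup.center ↥T with hC
    set D' : Subgroup ↥T := D.subgroupOf T with hD'
    haveI hD'n : D'.Normal := hDn.subgroupOf T
    set Dbar : Subgroup (↥T ⧸ C) := D'.map (QuotientGroup.mk' C) with hDbar
    haveI hDbarn : Dbar.Normal :=
      Subgroup.Normal.map hD'n (QuotientGroup.mk' C) (QuotientGroup.mk'_surjective C)
    have hpq : IsPGroup 2 (↥T ⧸ C) := hT.pg.to_quotient C
    haveI : Group.IsNilpotent (↥T ⧸ C) := hpq.isNilpotent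
    have hDbar1 : Dbar ≠ ⊥ := by
      intro h0
      have h1 : (QuotientGroup.mk' C) ⟨t, htT⟩ ∈ Dbar :=
        Subgroup.mem_map_of_mem _ (by
          show (⟨t, htT⟩ : ↥T) ∈ D.subgroupOf T
          rw [Subgroup.mem_subgroupOf]
          exact htD)
      rw [h0, Subgroup.mem_bot] at h1
      have h2 : (⟨t, htT⟩ : ↥T) ∈ C := (QuotientGroup.eq_one_iff _).1 h1
      exact hcon (hC_Z _ h2)
    have hK1 := Cfsg.Agent.Helper2.normal_inf_center_ne_bot Dbar hDbar1
    set K : Subgroup (↥T ⧸ C) := Dbar ⊓ Subgroup.center (↥T ⧸ C) with hK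
    have hKp : IsPGroup 2 ↥K := hpq.to_subgroup K
    haveI : Nontrivial ↥K := (Subgroup.nontrivial_iff_ne_bot K).2 hK1
    obtain ⟨k, hk0, hkc⟩ := hKp.nontrivial_iff_card.1 inferInstance
    have h2K : 2 ∣ Nat.card ↥K := by
      rw [hkc]
      exact dvd_pow_self 2 (Nat.pos_iff_ne_zero.1 hk0)
    obtain ⟨y, hy⟩ := exists_prime_orderOf_dvd_card' 2 h2K
    have hy1 : (y : ↥T ⧸ C) ≠ 1 := by
      intro h1
      have : y = 1 := Subtype.ext h1
      rw [this, orderOf_one] at hy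
      omega
    have hy2 : (y : ↥T ⧸ C) * (y : ↥T ⧸ C) = 1 := by
      have h1 : y ^ 2 = 1 := by rw [← hy]; exact pow_orderOf_eq_one y
      have h2 := congrArg Subtype.val h1
      rw [pow_two] at h2
      exact h2
    have hyD : (y : ↥T ⧸ C) ∈ Dbar := y.2.1
    have hyc : (y : ↥T ⧸ C) ∈ Subgroup.center (↥T ⧸ C) := y.2.2
    obtain ⟨d, hdD', hdy⟩ := Subgroup.mem_map.1 hyD
    have hdC : d ∉ C := by
      intro hd
      apply hy1
      rw [← hdy]
      exact (QuotientGroup.eq_one_iff _).2 hd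
    have hd2 : d * d ∈ C := by
      rw [← QuotientGroup.eq_one_iff]
      have : ((d * d : ↥T) : ↥T ⧸ C) = (QuotientGroup.mk' C d) * (QuotientGroup.mk' C d) := rfl
      rw [this, hdy]
      exact hy2
    have hdc : ∀ u : ↥T, d * u * d⁻¹ * u⁻¹ ∈ C := by
      intro u
      rw [← QuotientGroup.eq_one_iff]
      have e : ((d * u * d⁻¹ * u⁻¹ : ↥T) : ↥T ⧸ C) =
          (QuotientGroup.mk' C d) * (QuotientGroup.mk' C u) * (QuotientGroup.mk' C d)⁻¹ *
            (QuotientGroup.mk' C u)⁻¹ := rfl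
      rw [e, hdy]
      have hcomm := (Subgroup.mem_center_iff.1 hyc) (QuotientGroup.mk' C u)
      rw [← hcomm]
      group
    -- `d ∈ N`
    have hdN : (d : G) ∈ N := by
      refine ⟨d.2, ?_, ?_⟩
      · exact hC_Z _ hd2
      · intro u hu
        exact hC_Z _ (hdc ⟨u, hu⟩)
    have hdD : (d : G) ∈ D := by
      rw [hD', Subgroup.mem_subgroupOf] at hdD'
      exact hdD'
    have hdZ := hZN (d : G) ⟨hdN, hdD.2⟩
    exact hdC (hZ_C d hdZ)
  -- the pairing count gives `T = N`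
  have hcard : Nat.card ↥T ≤ Nat.card ↥N := by
    apply hS2b N z hNT hzN hz1 hz2 (fun t _ => hzc t)
    · intro n hn
      exact hn.2.1
    · intro t ht n hn
      have h1 := (s2_comm_iff z hz2 n t).1 (hn.2.2 t ht)
      rcases h1 with h1 | h1
      · left; exact h1.symm
      · right
        -- n t = z (t n)  ⇒  t n = z (n t)
        have : t * n = z * (z * (t * n)) := by
          rw [← mul_assoc, hz2, one_mul]
        rw [this, ← h1]
    · exact hCTN
  have hNeq : N = T := Subgroup.eq_of_le_of_card_ge hNT hcard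
  refine ⟨z, ⟨hzT, hρz, hzc, ?_, ?_, ?_⟩⟩
  · intro t ht u hu
    have htN : t ∈ N := by rw [hNeq]; exact ht
    exact (s2_comm_iff z hz2 t u).1 (htN.2.2 u hu)
  · intro t ht
    have htN : t ∈ N := by rw [hNeq]; exact ht
    exact htN.2.1
  · intro t ht hcomm
    have : (⟨t, ht⟩ : ↥T) ∈ Subgroup.center ↥T := by
      rw [Subgroup.mem_center_iff]
      intro u
      apply Subtype.ext
      exact (hcomm u u.2).symm
    exact hC_Z _ this

end Cfsg.Agent.Helper56.C3
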