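import Mathlib
import Cfsg.Agent.S3377

set_option autoImplicit false

/-!
The group `⟨x, y, z | x³, y⁵, z², [z,x], [z,y], (xy)² z⁻¹⟩` has at most 120 elements
(it is a central extension by `⟨z⟩` of a quotient of `⟨x, y | x³, y⁵, (xy)²⟩`, of order at most 60).
-/

namespace Cfsg.Agent.Helper56

/-- the relators of the binary icosahedral presentation -/
abbrev rels120 : Set (FreeGroup (Fin 3)) :=
  {FreeGroup.of (0 : Fin 3) ^ 3, FreeGroup.of (1 : Fin 3) ^ 5, FreeGroup.of (2 : Fin 3) ^ 2,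
    (FreeGroup.of (2 : Fin 3))⁻¹ * FreeGroup.of 0 * FreeGroup.of 2 * (FreeGroup.of (0 : Fin 3))⁻¹,
    (FreeGroup.of (2 : Fin 3))⁻¹ * FreeGroup.of 1 * FreeGroup.of 2 * (FreeGroup.of (1 : Fin 3))⁻¹,
    (FreeGroup.of (0 : Fin 3) * FreeGroup.of 1) ^ 2 * (FreeGroup.of (2 : Fin 3))⁻¹}

abbrev P120 := PresentedGroup rels120

def gx : P120 := PresentedGroup.of 0
def gy : P120 := PresentedGroup.of 1
def gz : P120 := PresentedGroup.of 2

lemma gx3 : gx ^ 3 = 1 := by
  have : PresentedGroup.mk rels120 (FreeGroup.of (0 : Fin 3) ^ 3) = 1 :=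
    PresentedGroup.one_of_mem (by simp [rels120])
  simpa [gx, PresentedGroup.of] using this

lemma gy5 : gy ^ 5 = 1 := by
  have : PresentedGroup.mk rels120 (FreeGroup.of (1 : Fin 3) ^ 5) = 1 :=
    PresentedGroup.one_of_mem (by simp [rels120])
  simpa [gy, PresentedGroup.of] using this

lemma gz2 : gz ^ 2 = 1 := by
  have : PresentedGroup.mk rels120 (FreeGroup.of (2 : Fin 3) ^ 2) = 1 :=
    PresentedGroup.one_of_mem (by simp [rels120])
  simpa [gz, PresentedGroup.of] using this

lemma gzx : gx * gz = gz * gx := by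
  have : PresentedGroup.mk rels120 ((FreeGroup.of (2 : Fin 3))⁻¹ * FreeGroup.of 0 * FreeGroup.of 2 *
      (FreeGroup.of (0 : Fin 3))⁻¹) = 1 :=
    PresentedGroup.one_of_mem (by simp [rels120])
  have h : gz⁻¹ * gx * gz * gx⁻¹ = 1 := by simpa [gx, gz, PresentedGroup.of] using this
  have h2 : gz⁻¹ * gx * gz = gx := by
    have := mul_inv_eq_one.mp h
    exact this
  calc gx * gz = gz * (gz⁻¹ * gx * gz) := by group
    _ = gz * gx := by rw [h2]

lemma gzy : gy * gz = gz * gy := by
  have : PresentedGroup.mk rels120 ((FreeGroup.of (2 : Fin 3))⁻¹ * FreeGroup.of 1 * FreeGroup.of 2 *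
      (FreeGroup.of (1 : Fin 3))⁻¹) = 1 :=
    PresentedGroup.one_of_mem (by simp [rels120])
  have h : gz⁻¹ * gy * gz * gy⁻¹ = 1 := by simpa [gy, gz, PresentedGroup.of] using this
  have h2 : gz⁻¹ * gy * gz = gy := by
    have := mul_inv_eq_one.mp h
    exact this
  calc gy * gz = gz * (gz⁻¹ * gy * gz) := by group
    _ = gz * gy := by rw [h2]

lemma gxy2 : (gx * gy) ^ 2 = gz := by
  have : PresentedGroup.mk rels120 ((FreeGroup.of (0 : Fin 3) * FreeGroup.of 1) ^ 2 *
      (FreeGroup.of (2 : Fin 3))⁻¹) = 1 :=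
    PresentedGroup.one_of_mem (by simp [rels120])
  have h : (gx * gy) ^ 2 * gz⁻¹ = 1 := by simpa [gx, gy, gz, PresentedGroup.of] using this
  exact mul_inv_eq_one.mp h

lemma closure_gens : Subgroup.closure ({gx, gy, gz} : Set P120) = ⊤ := by
  have h := PresentedGroup.closure_range_of rels120
  have hr : Set.range (PresentedGroup.of : Fin 3 → P120) = {gx, gy, gz} := by
    ext g
    simp only [Set.mem_range, Set.mem_insert_iff, Set.mem_singleton_iff]
    constructor
    · rintro ⟨i, rfl⟩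
      fin_cases i
      · left; rfl
      · right; left; rfl
      · right; right; rfl
    · rintro (rfl | rfl | rfl)
      · exact ⟨0, rfl⟩
      · exact ⟨1, rfl⟩
      · exact ⟨2, rfl⟩
  rw [hr] at h
  exact h

lemma gz_central : gz ∈ Subgroup.center P120 := by
  rw [Subgroup.mem_center_iff]
  intro g
  have hg : g ∈ Subgroup.closure ({gx, gy, gz} : Set P120) := by rw [closure_gens]; trivial
  have hcen : Subgroup.closure ({gx, gy, gz} : Set P120) ≤ Subgroup.centralizer {gz} := by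
    rw [Subgroup.closure_le]
    rintro a (rfl | rfl | rfl)
    · rw [SetLike.mem_coe, Subgroup.mem_centralizer_singleton_iff]; exact gzx
    · rw [SetLike.mem_coe, Subgroup.mem_centralizer_singleton_iff]; exact gzy
    · rw [SetLike.mem_coe, Subgroup.mem_centralizer_singleton_iff]
  have := hcen hg
  rw [Subgroup.mem_centralizer_singleton_iff] at this
  exact this

/-- the central subgroup generated by `z` -/
def Zc : Subgroup P120 := Subgroup.zpowers gz

lemma Zc_le_center : Zc ≤ Subgroup.center P120 := by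
  rw [Zc, Subgroup.zpowers_le]; exact gz_central

instance Zc_normal : Zc.Normal := by
  refine ⟨fun n hn g => ?_⟩
  have hc := Zc_le_center hn
  rw [Subgroup.mem_center_iff] at hc
  have : g * n * g⁻¹ = n := by rw [hc g, mul_inv_cancel_right]
  rw [this]; exact hn

def qgen : Fin 2 → P120 ⧸ Zc := ![QuotientGroup.mk gx, QuotientGroup.mk gy]

lemma qgen_rels : ∀ r ∈ Cfsg.Agent.S3377.rels, FreeGroup.lift qgen r = 1 := by
  intro r hr
  simp only [Cfsg.Agent.S3377.rels, Set.mem_insert_iff, Set.mem_singleton_iff] at hr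
  rcases hr with rfl | rfl | rfl
  · simp only [map_pow, FreeGroup.lift_apply_of]
    show (QuotientGroup.mk gx : P120 ⧸ Zc) ^ 3 = 1
    rw [← QuotientGroup.mk_pow, gx3]; rfl
  · simp only [map_pow, FreeGroup.lift_apply_of]
    show (QuotientGroup.mk gy : P120 ⧸ Zc) ^ 5 = 1
    rw [← QuotientGroup.mk_pow, gy5]; rfl
  · simp only [map_pow, map_mul, FreeGroup.lift_apply_of]
    show ((QuotientGroup.mk gx : P120 ⧸ Zc) * QuotientGroup.mk gy) ^ 2 = 1
    rw [← QuotientGroup.mk_mul, ← QuotientGroup.mk_pow, gxy2, QuotientGroup.eq_one_iff]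
    exact Subgroup.mem_zpowers gz

/-- the surjection from the `(2,3,5)` triangle presentation onto `P120 / ⟨z⟩` -/
def ψq : Cfsg.Agent.S3377.P →* P120 ⧸ Zc := PresentedGroup.toGroup qgen_rels

lemma ψq_surj : Function.Surjective ψq := by
  have hx : (QuotientGroup.mk gx : P120 ⧸ Zc) ∈ ψq.range :=
    ⟨Cfsg.Agent.S3377.x, PresentedGroup.toGroup.of qgen_rels⟩
  have hy : (QuotientGroup.mk gy : P120 ⧸ Zc) ∈ ψq.range :=
    ⟨Cfsg.Agent.S3377.y, PresentedGroup.toGroup.of qgen_rels⟩
  have hz : (QuotientGroup.mk gz : P120 ⧸ Zc) ∈ ψq.range := by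
    have : (QuotientGroup.mk gz : P120 ⧸ Zc) = 1 := by
      rw [QuotientGroup.eq_one_iff]; exact Subgroup.mem_zpowers gz
    rw [this]; exact one_mem _
  have hcomap : (ψq.range).comap (QuotientGroup.mk' Zc) = ⊤ := by
    rw [eq_top_iff, ← closure_gens, Subgroup.closure_le]
    rintro a (rfl | rfl | rfl)
    · exact hx
    · exact hy
    · exact hz
  intro q
  obtain ⟨g, rfl⟩ := QuotientGroup.mk_surjective q
  have : g ∈ (ψq.range).comap (QuotientGroup.mk' Zc) := by rw [hcomap]; trivial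
  exact this

lemma finite_card_P120 : Finite P120 ∧ Nat.card P120 ≤ 120 := by
  obtain ⟨hfin, hc⟩ := Cfsg.Agent.S3377.finite_and_card
  have hQ : Finite (P120 ⧸ Zc) := Finite.of_surjective ψq ψq_surj
  have hQc : Nat.card (P120 ⧸ Zc) ≤ 60 := (Nat.card_le_card_of_surjective ψq ψq_surj).trans hc
  have hzo : orderOf gz ∣ 2 := orderOf_dvd_of_pow_eq_one gz2
  have hzo' : orderOf gz ≤ 2 := Nat.le_of_dvd (by norm_num) hzo
  have hzo0 : orderOf gz ≠ 0 := fun h => by rw [h] at hzo; omega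
  have hHc : Nat.card Zc = orderOf gz := Nat.card_zpowers gz
  have hcard : Nat.card P120 = Nat.card (P120 ⧸ Zc) * Nat.card Zc :=
    Subgroup.card_eq_card_quotient_mul_card_subgroup Zc
  have hXpos : Nat.card (P120 ⧸ Zc) ≠ 0 := Nat.card_pos.ne'
  have hne : Nat.card P120 ≠ 0 := by
    rw [hcard, hHc]
    exact Nat.mul_ne_zero hXpos hzo0
  refine ⟨Nat.finite_of_card_ne_zero hne, ?_⟩
  rw [hcard, hHc]
  calc Nat.card (P120 ⧸ Zc) * orderOf gz ≤ 60 * 2 := Nat.mul_le_mul hQc hzo'
    _ = 120 := by norm_num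

end Cfsg.Agent.Helper56
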