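import Mathlib
import Cfsg.Agent.Lib.Helper56.SL25Pres
import Cfsg.Agent.Lib.Helper53.SL2Card

set_option autoImplicit false

/-!
`SL(2,5) ≅ ⟨x, y, z | x³, y⁵, z², [z,x], [z,y], (xy)² z⁻¹⟩`, and an embedding `SL(2,5) → SL(2,11)`
acting fixed point freely on the nonzero vectors of `F₁₁²`.
-/

namespace Cfsg.Agent.Helper56

open Matrix

/-- the images of generators satisfying the relations kill all relators -/
lemma lift_rels120 {S : Type*} [Group S] (a b c : S) (ha : a ^ 3 = 1) (hb : b ^ 5 = 1)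
    (hc : c ^ 2 = 1) (hca : a * c = c * a) (hcb : b * c = c * b) (hab : (a * b) ^ 2 = c) :
    ∀ r ∈ rels120, FreeGroup.lift ![a, b, c] r = 1 := by
  intro r hr
  simp only [rels120, Set.mem_insert_iff, Set.mem_singleton_iff] at hr
  rcases hr with rfl | rfl | rfl | rfl | rfl | rfl
  · simpa using ha
  · simpa using hb
  · simpa using hc
  · simp only [map_mul, map_inv, FreeGroup.lift_apply_of]
    show c⁻¹ * a * c * a⁻¹ = 1
    rw [mul_assoc c⁻¹, hca]; group
  · simp only [map_mul, map_inv, FreeGroup.lift_apply_of]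
    show c⁻¹ * b * c * b⁻¹ = 1
    rw [mul_assoc c⁻¹, hcb]; group
  · simp only [map_mul, map_inv, map_pow, FreeGroup.lift_apply_of]
    show (a * b) ^ 2 * c⁻¹ = 1
    rw [hab, mul_inv_cancel]

/-- the homomorphism from the presented group determined by `a, b, c` -/
def homOf {S : Type*} [Group S] (a b c : S) (ha : a ^ 3 = 1) (hb : b ^ 5 = 1)
    (hc : c ^ 2 = 1) (hca : a * c = c * a) (hcb : b * c = c * b) (hab : (a * b) ^ 2 = c) :
    P120 →* S := PresentedGroup.toGroup (lift_rels120 a b c ha hb hc hca hcb hab)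

section homOf
variable {S : Type*} [Group S] (a b c : S) (ha : a ^ 3 = 1) (hb : b ^ 5 = 1)
    (hc : c ^ 2 = 1) (hca : a * c = c * a) (hcb : b * c = c * b) (hab : (a * b) ^ 2 = c)

lemma homOf_gx : homOf a b c ha hb hc hca hcb hab gx = a :=
  PresentedGroup.toGroup.of (lift_rels120 a b c ha hb hc hca hcb hab)
lemma homOf_gy : homOf a b c ha hb hc hca hcb hab gy = b :=
  PresentedGroup.toGroup.of (lift_rels120 a b c ha hb hc hca hcb hab)
lemma homOf_gz : homOf a b c ha hb hc hca hcb hab gz = c :=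
  PresentedGroup.toGroup.of (lift_rels120 a b c ha hb hc hca hcb hab)
end homOf

/-- coset representative words -/
def repWord {M : Type*} [Monoid M] (x y : M) : Fin 12 → M :=
  ![1, x, x * x, y * x * x, x * y * x * x, y * y * x * x, x * x * y * x * x, x * y * y * x * x,
    y * x * x * y * x * x, y * y * x * x * y * x * x, x * y * y * x * x * y * x * x,
    x * x * y * y * x * x * y * x * x]

/-- the `120` words `rep_i * w^j` -/
def enum {M : Type*} [Monoid M] (x y w : M) : Fin 12 × Fin 10 → M :=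
  fun ij => repWord x y ij.1 * w ^ (ij.2 : ℕ)

lemma repWord_map {M N : Type*} [Monoid M] [Monoid N] (F : M →* N) (x y : M) (i : Fin 12) :
    F (repWord x y i) = repWord (F x) (F y) i := by
  fin_cases i <;> simp [repWord, map_mul]

lemma enum_map {M N : Type*} [Monoid M] [Monoid N] (F : M →* N) (x y w : M) (ij : Fin 12 × Fin 10) :
    F (enum x y w ij) = enum (F x) (F y) (F w) ij := by
  simp only [enum, map_mul, map_pow, repWord_map]

/-- if a homomorphism from `P120` has at least `120` distinct values, it is injective and `P120` has order `120`. -/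
lemma injective_of_many {S : Type*} [Group S] (φ : P120 →* S) (f : Fin 12 × Fin 10 → S)
    (hf : Function.Injective f) (hr : ∀ i, f i ∈ φ.range) :
    Function.Injective φ ∧ Nat.card P120 = 120 := by
  obtain ⟨hfin, hc⟩ := finite_card_P120
  let f' : Fin 12 × Fin 10 → φ.range := fun i => ⟨f i, hr i⟩
  have hf' : Function.Injective f' := fun a b h => hf (congrArg Subtype.val h)
  have hfr : Finite φ.range := Finite.of_surjective φ.rangeRestrict φ.rangeRestrict_surjective
  have h1 : 120 ≤ Nat.card φ.range := by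
    have := Nat.card_le_card_of_injective f' hf'
    simpa using this
  have h2 : Nat.card φ.range ≤ Nat.card P120 :=
    Nat.card_le_card_of_surjective φ.rangeRestrict φ.rangeRestrict_surjective
  have hbij := (φ.rangeRestrict_surjective).bijective_of_nat_card_le (by omega)
  refine ⟨?_, by omega⟩
  intro u v huv
  apply hbij.1
  exact Subtype.ext huv

theorem homOf_injective {S : Type*} [Group S] (a b c : S) (ha : a ^ 3 = 1) (hb : b ^ 5 = 1)
    (hc : c ^ 2 = 1) (hca : a * c = c * a) (hcb : b * c = c * b) (hab : (a * b) ^ 2 = c)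
    (hinj : Function.Injective (enum a b (b * c))) :
    Function.Injective (homOf a b c ha hb hc hca hcb hab) ∧ Nat.card P120 = 120 := by
  apply injective_of_many _ (enum a b (b * c)) hinj
  intro ij
  refine ⟨enum gx gy (gy * gz) ij, ?_⟩
  rw [enum_map, map_mul, homOf_gx, homOf_gy, homOf_gz]

/-- the coercion to matrices as a monoid homomorphism -/
def coeHom (R : Type*) [CommRing R] : SpecialLinearGroup (Fin 2) R →* Matrix (Fin 2) (Fin 2) R where
  toFun A := A.val
  map_one' := rfl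
  map_mul' _ _ := rfl

lemma coeHom_injective (R : Type*) [CommRing R] : Function.Injective (coeHom R) :=
  fun _ _ h => Subtype.ext h

lemma enum_injective_of_coe {R : Type*} [CommRing R] (x y w : SpecialLinearGroup (Fin 2) R)
    (h : Function.Injective (enum (x : Matrix (Fin 2) (Fin 2) R) y w)) :
    Function.Injective (enum x y w) := by
  intro a b hab
  apply h
  have := congrArg (coeHom R) hab
  rw [enum_map, enum_map] at this
  exact this

/-! ### concrete matrices -/

section concrete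

variable {R : Type*} [CommRing R]

/-- relations checked on the underlying matrices -/
lemma sl_rels (X Y : SpecialLinearGroup (Fin 2) R)
    (h3 : (X : Matrix (Fin 2) (Fin 2) R) ^ 3 = 1) (h5 : (Y : Matrix (Fin 2) (Fin 2) R) ^ 5 = 1)
    (h2 : ((X : Matrix (Fin 2) (Fin 2) R) * Y) ^ 2 = -1) :
    X ^ 3 = 1 ∧ Y ^ 5 = 1 ∧ (-1 : SpecialLinearGroup (Fin 2) R) ^ 2 = 1 ∧
      X * (-1) = (-1) * X ∧ Y * (-1) = (-1) * Y ∧ (X * Y) ^ 2 = -1 := by
  refine ⟨Subtype.ext ?_, Subtype.ext ?_, Subtype.ext ?_, Subtype.ext ?_, Subtype.ext ?_,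
    Subtype.ext ?_⟩
  · simpa using h3
  · simpa using h5
  · simp
  · simp
  · simp
  · simpa using h2

end concrete

def X5 : SpecialLinearGroup (Fin 2) (ZMod 5) := ⟨!![0, 4; 1, 4], by rw [det_fin_two_of]; decide⟩
def Y5 : SpecialLinearGroup (Fin 2) (ZMod 5) := ⟨!![1, 1; 0, 1], by rw [det_fin_two_of]; decide⟩

lemma rels5 : X5 ^ 3 = 1 ∧ Y5 ^ 5 = 1 ∧ (-1 : SpecialLinearGroup (Fin 2) (ZMod 5)) ^ 2 = 1 ∧
      X5 * (-1) = (-1) * X5 ∧ Y5 * (-1) = (-1) * Y5 ∧ (X5 * Y5) ^ 2 = -1 := by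
  apply sl_rels
  · show (!![0, 4; 1, 4] : Matrix (Fin 2) (Fin 2) (ZMod 5)) ^ 3 = 1
    decide +kernel
  · show (!![1, 1; 0, 1] : Matrix (Fin 2) (Fin 2) (ZMod 5)) ^ 5 = 1
    decide +kernel
  · show ((!![0, 4; 1, 4] : Matrix (Fin 2) (Fin 2) (ZMod 5)) * !![1, 1; 0, 1]) ^ 2 = -1
    decide +kernel

def X11 : SpecialLinearGroup (Fin 2) (ZMod 11) := ⟨!![7, 1; 9, 3], by rw [det_fin_two_of]; decide⟩
def Y11 : SpecialLinearGroup (Fin 2) (ZMod 11) := ⟨!![3, 0; 0, 4], by rw [det_fin_two_of]; decide⟩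

lemma rels11 : X11 ^ 3 = 1 ∧ Y11 ^ 5 = 1 ∧ (-1 : SpecialLinearGroup (Fin 2) (ZMod 11)) ^ 2 = 1 ∧
      X11 * (-1) = (-1) * X11 ∧ Y11 * (-1) = (-1) * Y11 ∧ (X11 * Y11) ^ 2 = -1 := by
  apply sl_rels
  · show (!![7, 1; 9, 3] : Matrix (Fin 2) (Fin 2) (ZMod 11)) ^ 3 = 1
    decide +kernel
  · show (!![3, 0; 0, 4] : Matrix (Fin 2) (Fin 2) (ZMod 11)) ^ 5 = 1
    decide +kernel
  · show ((!![7, 1; 9, 3] : Matrix (Fin 2) (Fin 2) (ZMod 11)) * !![3, 0; 0, 4]) ^ 2 = -1
    decide +kernel

set_option maxRecDepth 100000 in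
lemma enum5_inj : Function.Injective (enum X5 Y5 (Y5 * (-1))) := by
  apply enum_injective_of_coe
  show Function.Injective (enum (!![0, 4; 1, 4] : Matrix (Fin 2) (Fin 2) (ZMod 5)) !![1, 1; 0, 1]
    (!![1, 1; 0, 1] * (-1)))
  decide +kernel

set_option maxRecDepth 100000 in
lemma enum11_inj : Function.Injective (enum X11 Y11 (Y11 * (-1))) := by
  apply enum_injective_of_coe
  show Function.Injective (enum (!![7, 1; 9, 3] : Matrix (Fin 2) (Fin 2) (ZMod 11)) !![3, 0; 0, 4]
    (!![3, 0; 0, 4] * (-1)))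
  decide +kernel

/-- `P120 → SL(2,5)` -/
def φ5 : P120 →* SpecialLinearGroup (Fin 2) (ZMod 5) :=
  homOf X5 Y5 (-1) rels5.1 rels5.2.1 rels5.2.2.1 rels5.2.2.2.1 rels5.2.2.2.2.1 rels5.2.2.2.2.2

/-- `P120 → SL(2,11)` -/
def φ11 : P120 →* SpecialLinearGroup (Fin 2) (ZMod 11) :=
  homOf X11 Y11 (-1) rels11.1 rels11.2.1 rels11.2.2.1 rels11.2.2.2.1 rels11.2.2.2.2.1 rels11.2.2.2.2.2

lemma card_P120 : Nat.card P120 = 120 :=
  (homOf_injective X5 Y5 (-1) rels5.1 rels5.2.1 rels5.2.2.1 rels5.2.2.2.1 rels5.2.2.2.2.1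
    rels5.2.2.2.2.2 enum5_inj).2

lemma φ5_injective : Function.Injective φ5 :=
  (homOf_injective X5 Y5 (-1) rels5.1 rels5.2.1 rels5.2.2.1 rels5.2.2.2.1 rels5.2.2.2.2.1
    rels5.2.2.2.2.2 enum5_inj).1

lemma φ11_injective : Function.Injective φ11 :=
  (homOf_injective X11 Y11 (-1) rels11.1 rels11.2.1 rels11.2.2.1 rels11.2.2.2.1 rels11.2.2.2.2.1
    rels11.2.2.2.2.2 enum11_inj).1

lemma card_SL25 : Nat.card (SpecialLinearGroup (Fin 2) (ZMod 5)) = 120 := by
  have _ : Fact (Nat.Prime 5) := ⟨by norm_num⟩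
  rw [Cfsg.Agent.Helper53.card_SL2_succ (F := ZMod 5) 4 (by simp [ZMod.card])]

lemma φ5_bijective : Function.Bijective φ5 := by
  have _ : Finite P120 := finite_card_P120.1
  have _ : Finite (SpecialLinearGroup (Fin 2) (ZMod 5)) :=
    Nat.finite_of_card_ne_zero (by rw [card_SL25]; norm_num)
  exact φ5_injective.bijective_of_nat_card_le (by rw [card_SL25, card_P120])

/-- the presentation of `SL(2,5)` -/
noncomputable def presEquiv : P120 ≃* SpecialLinearGroup (Fin 2) (ZMod 5) :=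
  MulEquiv.ofBijective φ5 φ5_bijective

/-- an embedding `SL(2,5) → SL(2,11)` -/
noncomputable def θ : SpecialLinearGroup (Fin 2) (ZMod 5) →* SpecialLinearGroup (Fin 2) (ZMod 11) :=
  φ11.comp presEquiv.symm.toMonoidHom

lemma θ_injective : Function.Injective θ := by
  intro a b h
  exact presEquiv.symm.injective (φ11_injective h)

end Cfsg.Agent.Helper56
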