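import Mathlib
import Cfsg.Agent.S1017

/-!
# O4320 (C16b) (helper56, for helper50's O4320 server, S0977)
-/

set_option autoImplicit false
set_option linter.style.haveILetI false
set_option linter.unusedVariables false

namespace Cfsg.Agent.Helper56.O4320

open Cfsg MulAction
open scoped ComplexConjugate

universe u

section GT

variable {G : Type u} [Group G] [Finite G] [IsSimpleGroup G]

/-- (C16b) -/
theorem false_of_sixteen (hG : Nat.card G = 4320) (h16 : Nat.card (Sylow 5 G) = 16) (R : Sylow 5 G)
    (hC : Nat.card (Subgroup.centralizer ((R : Subgroup G) : Set G)) = 135)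
    (hfix : ∀ x : G, orderOf x = 3 → x ∈ Subgroup.centralizer ((R : Subgroup G) : Set G) →
      Nat.card (fixedBy (Sylow 5 G) x) = 1) : False := by
  classical
  haveI : Fact (Nat.Prime 3) := ⟨Nat.prime_three⟩
  set C : Subgroup G := Subgroup.centralizer ((R : Subgroup G) : Set G) with hCdef
  have hdvd : 3 ^ 3 ∣ Nat.card ↥C := by
    rw [hC]; norm_num
  obtain ⟨A₀, hA₀⟩ := Sylow.exists_subgroup_card_pow_prime 3 hdvd
  -- a second Sylow 5-subgroup
  haveI : Finite (Sylow 5 G) := Nat.finite_of_card_ne_zero (by rw [h16]; norm_num)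
  have hnt : Nontrivial (Sylow 5 G) := by
    rw [← Finite.one_lt_card_iff_nontrivial, h16]
    norm_num
  obtain ⟨R', hR'⟩ := exists_ne R
  -- the orbit map
  have hinj : Function.Injective (fun a : ↥A₀ => (((a : ↥C) : G)) • R') := by
    intro a b hab
    simp only at hab
    by_contra hne
    set c : ↥A₀ := b⁻¹ * a with hc
    have hc1 : c ≠ 1 := by
      intro h1
      apply hne
      have : b * c = b := by rw [h1, mul_one]
      rw [hc, mul_inv_cancel_left] at this
      exact this
    have hcfix : (((c : ↥C) : G)) • R' = R' := by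
      have e : (((c : ↥C) : G)) = (((b : ↥C) : G))⁻¹ * (((a : ↥C) : G)) := rfl
      rw [e, mul_smul, hab, inv_smul_smul]
    -- order of c
    have hco : orderOf c ∣ 3 ^ 3 := by
      rw [← hA₀]
      exact orderOf_dvd_natCard c
    obtain ⟨k, hk3, hk⟩ := (Nat.dvd_prime_pow Nat.prime_three).1 hco
    have hk0 : k ≠ 0 := by
      rintro rfl
      rw [pow_zero, orderOf_eq_one_iff] at hk
      exact hc1 hk
    set z₀ : ↥A₀ := c ^ (3 ^ (k - 1)) with hz₀
    have hz₀o : orderOf z₀ = 3 := by
      rw [hz₀, orderOf_pow_of_dvd (by positivity) (by rw [hk]; exact pow_dvd_pow 3 (Nat.sub_le k 1)), hk]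
      have : k = (k - 1) + 1 := by omega
      conv_lhs => rw [this, pow_succ]
      exact Nat.mul_div_cancel_left 3 (by positivity)
    set z : G := ((z₀ : ↥C) : G) with hz
    have hzo : orderOf z = 3 := by
      rw [hz, Subgroup.orderOf_coe, Subgroup.orderOf_coe]
      exact hz₀o
    have hzC : z ∈ C := (z₀ : ↥C).2
    have hzR' : z • R' = R' := by
      have e : z = (((c : ↥C) : G)) ^ (3 ^ (k - 1)) := rfl
      rw [e]
      have hpow : ∀ n : ℕ, (((c : ↥C) : G)) ^ n • R' = R' := by
        intro n
        induction n with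
        | zero => rw [pow_zero, one_smul]
        | succ n ih => rw [pow_succ, mul_smul, hcfix, ih]
      exact hpow _
    have hzR : z • R = R := by
      rw [Sylow.smul_eq_iff_mem_normalizer]
      exact Subgroup.centralizer_le_normalizer _ hzC
    have h1 := hfix z hzo hzC
    obtain ⟨hss, _⟩ := Nat.card_eq_one_iff_unique.1 h1
    have := @Subsingleton.elim _ hss (⟨R, hzR⟩ : fixedBy (Sylow 5 G) z) ⟨R', hzR'⟩
    exact hR' (congrArg Subtype.val this).symm
  have hle := Nat.card_le_card_of_injective _ hinj
  rw [hA₀, h16] at hle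
  norm_num at hle

end GT

end Cfsg.Agent.Helper56.O4320
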