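import Mathlib
import Cfsg.Agent.S1017

/-!
# O4320 (C36b) (helper56, for helper50's O4320 server, S0977)
-/

set_option autoImplicit false
set_option linter.style.haveILetI false
set_option linter.unusedVariables false

namespace Cfsg.Agent.Helper56.O4320

open Cfsg MulAction
open scoped ComplexConjugate

universe u

section GT

variable {G : Type u} [Group G] [Finite G] [IsSimpleGroup G]

/-- (C36b) -/
theorem false_of_thirtysix_sixty (hG : Nat.card G = 4320) (h36 : Nat.card (Sylow 5 G) = 36) (R : Sylow 5 G)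
    (hC : Nat.card (Subgroup.centralizer ((R : Subgroup G) : Set G)) = 60)
    (hA : ∀ u : G, orderOf u = 2 → u ∈ Subgroup.centralizer ((R : Subgroup G) : Set G) →
      ∃ m : ℕ, (m = 10 ∨ m = 30) ∧
        Nat.card ↥(Subgroup.normalizer ((R : Subgroup G) : Set G) ⊓ Subgroup.centralizer ({u} : Set G)) = m ∧
        Nat.card (Subgroup.centralizer ({u} : Set G)) = 16 * m) : False := by
  classical
  haveI : Fact (Nat.Prime 2) := ⟨Nat.prime_two⟩
  set C : Subgroup G := Subgroup.centralizer ((R : Subgroup G) : Set G) with hCdef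
  have hdvd : 2 ^ 2 ∣ Nat.card ↥C := by
    rw [hC]; norm_num
  obtain ⟨V₀, hV₀⟩ := Sylow.exists_subgroup_card_pow_prime 2 hdvd
  have hcomm : ∀ a b : ↥V₀, a * b = b * a := IsPGroup.commutative_of_card_eq_prime_sq hV₀
  have h2 : 2 ∣ Nat.card ↥V₀ := by
    rw [hV₀]; norm_num
  obtain ⟨u₀, hu₀⟩ := exists_prime_orderOf_dvd_card' 2 h2
  set u : G := ((u₀ : ↥C) : G) with hu
  have huo : orderOf u = 2 := by
    rw [hu, Subgroup.orderOf_coe, Subgroup.orderOf_coe]
    exact hu₀
  have huC : u ∈ C := (u₀ : ↥C).2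
  obtain ⟨m, hm, hcardm, _⟩ := hA u huo huC
  set V : Subgroup G := V₀.map C.subtype with hV
  have hVcard : Nat.card ↥V = 4 := by
    rw [hV, Subgroup.card_map_of_injective C.subtype_injective, hV₀]
    norm_num
  have hVle : V ≤ Subgroup.normalizer ((R : Subgroup G) : Set G) ⊓ Subgroup.centralizer ({u} : Set G) := by
    intro x hx
    obtain ⟨x₀, hx₀, rfl⟩ := Subgroup.mem_map.1 hx
    refine ⟨Subgroup.centralizer_le_normalizer _ x₀.2, Subgroup.mem_centralizer_singleton_iff.2 ?_⟩
    have h1 := hcomm ⟨x₀, hx₀⟩ u₀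
    have h2 := congrArg (fun w : ↥V₀ => (((w : ↥C)) : G)) h1
    exact h2
  have h4 : 4 ∣ m := by
    rw [← hVcard, ← hcardm]
    exact Subgroup.card_dvd_of_le hVle
  rcases hm with rfl | rfl <;> omega

end GT

end Cfsg.Agent.Helper56.O4320
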