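import Mathlib
import Cfsg.Agent.Lib.Helper7.CWDefs

/-!
CW project (helper7, S0406): piece (F2) `parseval`, verbatim.
-/

set_option autoImplicit false
open Matrix

namespace Cfsg.Agent.Helper56.CW
open Cfsg Cfsg.Agent.Helper7.CW

variable {Λ : AddSubgroup V}

/-- a square integer matrix with a right inverse up to a nonzero scalar also has it on the left -/
theorem f2_comm_of_mul_eq_smul_one (A N : Matrix (Fin 24) (Fin 24) ℤ) (c : ℤ) (hc : c ≠ 0)
    (h : A * N = c • (1 : Matrix (Fin 24) (Fin 24) ℤ)) :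
    N * A = c • (1 : Matrix (Fin 24) (Fin 24) ℤ) := by
  have hdet : N.det ≠ 0 := by
    intro h0
    have := congrArg Matrix.det h
    rw [Matrix.det_mul, h0, mul_zero, Matrix.det_smul, Matrix.det_one, mul_one] at this
    exact pow_ne_zero _ hc this.symm
  have hreg : IsRegular N :=
    Matrix.isRegular_of_isLeftRegular_det (isRegular_of_ne_zero hdet).left
  apply hreg.right
  show N * A * N = c • (1 : Matrix (Fin 24) (Fin 24) ℤ) * N
  rw [Matrix.mul_assoc, h, Matrix.mul_smul, Matrix.smul_mul, Matrix.mul_one, Matrix.one_mul]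

/-- (F2) [medium, matrices] Parseval. -/
theorem parseval (B : Matrix (Fin 24) (Fin 24) ℤ) (hsymm : B.IsSymm) (v : Fin 24 → V)
    (hv8 : ∀ i, (v i) ⬝ᵥ (B *ᵥ (v i)) = 8)
    (hv0 : ∀ i j, i ≠ j → (v i) ⬝ᵥ (B *ᵥ (v j)) = 0) (x : V) :
    ∑ i, (coord B v x i) ^ 2 = 8 * (x ⬝ᵥ (B *ᵥ x)) := by
  classical
  set M : Matrix (Fin 24) (Fin 24) ℤ := Matrix.of v with hM
  set A : Matrix (Fin 24) (Fin 24) ℤ := M * B with hA
  have hArow : ∀ i, A i = v i ᵥ* B := fun i => rfl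
  have key : ∀ i j, (A * Mᵀ) i j = v i ⬝ᵥ (B *ᵥ v j) := by
    intro i j
    rw [Matrix.dotProduct_mulVec, Matrix.mul_apply']
    rfl
  have h1 : A * Mᵀ = (8 : ℤ) • (1 : Matrix (Fin 24) (Fin 24) ℤ) := by
    ext i j
    rw [key, Matrix.smul_apply, Matrix.one_apply]
    by_cases hij : i = j
    · subst hij
      rw [hv8, if_pos rfl]; rfl
    · rw [hv0 i j hij, if_neg hij]; simp
  have h2 : Mᵀ * A = (8 : ℤ) • (1 : Matrix (Fin 24) (Fin 24) ℤ) :=
    f2_comm_of_mul_eq_smul_one A Mᵀ 8 (by norm_num) h1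
  have hAT : Aᵀ = B * Mᵀ := by
    rw [hA, Matrix.transpose_mul, hsymm.eq]
  have h3 : Aᵀ * A = (8 : ℤ) • B := by
    rw [hAT, Matrix.mul_assoc, h2, Matrix.mul_smul, Matrix.mul_one]
  have hcoord : coord B v x = A *ᵥ x := by
    funext i
    rw [coord_apply]
    show x ⬝ᵥ (B *ᵥ v i) = A i ⬝ᵥ x
    rw [hArow, dotProduct_comm, ← Matrix.mulVec_transpose, hsymm.eq]
  have hsum : ∑ i, (coord B v x i) ^ 2 = (A *ᵥ x) ⬝ᵥ (A *ᵥ x) := by
    rw [hcoord]
    simp only [dotProduct, pow_two]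
  rw [hsum, Matrix.dotProduct_mulVec, ← Matrix.mulVec_transpose, dotProduct_comm,
    Matrix.mulVec_mulVec, h3, Matrix.smul_mulVec, dotProduct_smul, smul_eq_mul]

end Cfsg.Agent.Helper56.CW
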