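import Mathlib
import Cfsg.Agent.Lib.Helper7.CWDefs

/-!
CW project (helper7, S0406): piece (F3a) `frame_pair`, verbatim.
-/

set_option autoImplicit false
open Matrix

namespace Cfsg.Agent.Helper56.CW
open Cfsg Cfsg.Agent.Helper7.CW

variable {Λ : AddSubgroup V}

/-- the half difference of two frame vectors -/
def f3a_half (v : Fin 24 → V) (i j : Fin 24) : V := fun k => (v i - v j) k / 2

theorem f3a_two_half (v : Fin 24 → V) (hv2 : ∀ i j k, (2 : ℤ) ∣ (v i - v j) k) (i j : Fin 24) :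
    (2 : ℤ) • f3a_half v i j = v i - v j := by
  funext k
  simp only [Pi.smul_apply, smul_eq_mul, f3a_half]
  exact Int.mul_ediv_cancel' (hv2 i j k)

theorem f3a_pairing (B : Matrix (Fin 24) (Fin 24) ℤ) (v : Fin 24 → V)
    (hv8 : ∀ i, (v i) ⬝ᵥ (B *ᵥ (v i)) = 8)
    (hv0 : ∀ i j, i ≠ j → (v i) ⬝ᵥ (B *ᵥ (v j)) = 0) (i k : Fin 24) :
    (v i) ⬝ᵥ (B *ᵥ (v k)) = if i = k then 8 else 0 := by
  by_cases h : i = k
  · subst h; rw [if_pos rfl, hv8]
  · rw [if_neg h, hv0 i k h]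

theorem f3a_coord_half (B : Matrix (Fin 24) (Fin 24) ℤ) (v : Fin 24 → V)
    (hv8 : ∀ i, (v i) ⬝ᵥ (B *ᵥ (v i)) = 8)
    (hv0 : ∀ i j, i ≠ j → (v i) ⬝ᵥ (B *ᵥ (v j)) = 0)
    (hv2 : ∀ i j k, (2 : ℤ) ∣ (v i - v j) k) (i j : Fin 24) :
    coord B v (f3a_half v i j) = (Pi.single i 4 - Pi.single j 4 : V) := by
  funext k
  have h2 : (2 : ℤ) * coord B v (f3a_half v i j) k =
      (if i = k then 8 else 0) - (if j = k then 8 else 0) := by
    rw [coord_apply, ← smul_eq_mul, ← smul_dotProduct, f3a_two_half v hv2, sub_dotProduct,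
      f3a_pairing B v hv8 hv0, f3a_pairing B v hv8 hv0]
  simp only [Pi.sub_apply, Pi.single_apply]
  by_cases hik : i = k <;> by_cases hjk : j = k
  · rw [if_pos hik, if_pos hjk] at h2
    rw [if_pos hik.symm, if_pos hjk.symm]; omega
  · rw [if_pos hik, if_neg hjk] at h2
    rw [if_pos hik.symm, if_neg (fun h => hjk h.symm)]; omega
  · rw [if_neg hik, if_pos hjk] at h2
    rw [if_neg (fun h => hik h.symm), if_pos hjk.symm]; omega
  · rw [if_neg hik, if_neg hjk] at h2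
    rw [if_neg (fun h => hik h.symm), if_neg (fun h => hjk h.symm)]; omega

theorem f3a_coord_frame (B : Matrix (Fin 24) (Fin 24) ℤ) (hsymm : B.IsSymm) (v : Fin 24 → V)
    (hv8 : ∀ i, (v i) ⬝ᵥ (B *ᵥ (v i)) = 8)
    (hv0 : ∀ i j, i ≠ j → (v i) ⬝ᵥ (B *ᵥ (v j)) = 0) (j : Fin 24) :
    coord B v (v j) = (Pi.single j 8 : V) := by
  funext k
  rw [coord_apply, f3a_pairing B v hv8 hv0, Pi.single_apply]
  by_cases h : j = k
  · rw [if_pos h, if_pos h.symm]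
  · rw [if_neg h, if_neg (fun h' => h h'.symm)]

/-- (F3a) [medium] the coordinate lattice contains `4e_i ± 4e_j` and has constant parity. -/
theorem frame_pair (B : Matrix (Fin 24) (Fin 24) ℤ) (hsymm : B.IsSymm) (v : Fin 24 → V)
    (hv8 : ∀ i, (v i) ⬝ᵥ (B *ᵥ (v i)) = 8)
    (hv0 : ∀ i j, i ≠ j → (v i) ⬝ᵥ (B *ᵥ (v j)) = 0)
    (hv2 : ∀ i j k, (2 : ℤ) ∣ (v i - v j) k) :
    (∀ i j : Fin 24, i ≠ j →
      ((Pi.single i 4 + Pi.single j 4 : V) ∈ (coord B v).range ∧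
        (Pi.single i 4 - Pi.single j 4 : V) ∈ (coord B v).range)) ∧
    (∀ y ∈ (coord B v).range, ∀ i j : Fin 24, (2 : ℤ) ∣ y i - y j) := by
  classical
  refine ⟨fun i j _ => ⟨?_, ?_⟩, ?_⟩
  · refine ⟨f3a_half v i j + v j, ?_⟩
    rw [map_add, f3a_coord_half B v hv8 hv0 hv2, f3a_coord_frame B hsymm v hv8 hv0]
    funext k
    simp only [Pi.add_apply, Pi.sub_apply, Pi.single_apply]
    by_cases hik : k = i <;> by_cases hjk : k = j <;> simp [hik, hjk] <;> omega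
  · exact ⟨f3a_half v i j, f3a_coord_half B v hv8 hv0 hv2 i j⟩
  · rintro _ ⟨x, rfl⟩ i j
    refine ⟨x ⬝ᵥ (B *ᵥ f3a_half v i j), ?_⟩
    rw [coord_apply, coord_apply, ← dotProduct_sub, ← Matrix.mulVec_sub, ← f3a_two_half v hv2 i j,
      Matrix.mulVec_smul, dotProduct_smul, smul_eq_mul]

end Cfsg.Agent.Helper56.CW
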