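import Mathlib
import Cfsg.Prelude.Def_Transfer
import Cfsg.Agent.Lib.Helper24.CYCDefs
import Cfsg.Agent.Lib.Helper56.CYCBase
import Cfsg.Agent.Lib.Helper56.CYCE5

/-!
Piece (IIB1) of the lemma server "CYC" (helper24, row S4016): in Case II, `p = 3`, the Sylow 2-subgroup has exactly
three involutions and they are all conjugate to `s`.
-/

set_option autoImplicit false

namespace Cfsg.Agent.Helper56.CYC

open Subgroup Cfsg.Agent.Helper24.CYC

universe u

variable {G : Type u} [Group G] [Finite G] {p : ℕ} [Fact p.Prime]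

/-- (IIB1) -/
theorem caseII_four (hC : Core p G) (S : Sylow 2 G) (hA : ¬ p ∣ Nat.card (ctr (S : Subgroup G)))
    (P : Sylow p G) (s : G) (hsS : s ∈ S) (hs : s * s = 1) (hs1 : s ≠ 1) (hsC : s ∈ CP P)
    (D : Subgroup G) (hDN : D ≤ nrm (S : Subgroup G)) (hDp : IsPGroup p D) (hD1 : D ≠ ⊥)
    (hfpf : ∀ u : G, orderOf u = p → u ∈ nrm (S : Subgroup G) → ∀ t ∈ S, t * u = u * t → t = 1) :
    p = 3 ∧ Nat.card {t : G // t ∈ S ∧ t * t = 1} = 4 ∧
      ∀ t ∈ S, t * t = 1 → t ≠ 1 → ∃ g : G, g * s * g⁻¹ = t := by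
  have hpp : p.Prime := Fact.out
  have hp2 := hC.c1.podd
  have hSab : ∀ a ∈ S, ∀ b ∈ S, a * b = b * a := fun a ha b hb => h56_sylow2_comm hC.c1 S a b ha hb
  obtain ⟨a, haP, ha1⟩ := h56_exists_ne_one hC.c1.min.pdvd P
  have hsinv : s⁻¹ = s := inv_eq_of_mul_eq_one_right hs
  -- `C_G(h) = N_G(P)` for involutions of `C_G(P)`
  have hkeyN : ∀ h : G, h ∈ CP P → h * h = 1 → h ≠ 1 → Subgroup.centralizer {h} = NP P := by
    intro h hh hh2 hh1
    exact hC.key P a h haP ha1 hh1 (h56_coprime_of_sq hp2 h hh2) (hh a haP)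
  have hSN : ∀ x ∈ S, x ∈ NP P := by
    intro x hx
    rw [← hkeyN s hsC hs hs1]
    intro y hy
    rw [Set.mem_singleton_iff] at hy
    subst hy
    exact hSab y hsS x hx
  -- an element `v` of order `p` in `D`
  obtain ⟨v, hvD, hvo⟩ : ∃ v ∈ D, orderOf v = p := by
    obtain ⟨n, hn⟩ := hDp.exists_card_eq
    have hn0 : n ≠ 0 := by
      intro h
      rw [h, pow_zero] at hn
      exact hD1 (Subgroup.eq_bot_of_card_eq D hn)
    have hdvd : p ∣ Nat.card D := by
      rw [hn]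
      exact dvd_pow_self p hn0
    obtain ⟨x, hx⟩ := exists_prime_orderOf_dvd_card' p hdvd
    exact ⟨x.1, x.2, by rw [Subgroup.orderOf_coe]; exact hx⟩
  have hvN : v ∈ nrm (S : Subgroup G) := hDN hvD
  -- powers of `v` of exponent prime to `p` do not centralise `s`
  have hM : ∀ i : ℕ, ¬ p ∣ i → v ^ i * s * (v ^ i)⁻¹ ≠ s := by
    intro i hi h
    have ho : orderOf (v ^ i) = p := by
      have hcop : (orderOf v).Coprime i := by
        rw [hvo]
        exact (Nat.Prime.coprime_iff_not_dvd hpp).mpr hi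
      rw [hcop.orderOf_pow, hvo]
    have hN : v ^ i ∈ nrm (S : Subgroup G) := Subgroup.pow_mem _ hvN i
    have hc : s * v ^ i = v ^ i * s := by
      nth_rewrite 1 [← h]
      group
    exact hs1 (hfpf (v ^ i) ho hN s hsS hc)
  -- conjugation by `v`
  have hcS : ∀ x ∈ S, v * x * v⁻¹ ∈ S := fun x hx =>
    (Subgroup.mem_set_normalizer_iff.mp hvN x).mp hx
  have hc2 : ∀ x : G, x * x = 1 → (v * x * v⁻¹) * (v * x * v⁻¹) = 1 := by
    intro x hx
    calc (v * x * v⁻¹) * (v * x * v⁻¹) = v * (x * x) * v⁻¹ := by group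
      _ = 1 := by rw [hx]; group
  have hcinj : ∀ x y : G, v * x * v⁻¹ = v * y * v⁻¹ → x = y := by
    intro x y h
    exact mul_left_cancel (mul_right_cancel h)
  have hc1 : ∀ x : G, x ≠ 1 → v * x * v⁻¹ ≠ 1 := by
    intro x hx h
    apply hx
    apply hcinj
    rw [h]; group
  -- `v ∉ N_G(P)`
  have hvNP : v ∉ NP P := by
    intro h
    have hvP : v ∈ P := h56_mem_sylow_of_mem_normalizer P h (h56_isPGroup_zpowers v 1 (by rw [hvo, pow_one]))
    have hc : s * v = v * s := (hsC v hvP).symm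
    exact hs1 (hfpf v hvo hvN s hsS hc)
  -- (L)
  have hL : ∀ h' : G, h' * h' = 1 → h' ∈ CP P → h' ≠ 1 → v * h' * v⁻¹ ∉ CP P := by
    intro h' hh2 hhC hh1 hcon
    apply hvNP
    have hk1 := hkeyN h' hhC hh2 hh1
    have hk2 := hkeyN (v * h' * v⁻¹) hcon (hc2 h' hh2) (hc1 h' hh1)
    have hnn : v ∈ Subgroup.normalizer ((NP P : Subgroup G) : Set G) := by
      apply mem_normalizer_fintype
      intro n hn
      have hn' : n ∈ NP P := hn
      rw [← hk1] at hn'
      have hn2 : h' * n = n * h' := hn' h' (Set.mem_singleton _)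
      show v * n * v⁻¹ ∈ NP P
      rw [← hk2]
      intro y hy
      rw [Set.mem_singleton_iff] at hy
      subst hy
      calc v * h' * v⁻¹ * (v * n * v⁻¹) = v * (h' * n) * v⁻¹ := by group
        _ = v * (n * h') * v⁻¹ := by rw [hn2]
        _ = v * n * v⁻¹ * (v * h' * v⁻¹) := by group
    have h2 : v ∈ Subgroup.normalizer (Subgroup.normalizer (P : Set G) : Set G) := hnn
    rw [Sylow.normalizer_normalizer] at h2
    exact h2
  -- `Ω₀ = {1, s}`
  have hΩ0 : ∀ h ∈ S, h * h = 1 → h ∈ CP P → h = 1 ∨ h = s := by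
    intro h hhS hh2 hhC
    by_cases hh1 : h = 1
    · exact Or.inl hh1
    right
    have ht1 : v * h * v⁻¹ ∈ Ivs P :=
      ⟨hc2 h hh2, hSN _ (hcS h hhS), hL h hh2 hhC hh1⟩
    have ht2 : v * s * v⁻¹ ∈ Ivs P :=
      ⟨hc2 s hs, hSN _ (hcS s hsS), hL s hs hsC hs1⟩
    have h12 := h56_mul_mem_CP hC P _ _ ht1 ht2
    have e : v * h * v⁻¹ * (v * s * v⁻¹) = v * (h * s) * v⁻¹ := by group
    rw [e] at h12
    have hhs2 : h * s * (h * s) = 1 := by
      calc h * s * (h * s) = h * (s * h) * s := by group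
        _ = h * (h * s) * s := by rw [hSab s hsS h hhS]
        _ = (h * h) * (s * s) := by group
        _ = 1 := by rw [hh2, hs, one_mul]
    by_contra hne
    have hhs1 : h * s ≠ 1 := by
      intro h0
      apply hne
      have : h = s⁻¹ := eq_inv_of_mul_eq_one_left h0
      rw [this, hsinv]
    exact hL (h * s) hhs2 (mul_mem hhC hsC) hhs1 h12
  set t₀ := v * s * v⁻¹ with ht₀
  have ht₀S : t₀ ∈ S := hcS s hsS
  have ht₀2 : t₀ * t₀ = 1 := hc2 s hs
  have ht₀C : t₀ ∉ CP P := hL s hs hsC hs1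
  have ht₀I : t₀ ∈ Ivs P := ⟨ht₀2, hSN _ ht₀S, ht₀C⟩
  have ht₀inv : t₀⁻¹ = t₀ := inv_eq_of_mul_eq_one_right ht₀2
  -- `Ω ⊆ {1, s, t₀, s t₀}`
  have hΩ : ∀ t ∈ S, t * t = 1 → t = 1 ∨ t = s ∨ t = t₀ ∨ t = s * t₀ := by
    intro t htS ht2
    by_cases htC : t ∈ CP P
    · rcases hΩ0 t htS ht2 htC with h | h
      · exact Or.inl h
      · exact Or.inr (Or.inl h)
    · have htI : t ∈ Ivs P := ⟨ht2, hSN _ htS, htC⟩
      have h12 := h56_mul_mem_CP hC P _ _ htI ht₀I
      have h2 : t * t₀ * (t * t₀) = 1 := by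
        calc t * t₀ * (t * t₀) = t * (t₀ * t) * t₀ := by group
          _ = t * (t * t₀) * t₀ := by rw [hSab t₀ ht₀S t htS]
          _ = (t * t) * (t₀ * t₀) := by group
          _ = 1 := by rw [ht2, ht₀2, one_mul]
      rcases hΩ0 (t * t₀) (mul_mem htS ht₀S) h2 h12 with h | h
      · right; right; left
        have : t = t₀⁻¹ := eq_inv_of_mul_eq_one_left h
        rw [this, ht₀inv]
      · right; right; right
        have : t = t * t₀ * t₀ := by
          rw [mul_assoc, ht₀2, mul_one]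
        rw [this, h]
  -- distinctness
  have hd1 : t₀ ≠ 1 := fun h => ht₀C (by rw [h]; exact one_mem _)
  have hd2 : t₀ ≠ s := fun h => ht₀C (by rw [h]; exact hsC)
  have hst₀C : s * t₀ ∉ CP P := by
    intro h
    apply ht₀C
    have e : t₀ = s * (s * t₀) := by rw [← mul_assoc, hs, one_mul]
    rw [e]
    exact mul_mem hsC h
  have hd3 : s * t₀ ≠ 1 := fun h => hst₀C (by rw [h]; exact one_mem _)
  have hd4 : s * t₀ ≠ s := fun h => hst₀C (by rw [h]; exact hsC)
  have hd5 : s * t₀ ≠ t₀ := by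
    intro h
    apply hs1
    have : s * t₀ = 1 * t₀ := by rw [one_mul]; exact h
    exact mul_right_cancel this
  -- the three conjugates
  have hcc : v * t₀ * v⁻¹ = s * t₀ := by
    have hmem := hΩ (v * t₀ * v⁻¹) (hcS _ ht₀S) (hc2 _ ht₀2)
    rcases hmem with h | h | h | h
    · exact absurd h (hc1 _ hd1)
    · exfalso
      apply hM 2
      · intro hdvd
        exact hp2 ((Nat.prime_dvd_prime_iff_eq hpp Nat.prime_two).mp hdvd)
      · calc v ^ 2 * s * (v ^ 2)⁻¹ = v * v * s * (v * v)⁻¹ := by rw [pow_two]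
          _ = v * (v * s * v⁻¹) * v⁻¹ := by group
          _ = v * t₀ * v⁻¹ := by rw [ht₀]
          _ = s := h
    · exfalso
      have := hcinj t₀ s (h.trans ht₀)
      apply hM 1
      · intro hdvd
        exact hpp.one_lt.ne' (Nat.dvd_one.mp hdvd)
      · rw [pow_one]; exact this
    · exact h
  have hccc : v * (s * t₀) * v⁻¹ = s := by
    have hmem := hΩ (v * (s * t₀) * v⁻¹) (hcS _ (mul_mem hsS ht₀S))
      (hc2 _ (by
        calc s * t₀ * (s * t₀) = s * (t₀ * s) * t₀ := by group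
          _ = s * (s * t₀) * t₀ := by rw [hSab t₀ ht₀S s hsS]
          _ = (s * s) * (t₀ * t₀) := by group
          _ = 1 := by rw [hs, ht₀2, one_mul]))
    rcases hmem with h | h | h | h
    · exact absurd h (hc1 _ hd3)
    · exact h
    · exfalso
      -- v (s t₀) v⁻¹ = t₀ = v s v⁻¹
      exact hd4 (hcinj (s * t₀) s (h.trans ht₀))
    · exfalso
      -- v (s t₀) v⁻¹ = s t₀ = v t₀ v⁻¹
      exact hd5 (hcinj (s * t₀) t₀ (h.trans hcc.symm))
  have hp3 : p = 3 := by
    by_contra hne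
    apply hM 3
    · intro hdvd
      exact hne ((Nat.prime_dvd_prime_iff_eq hpp Nat.prime_three).mp hdvd)
    · calc v ^ 3 * s * (v ^ 3)⁻¹ = v * v * v * s * (v * v * v)⁻¹ := by rw [pow_succ, pow_two]
        _ = v * (v * (v * s * v⁻¹) * v⁻¹) * v⁻¹ := by group
        _ = v * (v * t₀ * v⁻¹) * v⁻¹ := by rw [ht₀]
        _ = v * (s * t₀) * v⁻¹ := by rw [hcc]
        _ = s := hccc
  refine ⟨hp3, ?_, ?_⟩
  · have hset : {t : G | t ∈ S ∧ t * t = 1} = {1, s, t₀, s * t₀} := by
      ext t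
      constructor
      · rintro ⟨htS, ht2⟩
        rcases hΩ t htS ht2 with h | h | h | h <;> simp [h]
      · intro h
        simp only [Set.mem_insert_iff, Set.mem_singleton_iff] at h
        rcases h with h | h | h | h <;> subst h
        · exact ⟨one_mem _, one_mul 1⟩
        · exact ⟨hsS, hs⟩
        · exact ⟨ht₀S, ht₀2⟩
        · refine ⟨mul_mem hsS ht₀S, ?_⟩
          calc s * t₀ * (s * t₀) = s * (t₀ * s) * t₀ := by group
            _ = s * (s * t₀) * t₀ := by rw [hSab t₀ ht₀S s hsS]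
            _ = (s * s) * (t₀ * t₀) := by group
            _ = 1 := by rw [hs, ht₀2, one_mul]
    show Nat.card ↥({t : G | t ∈ S ∧ t * t = 1}) = 4
    rw [hset, Nat.card_coe_set_eq]
    have h1 : (1 : G) ∉ ({s, t₀, s * t₀} : Set G) := by
      simp only [Set.mem_insert_iff, Set.mem_singleton_iff, not_or]
      exact ⟨fun h => hs1 h.symm, fun h => hd1 h.symm, fun h => hd3 h.symm⟩
    have h2 : s ∉ ({t₀, s * t₀} : Set G) := by
      simp only [Set.mem_insert_iff, Set.mem_singleton_iff, not_or]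
      exact ⟨fun h => hd2 h.symm, fun h => hd4 h.symm⟩
    have h3 : t₀ ∉ ({s * t₀} : Set G) := by
      simp only [Set.mem_singleton_iff]
      exact fun h => hd5 h.symm
    rw [Set.ncard_insert_of_notMem h1, Set.ncard_insert_of_notMem h2, Set.ncard_insert_of_notMem h3,
      Set.ncard_singleton]
  · intro t htS ht2 ht1
    rcases hΩ t htS ht2 with h | h | h | h
    · exact absurd h ht1
    · exact ⟨1, by rw [h]; group⟩
    · exact ⟨v, by rw [h]⟩
    · refine ⟨v * v, ?_⟩
      rw [h, ← hcc, ht₀]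
      group

end Cfsg.Agent.Helper56.CYC
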