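import Mathlib
import Cfsg.Agent.S0042
import Cfsg.Agent.S0034
import Cfsg.Agent.S3383
import Cfsg.Agent.Lib.Helper10.ConjRep

set_option autoImplicit false
set_option linter.unusedSectionVars false
set_option linter.style.haveILetI false

/-! A Frobenius complement has a semiregular linear action on a finite vector space. -/

namespace Cfsg.Agent.Helper56.FC

open Cfsg.Agent.Helper10

theorem exists_sr_of_frobenius {L : Type} [Group L] [Finite L] (H : Subgroup L)
    (hH : Cfsg.IsFrobeniusComplement H) :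
    ∃ (q : ℕ) (_ : Fact q.Prime) (V : Type) (_ : AddCommGroup V) (_ : Module (ZMod q) V)
      (_ : Finite V) (_ : Nontrivial V) (ρ : H →* (V ≃ₗ[ZMod q] V)),
      ∀ v : V, v ≠ 0 → ∀ g : H, ρ g v = v → g = 1 := by
  classical
  obtain ⟨N, hN, hNn, hNnil⟩ := Cfsg.Agent.S0042.result H hH
  have hNbot : N ≠ ⊥ := by
    intro h
    have h1 := (Cfsg.Agent.S0034.result H hH).1
    have h2 : Nat.card (Cfsg.frobeniusKernel H) = Nat.card N := by
      rw [← hN]
      rfl
    rw [h2, h, Subgroup.card_bot] at h1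
    exact hH.2.1 (Subgroup.index_eq_one.mp h1.symm)
  haveI : Nontrivial N := (Subgroup.nontrivial_iff_ne_bot N).mpr hNbot
  have hZ : Subgroup.center N ≠ ⊥ := Group.IsNilpotent.center_ne_bot _
  set ZL : Subgroup L := (Subgroup.center N).map N.subtype with hZL
  haveI hZLn : ZL.Normal := by
    rw [hZL]
    infer_instance
  have hZLbot : ZL ≠ ⊥ := by
    intro h
    apply hZ
    rw [hZL] at h
    exact (Subgroup.map_eq_bot_iff_of_injective _ N.subtype_injective).mp h
  have hZLN : ZL ≤ N := by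
    rw [hZL]
    exact Subgroup.map_subtype_le _
  have hZLc : ∀ a ∈ ZL, ∀ b ∈ ZL, a * b = b * a := by
    rintro _ ⟨a, ha, rfl⟩ _ ⟨b, hb, rfl⟩
    have := Subgroup.mem_center_iff.mp hb a
    have h2 := congrArg (Subtype.val : N → L) this
    simpa using h2
  have hcard1 : Nat.card ZL ≠ 1 := fun h => hZLbot (Subgroup.card_eq_one.mp h)
  obtain ⟨q, hq, hqd⟩ := Nat.exists_prime_and_dvd hcard1
  haveI : Fact q.Prime := ⟨hq⟩
  let V₀ : Subgroup L :=
    { carrier := {z | z ∈ ZL ∧ z ^ q = 1}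
      mul_mem' := by
        rintro a b ⟨ha, ha'⟩ ⟨hb, hb'⟩
        refine ⟨ZL.mul_mem ha hb, ?_⟩
        have hc : Commute a b := hZLc a ha b hb
        rw [hc.mul_pow, ha', hb', one_mul]
      one_mem' := ⟨ZL.one_mem, one_pow q⟩
      inv_mem' := by
        rintro a ⟨ha, ha'⟩
        exact ⟨ZL.inv_mem ha, by rw [inv_pow, ha', inv_one]⟩ }
  have hV₀mem : ∀ z : L, z ∈ V₀ ↔ z ∈ ZL ∧ z ^ q = 1 := fun z => Iff.rfl
  have hV₀bot : V₀ ≠ ⊥ := by
    obtain ⟨z, hz⟩ := exists_prime_orderOf_dvd_card' (G := ZL) q hqd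
    intro h
    have h1 : (z : L) ∈ V₀ := by
      rw [hV₀mem]
      refine ⟨z.2, ?_⟩
      have : z ^ q = 1 := by
        rw [← hz]
        exact pow_orderOf_eq_one z
      have h2 := congrArg (Subtype.val : ZL → L) this
      simpa using h2
    rw [h, Subgroup.mem_bot] at h1
    have h3 : z = 1 := Subtype.ext h1
    rw [h3, orderOf_one] at hz
    exact hq.one_lt.ne hz
  haveI hV₀n : V₀.Normal := by
    constructor
    intro z hz g
    rw [hV₀mem] at hz ⊢
    refine ⟨hZLn.conj_mem z hz.1 g, ?_⟩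
    rw [conj_pow, hz.2]
    group
  have hV : Cfsg.IsElementaryAbelian q V₀ := by
    refine ⟨⟨⟨?_⟩⟩, fun a ha => ha.2⟩
    intro a b
    apply Subtype.ext
    exact hZLc a a.2.1 b b.2.1
  have hHV : H ≤ Subgroup.normalizer (V₀ : Set L) := by
    rw [Subgroup.normalizer_eq_top]
    exact le_top
  let W := ElemAbAdd q V₀ hV
  haveI : Nontrivial W := by
    obtain ⟨z, hz1⟩ := (Subgroup.ne_bot_iff_exists_ne_one).mp hV₀bot
    refine ⟨⟨ElemAbAdd.ofV hV z, 0, ?_⟩⟩
    intro h
    exact hz1 (ElemAbAdd.ofV_injective hV (h.trans (ElemAbAdd.ofV_one hV).symm))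
  let ρ : H →* (W ≃ₗ[ZMod q] W) :=
    (LinearMap.GeneralLinearGroup.generalLinearEquiv (ZMod q) W).toMonoidHom.comp
      (conjRep hV hHV).toHomUnits
  have hρ : ∀ (h : H) (w : W), ρ h w = conjRep hV hHV h w := fun _ _ => rfl
  refine ⟨q, inferInstance, W, inferInstance, inferInstance, inferInstance, inferInstance, ρ, ?_⟩
  intro w hw h hfix
  by_contra hne
  apply hw
  rw [hρ, ← ElemAbAdd.ofV_toV hV w, conjRep_apply] at hfix
  have h1 := congrArg Subtype.val (ElemAbAdd.ofV_injective hV hfix)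
  simp only at h1
  set v := ElemAbAdd.toV hV w with hv
  have h2 : (v : L) * (h : L) = (h : L) * v := by
    calc (v : L) * (h : L) = ((h : L) * v * (h : L)⁻¹) * h := by rw [h1]
      _ = (h : L) * v := by group
  have hh1 : (h : L) ≠ 1 := fun h' => hne (Subtype.ext h')
  have hvH : (v : L) ∈ H := Cfsg.Agent.S3383.commute_mem H hH h h.2 hh1 v h2
  have hvN : (v : L) ∈ N := hZLN v.2.1
  have hv1 : (v : L) = 1 := Cfsg.Agent.S3383.K_inf_H H N hN v hvN hvH
  have hv1' : v = 1 := Subtype.ext hv1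
  rw [← ElemAbAdd.ofV_toV hV w, ← hv, hv1', ElemAbAdd.ofV_one]

end Cfsg.Agent.Helper56.FC
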