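import Mathlib

set_option autoImplicit false
set_option linter.unusedSectionVars false
set_option linter.style.haveILetI false

/-! The metacyclic presentation `⟨x, y | x^n, y^m, x⁻¹ y x = y^r⟩` and some arithmetic. -/

namespace Cfsg.Agent.Helper56.FC

section pres

variable {Γ : Type*} [Group Γ]

lemma conj_inv_pow (x y : Γ) (k : ℕ) : x⁻¹ * y ^ k * x = (x⁻¹ * y * x) ^ k := by
  induction k with
  | zero => simp
  | succ k ih =>
    rw [pow_succ, pow_succ, ← ih]
    group

lemma conj_pow_rel (x y : Γ) (r : ℕ) (h : x⁻¹ * y * x = y ^ r) (e : ℕ) :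
    (x ^ e)⁻¹ * y * x ^ e = y ^ (r ^ e) := by
  induction e with
  | zero => simp
  | succ e ih =>
    calc (x ^ (e + 1))⁻¹ * y * x ^ (e + 1) = x⁻¹ * ((x ^ e)⁻¹ * y * x ^ e) * x := by
          rw [pow_succ]
          group
      _ = x⁻¹ * y ^ (r ^ e) * x := by rw [ih]
      _ = (y ^ r) ^ (r ^ e) := by rw [conj_inv_pow, h]
      _ = y ^ (r ^ (e + 1)) := by rw [← pow_mul, pow_succ, mul_comm]

lemma exists_normal_form (X Y : Γ) (n m r : ℕ) (hn : 0 < n) (hm : 0 < m) (hX : X ^ n = 1)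
    (hY : Y ^ m = 1) (hrel : X⁻¹ * Y * X = Y ^ r)
    (hgen : Subgroup.closure ({X, Y} : Set Γ) = ⊤) (g : Γ) :
    ∃ i j : ℕ, i < n ∧ j < m ∧ g = X ^ i * Y ^ j := by
  have hXinv : X⁻¹ = X ^ (n - 1) := by
    have : X ^ (n - 1) * X = 1 := by rw [← pow_succ, Nat.sub_add_cancel hn, hX]
    exact (eq_inv_of_mul_eq_one_left this).symm ▸ rfl
  have hYinv : Y⁻¹ = Y ^ (m - 1) := by
    have : Y ^ (m - 1) * Y = 1 := by rw [← pow_succ, Nat.sub_add_cancel hm, hY]
    exact (eq_inv_of_mul_eq_one_left this).symm ▸ rfl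
  have stepX : ∀ i j : ℕ, X ^ i * Y ^ j * X = X ^ (i + 1) * Y ^ (r * j) := by
    intro i j
    have h1 : Y ^ j * X = X * (X⁻¹ * Y ^ j * X) := by group
    rw [mul_assoc, h1, conj_inv_pow, hrel, ← pow_mul, ← mul_assoc, ← pow_succ]
  have stepXk : ∀ k i j : ℕ, ∃ i' j' : ℕ, X ^ i * Y ^ j * X ^ k = X ^ i' * Y ^ j' := by
    intro k
    induction k with
    | zero => intro i j; exact ⟨i, j, by simp⟩
    | succ k ih =>
      intro i j
      obtain ⟨i', j', h⟩ := ih i j
      refine ⟨i' + 1, r * j', ?_⟩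
      rw [pow_succ, ← mul_assoc, h, stepX]
  have key : ∀ g : Γ, ∃ i j : ℕ, g = X ^ i * Y ^ j := by
    intro g
    have hg : g ∈ Subgroup.closure ({X, Y} : Set Γ) := by
      rw [hgen]
      trivial
    induction hg using Subgroup.closure_induction_right with
    | one => exact ⟨0, 0, by simp⟩
    | mul_right x hx y hy ih =>
      obtain ⟨i, j, rfl⟩ := ih
      rcases hy with rfl | rfl
      · exact ⟨i + 1, r * j, stepX i j⟩
      · exact ⟨i, j + 1, by rw [mul_assoc, ← pow_succ]⟩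
    | mul_inv_cancel x hx y hy ih =>
      obtain ⟨i, j, rfl⟩ := ih
      rcases hy with rfl | rfl
      · rw [hXinv]
        obtain ⟨i', j', h⟩ := stepXk (n - 1) i j
        exact ⟨i', j', h⟩
      · rw [hYinv]
        exact ⟨i, j + (m - 1), by rw [mul_assoc, ← pow_add]⟩
  obtain ⟨i, j, rfl⟩ := key g
  refine ⟨i % n, j % m, Nat.mod_lt _ hn, Nat.mod_lt _ hm, ?_⟩
  rw [← pow_eq_pow_mod i hX, ← pow_eq_pow_mod j hY]

lemma card_le_of_rel (X Y : Γ) (n m r : ℕ) (hn : 0 < n) (hm : 0 < m) (hX : X ^ n = 1)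
    (hY : Y ^ m = 1) (hrel : X⁻¹ * Y * X = Y ^ r)
    (hgen : Subgroup.closure ({X, Y} : Set Γ) = ⊤) : Finite Γ ∧ Nat.card Γ ≤ n * m := by
  have hsurj : Function.Surjective (fun t : Fin n × Fin m => X ^ (t.1 : ℕ) * Y ^ (t.2 : ℕ)) := by
    intro g
    obtain ⟨i, j, hi, hj, rfl⟩ := exists_normal_form X Y n m r hn hm hX hY hrel hgen g
    exact ⟨(⟨i, hi⟩, ⟨j, hj⟩), rfl⟩
  have hfin : Finite Γ := Finite.of_surjective _ hsurj
  refine ⟨hfin, ?_⟩
  have := Nat.card_le_card_of_surjective _ hsurj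
  rwa [Nat.card_prod, Nat.card_fin, Nat.card_fin] at this

/-- the relators of the metacyclic presentation -/
def mrels (n m r : ℕ) : Set (FreeGroup (Fin 2)) :=
  {FreeGroup.of (0 : Fin 2) ^ n, FreeGroup.of (1 : Fin 2) ^ m,
    (FreeGroup.of (0 : Fin 2))⁻¹ * FreeGroup.of 1 * FreeGroup.of 0 *
      (FreeGroup.of (1 : Fin 2) ^ r)⁻¹}

theorem metacyclic_pres [Finite Γ] (x y : Γ) (n m r : ℕ)
    (hgen : Subgroup.closure ({x, y} : Set Γ) = ⊤) (hx : orderOf x = n) (hy : orderOf y = m)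
    (hrel : x⁻¹ * y * x = y ^ r) (hcop : Nat.Coprime n m) :
    Nonempty (Γ ≃* PresentedGroup (mrels n m r)) := by
  have hn : 0 < n := hx ▸ orderOf_pos x
  have hm : 0 < m := hy ▸ orderOf_pos y
  have hxn : x ^ n = 1 := hx ▸ pow_orderOf_eq_one x
  have hym : y ^ m = 1 := hy ▸ pow_orderOf_eq_one y
  -- the generators of the presented group
  set X : PresentedGroup (mrels n m r) := PresentedGroup.of 0 with hXdef
  set Y : PresentedGroup (mrels n m r) := PresentedGroup.of 1 with hYdef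
  have hXn : X ^ n = 1 := by
    have : PresentedGroup.mk (mrels n m r) (FreeGroup.of (0 : Fin 2) ^ n) = 1 :=
      PresentedGroup.one_of_mem (by simp [mrels])
    simpa [X, PresentedGroup.of] using this
  have hYm : Y ^ m = 1 := by
    have : PresentedGroup.mk (mrels n m r) (FreeGroup.of (1 : Fin 2) ^ m) = 1 :=
      PresentedGroup.one_of_mem (by simp [mrels])
    simpa [Y, PresentedGroup.of] using this
  have hXY : X⁻¹ * Y * X = Y ^ r := by
    have : PresentedGroup.mk (mrels n m r) ((FreeGroup.of (0 : Fin 2))⁻¹ * FreeGroup.of 1 *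
        FreeGroup.of 0 * (FreeGroup.of (1 : Fin 2) ^ r)⁻¹) = 1 :=
      PresentedGroup.one_of_mem (by simp [mrels])
    have h : X⁻¹ * Y * X * (Y ^ r)⁻¹ = 1 := by simpa [X, Y, PresentedGroup.of] using this
    exact mul_inv_eq_one.mp h
  have hgenP : Subgroup.closure ({X, Y} : Set (PresentedGroup (mrels n m r))) = ⊤ := by
    have h := PresentedGroup.closure_range_of (mrels n m r)
    have hr : Set.range (PresentedGroup.of : Fin 2 → PresentedGroup (mrels n m r)) = {X, Y} := by
      ext g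
      simp only [Set.mem_range, Set.mem_insert_iff, Set.mem_singleton_iff]
      constructor
      · rintro ⟨i, rfl⟩
        fin_cases i
        · left; rfl
        · right; rfl
      · rintro (rfl | rfl)
        · exact ⟨0, rfl⟩
        · exact ⟨1, rfl⟩
    rw [hr] at h
    exact h
  obtain ⟨hfinP, hcardP⟩ := card_le_of_rel X Y n m r hn hm hXn hYm hXY hgenP
  -- the homomorphism onto Γ
  have hrels : ∀ w ∈ mrels n m r, FreeGroup.lift ![x, y] w = 1 := by
    intro w hw
    simp only [mrels, Set.mem_insert_iff, Set.mem_singleton_iff] at hw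
    rcases hw with rfl | rfl | rfl
    · simp [hxn]
    · simp [hym]
    · simp only [map_mul, map_inv, map_pow, FreeGroup.lift_apply_of, Matrix.cons_val_zero,
        Matrix.cons_val_one]
      rw [hrel]
      exact mul_inv_cancel _
  let φ : PresentedGroup (mrels n m r) →* Γ := PresentedGroup.toGroup hrels
  have hφX : φ X = x := PresentedGroup.toGroup.of hrels
  have hφY : φ Y = y := PresentedGroup.toGroup.of hrels
  have hφsurj : Function.Surjective φ := by
    rw [← MonoidHom.range_eq_top, eq_top_iff, ← hgen, Subgroup.closure_le]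
    rintro g (rfl | rfl)
    · exact ⟨X, hφX⟩
    · exact ⟨Y, hφY⟩
  have hcardΓ : n * m ≤ Nat.card Γ := by
    have h1 : n ∣ Nat.card Γ := hx ▸ orderOf_dvd_natCard x
    have h2 : m ∣ Nat.card Γ := hy ▸ orderOf_dvd_natCard y
    exact Nat.le_of_dvd Nat.card_pos (Nat.Coprime.mul_dvd_of_dvd_of_dvd hcop h1 h2)
  have hbij : Function.Bijective φ :=
    hφsurj.bijective_of_nat_card_le (hcardP.trans hcardΓ)
  exact ⟨(MulEquiv.ofBijective φ hbij).symm⟩

end pres

section arith

lemma zmod_pow_iff (r e m : ℕ) : r ^ e % m = 1 % m ↔ ((r : ZMod m)) ^ e = 1 := by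
  rw [← Nat.cast_pow, ← Nat.cast_one (R := ZMod m), ZMod.natCast_eq_natCast_iff']

lemma dvd_div_rad (n d : ℕ) (hn : 0 < n) (hdn : d ∣ n)
    (hd : ∀ p : ℕ, p.Prime → p ∣ n → d ∣ n / p) : d ∣ n / ∏ p ∈ n.primeFactors, p := by
  classical
  have key : ∀ S : Finset ℕ, S ⊆ n.primeFactors →
      (∏ p ∈ S, p) ∣ n ∧ d ∣ n / ∏ p ∈ S, p := by
    intro S
    induction S using Finset.induction_on with
    | empty =>
      intro _
      simp [hdn]
    | insert p₀ S hp₀ ih =>
      intro hS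
      obtain ⟨h1, h2⟩ := ih (fun x hx => hS (Finset.mem_insert_of_mem hx))
      have hp₀mem := hS (Finset.mem_insert_self p₀ S)
      have hp₀p : p₀.Prime := Nat.prime_of_mem_primeFactors hp₀mem
      have hp₀n : p₀ ∣ n := Nat.dvd_of_mem_primeFactors hp₀mem
      set P := ∏ p ∈ S, p with hP
      have hcop : Nat.Coprime p₀ P := by
        apply Nat.Coprime.prod_right
        intro s hs
        have hsp : s.Prime := Nat.prime_of_mem_primeFactors (hS (Finset.mem_insert_of_mem hs))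
        exact (Nat.coprime_primes hp₀p hsp).mpr (fun h => hp₀ (h ▸ hs))
      rw [Finset.prod_insert hp₀]
      have hdvd : p₀ * P ∣ n := Nat.Coprime.mul_dvd_of_dvd_of_dvd hcop hp₀n h1
      refine ⟨hdvd, ?_⟩
      obtain ⟨n'', hn''⟩ := hdvd
      have hp₀pos : 0 < p₀ := hp₀p.pos
      have hPpos : 0 < P := by
        rcases Nat.eq_zero_or_pos P with h | h
        · rw [h, mul_zero, zero_mul] at hn''
          omega
        · exact h
      have e1 : n / (p₀ * P) = n'' := by
        rw [hn'']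
        exact Nat.mul_div_cancel_left _ (Nat.mul_pos hp₀pos hPpos)
      have e2 : n / P = p₀ * n'' := by
        rw [hn'', mul_comm p₀ P, mul_assoc]
        exact Nat.mul_div_cancel_left _ hPpos
      have e3 : n / p₀ = P * n'' := by
        rw [hn'', mul_assoc]
        exact Nat.mul_div_cancel_left _ hp₀pos
      rw [e1]
      rw [e2] at h2
      have h3 := hd p₀ hp₀p hp₀n
      rw [e3] at h3
      have h4 : d ∣ Nat.gcd (p₀ * n'') (P * n'') := Nat.dvd_gcd h2 h3
      rwa [Nat.gcd_mul_right, hcop.gcd_eq_one, one_mul] at h4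
  exact (key n.primeFactors (Finset.Subset.refl _)).2

/-- from `r^(n/p) ≡ 1` for all primes `p ∣ n` to `r^(n / rad n) ≡ 1` -/
lemma pow_div_rad (n m r : ℕ) (hn : 0 < n) (hrn : r ^ n % m = 1 % m)
    (h : ∀ p : ℕ, p.Prime → p ∣ n → r ^ (n / p) % m = 1 % m) :
    r ^ (n / ∏ p ∈ n.primeFactors, p) % m = 1 % m := by
  rw [zmod_pow_iff] at hrn ⊢
  rw [← orderOf_dvd_iff_pow_eq_one] at hrn ⊢
  apply dvd_div_rad n _ hn hrn
  intro p hp hpn
  have := h p hp hpn
  rw [zmod_pow_iff, ← orderOf_dvd_iff_pow_eq_one] at this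
  exact this

end arith

end Cfsg.Agent.Helper56.FC
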