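import Mathlib
import Cfsg.Agent.Lib.Helper56.FrobComplC
import Cfsg.Agent.Lib.Helper56.FrobComplD
import Cfsg.Agent.S3379

set_option autoImplicit false
set_option linter.unusedSectionVars false
set_option linter.style.haveILetI false
set_option maxHeartbeats 1600000

/-! Zassenhaus' structure theorem for solvable groups with a semiregular linear action. -/

namespace Cfsg.Agent.Helper56.FC

open Cfsg.Agent.Helper63 Cfsg.Agent.S3370 Cfsg.Agent.Helper56

section sr

variable {q : ℕ} [Fact q.Prime] {V : Type*} [AddCommGroup V] [Module (ZMod q) V] [Finite V]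
  [Nontrivial V] {G : Type*} [Group G] [Finite G] (ρ : G →* (V ≃ₗ[ZMod q] V))
  (hsr : ∀ v : V, v ≠ 0 → ∀ g : G, ρ g v = v → g = 1)

include hsr in
theorem zassenhaus_solvable (hsol : Group.IsSolvable G) :
    ∃ G₀ : Subgroup G, G₀.Normal ∧ (∃ f : G →* Equiv.Perm (Fin 4), f.ker = G₀) ∧
      (∀ (p : ℕ) [Fact p.Prime] (P : Sylow p G₀), IsCyclic P) ∧
      ∃ n m r : ℕ, 0 < n ∧ 0 < m ∧ Nat.Coprime (r - 1) m ∧ Nat.Coprime n m ∧ 1 ≤ r ∧
        r ^ (n / ∏ p ∈ n.primeFactors, p) % m = 1 % m ∧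
        Nonempty (G₀ ≃* PresentedGroup (mrels n m r)) := by
  obtain ⟨f, hf⟩ := exists_hom_perm4 ρ hsr hsol
  have hZ : ∀ (p : ℕ) [Fact p.Prime] (P : Sylow p f.ker), IsCyclic (P : Subgroup f.ker) := by
    intro p _ P
    set P' : Subgroup G := (P : Subgroup f.ker).map f.ker.subtype with hP'def
    have hP' : IsPGroup p P' := P.2.map _
    have e : (P : Subgroup f.ker) ≃* P' :=
      Subgroup.equivMapOfInjective _ _ f.ker.subtype_injective
    suffices hcyc : IsCyclic P' by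
      exact isCyclic_of_surjective e.symm.toMonoidHom e.symm.surjective
    by_cases hp2 : p = 2
    · subst hp2
      have hcomm : ∀ a b : P', a * b = b * a := fun a b =>
        Subtype.ext (hf P' (Subgroup.map_subtype_le _) hP' a a.2 b b.2)
      rcases sr_two ρ hsr P' hP' with h | ⟨k, hk, ⟨e'⟩⟩
      · exact h
      · exact Cfsg.Agent.S3215.isCyclic_of_comm_quaternion hcomm k e'
    · rcases sr_pgroup ρ hsr p P' hP' with h | ⟨n, ⟨e'⟩⟩
      · exact h
      · exact (not_quat_of_odd hp2 hP' e').elim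
  refine ⟨f.ker, inferInstance, ⟨f, rfl⟩, fun p _ P => hZ p P, ?_⟩
  obtain ⟨x, y, n, m, r, hgen, hx, hy, hrel, hr1, hcop, hr, hrn⟩ :=
    Cfsg.Agent.S3379.result (G := f.ker) hZ
  have hn : 0 < n := hx ▸ orderOf_pos x
  have hm : 0 < m := hy ▸ orderOf_pos y
  refine ⟨n, m, r, hn, hm, hr1, hcop, hr, ?_, metacyclic_pres x y n m r hgen hx hy hrel hcop⟩
  apply pow_div_rad n m r hn hrn
  intro p hp hpn
  haveI : Fact p.Prime := ⟨hp⟩
  have hnp : n / p ∣ n := Nat.div_dvd_of_dvd hpn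
  have hnp0 : n / p ≠ 0 := (Nat.div_pos (Nat.le_of_dvd hn hpn) hp.pos).ne'
  have hou : orderOf (x ^ (n / p)) = p := by
    rw [orderOf_pow_of_dvd hnp0 (hx ▸ hnp), hx, Nat.div_div_self hpn hn.ne']
  have hsr₀ : ∀ v : V, v ≠ 0 → ∀ g : f.ker, (ρ.comp f.ker.subtype) g v = v → g = 1 :=
    fun v hv g hg => Subtype.ext (hsr v hv g hg)
  have hconj : (x ^ (n / p))⁻¹ * y * x ^ (n / p) = y ^ (r ^ (n / p)) :=
    conj_pow_rel x y r hrel _
  have hC := sr_cc (ρ.comp f.ker.subtype) hsr₀ (x ^ (n / p)) p hou (Subgroup.zpowers y) (by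
      rintro a ⟨i, rfl⟩ b ⟨j, rfl⟩
      exact (Commute.zpow_zpow_self y i j).eq) (by
      rintro c ⟨i, rfl⟩
      have h2 : (x ^ (n / p))⁻¹ * y ^ i * x ^ (n / p) =
          ((x ^ (n / p))⁻¹ * y * x ^ (n / p)) ^ i := by
        have := conj_zpow (a := (x ^ (n / p))⁻¹) (b := y) (i := i)
        rw [inv_inv] at this
        exact this.symm
      show (x ^ (n / p))⁻¹ * y ^ i * x ^ (n / p) ∈ Subgroup.zpowers y
      rw [h2, hconj]
      exact Subgroup.zpow_mem _ (Subgroup.pow_mem _ (Subgroup.mem_zpowers y) _) i) (by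
      rw [Nat.card_zpowers, hy]
      intro hpm
      have := Nat.dvd_gcd hpn hpm
      rw [hcop.gcd_eq_one] at this
      exact hp.one_lt.ne' (Nat.dvd_one.mp this)) y (Subgroup.mem_zpowers y)
  rw [hconj] at hC
  have h3 : y ^ (r ^ (n / p)) = y ^ 1 := by rw [hC, pow_one]
  rw [pow_eq_pow_iff_modEq, hy] at h3
  exact h3

end sr

end Cfsg.Agent.Helper56.FC
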