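import Mathlib

set_option autoImplicit false
set_option linter.unusedSectionVars false
set_option linter.style.haveILetI false

/-! Lifting a matrix representation over `ZMod q` of a group of order prime to `q` to
`ZMod (q ^ k)`, via Schur–Zassenhaus. -/

namespace Cfsg.Agent.Helper56.FL

open Matrix

section lift

variable {q : ℕ} [hq : Fact q.Prime] {n : ℕ} (k : ℕ) (hk : 0 < k)

/-- reduction of scalars `ZMod (q ^ k) → ZMod q` -/
noncomputable def redRing (q k : ℕ) (hk : 0 < k) : ZMod (q ^ k) →+* ZMod q :=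
  ZMod.castHom (dvd_pow_self q hk.ne') (ZMod q)

/-- reduction on `GL` -/
noncomputable def redGL (q k n : ℕ) (hk : 0 < k) :
    GL (Fin n) (ZMod (q ^ k)) →* GL (Fin n) (ZMod q) :=
  Matrix.GeneralLinearGroup.map (redRing q k hk)

theorem redRing_eq_zero (a : ZMod (q ^ k)) (h : redRing q k hk a = 0) :
    ∃ b : ZMod (q ^ k), a = (q : ZMod (q ^ k)) * b := by
  obtain ⟨m, rfl⟩ := ZMod.intCast_surjective a
  rw [map_intCast, ZMod.intCast_zmod_eq_zero_iff_dvd] at h
  obtain ⟨c, rfl⟩ := h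
  exact ⟨(c : ZMod (q ^ k)), by push_cast; ring⟩

theorem redRing_isUnit (a : ZMod (q ^ k)) (h : IsUnit (redRing q k hk a)) : IsUnit a := by
  haveI : NeZero (q ^ k) := ⟨pow_ne_zero _ hq.out.ne_zero⟩
  have ha : a = ((a.val : ℕ) : ZMod (q ^ k)) := (ZMod.natCast_zmod_val a).symm
  rw [ha] at h ⊢
  rw [map_natCast, ZMod.isUnit_iff_coprime] at h
  rw [ZMod.isUnit_iff_coprime]
  exact Nat.Coprime.pow_right k h

theorem redGL_surjective : Function.Surjective (redGL q k n hk) := by
  intro M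
  have hs : Function.Surjective (redRing q k hk) := ZMod.ringHom_surjective _
  choose l hl using hs
  let A₀ : Matrix (Fin n) (Fin n) (ZMod (q ^ k)) := fun i j => l ((M : Matrix _ _ _) i j)
  have hmap : (redRing q k hk).mapMatrix A₀ = (M : Matrix (Fin n) (Fin n) (ZMod q)) := by
    ext i j
    show redRing q k hk (l _) = _
    exact hl _
  have hdet : IsUnit A₀.det := by
    apply redRing_isUnit k hk
    rw [RingHom.map_det, hmap]
    exact (Matrix.isUnit_iff_isUnit_det _).mp (Units.isUnit M)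
  refine ⟨Matrix.nonsingInvUnit A₀ hdet, ?_⟩
  apply Units.ext
  ext i j
  rw [redGL, Matrix.GeneralLinearGroup.map_apply]
  show redRing q k hk (l _) = _
  exact hl _

/-- `A ≡ 1 mod q ^ m` -/
def Cong (m : ℕ) (A : Matrix (Fin n) (Fin n) (ZMod (q ^ k))) : Prop :=
  ∃ Y : Matrix (Fin n) (Fin n) (ZMod (q ^ k)), A = 1 + ((q : ZMod (q ^ k)) ^ m) • Y

theorem Cong.mul {m : ℕ} {A B : Matrix (Fin n) (Fin n) (ZMod (q ^ k))} (hA : Cong k m A)
    (hB : Cong k m B) : Cong k m (A * B) := by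
  obtain ⟨Y, rfl⟩ := hA
  obtain ⟨Z, rfl⟩ := hB
  refine ⟨Y + Z + ((q : ZMod (q ^ k)) ^ m) • (Y * Z), ?_⟩
  simp only [add_mul, mul_add, one_mul, mul_one, smul_mul_assoc, mul_smul_comm, smul_add,
    smul_smul]
  abel

theorem Cong.pow {m : ℕ} {A : Matrix (Fin n) (Fin n) (ZMod (q ^ k))} (hA : Cong k m A) (j : ℕ) :
    Cong k m (A ^ j) := by
  induction j with
  | zero => exact ⟨0, by simp⟩
  | succ j ih => rw [pow_succ]; exact ih.mul k hA

theorem Cong.pow_q {m : ℕ} (hm : 1 ≤ m) {A : Matrix (Fin n) (Fin n) (ZMod (q ^ k))}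
    (hA : Cong k m A) : Cong k (m + 1) (A ^ q) := by
  -- A^q - 1 = (A - 1) * Σ_{j<q} A^j
  have hsum : ∃ Z : Matrix (Fin n) (Fin n) (ZMod (q ^ k)),
      ∑ j ∈ Finset.range q, A ^ j = (q : ZMod (q ^ k)) • (1 : Matrix _ _ _) +
        ((q : ZMod (q ^ k)) ^ m) • Z := by
    have : ∀ j : ℕ, ∃ Z : Matrix (Fin n) (Fin n) (ZMod (q ^ k)),
        A ^ j = 1 + ((q : ZMod (q ^ k)) ^ m) • Z := fun j => hA.pow k j
    choose Zf hZf using this
    refine ⟨∑ j ∈ Finset.range q, Zf j, ?_⟩
    rw [Finset.sum_congr rfl (fun j _ => hZf j), Finset.sum_add_distrib, Finset.smul_sum]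
    congr 1
    rw [Finset.sum_const, Finset.card_range, ← Nat.cast_smul_eq_nsmul (ZMod (q ^ k))]
  obtain ⟨Z, hZ⟩ := hsum
  obtain ⟨Y, hY⟩ := hA
  have h1 : A ^ q - 1 = (A - 1) * ∑ j ∈ Finset.range q, A ^ j := (mul_geom_sum A q).symm
  have h2 : A - 1 = ((q : ZMod (q ^ k)) ^ m) • Y := by rw [hY]; abel
  obtain ⟨m', rfl⟩ : ∃ m', m = m' + 1 := ⟨m - 1, by omega⟩
  refine ⟨Y + ((q : ZMod (q ^ k)) ^ m') • (Y * Z), ?_⟩
  have h3 : A ^ q = 1 + (A ^ q - 1) := by abel
  rw [h3, h1, h2, hZ]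
  simp only [mul_add, smul_mul_assoc, mul_smul_comm, mul_one, smul_add, smul_smul]
  congr 2
  · congr 1; ring
  · congr 1; ring

include hk in
theorem pow_eq_one_of_cong_one {A : Matrix (Fin n) (Fin n) (ZMod (q ^ k))} (hA : Cong k 1 A) :
    A ^ (q ^ (k - 1)) = 1 := by
  have key : ∀ j : ℕ, Cong k (j + 1) (A ^ (q ^ j)) := by
    intro j
    induction j with
    | zero => simpa using hA
    | succ j ih =>
      rw [pow_succ, pow_mul]
      exact ih.pow_q k (by omega)
  obtain ⟨Y, hY⟩ := key (k - 1)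
  rw [hY]
  have : ((q : ZMod (q ^ k)) ^ (k - 1 + 1)) = 0 := by
    rw [Nat.sub_add_cancel hk, ← Nat.cast_pow]
    exact ZMod.natCast_self (q ^ k)
  rw [this, zero_smul, add_zero]

theorem ker_redGL_isPGroup : IsPGroup q (redGL q k n hk).ker := by
  intro ⟨A, hA⟩
  refine ⟨k - 1, ?_⟩
  apply Subtype.ext
  apply Units.ext
  rw [MonoidHom.mem_ker] at hA
  have hc : Cong k 1 (A : Matrix (Fin n) (Fin n) (ZMod (q ^ k))) := by
    have h : ∀ i j, redRing q k hk ((A : Matrix (Fin n) (Fin n) (ZMod (q ^ k))) i j -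
        (1 : Matrix (Fin n) (Fin n) (ZMod (q ^ k))) i j) = 0 := by
      intro i j
      have := congrArg (fun B : GL (Fin n) (ZMod q) =>
        (B : Matrix (Fin n) (Fin n) (ZMod q)) i j) hA
      simp only [redGL, Matrix.GeneralLinearGroup.map_apply] at this
      rw [map_sub, this]
      simp [Matrix.one_apply]
    choose Y hY using fun i j => redRing_eq_zero k hk _ (h i j)
    refine ⟨Matrix.of Y, ?_⟩
    ext i j
    have := hY i j
    simp only [Matrix.add_apply, Matrix.smul_apply, Matrix.of_apply, smul_eq_mul, pow_one]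
    rw [← this]
    ring
  simpa using pow_eq_one_of_cong_one k hk hc

include hk in
theorem exists_lift {G : Type*} [Group G] [Finite G] (hG : ¬ q ∣ Nat.card G)
    (ρ₁ : G →* GL (Fin n) (ZMod q)) (hinj : Function.Injective ρ₁) :
    ∃ ρ : G →* GL (Fin n) (ZMod (q ^ k)), ∀ g, redGL q k n hk (ρ g) = ρ₁ g := by
  classical
  haveI : NeZero (q ^ k) := ⟨pow_ne_zero _ hq.out.ne_zero⟩
  haveI : Finite (GL (Fin n) (ZMod (q ^ k))) :=
    inferInstanceAs (Finite (Matrix (Fin n) (Fin n) (ZMod (q ^ k)))ˣ)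
  set π := redGL q k n hk with hπ
  set Γ : Subgroup (GL (Fin n) (ZMod (q ^ k))) := ρ₁.range.comap π with hΓ
  let φ : Γ →* ρ₁.range := π.subgroupComap ρ₁.range
  have hφs : Function.Surjective φ :=
    MonoidHom.subgroupComap_surjective_of_surjective π _ (redGL_surjective k hk)
  have hφval : ∀ x : Γ, ((φ x : ρ₁.range) : GL (Fin n) (ZMod q)) = π (x : GL _ _) := fun _ => rfl
  have hker : φ.ker = π.ker.subgroupOf Γ := by
    ext x
    rw [MonoidHom.mem_ker, Subgroup.mem_subgroupOf, MonoidHom.mem_ker]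
    constructor
    · intro h
      have := congrArg Subtype.val h
      rw [hφval] at this
      exact this
    · intro h
      apply Subtype.ext
      rw [hφval]
      exact h
  have hKp : IsPGroup q φ.ker := by
    rw [hker]
    exact (ker_redGL_isPGroup k hk).comap_subtype
  have hidx : φ.ker.index = Nat.card G := by
    rw [Subgroup.index_ker, MonoidHom.range_eq_top.mpr hφs, Subgroup.card_top]
    exact (Nat.card_congr (MonoidHom.ofInjective hinj).toEquiv).symm
  have hcop : (Nat.card φ.ker).Coprime φ.ker.index := by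
    obtain ⟨j, hj⟩ := hKp.exists_card_eq
    rw [hj, hidx]
    exact Nat.Coprime.pow_left j ((Nat.Prime.coprime_iff_not_dvd hq.out).mpr hG)
  obtain ⟨H, hH⟩ := Subgroup.exists_right_complement'_of_coprime hcop
  have hinjH : Function.Injective (φ.comp H.subtype) := by
    rw [injective_iff_map_eq_one]
    intro h hh
    have h1 : (h : Γ) ∈ φ.ker := hh
    have h2 : (h : Γ) ∈ φ.ker ⊓ H := ⟨h1, h.2⟩
    rw [hH.disjoint.eq_bot, Subgroup.mem_bot] at h2
    exact Subtype.ext h2
  have hcard : Nat.card H = Nat.card ρ₁.range := by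
    have h1 := hH.card_mul_card
    have h2 := φ.ker.card_mul_index
    have h3 : Nat.card ρ₁.range = Nat.card G :=
      (Nat.card_congr (MonoidHom.ofInjective hinj).toEquiv).symm
    rw [hidx] at h2
    rw [h3]
    have hpos : 0 < Nat.card φ.ker := Nat.card_pos
    apply Nat.eq_of_mul_eq_mul_left hpos
    rw [h1, h2]
  have hbij : Function.Bijective (φ.comp H.subtype) :=
    (Nat.bijective_iff_injective_and_card _).mpr ⟨hinjH, hcard⟩
  let e : H ≃* ρ₁.range := MulEquiv.ofBijective (φ.comp H.subtype) hbij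
  refine ⟨(Γ.subtype.comp H.subtype).comp (e.symm.toMonoidHom.comp ρ₁.rangeRestrict), ?_⟩
  intro g
  have h1 : e (e.symm (ρ₁.rangeRestrict g)) = ρ₁.rangeRestrict g := e.apply_symm_apply _
  have h2 := congrArg Subtype.val h1
  exact h2

include hk in
theorem sum_pow_eq_zero {G : Type*} [Group G] [Finite G] (hG : ¬ q ∣ Nat.card G)
    (ρ : G →* GL (Fin n) (ZMod (q ^ k))) (g : G)
    (hsum : ∑ j ∈ Finset.range (orderOf g),
      ((redGL q k n hk (ρ g) : GL (Fin n) (ZMod q)) : Matrix (Fin n) (Fin n) (ZMod q)) ^ j = 0) :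
    ∑ j ∈ Finset.range (orderOf g),
      ((ρ g : GL (Fin n) (ZMod (q ^ k))) : Matrix (Fin n) (Fin n) (ZMod (q ^ k))) ^ j = 0 := by
  classical
  set A : Matrix (Fin n) (Fin n) (ZMod (q ^ k)) := ((ρ g : GL (Fin n) (ZMod (q ^ k))) :
    Matrix (Fin n) (Fin n) (ZMod (q ^ k))) with hA
  set o := orderOf g with ho
  set T := ∑ j ∈ Finset.range o, A ^ j with hT
  have hAo : A ^ o = 1 := by
    rw [hA, ← Units.val_pow_eq_pow_val, ← map_pow, ho, pow_orderOf_eq_one, map_one, Units.val_one]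
  have hTA : T * A = T := by
    have := geom_sum_mul A o
    rw [hAo, sub_self, mul_sub, mul_one, sub_eq_zero] at this
    exact this
  have hTAj : ∀ j : ℕ, T * A ^ j = T := by
    intro j
    induction j with
    | zero => simp
    | succ j ih => rw [pow_succ, ← mul_assoc, ih, hTA]
  have hTT : T * T = (o : ZMod (q ^ k)) • T := by
    conv_lhs => rw [hT, Finset.mul_sum]
    rw [← hT, Finset.sum_congr rfl (fun j _ => hTAj j), Finset.sum_const, Finset.card_range,
      Nat.cast_smul_eq_nsmul]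
  -- reduction
  have hred : (redRing q k hk).mapMatrix T = 0 := by
    rw [hT, map_sum]
    rw [← hsum]
    apply Finset.sum_congr rfl
    intro j _
    rw [map_pow]
    congr 1
  have hbase : ∃ Y : Matrix (Fin n) (Fin n) (ZMod (q ^ k)), T = ((q : ZMod (q ^ k)) ^ 1) • Y := by
    have h : ∀ i j, redRing q k hk (T i j) = 0 := by
      intro i j
      have := congrFun (congrFun hred i) j
      exact this
    choose Y hY using fun i j => redRing_eq_zero k hk _ (h i j)
    refine ⟨Matrix.of Y, ?_⟩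
    ext i j
    simp only [Matrix.smul_apply, Matrix.of_apply, smul_eq_mul, pow_one]
    exact hY i j
  have hou : IsUnit (o : ZMod (q ^ k)) := by
    rw [ZMod.isUnit_iff_coprime]
    apply Nat.Coprime.pow_right
    have hdvd : o ∣ Nat.card G := orderOf_dvd_natCard g
    have hc : (Nat.card G).Coprime q :=
      ((Nat.Prime.coprime_iff_not_dvd hq.out).mpr hG).symm
    exact Nat.Coprime.coprime_dvd_left hdvd hc
  obtain ⟨u, hu⟩ := hou
  have key : ∀ m : ℕ, ∃ Y : Matrix (Fin n) (Fin n) (ZMod (q ^ k)),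
      T = ((q : ZMod (q ^ k)) ^ (m + 1)) • Y := by
    intro m
    induction m with
    | zero => simpa using hbase
    | succ m ih =>
      obtain ⟨Y, hY⟩ := ih
      refine ⟨((u⁻¹ : (ZMod (q ^ k))ˣ) : ZMod (q ^ k)) • ((q : ZMod (q ^ k)) ^ m) • (Y * Y), ?_⟩
      have h1 : T = ((u⁻¹ : (ZMod (q ^ k))ˣ) : ZMod (q ^ k)) • ((o : ZMod (q ^ k)) • T) := by
        rw [smul_smul, ← hu, Units.inv_mul, one_smul]
      rw [h1, ← hTT]
      conv_lhs => rw [hY]
      simp only [smul_mul_assoc, mul_smul_comm, smul_smul]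
      congr 1
      ring
  obtain ⟨Y, hY⟩ := key (k - 1)
  have : ((q : ZMod (q ^ k)) ^ (k - 1 + 1)) = 0 := by
    rw [Nat.sub_add_cancel hk, ← Nat.cast_pow]
    exact ZMod.natCast_self (q ^ k)
  rw [hY, this, zero_smul]

end lift

end Cfsg.Agent.Helper56.FL
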