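import Mathlib

set_option autoImplicit false
set_option linter.unusedSectionVars false
set_option linter.style.haveILetI false
set_option linter.unusedVariables false

/-! From "cyclic-sum-free" ring representations in arbitrarily high `q`-adic precision to an
irreducible fixed-point-free representation over a field of characteristic zero. -/

namespace Cfsg.Agent.Helper56.FL

open Finset

section alg

variable {G : Type*} [Group G]

/-- the coefficient of `h` in the generator `u * (∑_{j < o(g)} g^j) * v` -/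
noncomputable def cnt (u g v h : G) : ℕ := by
  classical
  exact ∑ j ∈ range (orderOf g), if u * g ^ j * v = h then 1 else 0

/-- basis vectors of the function space -/
noncomputable def ev (K : Type*) [Semiring K] (x : G) : G → K := by
  classical
  exact Pi.single x 1

theorem ev_apply (K : Type*) [Semiring K] (x h : G) [Decidable (h = x)] :
    ev K x h = if h = x then 1 else 0 := by
  classical
  unfold ev
  rw [Pi.single_apply]
  congr

/-- the generators: `u * (∑_{j < o(g)} g^j) * v` -/
noncomputable def wgen (K : Type*) [Semiring K] (u g v : G) : G → K :=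
  ∑ j ∈ range (orderOf g), ev K (u * g ^ j * v)

theorem wgen_apply (K : Type*) [Semiring K] (u g v h : G) :
    (wgen K u g v) h = (cnt u g v h : K) := by
  classical
  unfold wgen cnt
  rw [Finset.sum_apply, Nat.cast_sum]
  apply Finset.sum_congr rfl
  intro j _
  rw [ev_apply]
  split_ifs with h1 h2 h2
  · simp
  · exact absurd h1.symm h2
  · exact absurd h2.symm h1
  · simp

/-- left translation -/
noncomputable def Ltr (K : Type*) [Semiring K] (h : G) : (G → K) →ₗ[K] (G → K) :=
  LinearMap.funLeft K K (fun x => h⁻¹ * x)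

theorem Ltr_apply (K : Type*) [Semiring K] (h : G) (a : G → K) (x : G) :
    Ltr K h a x = a (h⁻¹ * x) := rfl

theorem Ltr_ev (K : Type*) [Semiring K] (h x : G) : Ltr K h (ev K x) = ev K (h * x) := by
  classical
  ext y
  rw [Ltr_apply, ev_apply, ev_apply]
  have : h⁻¹ * y = x ↔ y = h * x := by
    constructor
    · intro hh; rw [← hh]; group
    · intro hh; rw [hh]; group
  simp only [this]

theorem Ltr_wgen (K : Type*) [Semiring K] (h u g v : G) :
    Ltr K h (wgen K u g v) = wgen K (h * u) g v := by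
  unfold wgen
  rw [map_sum]
  apply Finset.sum_congr rfl
  intro j _
  rw [Ltr_ev, mul_assoc, mul_assoc, mul_assoc]

theorem Ltr_one (K : Type*) [Semiring K] : Ltr K (1 : G) = LinearMap.id := by
  ext a x
  simp [Ltr_apply]

theorem Ltr_mul (K : Type*) [Semiring K] (h h' : G) : Ltr K (h * h') = Ltr K h ∘ₗ Ltr K h' := by
  ext a x
  simp only [LinearMap.coe_comp, Function.comp_apply, Ltr_apply]
  congr 1
  group

end alg

section main

variable {G : Type*} [Group G] [Finite G] (K : Type*) [Field K] [CharZero K]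

/-- index type of the generators -/
abbrev Idx (G : Type*) [Group G] := G × {g : G // g ≠ 1} × G

/-- the "two-sided ideal", as a `K`-subspace of the regular module -/
noncomputable def Jid (G : Type*) [Group G] (K : Type*) [Field K] : Submodule K (G → K) :=
  Submodule.span K (Set.range fun i : Idx G => wgen K i.1 i.2.1.1 i.2.2)

theorem wgen_mem (u g v : G) (hg : g ≠ 1) : wgen K u g v ∈ Jid G K :=
  Submodule.subset_span ⟨(u, ⟨g, hg⟩, v), rfl⟩

theorem one_notMem_Jid
    (hyp : ∀ D : ℤ, D ≠ 0 → ∃ (R : Type) (_ : Ring R) (σ : G →* R),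
      (∀ g : G, g ≠ 1 → ∑ j ∈ range (orderOf g), σ g ^ j = 0) ∧ (D : R) ≠ 0) :
    ev K (1 : G) ∉ Jid G K := by
  classical
  haveI : Fintype G := Fintype.ofFinite G
  intro hmem
  rw [Jid, Submodule.mem_span_range_iff_exists_fun] at hmem
  obtain ⟨c, hc⟩ := hmem
  -- coefficientwise identity in K
  have hcoef : ∀ h : G, ∑ i : Idx G, c i * (cnt i.1 i.2.1.1 i.2.2 h : K) =
      if h = 1 then 1 else 0 := by
    intro h
    have := congrFun hc h
    rw [ev_apply] at this
    rw [← this, Finset.sum_apply]
    apply Finset.sum_congr rfl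
    intro i _
    rw [Pi.smul_apply, smul_eq_mul, wgen_apply]
  -- a ℚ-linear retraction K → ℚ
  obtain ⟨π, hπ⟩ := LinearMap.exists_leftInverse_of_injective (Algebra.linearMap ℚ K)
    (LinearMap.ker_eq_bot.mpr (algebraMap ℚ K).injective)
  have hπ1 : ∀ r : ℚ, π (algebraMap ℚ K r) = r := fun r => LinearMap.congr_fun hπ r
  -- apply π
  set r : Idx G → ℚ := fun i => π (c i) with hr
  have hcoefQ : ∀ h : G, ∑ i : Idx G, r i * (cnt i.1 i.2.1.1 i.2.2 h : ℚ) =
      if h = 1 then 1 else 0 := by
    intro h
    have h1 := congrArg π (hcoef h)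
    rw [map_sum] at h1
    have h2 : ∀ i : Idx G, π (c i * (cnt i.1 i.2.1.1 i.2.2 h : K)) =
        r i * (cnt i.1 i.2.1.1 i.2.2 h : ℚ) := by
      intro i
      have : c i * (cnt i.1 i.2.1.1 i.2.2 h : K) = (cnt i.1 i.2.1.1 i.2.2 h : ℚ) • c i := by
        rw [Algebra.smul_def, mul_comm]
        simp
      rw [this, map_smul, smul_eq_mul, mul_comm]
    rw [Finset.sum_congr rfl (fun i _ => h2 i)] at h1
    rw [h1]
    split_ifs
    · have := hπ1 1
      simpa using this
    · simp
  -- clear denominators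
  set D : ℕ := ∏ i : Idx G, (r i).den with hD
  have hDpos : 0 < D := Finset.prod_pos (fun i _ => (r i).den_pos)
  set nn : Idx G → ℤ := fun i => (r i).num * ((∏ i' ∈ univ.erase i, (r i').den : ℕ) : ℤ) with hnn
  have hnr : ∀ i : Idx G, ((nn i : ℤ) : ℚ) = r i * (D : ℚ) := by
    intro i
    have h1 : (D : ℚ) = ((r i).den : ℚ) * ((∏ i' ∈ univ.erase i, (r i').den : ℕ) : ℚ) := by
      rw [hD, ← Nat.cast_mul, Finset.mul_prod_erase univ (fun i' => (r i').den) (mem_univ i)]
    rw [hnn, h1]
    push_cast
    rw [← mul_assoc, Rat.mul_den_eq_num]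
  have hcoefZ : ∀ h : G, ∑ i : Idx G, nn i * (cnt i.1 i.2.1.1 i.2.2 h : ℤ) =
      if h = 1 then (D : ℤ) else 0 := by
    intro h
    have h1 := hcoefQ h
    have h2 : ((∑ i : Idx G, nn i * (cnt i.1 i.2.1.1 i.2.2 h : ℤ) : ℤ) : ℚ) =
        ((if h = 1 then (D : ℤ) else 0 : ℤ) : ℚ) := by
      push_cast
      rw [Finset.sum_congr rfl (fun i _ => by rw [hnr i])]
      have : ∀ i : Idx G, r i * (D : ℚ) * (cnt i.1 i.2.1.1 i.2.2 h : ℚ) =
          (D : ℚ) * (r i * (cnt i.1 i.2.1.1 i.2.2 h : ℚ)) := fun i => by ring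
      rw [Finset.sum_congr rfl (fun i _ => this i), ← Finset.mul_sum, h1]
      split_ifs <;> simp
    exact_mod_cast h2
  -- the ring representation
  obtain ⟨R, instR, σ, hσ, hDR⟩ := hyp (D : ℤ) (by exact_mod_cast hDpos.ne')
  apply hDR
  have key : ∀ i : Idx G, ∑ h : G, ((cnt i.1 i.2.1.1 i.2.2 h : ℕ) : R) * σ h = 0 := by
    intro i
    obtain ⟨u, ⟨g, hg⟩, v⟩ := i
    show ∑ h : G, ((cnt u g v h : ℕ) : R) * σ h = 0
    have h1 : ∑ h : G, ((cnt u g v h : ℕ) : R) * σ h =
        ∑ j ∈ range (orderOf g), σ (u * g ^ j * v) := by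
      unfold cnt
      simp only [Nat.cast_sum, Finset.sum_mul]
      rw [Finset.sum_comm]
      apply Finset.sum_congr rfl
      intro j _
      rw [Finset.sum_eq_single (u * g ^ j * v)]
      · simp
      · intro h _ hne
        rw [if_neg (Ne.symm hne)]
        simp
      · intro h
        exact absurd (mem_univ _) h
    rw [h1]
    have h2 : ∀ j, σ (u * g ^ j * v) = σ u * σ g ^ j * σ v := by
      intro j
      rw [map_mul, map_mul, map_pow]
    rw [Finset.sum_congr rfl (fun j _ => h2 j), ← Finset.sum_mul, ← Finset.mul_sum, hσ g hg,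
      mul_zero, zero_mul]
  have : ((D : ℤ) : R) = ∑ h : G, ((∑ i : Idx G, nn i * (cnt i.1 i.2.1.1 i.2.2 h : ℤ) : ℤ) : R) *
      σ h := by
    rw [Finset.sum_congr rfl (fun h _ => by rw [hcoefZ h])]
    rw [Finset.sum_eq_single (1 : G)]
    · simp
    · intro h _ hne
      rw [if_neg hne]
      simp
    · intro h
      exact absurd (mem_univ _) h
  rw [this]
  push_cast
  simp only [Finset.sum_mul]
  rw [Finset.sum_comm]
  apply Finset.sum_eq_zero
  intro i _
  have := key i
  simp only [mul_assoc]
  rw [← Finset.mul_sum]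
  rw [this, mul_zero]

end main

end Cfsg.Agent.Helper56.FL
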