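import Mathlib
import Cfsg.Agent.Lib.Helper56.FrobLiftB

set_option autoImplicit false
set_option linter.unusedSectionVars false
set_option linter.style.haveILetI false
set_option linter.unusedVariables false
set_option maxHeartbeats 800000

/-! An irreducible fixed-point-free matrix representation in characteristic zero from the
properness of the ideal `Jid`. -/

namespace Cfsg.Agent.Helper56.FL

open Finset

variable {G : Type*} [Group G] [Finite G] (K : Type*) [Field K] [CharZero K]

theorem exists_fpf_rep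
    (hyp : ∀ D : ℤ, D ≠ 0 → ∃ (R : Type) (_ : Ring R) (σ : G →* R),
      (∀ g : G, g ≠ 1 → ∑ j ∈ range (orderOf g), σ g ^ j = 0) ∧ (D : R) ≠ 0) :
    ∃ (n : ℕ) (ρ : G →* GL (Fin n) K), 0 < n ∧ Function.Injective ρ ∧
      (∀ W : Submodule K (Fin n → K),
        (∀ g : G, ∀ w ∈ W, ((ρ g : GL (Fin n) K) : Matrix (Fin n) (Fin n) K).mulVec w ∈ W) →
          W = ⊥ ∨ W = ⊤) ∧
      ∀ g : G, g ≠ 1 → ∀ v : Fin n → K,
        ((ρ g : GL (Fin n) K) : Matrix (Fin n) (Fin n) K).mulVec v = v → v = 0 := by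
  classical
  haveI : Fintype G := Fintype.ofFinite G
  have h1J := one_notMem_Jid K hyp
  set J := Jid G K with hJ
  have hJinv : ∀ h : G, J ≤ J.comap (Ltr K h) := by
    intro h
    rw [hJ, Jid, Submodule.span_le]
    rintro _ ⟨i, rfl⟩
    show Ltr K h (wgen K i.1 i.2.1.1 i.2.2) ∈ Jid G K
    rw [Ltr_wgen]
    exact wgen_mem K _ _ _ i.2.1.2
  let Lq : G → (((G → K) ⧸ J) →ₗ[K] ((G → K) ⧸ J)) := fun h => J.mapQ J (Ltr K h) (hJinv h)
  have Lq_mk : ∀ (h : G) (a : G → K), Lq h (Submodule.Quotient.mk a) =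
      Submodule.Quotient.mk (Ltr K h a) := fun _ _ => rfl
  have Lq_one : Lq 1 = LinearMap.id := by
    apply LinearMap.ext
    intro x
    obtain ⟨a, rfl⟩ := Submodule.Quotient.mk_surjective J x
    rw [Lq_mk, Ltr_one]
    rfl
  have Lq_mul : ∀ h h' : G, Lq (h * h') = Lq h ∘ₗ Lq h' := by
    intro h h'
    apply LinearMap.ext
    intro x
    obtain ⟨a, rfl⟩ := Submodule.Quotient.mk_surjective J x
    rw [LinearMap.comp_apply, Lq_mk, Lq_mk, Lq_mk, Ltr_mul]
    rfl
  have hsumJ : ∀ g : G, g ≠ 1 → ∀ a : G → K,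
      ∑ j ∈ range (orderOf g), Ltr K (g ^ j) a ∈ J := by
    intro g hg a
    have ha : a = ∑ v : G, a v • ev K v := by
      ext x
      rw [Finset.sum_apply]
      simp only [Pi.smul_apply, smul_eq_mul, ev_apply, mul_ite, mul_one, mul_zero]
      rw [Finset.sum_ite_eq]
      simp
    rw [ha]
    simp only [map_sum, map_smul, Ltr_ev]
    rw [Finset.sum_comm]
    apply J.sum_mem
    intro v _
    rw [← Finset.smul_sum]
    apply J.smul_mem
    have : ∑ j ∈ range (orderOf g), ev K (g ^ j * v) = wgen K 1 g v := by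
      unfold wgen
      apply Finset.sum_congr rfl
      intro j _
      rw [one_mul]
    rw [this]
    exact wgen_mem K 1 g v hg
  have hsum : ∀ g : G, g ≠ 1 → ∀ x : (G → K) ⧸ J,
      ∑ j ∈ range (orderOf g), Lq (g ^ j) x = 0 := by
    intro g hg x
    obtain ⟨a, rfl⟩ := Submodule.Quotient.mk_surjective J x
    simp only [Lq_mk]
    have : ∑ j ∈ range (orderOf g), (Submodule.Quotient.mk (Ltr K (g ^ j) a) : (G → K) ⧸ J) =
        J.mkQ (∑ j ∈ range (orderOf g), Ltr K (g ^ j) a) := by
      rw [map_sum]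
      rfl
    rw [this, Submodule.mkQ_apply, Submodule.Quotient.mk_eq_zero]
    exact hsumJ g hg a
  haveI : Nontrivial ((G → K) ⧸ J) := by
    refine ⟨⟨Submodule.Quotient.mk (ev K 1), 0, ?_⟩⟩
    intro h
    rw [Submodule.Quotient.mk_eq_zero] at h
    exact h1J h
  -- minimal invariant subspace
  let 𝒮 : Set (Submodule K ((G → K) ⧸ J)) := {W | W ≠ ⊥ ∧ ∀ h : G, W ≤ W.comap (Lq h)}
  have h𝒮 : 𝒮.Nonempty := ⟨⊤, top_ne_bot, fun h => by simp⟩
  obtain ⟨W, hW𝒮, hWmin⟩ := wellFounded_lt.has_min 𝒮 h𝒮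
  obtain ⟨hWne, hWinv⟩ := hW𝒮
  let T : G → (W →ₗ[K] W) := fun h => (Lq h).restrict (hWinv h)
  have T_val : ∀ (h : G) (x : W), ((T h x : W) : (G → K) ⧸ J) = Lq h x := fun _ _ => rfl
  have T_one : T 1 = LinearMap.id := by
    apply LinearMap.ext
    intro x
    apply Subtype.ext
    rw [T_val, Lq_one]
    rfl
  have T_mul : ∀ h h' : G, T (h * h') = T h ∘ₗ T h' := by
    intro h h'
    apply LinearMap.ext
    intro x
    apply Subtype.ext
    rw [T_val, Lq_mul]
    rfl
  have T_pow_fix : ∀ (g : G) (x : W), T g x = x → ∀ j : ℕ, T (g ^ j) x = x := by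
    intro g x hx j
    induction j with
    | zero => rw [pow_zero, T_one]; rfl
    | succ j ih => rw [pow_succ, T_mul, LinearMap.comp_apply, hx, ih]
  have T_fpf : ∀ g : G, g ≠ 1 → ∀ x : W, T g x = x → x = 0 := by
    intro g hg x hx
    have h1 := hsum g hg (x : (G → K) ⧸ J)
    have h2 : ∀ j ∈ range (orderOf g), Lq (g ^ j) (x : (G → K) ⧸ J) = x := by
      intro j _
      rw [← T_val, T_pow_fix g x hx j]
    rw [Finset.sum_congr rfl h2, Finset.sum_const, Finset.card_range,
      ← Nat.cast_smul_eq_nsmul K, smul_eq_zero] at h1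
    rcases h1 with h1 | h1
    · exfalso
      have : orderOf g ≠ 0 := (orderOf_pos g).ne'
      exact this (by exact_mod_cast h1)
    · exact Subtype.ext h1
  set n := Module.finrank K W with hn
  let b : Module.Basis (Fin n) K W := Module.finBasis K W
  let ρ₀ : G →* Matrix (Fin n) (Fin n) K :=
    { toFun := fun h => LinearMap.toMatrix b b (T h)
      map_one' := by rw [T_one, LinearMap.toMatrix_id]
      map_mul' := fun h h' => by rw [T_mul, LinearMap.toMatrix_comp b b b] }
  have hρ₀ : ∀ (h : G) (x : W), (ρ₀ h).mulVec (b.equivFun x) = b.equivFun (T h x) := by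
    intro h x
    exact LinearMap.toMatrix_mulVec_repr b b (T h) x
  have hnpos : 0 < n := by
    rw [hn, Module.finrank_pos_iff (R := K)]
    exact (Submodule.nontrivial_iff_ne_bot).mpr hWne
  have hfpf : ∀ g : G, g ≠ 1 → ∀ v : Fin n → K, (ρ₀ g).mulVec v = v → v = 0 := by
    intro g hg v hv
    obtain ⟨x, rfl⟩ := b.equivFun.surjective v
    rw [hρ₀] at hv
    have := T_fpf g hg x (b.equivFun.injective hv)
    rw [this, map_zero]
  refine ⟨n, ρ₀.toHomUnits, hnpos, ?_, ?_, ?_⟩
  · rw [injective_iff_map_eq_one]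
    intro g hg
    by_contra hne
    haveI : Nonempty (Fin n) := ⟨⟨0, hnpos⟩⟩
    have hv := hfpf g hne (fun _ => 1) (by
      have : ρ₀ g = 1 := by
        have := congrArg (fun u : GL (Fin n) K => (u : Matrix (Fin n) (Fin n) K)) hg
        simpa using this
      rw [this, Matrix.one_mulVec])
    have := congrFun hv ⟨0, hnpos⟩
    simp at this
  · intro W' hW'
    have hW'' : ∀ g : G, ∀ w ∈ W', (ρ₀ g).mulVec w ∈ W' := hW'
    let U : Submodule K ((G → K) ⧸ J) := (W'.comap b.equivFun.toLinearMap).map W.subtype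
    have hUW : U ≤ W := by
      rintro _ ⟨x, _, rfl⟩
      exact x.2
    have hUinv : ∀ h : G, U ≤ U.comap (Lq h) := by
      rintro h _ ⟨x, hx, rfl⟩
      refine ⟨T h x, ?_, rfl⟩
      show b.equivFun (T h x) ∈ W'
      rw [← hρ₀]
      exact hW'' h _ hx
    by_cases hU : U = ⊥
    · left
      rw [eq_bot_iff]
      intro w hw
      obtain ⟨x, rfl⟩ := b.equivFun.surjective w
      have : (x : (G → K) ⧸ J) ∈ U := ⟨x, hw, rfl⟩
      rw [hU, Submodule.mem_bot] at this
      have hx0 : x = 0 := Subtype.ext this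
      rw [hx0, map_zero]
      exact Submodule.zero_mem _
    · right
      have hUeq : U = W := by
        by_contra hne
        exact hWmin U ⟨hU, hUinv⟩ (lt_of_le_of_ne hUW hne)
      rw [eq_top_iff]
      intro w _
      obtain ⟨x, rfl⟩ := b.equivFun.surjective w
      have : (x : (G → K) ⧸ J) ∈ U := by rw [hUeq]; exact x.2
      obtain ⟨y, hy, hyx⟩ := this
      have : y = x := Subtype.ext hyx
      rw [← this]
      exact hy
  · exact hfpf

end Cfsg.Agent.Helper56.FL
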