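import Mathlib
import Cfsg.Agent.Lib.Helper56.FrobLiftA
import Cfsg.Agent.Lib.Helper56.FrobLiftC
import Cfsg.Agent.Lib.Helper56.FrobComplA

set_option autoImplicit false
set_option linter.unusedSectionVars false
set_option linter.style.haveILetI false
set_option linter.unusedVariables false
set_option maxHeartbeats 800000

/-! A group with a semiregular linear action over `ZMod q` has an irreducible fixed-point-free
representation over any field of characteristic zero. -/

namespace Cfsg.Agent.Helper56.FL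

open Finset

section sr

variable {q : ℕ} [hq : Fact q.Prime] {V : Type*} [AddCommGroup V] [Module (ZMod q) V] [Finite V]
  [Nontrivial V] {G : Type*} [Group G] [Finite G] (ρ : G →* (V ≃ₗ[ZMod q] V))
  (hsr : ∀ v : V, v ≠ 0 → ∀ g : G, ρ g v = v → g = 1)

include hsr in
theorem sr_hyp : ∀ D : ℤ, D ≠ 0 → ∃ (R : Type) (_ : Ring R) (σ : G →* R),
    (∀ g : G, g ≠ 1 → ∑ j ∈ range (orderOf g), σ g ^ j = 0) ∧ (D : R) ≠ 0 := by
  classical
  intro D hD
  have hnd : ¬ q ∣ Nat.card G := FC.sr_not_dvd ρ hsr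
  set n := Module.finrank (ZMod q) V with hn
  let b : Module.Basis (Fin n) (ZMod q) V := Module.finBasis (ZMod q) V
  have hnpos : 0 < n := by
    rw [hn, Module.finrank_pos_iff (R := ZMod q)]
    infer_instance
  -- the matrix representation over `ZMod q`
  let τ : G →* (V →ₗ[ZMod q] V) :=
    { toFun := fun g => ((ρ g : V ≃ₗ[ZMod q] V) : V →ₗ[ZMod q] V)
      map_one' := by ext v; simp
      map_mul' := fun g h => by ext v; simp }
  let ρ₀ : G →* Matrix (Fin n) (Fin n) (ZMod q) :=
    { toFun := fun g => LinearMap.toMatrix b b (τ g)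
      map_one' := by rw [map_one]; exact LinearMap.toMatrix_id b
      map_mul' := fun g h => by rw [map_mul]; exact LinearMap.toMatrix_mul b _ _ }
  let ρ₁ : G →* GL (Fin n) (ZMod q) := ρ₀.toHomUnits
  have hρ₁ : ∀ g, ((ρ₁ g : GL (Fin n) (ZMod q)) : Matrix (Fin n) (Fin n) (ZMod q)) =
      LinearMap.toMatrix b b (τ g) := fun g => rfl
  have hinj : Function.Injective ρ₁ := by
    rw [injective_iff_map_eq_one]
    intro g hg
    obtain ⟨v, hv⟩ := exists_ne (0 : V)
    apply hsr v hv g
    have h1 : LinearMap.toMatrix b b (τ g) = 1 := by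
      rw [← hρ₁, hg]; rfl
    have h2 : τ g = LinearMap.id := by
      apply (LinearMap.toMatrix b b).injective
      rw [h1, LinearMap.toMatrix_id]
    have := LinearMap.congr_fun h2 v
    exact this
  have hsum1 : ∀ g : G, g ≠ 1 → ∑ j ∈ range (orderOf g),
      ((ρ₁ g : GL (Fin n) (ZMod q)) : Matrix (Fin n) (Fin n) (ZMod q)) ^ j = 0 := by
    intro g hg
    have hlin : ∑ j ∈ range (orderOf g), (τ g) ^ j = 0 := by
      apply LinearMap.ext
      intro v
      by_contra hne
      apply hg
      apply hsr _ hne g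
      show τ g ((∑ j ∈ range (orderOf g), τ g ^ j) v) = _
      have h1 : τ g * ∑ j ∈ range (orderOf g), τ g ^ j = ∑ j ∈ range (orderOf g), τ g ^ j := by
        have h2 := mul_geom_sum (τ g) (orderOf g)
        have h3 : τ g ^ orderOf g = 1 := by
          rw [← map_pow, pow_orderOf_eq_one, map_one]
        rw [h3, sub_self, sub_mul, one_mul, sub_eq_zero] at h2
        exact h2
      have := LinearMap.congr_fun h1 v
      exact this
    have := congrArg (LinearMap.toMatrix b b) hlin
    rw [map_sum, map_zero] at this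
    rw [← this]
    apply Finset.sum_congr rfl
    intro j _
    rw [hρ₁, LinearMap.toMatrix_pow]
  -- precision
  set k := D.natAbs with hk
  have hkpos : 0 < k := Int.natAbs_pos.mpr hD
  obtain ⟨ρk, hρk⟩ := exists_lift (n := n) k hkpos hnd ρ₁ hinj
  refine ⟨Matrix (Fin n) (Fin n) (ZMod (q ^ k)), inferInstance,
    (Units.coeHom (Matrix (Fin n) (Fin n) (ZMod (q ^ k)))).comp ρk, ?_, ?_⟩
  · intro g hg
    apply sum_pow_eq_zero k hkpos hnd ρk g
    rw [hρk]
    exact hsum1 g hg
  · intro h0
    have h1 := congrFun (congrFun h0 ⟨0, hnpos⟩) ⟨0, hnpos⟩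
    rw [← Matrix.diagonal_intCast] at h1
    simp only [Matrix.diagonal_apply_eq, Matrix.zero_apply] at h1
    rw [ZMod.intCast_zmod_eq_zero_iff_dvd] at h1
    have h2 : ((q ^ k : ℕ) : ℤ).natAbs ∣ D.natAbs := Int.natAbs_dvd_natAbs.mpr h1
    rw [Int.natAbs_natCast] at h2
    have h3 : q ^ k ≤ k := Nat.le_of_dvd hkpos h2
    have h4 : k < q ^ k := Nat.lt_pow_self hq.out.one_lt
    omega

include hsr in
theorem exists_fpf_rep_of_sr (K : Type*) [Field K] [CharZero K] :
    ∃ (n : ℕ) (ρ' : G →* GL (Fin n) K), 0 < n ∧ Function.Injective ρ' ∧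
      (∀ W : Submodule K (Fin n → K),
        (∀ g : G, ∀ w ∈ W, ((ρ' g : GL (Fin n) K) : Matrix (Fin n) (Fin n) K).mulVec w ∈ W) →
          W = ⊥ ∨ W = ⊤) ∧
      ∀ g : G, g ≠ 1 → ∀ v : Fin n → K,
        ((ρ' g : GL (Fin n) K) : Matrix (Fin n) (Fin n) K).mulVec v = v → v = 0 :=
  exists_fpf_rep K (sr_hyp ρ hsr)

end sr

end Cfsg.Agent.Helper56.FL
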