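import Mathlib
import Cfsg.Agent.Lib.Helper56.HalfTransA

set_option autoImplicit false
set_option linter.unusedSectionVars false
set_option linter.style.haveILetI false

/-! Half-transitive linear `2`-groups of dihedral type: counting fixed spaces of involutions. -/

namespace Cfsg.Agent.Helper56.HT

open Cfsg.Agent.Helper63 Cfsg.Agent.S3370

/-- `q^d + 1 = 2^m` with `q` an odd prime forces `d = 1`. -/
theorem pow_add_one_eq_two_pow {q d m : ℕ} (hq : q.Prime) (hq2 : q ≠ 2) (hd : 1 ≤ d)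
    (h : q ^ d + 1 = 2 ^ m) : d = 1 := by
  have hq3 : 3 ≤ q := by
    have := hq.two_le
    omega
  have hqodd : q % 2 = 1 := by
    rcases hq.eq_two_or_odd with h2 | h2
    · exact absurd h2 hq2
    · exact h2
  rcases Nat.even_or_odd' d with ⟨e, he | he⟩
  · -- even exponent: impossible
    exfalso
    have he1 : 1 ≤ e := by omega
    have hx : (q ^ e) % 2 = 1 := by
      rw [Nat.pow_mod, hqodd, one_pow]
      rfl
    have hx4 : (q ^ e) % 4 = 1 ∨ (q ^ e) % 4 = 3 := by omega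
    have hsq : (q ^ d) % 4 = 1 := by
      rw [he, two_mul, pow_add, Nat.mul_mod]
      rcases hx4 with h4 | h4 <;> rw [h4]
    have hm2 : 2 ≤ m := by
      by_contra hlt
      have hm : m = 0 ∨ m = 1 := by omega
      have h9 : 9 ≤ q ^ d := by
        calc 9 = 3 ^ 2 := by norm_num
          _ ≤ q ^ 2 := Nat.pow_le_pow_left hq3 2
          _ ≤ q ^ d := Nat.pow_le_pow_right (by omega) (by omega)
      rcases hm with rfl | rfl <;> simp at h <;> omega
    have h4 : 4 ∣ 2 ^ m := by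
      calc 4 = 2 ^ 2 := by norm_num
        _ ∣ 2 ^ m := Nat.pow_dvd_pow 2 hm2
    rw [← h] at h4
    omega
  · -- odd exponent
    have hodd : Odd d := ⟨e, he⟩
    have hdvd : q + 1 ∣ q ^ d + 1 := by
      have := Odd.nat_add_dvd_pow_add_pow q 1 hodd
      rwa [one_pow] at this
    rw [h] at hdvd
    obtain ⟨a, ham, ha⟩ := (Nat.dvd_prime_pow Nat.prime_two).mp hdvd
    rcases Nat.eq_or_lt_of_le ham with hEq | hlt
    · -- a = m
      rw [hEq, ← h] at ha
      have h1 : q ^ d = q ^ 1 := by rw [pow_one]; omega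
      exact Nat.pow_right_injective hq.two_le h1
    · exfalso
      -- write q = 2u+1
      obtain ⟨u, hu⟩ : ∃ u, q = 2 * u + 1 := ⟨q / 2, by omega⟩
      have hM : 2 ^ (a + 1) = 4 * (u + 1) := by
        rw [pow_succ, ← ha, hu]; ring
      have hqq : q * q ≡ 1 [MOD 2 ^ (a + 1)] := by
        rw [hM]
        have : q * q = 4 * (u + 1) * u + 1 := by rw [hu]; ring
        rw [this]
        calc 4 * (u + 1) * u + 1 ≡ 0 * u + 1 [MOD 4 * (u + 1)] :=
              Nat.ModEq.add_right _ (Nat.ModEq.mul_right _ (Nat.modEq_zero_iff_dvd.mpr dvd_rfl))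
          _ = 1 := by ring
      have hqd : q ^ d ≡ q [MOD 2 ^ (a + 1)] := by
        have hde : q ^ d = (q * q) ^ e * q := by rw [he, pow_succ, pow_mul, pow_two]
        rw [hde]
        calc (q * q) ^ e * q ≡ 1 ^ e * q [MOD 2 ^ (a + 1)] :=
              Nat.ModEq.mul_right _ (Nat.ModEq.pow e hqq)
          _ = q := by rw [one_pow, one_mul]
      have h1 : q ^ d + 1 ≡ q + 1 [MOD 2 ^ (a + 1)] := Nat.ModEq.add_right 1 hqd
      have h2 : 2 ^ (a + 1) ∣ q ^ d + 1 := by
        rw [h]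
        exact Nat.pow_dvd_pow 2 (by omega)
      have h3 : 2 ^ (a + 1) ∣ q + 1 := by
        rw [← Nat.modEq_zero_iff_dvd] at h2 ⊢
        exact h1.symm.trans h2
      rw [ha] at h3
      have h4 := Nat.le_of_dvd (by positivity) h3
      have h5 : 2 ^ a < 2 ^ (a + 1) := Nat.pow_lt_pow_right (by norm_num) (by omega)
      omega

section dihlike

variable {q : ℕ} [Fact q.Prime] {V : Type*} [AddCommGroup V] [Module (ZMod q) V] [Finite V]
  [Nontrivial V] {G : Type*} [Group G] [Finite G] (ρ : G →* (V ≃ₗ[ZMod q] V))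

/-- A central involution acts as `-1` in an irreducible faithful action. -/
lemma central_invol_neg (hρ : Function.Injective ρ)
    (hirr : ∀ W : Submodule (ZMod q) V, (∀ g : G, ∀ w ∈ W, ρ g w ∈ W) → W = ⊥ ∨ W = ⊤)
    (z : G) (hzc : z ∈ Subgroup.center G) (hz1 : z ≠ 1) (hz2 : z * z = 1) (v : V) :
    ρ z v = -v := by
  have h0 := ImprimP.fixSp_central_eq_bot ρ hρ hirr z hzc hz1
  have h1 : v + ρ z v ∈ ImprimP.fixSp ρ z := by
    rw [ImprimP.mem_fixSp, map_add, ← ImprimP.rho_mul, hz2, ImprimP.rho_one, add_comm]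
  rw [h0, Submodule.mem_bot] at h1
  exact (neg_eq_of_add_eq_zero_right h1).symm

lemma two_ne_zero_zmod (hq2 : q ≠ 2) : (2 : ZMod q) ≠ 0 := by
  intro h
  have h1 : ((2 : ℕ) : ZMod q) = 0 := by exact_mod_cast h
  rw [ZMod.natCast_eq_zero_iff] at h1
  have hq : q.Prime := Fact.out
  exact hq2 ((Nat.prime_dvd_prime_iff_eq hq Nat.prime_two).mp h1)

lemma eq_zero_of_neg_eq (hq2 : q ≠ 2) (v : V) (h : -v = v) : v = 0 := by
  have h1 : (2 : ZMod q) • v = 0 := by
    rw [two_smul]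
    nth_rewrite 1 [← h]
    exact neg_add_cancel v
  rcases smul_eq_zero.mp h1 with h2 | h2
  · exact absurd h2 (two_ne_zero_zmod hq2)
  · exact h2

/-- In a `2`-group every non-identity element has a power which is an involution. -/
lemma exists_pow_invol (hG2 : IsPGroup 2 G) (a : G) (ha : a ≠ 1) :
    ∃ k : ℕ, a ^ k ≠ 1 ∧ a ^ k * a ^ k = 1 := by
  classical
  have hex : ∃ k : ℕ, a ^ 2 ^ k = 1 := hG2 a
  have hk0 : Nat.find hex ≠ 0 := by
    intro h0
    have := Nat.find_spec hex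
    rw [h0, pow_zero, pow_one] at this
    exact ha this
  obtain ⟨j, hj⟩ : ∃ j, Nat.find hex = j + 1 := ⟨Nat.find hex - 1, by omega⟩
  refine ⟨2 ^ j, ?_, ?_⟩
  · intro h
    have := Nat.find_min hex (m := j) (by omega)
    exact this h
  · have := Nat.find_spec hex
    rw [hj, pow_succ, pow_mul, pow_two] at this
    exact this

variable (hq2 : q ≠ 2) (hG2 : IsPGroup 2 G) (hρ : Function.Injective ρ)
  (hirr : ∀ W : Submodule (ZMod q) V, (∀ g : G, ∀ w ∈ W, ρ g w ∈ W) → W = ⊥ ∨ W = ⊤)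
  (hh : HalfT ρ) (hns : ∃ v : V, v ≠ 0 ∧ ∃ g : G, g ≠ 1 ∧ ρ g v = v)
  (A : Subgroup G) (hA : A.index = 2) (z : G) (hzc : z ∈ Subgroup.center G) (hz1 : z ≠ 1)
  (hz2 : z * z = 1) (hAinv : ∀ b ∈ A, b * b = 1 → b = 1 ∨ b = z)
  (hconj : ∀ t : G, t ∉ A → t * t = 1 → ∃ g : G, g * t * g⁻¹ = t * z)

include hq2 hG2 hρ hirr hzc hz1 hz2 hAinv in
lemma A_semireg (a : G) (haA : a ∈ A) (ha1 : a ≠ 1) (v : V) (hv : ρ a v = v) : v = 0 := by
  obtain ⟨k, hk1, hk2⟩ := exists_pow_invol hG2 a ha1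
  have hkz : a ^ k = z := by
    rcases hAinv (a ^ k) (A.pow_mem haA k) hk2 with h | h
    · exact absurd h hk1
    · exact h
  have h1 : ρ z v = v := by
    rw [← hkz]
    exact ImprimP.rho_pow_fixed ρ a v hv k
  rw [central_invol_neg ρ hρ hirr z hzc hz1 hz2] at h1
  exact eq_zero_of_neg_eq hq2 v h1

include hq2 hG2 hρ hirr hh hns hA hzc hz1 hz2 hAinv in
/-- the unique non-identity element of the stabilizer of a non-zero vector -/
lemma exists_stab_invol (v : V) (hv : v ≠ 0) :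
    ∃ t : G, t ∉ A ∧ t * t = 1 ∧ ρ t v = v ∧ ∀ g : G, ρ g v = v → g = 1 ∨ g = t := by
  obtain ⟨v₀, hv₀, g₀, hg₀, hgv₀⟩ := hns
  have hne : Stab ρ v ≠ ⊥ := by
    intro h
    have h1 : Nat.card (Stab ρ v₀) = 1 := by
      rw [hh v₀ v hv₀ hv, h, Subgroup.card_bot]
    have h2 := stab_eq_bot_of_card ρ v₀ h1
    have : g₀ ∈ Stab ρ v₀ := hgv₀
    rw [h2, Subgroup.mem_bot] at this
    exact hg₀ this
  obtain ⟨t, ht1⟩ := (Subgroup.ne_bot_iff_exists_ne_one).mp hne
  have htv : ρ (t : G) v = v := t.2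
  have ht1' : (t : G) ≠ 1 := fun h => ht1 (Subtype.ext h)
  have htA : (t : G) ∉ A := fun h =>
    hv (A_semireg ρ hq2 hG2 hρ hirr A z hzc hz1 hz2 hAinv t h ht1' v htv)
  refine ⟨t, htA, ?_, htv, ?_⟩
  · by_contra hne1
    have h1 : (t : G) * t ∈ A := Subgroup.mul_self_mem_of_index_two hA _
    have h2 : ρ ((t : G) * t) v = v := by rw [ImprimP.rho_mul, htv, htv]
    exact hv (A_semireg ρ hq2 hG2 hρ hirr A z hzc hz1 hz2 hAinv _ h1 hne1 v h2)
  · intro g hg
    by_cases hgA : g ∈ A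
    · left
      by_contra hg1
      exact hv (A_semireg ρ hq2 hG2 hρ hirr A z hzc hz1 hz2 hAinv g hgA hg1 v hg)
    · right
      have h1 : (t : G)⁻¹ * g ∈ A := by
        rw [Subgroup.mul_mem_iff_of_index_two hA, Subgroup.inv_mem_iff]
        exact ⟨fun h => absurd h htA, fun h => absurd h hgA⟩
      have h2 : ρ ((t : G)⁻¹ * g) v = v := by
        rw [ImprimP.rho_mul, hg]
        have := ImprimP.rho_inv_cancel ρ (t : G) v
        rwa [htv] at this
      by_contra hne1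
      have h3 : (t : G)⁻¹ * g ≠ 1 := by
        intro h
        apply hne1
        rw [inv_mul_eq_one] at h
        exact h.symm
      exact hv (A_semireg ρ hq2 hG2 hρ hirr A z hzc hz1 hz2 hAinv _ h1 h3 v h2)

include hq2 hρ hirr hzc hz1 hz2 hconj in
lemma card_sq_of_invol (t : G) (htA : t ∉ A) (ht2 : t * t = 1) :
    Nat.card V = Nat.card (ImprimP.fixSp ρ t) * Nat.card (ImprimP.fixSp ρ t) := by
  obtain ⟨g, hg⟩ := hconj t htA ht2
  have hzneg := central_invol_neg ρ hρ hirr z hzc hz1 hz2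
  have h2 : (2 : ZMod q) ≠ 0 := two_ne_zero_zmod hq2
  have hmap : (ImprimP.fixSp ρ t).map (ρ g : V →ₗ[ZMod q] V) = ImprimP.fixSp ρ (t * z) := by
    rw [ImprimP.map_fixSp, hg]
  have hcard : Nat.card (ImprimP.fixSp ρ (t * z)) = Nat.card (ImprimP.fixSp ρ t) := by
    rw [← hmap]
    exact (Nat.card_congr ((ρ g).submoduleMap (ImprimP.fixSp ρ t)).toEquiv).symm
  have hcompl : IsCompl (ImprimP.fixSp ρ t) (ImprimP.fixSp ρ (t * z)) := by
    constructor
    · rw [Submodule.disjoint_def]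
      intro v hv1 hv2
      rw [ImprimP.mem_fixSp] at hv1 hv2
      rw [ImprimP.rho_mul, hzneg, map_neg, hv1] at hv2
      exact eq_zero_of_neg_eq hq2 v hv2
    · rw [codisjoint_iff, eq_top_iff]
      intro v _
      have hv : v = (2 : ZMod q)⁻¹ • (v + ρ t v) + (2 : ZMod q)⁻¹ • (v - ρ t v) := by
        rw [← smul_add]
        have : v + ρ t v + (v - ρ t v) = (2 : ZMod q) • v := by rw [two_smul]; abel
        rw [this, smul_smul, inv_mul_cancel₀ h2, one_smul]
      rw [hv]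
      apply Submodule.add_mem_sup
      · apply Submodule.smul_mem
        rw [ImprimP.mem_fixSp, map_add, ← ImprimP.rho_mul, ht2, ImprimP.rho_one, add_comm]
      · apply Submodule.smul_mem
        rw [ImprimP.mem_fixSp, ImprimP.rho_mul, hzneg, map_neg, map_sub, ← ImprimP.rho_mul, ht2,
          ImprimP.rho_one]
        abel
  have e := (Submodule.prodEquivOfIsCompl _ _ hcompl).toEquiv
  rw [← Nat.card_congr e, Nat.card_prod, hcard]

include hq2 hG2 hρ hirr hh hns hA hzc hz1 hz2 hAinv hconj in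
/-- the counting argument: `|V| = Q²` where `Q + 1` is the number of involutions outside `A`. -/
theorem dihLike : ∃ Q : ℕ, Nat.card V = Q * Q ∧
    Q + 1 = Nat.card {t : G // t ∉ A ∧ t * t = 1} := by
  classical
  letI : Fintype {t : G // t ∉ A ∧ t * t = 1} := Fintype.ofFinite _
  have hex := exists_stab_invol ρ hq2 hG2 hρ hirr hh hns A hA z hzc hz1 hz2 hAinv
  choose Φ hΦA hΦ2 hΦv hΦu using hex
  obtain ⟨v₁, hv₁⟩ := exists_ne (0 : V)
  set Q := Nat.card (ImprimP.fixSp ρ (Φ v₁ hv₁)) with hQ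
  have hVQ : Nat.card V = Q * Q :=
    card_sq_of_invol ρ hq2 hρ hirr A z hzc hz1 hz2 hconj _ (hΦA v₁ hv₁) (hΦ2 v₁ hv₁)
  have hQall : ∀ t : G, t ∉ A → t * t = 1 → Nat.card (ImprimP.fixSp ρ t) = Q := by
    intro t htA ht2
    have := card_sq_of_invol ρ hq2 hρ hirr A z hzc hz1 hz2 hconj t htA ht2
    rw [hVQ] at this
    exact (Nat.mul_self_inj.mp this).symm
  let Ψ : {v : V // v ≠ 0} → {t : G // t ∉ A ∧ t * t = 1} :=
    fun v => ⟨Φ v.1 v.2, hΦA v.1 v.2, hΦ2 v.1 v.2⟩
  have hfib : ∀ t : {t : G // t ∉ A ∧ t * t = 1},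
      Nat.card {v : {v : V // v ≠ 0} // Ψ v = t} + 1 = Q := by
    intro t
    have e : {v : {v : V // v ≠ 0} // Ψ v = t} ≃ {w : ImprimP.fixSp ρ (t : G) // w ≠ 0} :=
      { toFun := fun v => ⟨⟨v.1.1, by
            have h2 : Φ v.1.1 v.1.2 = (t : G) := congrArg Subtype.val v.2
            rw [ImprimP.mem_fixSp, ← h2]
            exact hΦv v.1.1 v.1.2⟩, fun h => v.1.2 (congrArg Subtype.val h)⟩
        invFun := fun w => ⟨⟨w.1.1, fun h => w.2 (Subtype.ext h)⟩, by
            apply Subtype.ext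
            have hw0 : (w.1.1 : V) ≠ 0 := fun h => w.2 (Subtype.ext h)
            rcases hΦu w.1.1 hw0 (t : G) ((ImprimP.mem_fixSp ρ _ _).mp w.1.2) with h | h
            · exact absurd (show (t : G) ∈ A by rw [h]; exact A.one_mem) t.2.1
            · exact h.symm⟩
        left_inv := fun v => rfl
        right_inv := fun w => rfl }
    rw [Nat.card_congr e, card_ne_zero_subtype, hQall t t.2.1 t.2.2]
  have hQ1 : 1 ≤ Q := by
    have := hfib (Ψ ⟨v₁, hv₁⟩)
    omega
  have hcount : Nat.card {v : V // v ≠ 0} =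
      Nat.card {t : G // t ∉ A ∧ t * t = 1} * (Q - 1) := by
    rw [← Nat.card_congr (Equiv.sigmaFiberEquiv Ψ), Nat.card_sigma]
    have : ∀ t : {t : G // t ∉ A ∧ t * t = 1},
        Nat.card {v : {v : V // v ≠ 0} // Ψ v = t} = Q - 1 := by
      intro t
      have := hfib t
      omega
    rw [Finset.sum_congr rfl (fun t _ => this t), Finset.sum_const, Finset.card_univ,
      smul_eq_mul, Nat.card_eq_fintype_card]
  have hV1 := card_ne_zero_subtype (α := V)
  refine ⟨Q, hVQ, ?_⟩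
  have hVgt : 1 < Nat.card V := Finite.one_lt_card
  have hQ2 : 2 ≤ Q := by
    by_contra h
    have : Q = 1 := by omega
    rw [hVQ, this] at hVgt
    omega
  obtain ⟨r, hr⟩ : ∃ r, Q = r + 2 := ⟨Q - 2, by omega⟩
  have h1 : Nat.card {t : G // t ∉ A ∧ t * t = 1} * (r + 1) + 1 = (r + 2) * (r + 2) := by
    rw [← hr, ← hVQ, ← hV1, hcount, hr]
    rfl
  have h2 : Nat.card {t : G // t ∉ A ∧ t * t = 1} * (r + 1) = (r + 3) * (r + 1) := by
    have : (r + 2) * (r + 2) = (r + 3) * (r + 1) + 1 := by ring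
    omega
  have h3 := Nat.eq_of_mul_eq_mul_right (by omega : 0 < r + 1) h2
  rw [h3, hr]

end dihlike

end Cfsg.Agent.Helper56.HT
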