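import Mathlib
import Cfsg.Agent.Lib.Helper56.HalfTransB
import Cfsg.Agent.Lib.Helper20.QD

set_option autoImplicit false
set_option linter.unusedSectionVars false
set_option linter.style.haveILetI false

/-! Half-transitive linear `2`-groups: the dihedral and semidihedral models. -/

namespace Cfsg.Agent.Helper56.HT

open Cfsg.Agent.Helper63 Cfsg.Agent.S3370

lemma numeric_dih {q : ℕ} (hq : q.Prime) (hq2 : q ≠ 2) {d Q M : ℕ} (hV : q ^ d = Q * Q)
    (hQ : Q + 1 = 2 ^ M) (hQ2 : 2 ≤ Q) : q ^ d = q ^ 2 ∧ q = 2 ^ M - 1 := by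
  have hdvd : Q ∣ q ^ d := ⟨Q, hV⟩
  obtain ⟨e, hed, he⟩ := (Nat.dvd_prime_pow hq).mp hdvd
  have he1 : 1 ≤ e := by
    by_contra h
    have : e = 0 := by omega
    rw [this, pow_zero] at he
    omega
  have h1 := pow_add_one_eq_two_pow hq hq2 he1 (by rw [← he]; exact hQ)
  subst h1
  rw [pow_one] at he
  subst he
  refine ⟨?_, by omega⟩
  rw [hV, pow_two]

lemma zmod_two_mul_eq_zero {n u : ℕ} (hn : n = 4 * u) (hu : u ≠ 0) (i : ZMod n)
    (h : i + i = 0) : i = 0 ∨ i = ((2 * u : ℕ) : ZMod n) := by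
  haveI : NeZero n := ⟨by omega⟩
  have h1 : ((i.val + i.val : ℕ) : ZMod n) = 0 := by
    rw [Nat.cast_add, ZMod.natCast_zmod_val]
    exact h
  rw [ZMod.natCast_eq_zero_iff] at h1
  have hlt := ZMod.val_lt i
  obtain ⟨c, hc⟩ := h1
  have hc2 : c < 2 := by
    by_contra hc2
    have hc2' : 2 ≤ c := Nat.not_lt.mp hc2
    have : n * 2 ≤ n * c := Nat.mul_le_mul_left n hc2'
    omega
  have hc01 : c = 0 ∨ c = 1 := by omega
  rcases hc01 with rfl | rfl
  · left
    rw [mul_zero] at hc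
    exact (ZMod.val_eq_zero i).mp (by omega)
  · right
    rw [mul_one] at hc
    have : i.val = 2 * u := by omega
    rw [← this, ZMod.natCast_zmod_val]

section dihedral

variable {q : ℕ} [Fact q.Prime] {V : Type*} [AddCommGroup V] [Module (ZMod q) V] [Finite V]
  [Nontrivial V]

/-- the rotation subgroup -/
def rotSub (n : ℕ) : Subgroup (DihedralGroup n) where
  carrier := {g | ∃ i, g = DihedralGroup.r i}
  mul_mem' := by
    rintro _ _ ⟨i, rfl⟩ ⟨j, rfl⟩
    exact ⟨i + j, rfl⟩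
  one_mem' := ⟨0, rfl⟩
  inv_mem' := by
    rintro _ ⟨i, rfl⟩
    exact ⟨-i, rfl⟩

lemma r_mem_rotSub (n : ℕ) (i : ZMod n) : DihedralGroup.r i ∈ rotSub n := ⟨i, rfl⟩

lemma sr_not_mem_rotSub (n : ℕ) (i : ZMod n) : DihedralGroup.sr i ∉ rotSub n := by
  rintro ⟨j, hj⟩
  cases hj

lemma rotSub_index (n : ℕ) : (rotSub n).index = 2 := by
  rw [Subgroup.index_eq_two_iff]
  refine ⟨DihedralGroup.sr 0, fun b => ?_⟩
  rcases b with i | i
  · right
    refine ⟨r_mem_rotSub n i, ?_⟩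
    rw [DihedralGroup.r_mul_sr]
    exact sr_not_mem_rotSub _ _
  · left
    refine ⟨?_, sr_not_mem_rotSub _ _⟩
    rw [DihedralGroup.sr_mul_sr]
    exact r_mem_rotSub _ _

theorem dihedral_case (n u : ℕ) (hn : n = 4 * u) (hu : u ≠ 0)
    (ρ : DihedralGroup n →* (V ≃ₗ[ZMod q] V)) (hq2 : q ≠ 2)
    (hG2 : IsPGroup 2 (DihedralGroup n)) (hρ : Function.Injective ρ)
    (hirr : ∀ W : Submodule (ZMod q) V, (∀ g : DihedralGroup n, ∀ w ∈ W, ρ g w ∈ W) →
      W = ⊥ ∨ W = ⊤)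
    (hh : HalfT ρ)
    (hns : ∃ v : V, v ≠ 0 ∧ ∃ g : DihedralGroup n, g ≠ 1 ∧ ρ g v = v) :
    ∃ Q : ℕ, Nat.card V = Q * Q ∧ Q + 1 = n := by
  haveI : NeZero n := ⟨by omega⟩
  haveI : Finite (DihedralGroup n) := Finite.of_fintype _
  set z : DihedralGroup n := DihedralGroup.r ((2 * u : ℕ) : ZMod n) with hz
  have h2h : ((2 * u : ℕ) : ZMod n) + ((2 * u : ℕ) : ZMod n) = 0 := by
    rw [← Nat.cast_add, show 2 * u + 2 * u = n by omega, ZMod.natCast_self]
  have hneg : -((2 * u : ℕ) : ZMod n) = ((2 * u : ℕ) : ZMod n) :=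
    neg_eq_of_add_eq_zero_left h2h
  have hqq : ((u : ℕ) : ZMod n) + ((u : ℕ) : ZMod n) = ((2 * u : ℕ) : ZMod n) := by
    rw [← Nat.cast_add, two_mul]
  have hzc : z ∈ Subgroup.center (DihedralGroup n) := by
    rw [Subgroup.mem_center_iff]
    intro g
    rcases g with i | i
    · rw [hz, DihedralGroup.r_mul_r, DihedralGroup.r_mul_r, add_comm]
    · rw [hz, DihedralGroup.sr_mul_r, DihedralGroup.r_mul_sr, sub_eq_add_neg, hneg]
  have hz1 : z ≠ 1 := by
    intro h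
    rw [hz, DihedralGroup.one_def] at h
    have h1 := DihedralGroup.r.inj h
    rw [ZMod.natCast_eq_zero_iff] at h1
    have := Nat.le_of_dvd (by omega) h1
    omega
  have hz2 : z * z = 1 := by
    rw [hz, DihedralGroup.r_mul_r, h2h]
    rfl
  have hAinv : ∀ b ∈ rotSub n, b * b = 1 → b = 1 ∨ b = z := by
    rintro _ ⟨i, rfl⟩ hb
    rw [DihedralGroup.r_mul_r, DihedralGroup.one_def] at hb
    have h1 := DihedralGroup.r.inj hb
    rcases zmod_two_mul_eq_zero hn hu i h1 with h | h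
    · left
      rw [h]
      rfl
    · right
      rw [h]
  have hconj : ∀ t, t ∉ rotSub n → t * t = 1 → ∃ g, g * t * g⁻¹ = t * z := by
    intro t ht _
    rcases t with i | i
    · exact absurd (r_mem_rotSub n i) ht
    · refine ⟨DihedralGroup.r ((u : ℕ) : ZMod n), ?_⟩
      rw [DihedralGroup.inv_r, DihedralGroup.r_mul_sr, DihedralGroup.sr_mul_r, hz,
        DihedralGroup.sr_mul_r, ← hneg, ← hqq]
      congr 1
      abel
  obtain ⟨Q, hQ1, hQ2⟩ := dihLike ρ hq2 hG2 hρ hirr hh hns (rotSub n) (rotSub_index n) z hzc hz1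
    hz2 hAinv hconj
  refine ⟨Q, hQ1, ?_⟩
  rw [hQ2]
  have e : ZMod n ≃ {t : DihedralGroup n // t ∉ rotSub n ∧ t * t = 1} :=
    Equiv.ofBijective (fun i => ⟨DihedralGroup.sr i, sr_not_mem_rotSub n i, by
      rw [DihedralGroup.sr_mul_sr, sub_self]; rfl⟩) ⟨by
        intro i j hij
        exact DihedralGroup.sr.inj (congrArg Subtype.val hij), by
        rintro ⟨t, ht1, ht2⟩
        rcases t with i | i
        · exact absurd (r_mem_rotSub n i) ht1
        · exact ⟨i, rfl⟩⟩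
  rw [← Nat.card_congr e, Nat.card_zmod]

end dihedral

section sd

open Cfsg.Agent.Helper20

variable {q : ℕ} [Fact q.Prime] {V : Type*} [AddCommGroup V] [Module (ZMod q) V] [Finite V]
  [Nontrivial V]

/-- the cyclic maximal subgroup of the semidihedral model -/
def sdA (k : ℕ) : Subgroup (SD k) where
  carrier := {g | g.e = false}
  mul_mem' := by
    rintro ⟨a, e⟩ ⟨b, f⟩ h1 h2
    simp only [Set.mem_ofPred_eq] at h1 h2
    subst h1
    subst h2
    rfl
  one_mem' := rfl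
  inv_mem' := by
    rintro ⟨a, e⟩ h
    simp only [Set.mem_ofPred_eq] at h
    subst h
    rfl

lemma mem_sdA (k : ℕ) (g : SD k) : g ∈ sdA k ↔ g.e = false := Iff.rfl

lemma sdA_index (k : ℕ) : (sdA k).index = 2 := by
  rw [Subgroup.index_eq_two_iff]
  refine ⟨⟨0, true⟩, fun b => ?_⟩
  rcases b with ⟨b, e⟩
  cases e
  · right
    refine ⟨rfl, ?_⟩
    rw [mem_sdA, SD.mk_mul_mk_false]
    simp
  · left
    refine ⟨?_, ?_⟩
    · rw [mem_sdA, SD.mk_mul_mk_true]
      rfl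
    · rw [mem_sdA]
      simp

lemma neg_hN (k : ℕ) : -hN k = hN k := by
  have h := two_hN (k := k)
  rw [two_mul] at h
  exact neg_eq_of_add_eq_zero_left h

lemma cN_mul_hN (k : ℕ) : cN k * hN k = hN k := by
  rw [cN, sub_mul, hN_mul_hN, one_mul, zero_sub, neg_hN]

lemma cN_mul_qN (k : ℕ) : cN k * qN k = - qN k := by
  rw [cN, sub_mul, mul_comm, ← mul_comm (hN k), hN_mul_qN, one_mul, zero_sub]

lemma add_cN_mul (k : ℕ) (a : ZMod (2 ^ (k + 3))) : a + cN k * a = hN k * a := by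
  rw [cN]
  ring

lemma card_hN_ker (k : ℕ) :
    Nat.card {a : ZMod (2 ^ (k + 3)) // hN k * a = 0} = 2 ^ (k + 2) := by
  classical
  have e1 : {a : ZMod (2 ^ (k + 3)) // hN k * a = 0} ≃
      {a : ZMod (2 ^ (k + 3)) // ¬ hN k * a = 0} :=
    { toFun := fun a => ⟨a.1 + 1, by
        rw [mul_add, a.2, zero_add, mul_one]
        exact hN_ne_zero⟩
      invFun := fun a => ⟨a.1 - 1, by
        rcases zmod_even_or_odd a.1 with ⟨b, hb⟩ | ⟨b, hb⟩
        · exact absurd (by rw [hb]; exact hN_mul_even b) a.2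
        · rw [hb, add_sub_cancel_right]
          exact hN_mul_even b⟩
      left_inv := fun a => Subtype.ext (add_sub_cancel_right _ _)
      right_inv := fun a => Subtype.ext (sub_add_cancel _ _) }
  have e2 := Equiv.sumCompl (fun a : ZMod (2 ^ (k + 3)) => hN k * a = 0)
  have h1 := Nat.card_congr e2
  rw [Nat.card_sum, ← Nat.card_congr e1, Nat.card_zmod] at h1
  have : 2 ^ (k + 3) = 2 * 2 ^ (k + 2) := by
    rw [pow_succ]
    ring
  omega

theorem sd_case (k : ℕ) (ρ : SD k →* (V ≃ₗ[ZMod q] V)) (hq2 : q ≠ 2)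
    (hG2 : IsPGroup 2 (SD k)) (hρ : Function.Injective ρ)
    (hirr : ∀ W : Submodule (ZMod q) V, (∀ g : SD k, ∀ w ∈ W, ρ g w ∈ W) → W = ⊥ ∨ W = ⊤)
    (hh : HalfT ρ)
    (hns : ∃ v : V, v ≠ 0 ∧ ∃ g : SD k, g ≠ 1 ∧ ρ g v = v) :
    ∃ Q : ℕ, Nat.card V = Q * Q ∧ Q + 1 = 2 ^ (k + 2) := by
  haveI : Finite (SD k) := Finite.of_fintype _
  set z : SD k := ⟨hN k, false⟩ with hz
  have hzc : z ∈ Subgroup.center (SD k) := by
    rw [Subgroup.mem_center_iff]
    rintro ⟨b, e⟩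
    cases e
    · rw [hz, SD.mk_mul_mk_false, SD.mk_mul_mk_false, add_comm]
    · rw [hz, SD.mk_mul_mk_false, SD.mk_mul_mk_true, cN_mul_hN, add_comm]
      rfl
  have hz1 : z ≠ 1 := by
    intro h
    rw [hz, SD.one_def] at h
    exact hN_ne_zero (congrArg SD.a h)
  have hz2 : z * z = 1 := by
    rw [hz, SD.mk_mul_mk_false, ← two_mul, two_hN]
    rfl
  have hAinv : ∀ b ∈ sdA k, b * b = 1 → b = 1 ∨ b = z := by
    rintro ⟨a, e⟩ hb hbb
    rw [mem_sdA] at hb
    simp only at hb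
    subst hb
    rw [SD.mk_mul_mk_false, SD.one_def] at hbb
    have h1 : a + a = 0 := congrArg SD.a hbb
    rw [← two_mul] at h1
    rcases (two_mul_eq_zero_iff a).mp h1 with h | h
    · left
      rw [h]
      rfl
    · right
      rw [h]
  have hconj : ∀ t, t ∉ sdA k → t * t = 1 → ∃ g, g * t * g⁻¹ = t * z := by
    rintro ⟨a, e⟩ ht _
    cases e
    · exact absurd rfl ht
    · refine ⟨⟨qN k, false⟩, ?_⟩
      rw [SD.inv_mk_false, SD.mk_mul_mk_false, SD.mk_mul_mk_true, hz, SD.mk_mul_mk_true,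
        cN_mul_hN, mul_neg, cN_mul_qN, neg_neg, ← two_qN]
      congr 1
      ring
  obtain ⟨Q, hQ1, hQ2⟩ := dihLike ρ hq2 hG2 hρ hirr hh hns (sdA k) (sdA_index k) z hzc hz1
    hz2 hAinv hconj
  refine ⟨Q, hQ1, ?_⟩
  rw [hQ2, ← card_hN_ker k]
  have e : {a : ZMod (2 ^ (k + 3)) // hN k * a = 0} ≃ {t : SD k // t ∉ sdA k ∧ t * t = 1} :=
    Equiv.ofBijective (fun a => ⟨⟨a.1, true⟩, by
      rw [mem_sdA]
      simp, by
      rw [SD.mk_mul_mk_true, add_cN_mul, a.2]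
      rfl⟩) ⟨by
        intro a b hab
        exact Subtype.ext (congrArg SD.a (congrArg Subtype.val hab)), by
        rintro ⟨⟨a, e⟩, ht1, ht2⟩
        cases e
        · exact absurd rfl ht1
        · rw [SD.mk_mul_mk_true, add_cN_mul, SD.one_def] at ht2
          exact ⟨⟨a, congrArg SD.a ht2⟩, rfl⟩⟩
  exact (Nat.card_congr e).symm

end sd

end Cfsg.Agent.Helper56.HT
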