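import Mathlib
import Cfsg.Agent.Lib.Helper56.HalfTransB

set_option autoImplicit false
set_option linter.unusedSectionVars false
set_option linter.style.haveILetI false

/-! Half-transitive linear `p`-groups: transport along isomorphisms, the two-orbit lemma and
restriction to invariant subspaces. -/

namespace Cfsg.Agent.Helper56.HT

open Cfsg.Agent.Helper63 Cfsg.Agent.S3370

section transport

variable {q : ℕ} [Fact q.Prime] {V : Type*} [AddCommGroup V] [Module (ZMod q) V]
  {G G' : Type*} [Group G] [Group G'] (ρ : G →* (V ≃ₗ[ZMod q] V)) (φ : G' ≃* G)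

/-- transport of a representation along a group isomorphism -/
def trp : G' →* (V ≃ₗ[ZMod q] V) := ρ.comp φ.toMonoidHom

lemma trp_apply (g' : G') (v : V) : trp ρ φ g' v = ρ (φ g') v := rfl

lemma trp_injective (hρ : Function.Injective ρ) : Function.Injective (trp ρ φ) :=
  hρ.comp φ.injective

lemma trp_halfT (hh : HalfT ρ) : HalfT (trp ρ φ) := by
  intro v w hv hw
  have e : ∀ u : V, Stab (trp ρ φ) u ≃ Stab ρ u := fun u =>
    { toFun := fun g => ⟨φ g.1, g.2⟩
      invFun := fun g => ⟨φ.symm g.1, by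
          show ρ (φ (φ.symm g.1)) u = u
          rw [φ.apply_symm_apply]
          exact g.2⟩
      left_inv := fun g => Subtype.ext (φ.symm_apply_apply _)
      right_inv := fun g => Subtype.ext (φ.apply_symm_apply _) }
  rw [Nat.card_congr (e v), Nat.card_congr (e w)]
  exact hh v w hv hw

lemma trp_irr
    (hirr : ∀ W : Submodule (ZMod q) V, (∀ g : G, ∀ w ∈ W, ρ g w ∈ W) → W = ⊥ ∨ W = ⊤)
    (W : Submodule (ZMod q) V) (hW : ∀ g : G', ∀ w ∈ W, trp ρ φ g w ∈ W) : W = ⊥ ∨ W = ⊤ := by
  apply hirr W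
  intro g w hw
  have := hW (φ.symm g) w hw
  rwa [trp_apply, φ.apply_symm_apply] at this

lemma trp_hns (hns : ∃ v : V, v ≠ 0 ∧ ∃ g : G, g ≠ 1 ∧ ρ g v = v) :
    ∃ v : V, v ≠ 0 ∧ ∃ g : G', g ≠ 1 ∧ trp ρ φ g v = v := by
  obtain ⟨v, hv, g, hg, hgv⟩ := hns
  refine ⟨v, hv, φ.symm g, ?_, ?_⟩
  · intro h
    apply hg
    have := congrArg φ h
    rwa [φ.apply_symm_apply, map_one] at this
  · rw [trp_apply, φ.apply_symm_apply]
    exact hgv

end transport

section counting

variable {G : Type*} [Group G]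

lemma card_le_two_mul_inf [Finite G] (S H : Subgroup G) (hH : H.index = 2) :
    Nat.card S ≤ 2 * Nat.card (S ⊓ H : Subgroup G) := by
  haveI : H.Normal := Subgroup.normal_of_index_eq_two hH
  have h1 : H.relIndex S ∣ 2 := hH ▸ Subgroup.relIndex_dvd_index_of_normal H S
  have h2 := (H.subgroupOf S).index_mul_card
  have h3 : Nat.card (H.subgroupOf S) = Nat.card (S ⊓ H : Subgroup G) := by
    rw [← Subgroup.inf_subgroupOf_left H S]
    exact Nat.card_congr (Subgroup.subgroupOfEquivOfLe (inf_le_left : S ⊓ H ≤ S)).toEquiv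
  have h4 : H.relIndex S ≤ 2 := Nat.le_of_dvd (by norm_num) h1
  rw [h3] at h2
  rw [← h2]
  exact Nat.mul_le_mul_right _ h4

lemma eq_of_card_two (S : Subgroup G) (hS : Nat.card S = 2) {a b : G} (ha : a ∈ S) (hb : b ∈ S)
    (ha1 : a ≠ 1) (hb1 : b ≠ 1) : a = b := by
  obtain ⟨y, -, hy⟩ := (Nat.card_eq_two_iff' (1 : S)).mp hS
  have h1 : (⟨a, ha⟩ : S) = y := hy _ (fun h => ha1 (congrArg Subtype.val h))
  have h2 : (⟨b, hb⟩ : S) = y := hy _ (fun h => hb1 (congrArg Subtype.val h))
  exact congrArg Subtype.val (h1.trans h2.symm)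

/-- a permutation of prime order `p` of `Fin p` has no fixed point -/
lemma perm_no_fixed {p : ℕ} [Fact p.Prime] (σ : Equiv.Perm (Fin p)) (hσ : orderOf σ = p)
    (i : Fin p) : σ i ≠ i := by
  have hpp : p.Prime := Fact.out
  have hc : σ.IsCycle := by
    apply Equiv.Perm.isCycle_of_prime_order'
    · rw [hσ]; exact hpp
    · rw [hσ, Fintype.card_fin]
      have := hpp.pos
      omega
  have h1 := hc.orderOf
  rw [hσ] at h1
  have h2 : σ.support = Finset.univ := by
    apply Finset.eq_univ_of_card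
    rw [← h1, Fintype.card_fin]
  have : i ∈ σ.support := by rw [h2]; exact Finset.mem_univ i
  exact Equiv.Perm.mem_support.mp this

end counting

section orb2

variable {q : ℕ} [Fact q.Prime] {V : Type*} [AddCommGroup V] [Module (ZMod q) V]
  {L : Type*} [Group L] [Finite L] (ρ : L →* (V ≃ₗ[ZMod q] V))

/-- the two-orbit lemma -/
lemma orb2 (hq2 : q ≠ 2) (W : Submodule (ZMod q) V)
    (hcard : ∀ w ∈ W, w ≠ 0 → Nat.card L ≤ 2 * Nat.card (Stab ρ w))
    (k : L) (w₂ : V) (hw₂ : w₂ ∈ W) (hk : ρ k w₂ ≠ w₂) (d : L) (hd : ρ d w₂ = w₂)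
    (w'' : V) (hw'' : w'' ∈ W) : ρ d w'' = w'' := by
  by_contra hdw
  have hw20 : w₂ ≠ 0 := by
    rintro rfl
    exact hk (map_zero _)
  have hw0 : w'' ≠ 0 := by
    rintro rfl
    exact hdw (map_zero _)
  have idx : ∀ w ∈ W, w ≠ 0 → Stab ρ w ≠ ⊤ → (Stab ρ w).index = 2 := by
    intro w hw hw0 hne
    have h1 := hcard w hw hw0
    have h2 := (Stab ρ w).index_mul_card
    have h3 : (Stab ρ w).index ≠ 1 := fun h => hne (Subgroup.index_eq_one.mp h)
    have h4 : (Stab ρ w).index ≠ 0 := Subgroup.index_ne_zero_of_finite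
    have h5 : 0 < Nat.card (Stab ρ w) := Nat.card_pos
    have h6 : (Stab ρ w).index * Nat.card (Stab ρ w) ≤ 2 * Nat.card (Stab ρ w) := by
      rw [h2]
      exact h1
    have h7 := Nat.le_of_mul_le_mul_right h6 h5
    omega
  have hD : (Stab ρ w₂).index = 2 := by
    apply idx w₂ hw₂ hw20
    intro h
    apply hk
    have : k ∈ Stab ρ w₂ := by
      rw [h]
      trivial
    exact this
  have hD'' : (Stab ρ w'').index = 2 := by
    apply idx w'' hw'' hw0
    intro h
    apply hdw
    have : d ∈ Stab ρ w'' := by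
      rw [h]
      trivial
    exact this
  have main : ∀ c : ZMod q, c ≠ 0 → ρ k w₂ - w₂ = -(c • (ρ d w'' - w'')) := by
    intro c hc
    have hinj : Function.Injective (fun x : V => c • x) := smul_right_injective V hc
    have hu0 : w₂ + c • w'' ≠ 0 := by
      intro h
      apply hdw
      have h1 : c • w'' = -w₂ := eq_neg_of_add_eq_zero_right h
      have h2 : ρ d (c • w'') = c • w'' := by rw [h1, map_neg, hd]
      rw [map_smul] at h2
      exact hinj h2
    have huW : w₂ + c • w'' ∈ W := W.add_mem hw₂ (W.smul_mem c hw'')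
    have hex : ∃ x : L, ρ x (w₂ + c • w'') = w₂ + c • w'' ∧ (ρ x w₂ ≠ w₂ ∨ ρ x w'' ≠ w'') := by
      by_contra hne
      have hne' : ∀ x : L, ρ x (w₂ + c • w'') = w₂ + c • w'' → ρ x w₂ = w₂ ∧ ρ x w'' = w'' := by
        intro x hx
        by_contra h
        apply hne
        refine ⟨x, hx, ?_⟩
        by_contra h'
        rw [not_or, not_not, not_not] at h'
        exact h h'
      have hle1 : Stab ρ (w₂ + c • w'') ≤ Stab ρ w₂ := fun x hx => (hne' x hx).1
      have hle2 : Stab ρ (w₂ + c • w'') ≤ Stab ρ w'' := fun x hx => (hne' x hx).2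
      have hc1 := hcard _ huW hu0
      have e1 : Stab ρ (w₂ + c • w'') = Stab ρ w₂ := by
        apply Subgroup.eq_of_le_of_card_ge hle1
        have := (Stab ρ w₂).index_mul_card
        rw [hD] at this
        omega
      have e2 : Stab ρ (w₂ + c • w'') = Stab ρ w'' := by
        apply Subgroup.eq_of_le_of_card_ge hle2
        have := (Stab ρ w'').index_mul_card
        rw [hD''] at this
        omega
      have : d ∈ Stab ρ w'' := by
        rw [← e2, e1]
        exact hd
      exact hdw this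
    obtain ⟨x, hxu, hx⟩ := hex
    have hx2 : ρ x w₂ ≠ w₂ := by
      intro h
      rcases hx with h' | h'
      · exact h' h
      · apply h'
        rw [map_add, h, map_smul] at hxu
        exact hinj (add_left_cancel hxu)
    have hx'' : ρ x w'' ≠ w'' := by
      intro h
      apply hx2
      rw [map_add, map_smul, h] at hxu
      exact add_right_cancel hxu
    have h1 : k⁻¹ * x ∈ Stab ρ w₂ := by
      rw [Subgroup.mul_mem_iff_of_index_two hD, Subgroup.inv_mem_iff]
      exact ⟨fun h => absurd h hk, fun h => absurd h hx2⟩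
    have h2 : d⁻¹ * x ∈ Stab ρ w'' := by
      rw [Subgroup.mul_mem_iff_of_index_two hD'', Subgroup.inv_mem_iff]
      exact ⟨fun h => absurd h hdw, fun h => absurd h hx''⟩
    have h3 : ρ x w₂ = ρ k w₂ := by
      have h : ρ (k⁻¹ * x) w₂ = w₂ := h1
      rw [ImprimP.rho_mul] at h
      have h' := congrArg (ρ k) h
      rwa [ImprimP.rho_cancel_inv] at h'
    have h4 : ρ x w'' = ρ d w'' := by
      have h : ρ (d⁻¹ * x) w'' = w'' := h2
      rw [ImprimP.rho_mul] at h
      have h' := congrArg (ρ d) h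
      rwa [ImprimP.rho_cancel_inv] at h'
    rw [map_add, map_smul, h3, h4] at hxu
    have h5 : ρ k w₂ - w₂ = c • w'' - c • ρ d w'' := by
      rw [sub_eq_sub_iff_add_eq_add, hxu, add_comm]
    rw [h5, smul_sub]
    abel
  have m1 := main 1 one_ne_zero
  have m2 := main 2 (two_ne_zero_zmod hq2)
  rw [one_smul] at m1
  rw [m1, neg_inj, two_smul] at m2
  have h0 : ρ d w'' - w'' = 0 := by
    have := m2
    exact left_eq_add.mp this
  exact hdw (sub_eq_zero.mp h0)

end orb2

section res

variable {q : ℕ} [Fact q.Prime] {V : Type*} [AddCommGroup V] [Module (ZMod q) V]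
  {G : Type*} [Group G] (ρ : G →* (V ≃ₗ[ZMod q] V))

/-- restriction of the action of a subgroup to an invariant subspace -/
def resHom (H : Subgroup G) (W : Submodule (ZMod q) V) (hW : ∀ h ∈ H, ∀ w ∈ W, ρ h w ∈ W) :
    H →* (W ≃ₗ[ZMod q] W) where
  toFun h := LinearEquiv.ofLinearMap
    ((ρ (h : G) : V →ₗ[ZMod q] V).restrict (hW h h.2))
    ((ρ ((h : G)⁻¹) : V →ₗ[ZMod q] V).restrict (hW _ (H.inv_mem h.2)))
    (by
      ext w
      simp only [LinearMap.coe_comp, Function.comp_apply, LinearMap.coe_restrict_apply,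
        LinearEquiv.coe_coe, LinearMap.id_coe, id_eq]
      exact ImprimP.rho_cancel_inv ρ _ _)
    (by
      ext w
      simp only [LinearMap.coe_comp, Function.comp_apply, LinearMap.coe_restrict_apply,
        LinearEquiv.coe_coe, LinearMap.id_coe, id_eq]
      exact ImprimP.rho_inv_cancel ρ _ _)
  map_one' := by
    ext w
    simp
  map_mul' := by
    intro a b
    ext w
    simp

lemma resHom_apply (H : Subgroup G) (W : Submodule (ZMod q) V)
    (hW : ∀ h ∈ H, ∀ w ∈ W, ρ h w ∈ W) (h : H) (w : W) :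
    ((resHom ρ H W hW h w : W) : V) = ρ (h : G) (w : V) := rfl

end res

end Cfsg.Agent.Helper56.HT
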