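import Mathlib
import Cfsg.Agent.Lib.Helper56.HalfTransD

set_option autoImplicit false
set_option linter.unusedSectionVars false
set_option linter.style.haveILetI false
set_option maxHeartbeats 1600000

/-! Half-transitive linear `2`-groups: the imprimitive case. -/

namespace Cfsg.Agent.Helper56.HT

open Cfsg.Agent.Helper63 Cfsg.Agent.S3370

section imprim2

variable {q : ℕ} [Fact q.Prime] {V : Type*} [AddCommGroup V] [Module (ZMod q) V] [Finite V]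
  [Nontrivial V] {G : Type*} [Group G] [Finite G] (ρ : G →* (V ≃ₗ[ZMod q] V))

lemma card_stab_comp_subtype (S : Subgroup G) (w : V) :
    Nat.card (Stab (ρ.comp S.subtype) w) = Nat.card (S ⊓ Stab ρ w : Subgroup G) :=
  Nat.card_congr
    { toFun := fun x => ⟨x.1.1, x.1.2, x.2⟩
      invFun := fun y => ⟨⟨y.1, y.2.1⟩, y.2.2⟩
      left_inv := fun _ => rfl
      right_inv := fun _ => rfl }

/-- first part: all stabilizers have order two and a swapping involution exists -/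
theorem imprim2_key (hq2 : q ≠ 2) (hρ : Function.Injective ρ) (hh : HalfT ρ)
    (H : Subgroup G) (hH : H.index = 2) (W₁ W₂ : Submodule (ZMod q) V) (hc : IsCompl W₁ W₂)
    (hHW₁ : ∀ h ∈ H, ∀ w ∈ W₁, ρ h w ∈ W₁) (hHW₂ : ∀ h ∈ H, ∀ w ∈ W₂, ρ h w ∈ W₂)
    (k₁ : G) (hk₁ : k₁ ≠ 1) (hk₁W : ∀ w ∈ W₁, ρ k₁ w = w)
    (k₂ : G) (hk₂ : k₂ ≠ 1) (hk₂W : ∀ w ∈ W₂, ρ k₂ w = w)
    (hsw₁ : ∀ g : G, g ∉ H → ∀ w ∈ W₁, ρ g w ∈ W₂)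
    (hsw₂ : ∀ g : G, g ∉ H → ∀ w ∈ W₂, ρ g w ∈ W₁) :
    (∀ v : V, v ≠ 0 → Nat.card (Stab ρ v) = 2) ∧
    (∀ u₁ ∈ W₁, u₁ ≠ 0 → ∀ u₂ ∈ W₂, u₂ ≠ 0 →
      ∃ t : G, t ∉ H ∧ ρ t u₁ = u₂ ∧ ρ t u₂ = u₁ ∧ t * t = 1) := by
  have hdisj : ∀ x ∈ W₁, x ∈ W₂ → x = 0 := fun x h1 h2 =>
    Submodule.disjoint_def.mp hc.disjoint x h1 h2
  have hdec : ∀ v : V, ∃ u₁ ∈ W₁, ∃ u₂ ∈ W₂, u₁ + u₂ = v := by
    intro v
    have hv : v ∈ W₁ ⊔ W₂ := by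
      rw [hc.sup_eq_top]
      trivial
    exact Submodule.mem_sup.mp hv
  have huniq : ∀ a₁ ∈ W₁, ∀ a₂ ∈ W₂, ∀ b₁ ∈ W₁, ∀ b₂ ∈ W₂, a₁ + a₂ = b₁ + b₂ →
      a₁ = b₁ ∧ a₂ = b₂ := by
    intro a₁ ha₁ a₂ ha₂ b₁ hb₁ b₂ hb₂ h
    have h1 : a₁ - b₁ = b₂ - a₂ := by
      rw [sub_eq_sub_iff_add_eq_add, h, add_comm]
    have h2 : a₁ - b₁ = 0 :=
      hdisj _ (W₁.sub_mem ha₁ hb₁) (by rw [h1]; exact W₂.sub_mem hb₂ ha₂)
    have h3 : b₂ - a₂ = 0 := by rw [← h1, h2]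
    exact ⟨sub_eq_zero.mp h2, (sub_eq_zero.mp h3).symm⟩
  have htriv : ∀ g : G, (∀ w ∈ W₁, ρ g w = w) → (∀ w ∈ W₂, ρ g w = w) → g = 1 := by
    intro g h1 h2
    apply hρ
    rw [map_one]
    ext v
    obtain ⟨u₁, hu₁, u₂, hu₂, rfl⟩ := hdec v
    show ρ g (u₁ + u₂) = u₁ + u₂
    rw [map_add, h1 u₁ hu₁, h2 u₂ hu₂]
  obtain ⟨w₁, hw₁, hk₂w₁⟩ : ∃ w₁ ∈ W₁, ρ k₂ w₁ ≠ w₁ := by
    by_contra hne
    apply hk₂
    apply htriv k₂ _ hk₂W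
    intro w hw
    by_contra h
    exact hne ⟨w, hw, h⟩
  obtain ⟨w₂, hw₂, hk₁w₂⟩ : ∃ w₂ ∈ W₂, ρ k₁ w₂ ≠ w₂ := by
    by_contra hne
    apply hk₁
    apply htriv k₁ hk₁W
    intro w hw
    by_contra h
    exact hne ⟨w, hw, h⟩
  have hw₁0 : w₁ ≠ 0 := by
    rintro rfl
    exact hk₂w₁ (map_zero _)
  have hw₂0 : w₂ ≠ 0 := by
    rintro rfl
    exact hk₁w₂ (map_zero _)
  have hStabH₁ : ∀ w ∈ W₁, w ≠ 0 → ∀ g : G, ρ g w = w → g ∈ H := by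
    intro w hw hw0 g hg
    by_contra hgH
    have := hsw₁ g hgH w hw
    rw [hg] at this
    exact hw0 (hdisj w hw this)
  have hStabH₂ : ∀ w ∈ W₂, w ≠ 0 → ∀ g : G, ρ g w = w → g ∈ H := by
    intro w hw hw0 g hg
    by_contra hgH
    have := hsw₂ g hgH w hw
    rw [hg] at this
    exact hw0 (hdisj w this hw)
  have hsplit : ∀ u₁ ∈ W₁, ∀ u₂ ∈ W₂, ∀ g ∈ H, ρ g (u₁ + u₂) = u₁ + u₂ →
      ρ g u₁ = u₁ ∧ ρ g u₂ = u₂ := by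
    intro u₁ hu₁ u₂ hu₂ g hg h
    rw [map_add] at h
    exact huniq _ (hHW₁ g hg u₁ hu₁) _ (hHW₂ g hg u₂ hu₂) u₁ hu₁ u₂ hu₂ h
  have hsum0 : ∀ u₁ ∈ W₁, u₁ ≠ 0 → ∀ u₂ ∈ W₂, u₁ + u₂ ≠ 0 := by
    intro u₁ hu₁ hu₁0 u₂ hu₂ h
    have h1 : u₁ = -u₂ := eq_neg_of_add_eq_zero_left h
    exact hu₁0 (hdisj u₁ hu₁ (by rw [h1]; exact W₂.neg_mem hu₂))
  have hcardL : ∀ u₁ ∈ W₁, u₁ ≠ 0 → ∀ u₂ ∈ W₂, u₂ ≠ 0 →
      Nat.card (Stab ρ (u₁ + u₂)) ≤ 2 * Nat.card (Stab ρ u₁ ⊓ Stab ρ u₂ : Subgroup G) := by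
    intro u₁ hu₁ hu₁0 u₂ hu₂ hu₂0
    have h1 := card_le_two_mul_inf (Stab ρ (u₁ + u₂)) H hH
    have h2 : Stab ρ (u₁ + u₂) ⊓ H ≤ Stab ρ u₁ ⊓ Stab ρ u₂ := by
      intro g hg
      obtain ⟨hg1, hg2⟩ := Subgroup.mem_inf.mp hg
      exact Subgroup.mem_inf.mpr (hsplit u₁ hu₁ u₂ hu₂ g hg2 hg1)
    have h3 := Subgroup.card_le_of_le h2
    omega
  have hbot : Stab ρ w₁ ⊓ Stab ρ w₂ = ⊥ := by
    rw [eq_bot_iff]
    intro d hd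
    obtain ⟨hd1, hd2⟩ := Subgroup.mem_inf.mp hd
    rw [Subgroup.mem_bot]
    apply htriv
    · intro w'' hw''
      have hcard : ∀ w ∈ W₁, w ≠ 0 → Nat.card (Stab ρ w₂) ≤
          2 * Nat.card (Stab ((ρ.comp (Stab ρ w₂).subtype)) w) := by
        intro w hw hw0
        rw [card_stab_comp_subtype]
        have := hcardL w hw hw0 w₂ hw₂ hw₂0
        rw [hh (w + w₂) w₂ (hsum0 w hw hw0 w₂ hw₂) hw₂0, inf_comm] at this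
        exact this
      exact orb2 (ρ.comp (Stab ρ w₂).subtype) hq2 W₁ hcard ⟨k₂, hk₂W w₂ hw₂⟩ w₁ hw₁ hk₂w₁
        ⟨d, hd2⟩ hd1 w'' hw''
    · intro w'' hw''
      have hcard : ∀ w ∈ W₂, w ≠ 0 → Nat.card (Stab ρ w₁) ≤
          2 * Nat.card (Stab ((ρ.comp (Stab ρ w₁).subtype)) w) := by
        intro w hw hw0
        rw [card_stab_comp_subtype]
        have := hcardL w₁ hw₁ hw₁0 w hw hw0
        rw [hh (w₁ + w) w₁ (hsum0 w₁ hw₁ hw₁0 w hw) hw₁0] at this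
        exact this
      exact orb2 (ρ.comp (Stab ρ w₁).subtype) hq2 W₂ hcard ⟨k₁, hk₁W w₁ hw₁⟩ w₂ hw₂ hk₁w₂
        ⟨d, hd1⟩ hd2 w'' hw''
  have hs1 : Nat.card (Stab ρ w₁) = 2 := by
    have h1 := hcardL w₁ hw₁ hw₁0 w₂ hw₂ hw₂0
    rw [hh (w₁ + w₂) w₁ (hsum0 w₁ hw₁ hw₁0 w₂ hw₂) hw₁0, hbot, Subgroup.card_bot] at h1
    have h2 : Nat.card (Stab ρ w₁) ≠ 1 := by
      intro h
      have h3 := stab_eq_bot_of_card ρ w₁ h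
      have h4 : k₁ ∈ Stab ρ w₁ := hk₁W w₁ hw₁
      rw [h3, Subgroup.mem_bot] at h4
      exact hk₁ h4
    have h5 : 0 < Nat.card (Stab ρ w₁) := Nat.card_pos
    omega
  have hs : ∀ v : V, v ≠ 0 → Nat.card (Stab ρ v) = 2 := by
    intro v hv
    rw [hh v w₁ hv hw₁0, hs1]
  refine ⟨hs, ?_⟩
  intro u₁ hu₁ hu₁0 u₂ hu₂ hu₂0
  have hv0 := hsum0 u₁ hu₁ hu₁0 u₂ hu₂
  have hne : Stab ρ (u₁ + u₂) ≠ ⊥ := by
    intro h
    have := hs _ hv0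
    rw [h, Subgroup.card_bot] at this
    omega
  obtain ⟨t, ht1⟩ := (Subgroup.ne_bot_iff_exists_ne_one).mp hne
  have htv : ρ (t : G) (u₁ + u₂) = u₁ + u₂ := t.2
  have ht1' : (t : G) ≠ 1 := fun h => ht1 (Subtype.ext h)
  have hk12 : k₁ ≠ k₂ := by
    intro h
    apply hk₁
    apply htriv k₁ hk₁W
    rw [h]
    exact hk₂W
  have hnotH : ∀ g : G, g ∈ H → ρ g (u₁ + u₂) = u₁ + u₂ → g = 1 := by
    intro g hgH hg
    by_contra hg1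
    obtain ⟨h1, h2⟩ := hsplit u₁ hu₁ u₂ hu₂ g hgH hg
    have e1 : g = k₁ := eq_of_card_two (Stab ρ u₁) (hs u₁ hu₁0) h1 (hk₁W u₁ hu₁) hg1 hk₁
    have e2 : g = k₂ := eq_of_card_two (Stab ρ u₂) (hs u₂ hu₂0) h2 (hk₂W u₂ hu₂) hg1 hk₂
    exact hk12 (e1.symm.trans e2)
  have htH : (t : G) ∉ H := fun h => ht1' (hnotH _ h htv)
  have h2 := htv
  rw [map_add, add_comm] at h2
  obtain ⟨e1, e2⟩ := huniq _ (hsw₂ _ htH u₂ hu₂) _ (hsw₁ _ htH u₁ hu₁) u₁ hu₁ u₂ hu₂ h2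
  refine ⟨t, htH, e2, e1, ?_⟩
  apply hnotH _ (Subgroup.mul_self_mem_of_index_two hH _)
  rw [ImprimP.rho_mul, htv, htv]

/-- second part: identification of the group -/
theorem imprim2 (hq2 : q ≠ 2) (hG2 : IsPGroup 2 G) (hρ : Function.Injective ρ) (hh : HalfT ρ)
    (H : Subgroup G) (hH : H.index = 2) (W₁ W₂ : Submodule (ZMod q) V) (hc : IsCompl W₁ W₂)
    (hHW₁ : ∀ h ∈ H, ∀ w ∈ W₁, ρ h w ∈ W₁) (hHW₂ : ∀ h ∈ H, ∀ w ∈ W₂, ρ h w ∈ W₂)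
    (k₁ : G) (hk₁H : k₁ ∈ H) (hk₁ : k₁ ≠ 1) (hk₁W : ∀ w ∈ W₁, ρ k₁ w = w)
    (k₂ : G) (hk₂H : k₂ ∈ H) (hk₂ : k₂ ≠ 1) (hk₂W : ∀ w ∈ W₂, ρ k₂ w = w)
    (hsw₁ : ∀ g : G, g ∉ H → ∀ w ∈ W₁, ρ g w ∈ W₂)
    (hsw₂ : ∀ g : G, g ∉ H → ∀ w ∈ W₂, ρ g w ∈ W₁) :
    (Nat.card V = q ^ 2 ∧ (∃ m : ℕ, q = 2 ^ m + 1) ∧
      ∃ e : V ≃ₗ[ZMod q] (Fin 2 → ZMod q),
        ∀ f : (Fin 2 → ZMod q) ≃ₗ[ZMod q] (Fin 2 → ZMod q),
        (∃ g : G, f = e.symm.trans ((ρ g).trans e)) ↔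
        ∃ a s : ZMod q, a ≠ 0 ∧ (s = 1 ∨ s = -1) ∧
          ((∀ v, f v = ![a * v 0, s * a⁻¹ * v 1]) ∨ (∀ v, f v = ![s * a⁻¹ * v 1, a * v 0]))) ∨
    (Nat.card V = 81 ∧ q = 3) := by
  obtain ⟨hs, key⟩ := imprim2_key ρ hq2 hρ hh H hH W₁ W₂ hc hHW₁ hHW₂ k₁ hk₁ hk₁W k₂ hk₂ hk₂W
    hsw₁ hsw₂
  have hdisj : ∀ x ∈ W₁, x ∈ W₂ → x = 0 := fun x h1 h2 =>
    Submodule.disjoint_def.mp hc.disjoint x h1 h2
  have hdec : ∀ v : V, ∃ u₁ ∈ W₁, ∃ u₂ ∈ W₂, u₁ + u₂ = v := by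
    intro v
    have hv : v ∈ W₁ ⊔ W₂ := by
      rw [hc.sup_eq_top]
      trivial
    exact Submodule.mem_sup.mp hv
  have huniq : ∀ a₁ ∈ W₁, ∀ a₂ ∈ W₂, ∀ b₁ ∈ W₁, ∀ b₂ ∈ W₂, a₁ + a₂ = b₁ + b₂ →
      a₁ = b₁ ∧ a₂ = b₂ := by
    intro a₁ ha₁ a₂ ha₂ b₁ hb₁ b₂ hb₂ h
    have h1 : a₁ - b₁ = b₂ - a₂ := by
      rw [sub_eq_sub_iff_add_eq_add, h, add_comm]
    have h2 : a₁ - b₁ = 0 :=
      hdisj _ (W₁.sub_mem ha₁ hb₁) (by rw [h1]; exact W₂.sub_mem hb₂ ha₂)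
    have h3 : b₂ - a₂ = 0 := by rw [← h1, h2]
    exact ⟨sub_eq_zero.mp h2, (sub_eq_zero.mp h3).symm⟩
  have htriv : ∀ g : G, (∀ w ∈ W₁, ρ g w = w) → (∀ w ∈ W₂, ρ g w = w) → g = 1 := by
    intro g h1 h2
    apply hρ
    rw [map_one]
    ext v
    obtain ⟨u₁, hu₁, u₂, hu₂, rfl⟩ := hdec v
    show ρ g (u₁ + u₂) = u₁ + u₂
    rw [map_add, h1 u₁ hu₁, h2 u₂ hu₂]
  obtain ⟨w₁, hw₁, hk₂w₁⟩ : ∃ w₁ ∈ W₁, ρ k₂ w₁ ≠ w₁ := by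
    by_contra hne
    apply hk₂
    apply htriv k₂ _ hk₂W
    intro w hw
    by_contra h
    exact hne ⟨w, hw, h⟩
  obtain ⟨w₂, hw₂, hk₁w₂⟩ : ∃ w₂ ∈ W₂, ρ k₁ w₂ ≠ w₂ := by
    by_contra hne
    apply hk₁
    apply htriv k₁ hk₁W
    intro w hw
    by_contra h
    exact hne ⟨w, hw, h⟩
  have hw₁0 : w₁ ≠ 0 := by
    rintro rfl
    exact hk₂w₁ (map_zero _)
  have hw₂0 : w₂ ≠ 0 := by
    rintro rfl
    exact hk₁w₂ (map_zero _)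
  obtain ⟨t₀, ht₀H, ht₀1, ht₀2, ht₀sq⟩ := key w₁ hw₁ hw₁0 w₂ hw₂ hw₂0
  have ht₀t₀ : ∀ u : V, ρ t₀ (ρ t₀ u) = u := by
    intro u
    rw [← ImprimP.rho_mul, ht₀sq, ImprimP.rho_one]
  -- transitivity of `H` on the nonzero vectors of `W₁`
  have htrans : ∀ u ∈ W₁, u ≠ 0 → ∀ u' ∈ W₁, u' ≠ 0 → ∃ h ∈ H, ρ h u = u' := by
    intro u hu hu0 u' hu' hu'0
    have h1 : ρ t₀ u ∈ W₂ := hsw₁ t₀ ht₀H u hu
    have h2 : ρ t₀ u ≠ 0 := fun h => hu0 ((LinearEquiv.map_eq_zero_iff _).mp h)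
    obtain ⟨t, htH, ht1, ht2, -⟩ := key u' hu' hu'0 (ρ t₀ u) h1 h2
    refine ⟨t * t₀, ?_, ?_⟩
    · rw [Subgroup.mul_mem_iff_of_index_two hH]
      exact ⟨fun h => absurd h htH, fun h => absurd h ht₀H⟩
    · rw [ImprimP.rho_mul, ht2]
  -- the restriction of `H` to `W₁`
  haveI : Nontrivial W₁ := ⟨⟨⟨w₁, hw₁⟩, 0, fun h => hw₁0 (congrArg Subtype.val h)⟩⟩
  have R : (q = 2 ∧ 2 = Nat.card W₁ - 1 ∧ True) ∨ (Nat.card W₁ = q ∧ ∃ m : ℕ, q = 2 ^ m + 1) ∨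
      (q = 3 ∧ Nat.card W₁ = 9) := by
    have hresF : Finite (resHom ρ H W₁ hHW₁).range :=
      Finite.of_surjective (resHom ρ H W₁ hHW₁).rangeRestrict
        (resHom ρ H W₁ hHW₁).rangeRestrict_surjective
    have hresN : Nontrivial (resHom ρ H W₁ hHW₁).range := by
      refine ⟨⟨⟨resHom ρ H W₁ hHW₁ ⟨k₂, hk₂H⟩, ⟨_, rfl⟩⟩, 1, ?_⟩⟩
      intro h
      have h1 : resHom ρ H W₁ hHW₁ ⟨k₂, hk₂H⟩ = 1 := congrArg Subtype.val h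
      have h2 : ((resHom ρ H W₁ hHW₁ ⟨k₂, hk₂H⟩ ⟨w₁, hw₁⟩ : W₁) : V) = w₁ := by
        rw [h1]
        rfl
      rw [resHom_apply] at h2
      exact hk₂w₁ h2
    have hP : IsPGroup 2 (resHom ρ H W₁ hHW₁).range :=
      (hG2.to_subgroup H).of_surjective (resHom ρ H W₁ hHW₁).rangeRestrict
        (resHom ρ H W₁ hHW₁).rangeRestrict_surjective
    have hinj : Function.Injective (resHom ρ H W₁ hHW₁).range.subtype :=
      Subgroup.subtype_injective _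
    have htr : ∀ v w : W₁, v ≠ 0 → w ≠ 0 →
        ∃ g : (resHom ρ H W₁ hHW₁).range, (resHom ρ H W₁ hHW₁).range.subtype g v = w := by
      intro v w hv hw
      obtain ⟨h, hhH, hh'⟩ := htrans v.1 v.2 (fun h => hv (Subtype.ext h)) w.1 w.2
        (fun h => hw (Subtype.ext h))
      refine ⟨⟨resHom ρ H W₁ hHW₁ ⟨h, hhH⟩, ⟨_, rfl⟩⟩, ?_⟩
      apply Subtype.ext
      exact hh'
    rcases Cfsg.Agent.S3370.result q (p := 2) hP (resHom ρ H W₁ hHW₁).range.subtype hinj htr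
      with ⟨h1, h2, -⟩ | ⟨-, h2, ⟨m, hm, -⟩, -⟩ | ⟨-, h2, h3, -⟩
    · exact Or.inl ⟨h1, h2, trivial⟩
    · exact Or.inr (Or.inl ⟨h2, m, hm⟩)
    · exact Or.inr (Or.inr ⟨h2, h3⟩)
  have hW₂card : Nat.card W₂ = Nat.card W₁ := by
    apply Nat.card_congr
    exact
      { toFun := fun u => ⟨ρ t₀ u.1, hsw₂ t₀ ht₀H u.1 u.2⟩
        invFun := fun u => ⟨ρ t₀ u.1, hsw₁ t₀ ht₀H u.1 u.2⟩
        left_inv := fun u => Subtype.ext (ht₀t₀ u.1)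
        right_inv := fun u => Subtype.ext (ht₀t₀ u.1) }
  have hVcard : Nat.card V = Nat.card W₁ * Nat.card W₂ := by
    rw [← Nat.card_prod]
    exact (Nat.card_congr (Submodule.prodEquivOfIsCompl W₁ W₂ hc).toEquiv).symm
  rcases R with ⟨h1, -, -⟩ | ⟨hWq, m, hm⟩ | ⟨hq3, h9⟩
  · exact absurd h1 hq2
  swap
  · right
    exact ⟨by rw [hVcard, hW₂card, h9], hq3⟩
  left
  refine ⟨by rw [hVcard, hW₂card, hWq, pow_two], ⟨m, hm⟩, ?_⟩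
  have hspan₁ : ∀ u ∈ W₁, ∃ c : ZMod q, u = c • w₁ := by
    intro u hu
    have hinj : Function.Injective (fun c : ZMod q => (⟨c • w₁, W₁.smul_mem c hw₁⟩ : W₁)) := by
      intro c c' h
      have h1 : c • w₁ = c' • w₁ := congrArg Subtype.val h
      exact smul_left_injective (ZMod q) hw₁0 h1
    have hbij := hinj.bijective_of_nat_card_le (by rw [hWq, Nat.card_zmod])
    obtain ⟨c, hc'⟩ := hbij.2 ⟨u, hu⟩
    exact ⟨c, (congrArg Subtype.val hc').symm⟩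
  have hspan₂ : ∀ u ∈ W₂, ∃ c : ZMod q, u = c • w₂ := by
    intro u hu
    obtain ⟨c, hc'⟩ := hspan₁ (ρ t₀ u) (hsw₂ t₀ ht₀H u hu)
    refine ⟨c, ?_⟩
    rw [← ht₀t₀ u, hc', map_smul, ht₀1]
  let Lmap : (Fin 2 → ZMod q) →ₗ[ZMod q] V :=
    (LinearMap.proj 0 : (Fin 2 → ZMod q) →ₗ[ZMod q] ZMod q).smulRight w₁ +
      (LinearMap.proj 1 : (Fin 2 → ZMod q) →ₗ[ZMod q] ZMod q).smulRight w₂
  have hL : ∀ c, Lmap c = c 0 • w₁ + c 1 • w₂ := fun c => rfl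
  have hLinj : Function.Injective Lmap := by
    rw [injective_iff_map_eq_zero]
    intro c hc'
    rw [hL] at hc'
    obtain ⟨h1, h2⟩ := huniq _ (W₁.smul_mem (c 0) hw₁) _ (W₂.smul_mem (c 1) hw₂) 0 W₁.zero_mem 0
      W₂.zero_mem (by rw [hc', add_zero])
    have h1' : c 0 = 0 := by
      rcases smul_eq_zero.mp h1 with h | h
      · exact h
      · exact absurd h hw₁0
    have h2' : c 1 = 0 := by
      rcases smul_eq_zero.mp h2 with h | h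
      · exact h
      · exact absurd h hw₂0
    funext i
    fin_cases i
    · exact h1'
    · exact h2'
  have hLsurj : Function.Surjective Lmap := by
    intro v
    obtain ⟨u₁, hu₁, u₂, hu₂, rfl⟩ := hdec v
    obtain ⟨a, rfl⟩ := hspan₁ u₁ hu₁
    obtain ⟨b, rfl⟩ := hspan₂ u₂ hu₂
    exact ⟨![a, b], by rw [hL]; simp⟩
  let e₀ := LinearEquiv.ofBijective Lmap ⟨hLinj, hLsurj⟩
  refine ⟨e₀.symm, ?_⟩
  have he : ∀ x y : ZMod q, e₀.symm (x • w₁ + y • w₂) = ![x, y] := by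
    intro x y
    rw [LinearEquiv.symm_apply_eq]
    show _ = Lmap ![x, y]
    rw [hL]
    simp
  have hes : ∀ c, e₀.symm.symm c = c 0 • w₁ + c 1 • w₂ := fun c => hL c
  have hcomp1 : ∀ (g : G) (a b : ZMod q), ρ g w₁ = a • w₁ → ρ g w₂ = b • w₂ →
      ∀ v, (e₀.symm.symm.trans ((ρ g).trans e₀.symm)) v = ![a * v 0, b * v 1] := by
    intro g a b h1 h2 v
    show e₀.symm (ρ g (e₀.symm.symm v)) = _
    rw [hes, map_add, map_smul, map_smul, h1, h2, smul_smul, smul_smul, he, mul_comm (v 0),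
      mul_comm (v 1)]
  have hcomp2 : ∀ (g : G) (a b : ZMod q), ρ g w₁ = a • w₂ → ρ g w₂ = b • w₁ →
      ∀ v, (e₀.symm.symm.trans ((ρ g).trans e₀.symm)) v = ![b * v 1, a * v 0] := by
    intro g a b h1 h2 v
    show e₀.symm (ρ g (e₀.symm.symm v)) = _
    rw [hes, map_add, map_smul, map_smul, h1, h2, smul_smul, smul_smul, add_comm, he,
      mul_comm (v 0), mul_comm (v 1)]
  have hk₁sq : k₁ * k₁ = 1 := by
    by_contra h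
    have h1 : k₁ * k₁ ∈ Stab ρ w₁ := by
      show ρ (k₁ * k₁) w₁ = w₁
      rw [ImprimP.rho_mul, hk₁W w₁ hw₁, hk₁W w₁ hw₁]
    have h2 := eq_of_card_two (Stab ρ w₁) (hs w₁ hw₁0) h1 (hk₁W w₁ hw₁) h hk₁
    exact hk₁ (mul_left_cancel (h2.trans (mul_one k₁).symm))
  have hk₁neg : ρ k₁ w₂ = (-1 : ZMod q) • w₂ := by
    obtain ⟨c, hc'⟩ := hspan₂ (ρ k₁ w₂) (hHW₂ k₁ hk₁H w₂ hw₂)
    have h1 : ρ k₁ (ρ k₁ w₂) = w₂ := by rw [← ImprimP.rho_mul, hk₁sq, ImprimP.rho_one]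
    rw [hc', map_smul, hc', smul_smul] at h1
    have h2 : c * c = 1 := by
      have : (c * c) • w₂ = (1 : ZMod q) • w₂ := by rw [h1, one_smul]
      exact smul_left_injective (ZMod q) hw₂0 this
    rcases mul_self_eq_one_iff.mp h2 with h | h
    · exfalso
      apply hk₁w₂
      rw [hc', h, one_smul]
    · rw [hc', h]
  have hd : ∀ y : ZMod q, y ≠ 0 → ∃ d ∈ H, ρ d w₁ = y⁻¹ • w₁ ∧ ρ d w₂ = y • w₂ := by
    intro y hy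
    have hyw : y • w₂ ≠ 0 := smul_ne_zero hy hw₂0
    obtain ⟨t, htH, ht1, ht2, -⟩ := key w₁ hw₁ hw₁0 (y • w₂) (W₂.smul_mem y hw₂) hyw
    have ht3 : ρ t w₂ = y⁻¹ • w₁ := by
      rw [map_smul] at ht2
      rw [← ht2, smul_smul, inv_mul_cancel₀ hy, one_smul]
    refine ⟨t * t₀, ?_, ?_, ?_⟩
    · rw [Subgroup.mul_mem_iff_of_index_two hH]
      exact ⟨fun h => absurd h htH, fun h => absurd h ht₀H⟩
    · rw [ImprimP.rho_mul, ht₀1, ht3]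
    · rw [ImprimP.rho_mul, ht₀2, ht1]
  have hab : ∀ h ∈ H, ∀ a b : ZMod q, ρ h w₁ = a • w₁ → ρ h w₂ = b • w₂ →
      a ≠ 0 ∧ (a * b = 1 ∨ a * b = -1) := by
    intro h hhH a b h1 h2
    have ha : a ≠ 0 := by
      rintro rfl
      rw [zero_smul] at h1
      exact hw₁0 ((LinearEquiv.map_eq_zero_iff _).mp h1)
    refine ⟨ha, ?_⟩
    obtain ⟨d, hdH, hd1, hd2⟩ := hd a ha
    have hg1 : ρ (h * d) w₁ = w₁ := by
      rw [ImprimP.rho_mul, hd1, map_smul, h1, smul_smul, inv_mul_cancel₀ ha, one_smul]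
    have hg2 : ρ (h * d) w₂ = (a * b) • w₂ := by
      rw [ImprimP.rho_mul, hd2, map_smul, h2, smul_smul]
    by_cases hone : h * d = 1
    · left
      rw [hone, ImprimP.rho_one] at hg2
      have : (1 : ZMod q) • w₂ = (a * b) • w₂ := by
        rw [one_smul]
        exact hg2
      exact (smul_left_injective (ZMod q) hw₂0 this).symm
    · right
      have := eq_of_card_two (Stab ρ w₁) (hs w₁ hw₁0) hg1 (hk₁W w₁ hw₁) hone hk₁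
      rw [this, hk₁neg] at hg2
      exact (smul_left_injective (ZMod q) hw₂0 hg2).symm
  intro f
  constructor
  · rintro ⟨g, rfl⟩
    by_cases hgH : g ∈ H
    · obtain ⟨a, ha'⟩ := hspan₁ (ρ g w₁) (hHW₁ g hgH w₁ hw₁)
      obtain ⟨b, hb'⟩ := hspan₂ (ρ g w₂) (hHW₂ g hgH w₂ hw₂)
      obtain ⟨ha, hab'⟩ := hab g hgH a b ha' hb'
      have hb : a * b * a⁻¹ = b := by
        rw [mul_comm a b, mul_assoc, mul_inv_cancel₀ ha, mul_one]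
      refine ⟨a, a * b, ha, hab', Or.inl ?_⟩
      intro v
      rw [hcomp1 g a b ha' hb' v, hb]
    · have hhH : t₀ * g ∈ H := by
        rw [Subgroup.mul_mem_iff_of_index_two hH]
        exact ⟨fun h => absurd h ht₀H, fun h => absurd h hgH⟩
      obtain ⟨a, ha'⟩ := hspan₁ (ρ (t₀ * g) w₁) (hHW₁ _ hhH w₁ hw₁)
      obtain ⟨b, hb'⟩ := hspan₂ (ρ (t₀ * g) w₂) (hHW₂ _ hhH w₂ hw₂)
      obtain ⟨ha, hab'⟩ := hab _ hhH a b ha' hb'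
      have hb : a * b * a⁻¹ = b := by
        rw [mul_comm a b, mul_assoc, mul_inv_cancel₀ ha, mul_one]
      have hg : ∀ u, ρ g u = ρ t₀ (ρ (t₀ * g) u) := by
        intro u
        rw [← ImprimP.rho_mul, ← mul_assoc, ht₀sq, one_mul]
      have h1 : ρ g w₁ = a • w₂ := by rw [hg, ha', map_smul, ht₀1]
      have h2 : ρ g w₂ = b • w₁ := by rw [hg, hb', map_smul, ht₀2]
      refine ⟨a, a * b, ha, hab', Or.inr ?_⟩
      intro v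
      rw [hcomp2 g a b h1 h2 v, hb]
  · rintro ⟨a, s, ha, hs', hform⟩
    have hex : ∃ h ∈ H, ρ h w₁ = a • w₁ ∧ ρ h w₂ = (s * a⁻¹) • w₂ := by
      obtain ⟨d, hdH, hd1, hd2⟩ := hd a⁻¹ (inv_ne_zero ha)
      rw [inv_inv] at hd1
      rcases hs' with rfl | rfl
      · exact ⟨d, hdH, hd1, by rw [one_mul]; exact hd2⟩
      · refine ⟨d * k₁, H.mul_mem hdH hk₁H, ?_, ?_⟩
        · rw [ImprimP.rho_mul, hk₁W w₁ hw₁, hd1]
        · rw [ImprimP.rho_mul, hk₁neg, map_smul, hd2, smul_smul]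
    obtain ⟨h, hhH, h1, h2⟩ := hex
    rcases hform with hf | hf
    · refine ⟨h, ?_⟩
      apply LinearEquiv.ext
      intro v
      rw [hf v, hcomp1 h a (s * a⁻¹) h1 h2 v]
    · refine ⟨t₀ * h, ?_⟩
      apply LinearEquiv.ext
      intro v
      have h1' : ρ (t₀ * h) w₁ = a • w₂ := by rw [ImprimP.rho_mul, h1, map_smul, ht₀1]
      have h2' : ρ (t₀ * h) w₂ = (s * a⁻¹) • w₁ := by rw [ImprimP.rho_mul, h2, map_smul, ht₀2]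
      rw [hf v, hcomp2 _ a (s * a⁻¹) h1' h2' v]

end imprim2

end Cfsg.Agent.Helper56.HT
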