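import Mathlib
import Cfsg.Agent.Lib.Helper56.HalfTransE

set_option autoImplicit false
set_option linter.unusedSectionVars false
set_option linter.style.haveILetI false
set_option maxHeartbeats 1600000

/-! Half-transitive linear `p`-groups: from a system of imprimitivity with `p` blocks to `p = 2`
and the final identification. -/

namespace Cfsg.Agent.Helper56.HT

open Cfsg.Agent.Helper63 Cfsg.Agent.S3370

section imprim

variable {q : ℕ} [Fact q.Prime] {V : Type*} [AddCommGroup V] [Module (ZMod q) V] [Finite V]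
  [Nontrivial V] {G : Type*} [Group G] [Finite G] (ρ : G →* (V ≃ₗ[ZMod q] V))

theorem p_eq_two (p : ℕ) [Fact p.Prime] (hρ : Function.Injective ρ) (hh : HalfT ρ)
    (H : Subgroup G) (W : Fin p → Submodule (ZMod q) V)
    (hsup : iSup W = ⊤) (hind : iSupIndep W)
    (hHW : ∀ h ∈ H, ∀ i, ∀ w ∈ W i, ρ h w ∈ W i)
    (hK : ∀ i, ∃ h ∈ H, h ≠ 1 ∧ ∀ w ∈ W i, ρ h w = w)
    (hperm : ∀ g : G, g ∉ H → ∃ σ : Equiv.Perm (Fin p), orderOf σ = p ∧
      ∀ i, (W i).map (ρ g : V →ₗ[ZMod q] V) = W (σ i)) : p = 2 := by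
  by_contra hp2
  have hpp : p.Prime := Fact.out
  obtain ⟨i₀, hi₀⟩ : ∃ i₀, W i₀ ≠ ⊥ := by
    by_contra hne
    have hall : ∀ i, W i = ⊥ := by
      intro i
      by_contra h
      exact hne ⟨i, h⟩
    have h1 : iSup W = ⊥ := by
      rw [iSup_eq_bot]
      exact hall
    rw [hsup] at h1
    exact top_ne_bot h1
  obtain ⟨w₁, hw₁, hw₁0⟩ := (Submodule.ne_bot_iff _).mp hi₀
  obtain ⟨k, hkH, hk1, hkW⟩ := hK i₀
  obtain ⟨j, w₂, hw₂, hkw₂⟩ : ∃ j, ∃ w₂ ∈ W j, ρ k w₂ ≠ w₂ := by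
    by_contra hne
    apply hk1
    apply hρ
    rw [map_one]
    have hle : iSup W ≤ ImprimP.fixSp ρ k := by
      apply iSup_le
      intro j w hw
      rw [ImprimP.mem_fixSp]
      by_contra h
      exact hne ⟨j, w, hw, h⟩
    rw [hsup] at hle
    ext v
    have : v ∈ ImprimP.fixSp ρ k := hle trivial
    exact (ImprimP.mem_fixSp ρ k v).mp this
  have hji : j ≠ i₀ := by
    rintro rfl
    exact hkw₂ (hkW w₂ hw₂)
  have hw₂0 : w₂ ≠ 0 := by
    rintro rfl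
    exact hkw₂ (map_zero _)
  have hdij : Disjoint (W i₀) (W j) := hind.pairwiseDisjoint hji.symm
  have hdisj : ∀ x ∈ W i₀, x ∈ W j → x = 0 := fun x h1 h2 =>
    Submodule.disjoint_def.mp hdij x h1 h2
  have hv0 : w₁ + w₂ ≠ 0 := by
    intro h
    have h1 : w₁ = -w₂ := eq_neg_of_add_eq_zero_left h
    exact hw₁0 (hdisj w₁ hw₁ (by rw [h1]; exact (W j).neg_mem hw₂))
  have hind3 : ∀ a b c d : Fin p, a ≠ b → a ≠ c → a ≠ d → ∀ x ∈ W a,
      x ∈ W b ⊔ W c ⊔ W d → x = 0 := by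
    intro a b c d hab hac had x hx hx'
    have hle : W b ⊔ W c ⊔ W d ≤ ⨆ (l) (_ : l ≠ a), W l := by
      apply sup_le (sup_le _ _) _
      · exact le_iSup₂_of_le b hab.symm le_rfl
      · exact le_iSup₂_of_le c hac.symm le_rfl
      · exact le_iSup₂_of_le d had.symm le_rfl
    exact Submodule.disjoint_def.mp (hind a) x hx (hle hx')
  have hStabH : ∀ g : G, ρ g (w₁ + w₂) = w₁ + w₂ → g ∈ H := by
    intro g hg
    by_contra hgH
    obtain ⟨σ, hσ, hmap⟩ := hperm g hgH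
    have h1 : ρ g w₁ ∈ W (σ i₀) := by
      rw [← hmap i₀]
      exact Submodule.mem_map_of_mem hw₁
    have h2 : ρ g w₂ ∈ W (σ j) := by
      rw [← hmap j]
      exact Submodule.mem_map_of_mem hw₂
    rw [map_add] at hg
    have hσij : σ i₀ ≠ σ j := fun h => hji (σ.injective h).symm
    have hgw₁ : ρ g w₁ ≠ 0 := fun h => hw₁0 ((LinearEquiv.map_eq_zero_iff _).mp h)
    have hgw₂ : ρ g w₂ ≠ 0 := fun h => hw₂0 ((LinearEquiv.map_eq_zero_iff _).mp h)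
    have e1 : σ i₀ = j := by
      by_contra hne
      apply hgw₁
      apply hind3 (σ i₀) i₀ j (σ j) (perm_no_fixed σ hσ i₀) hne hσij _ h1
      have : ρ g w₁ = w₁ + w₂ - ρ g w₂ := by
        rw [← hg]
        abel
      rw [this]
      exact Submodule.sub_mem _ (Submodule.mem_sup_left (Submodule.add_mem_sup hw₁ hw₂))
        (Submodule.mem_sup_right h2)
    have e2 : σ j = i₀ := by
      by_contra hne
      apply hgw₂
      apply hind3 (σ j) i₀ j (σ i₀) hne (perm_no_fixed σ hσ j) hσij.symm _ h2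
      have : ρ g w₂ = w₁ + w₂ - ρ g w₁ := by
        rw [← hg]
        abel
      rw [this]
      exact Submodule.sub_mem _ (Submodule.mem_sup_left (Submodule.add_mem_sup hw₁ hw₂))
        (Submodule.mem_sup_right h1)
    have hσ2 : orderOf (σ ^ 2) = p := by
      rw [Nat.Coprime.orderOf_pow]
      · exact hσ
      · rw [hσ]
        exact (Nat.coprime_primes hpp Nat.prime_two).mpr hp2
    apply perm_no_fixed (σ ^ 2) hσ2 i₀
    rw [pow_two, Equiv.Perm.mul_apply, e1, e2]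
  have hsub : Stab ρ (w₁ + w₂) ≤ Stab ρ w₁ ⊓ Stab ρ w₂ := by
    intro g hg
    have hgH := hStabH g hg
    have hg' : ρ g (w₁ + w₂) = w₁ + w₂ := hg
    rw [map_add] at hg'
    have h1 : ρ g w₁ - w₁ = w₂ - ρ g w₂ := by
      rw [sub_eq_sub_iff_add_eq_add, hg', add_comm]
    have h2 : ρ g w₁ - w₁ = 0 :=
      hdisj _ (Submodule.sub_mem _ (hHW g hgH i₀ w₁ hw₁) hw₁)
        (by rw [h1]; exact Submodule.sub_mem _ hw₂ (hHW g hgH j w₂ hw₂))
    have h3 : w₂ - ρ g w₂ = 0 := by rw [← h1, h2]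
    exact Subgroup.mem_inf.mpr ⟨sub_eq_zero.mp h2, (sub_eq_zero.mp h3).symm⟩
  have e1 : Stab ρ (w₁ + w₂) = Stab ρ w₁ :=
    Subgroup.eq_of_le_of_card_ge (hsub.trans inf_le_left) (by rw [hh w₁ (w₁ + w₂) hw₁0 hv0])
  have e2 : Stab ρ (w₁ + w₂) = Stab ρ w₂ :=
    Subgroup.eq_of_le_of_card_ge (hsub.trans inf_le_right) (by rw [hh w₂ (w₁ + w₂) hw₂0 hv0])
  have : k ∈ Stab ρ w₂ := by
    rw [← e2, e1]
    exact hkW w₁ hw₁
  exact hkw₂ this

theorem imprim_case (p : ℕ) [Fact p.Prime] (hpq : p ≠ q) (hG : IsPGroup p G)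
    (hρ : Function.Injective ρ) (hh : HalfT ρ)
    (H : Subgroup G) (W : Fin p → Submodule (ZMod q) V) (hHi : H.index = p)
    (hsup : iSup W = ⊤) (hind : iSupIndep W)
    (hHW : ∀ h ∈ H, ∀ i, ∀ w ∈ W i, ρ h w ∈ W i)
    (hK : ∀ i, ∃ h ∈ H, h ≠ 1 ∧ ∀ w ∈ W i, ρ h w = w)
    (hperm : ∀ g : G, g ∉ H → ∃ σ : Equiv.Perm (Fin p), orderOf σ = p ∧
      ∀ i, (W i).map (ρ g : V →ₗ[ZMod q] V) = W (σ i)) :
    p = 2 ∧ ((Nat.card V = q ^ 2 ∧ (∃ m : ℕ, q = 2 ^ m + 1) ∧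
      ∃ e : V ≃ₗ[ZMod q] (Fin 2 → ZMod q),
        ∀ f : (Fin 2 → ZMod q) ≃ₗ[ZMod q] (Fin 2 → ZMod q),
        (∃ g : G, f = e.symm.trans ((ρ g).trans e)) ↔
        ∃ a s : ZMod q, a ≠ 0 ∧ (s = 1 ∨ s = -1) ∧
          ((∀ v, f v = ![a * v 0, s * a⁻¹ * v 1]) ∨ (∀ v, f v = ![s * a⁻¹ * v 1, a * v 0]))) ∨
    (Nat.card V = 81 ∧ q = 3)) := by
  have hp2 := p_eq_two ρ p hρ hh H W hsup hind hHW hK hperm
  subst hp2
  refine ⟨rfl, ?_⟩
  have hq2 : q ≠ 2 := fun h => hpq h.symm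
  have hc : IsCompl (W 0) (W 1) := by
    constructor
    · exact hind.pairwiseDisjoint (by decide : (0 : Fin 2) ≠ 1)
    · rw [codisjoint_iff, eq_top_iff, ← hsup]
      apply iSup_le
      intro i
      fin_cases i
      · exact le_sup_left
      · exact le_sup_right
  have hσ : ∀ σ : Equiv.Perm (Fin 2), orderOf σ = 2 → σ 0 = 1 ∧ σ 1 = 0 := by
    intro σ hσ
    have h0 := perm_no_fixed σ hσ 0
    have h1 := perm_no_fixed σ hσ 1
    constructor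
    · have h2 : (σ 0).val ≠ 0 := fun h => h0 (Fin.ext h)
      have h3 := (σ 0).isLt
      apply Fin.ext
      show (σ 0).val = 1
      omega
    · have h2 : (σ 1).val ≠ 1 := fun h => h1 (Fin.ext h)
      have h3 := (σ 1).isLt
      apply Fin.ext
      show (σ 1).val = 0
      omega
  have hsw₁ : ∀ g : G, g ∉ H → ∀ w ∈ W 0, ρ g w ∈ W 1 := by
    intro g hg w hw
    obtain ⟨σ, hσo, hmap⟩ := hperm g hg
    rw [← (hσ σ hσo).1, ← hmap 0]
    exact Submodule.mem_map_of_mem hw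
  have hsw₂ : ∀ g : G, g ∉ H → ∀ w ∈ W 1, ρ g w ∈ W 0 := by
    intro g hg w hw
    obtain ⟨σ, hσo, hmap⟩ := hperm g hg
    rw [← (hσ σ hσo).2, ← hmap 1]
    exact Submodule.mem_map_of_mem hw
  obtain ⟨k₁, hk₁H, hk₁, hk₁W⟩ := hK 0
  obtain ⟨k₂, hk₂H, hk₂, hk₂W⟩ := hK 1
  exact imprim2 ρ hq2 hG hρ hh H hHi (W 0) (W 1) hc (fun h hh' => hHW h hh' 0)
    (fun h hh' => hHW h hh' 1) k₁ hk₁H hk₁ hk₁W k₂ hk₂H hk₂ hk₂W hsw₁ hsw₂

end imprim

end Cfsg.Agent.Helper56.HT
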