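import Mathlib
import Cfsg.Agent.Lib.Helper93.MD0

/-!
# MD project (helper93 server, S2140): piece (E) `caseI_false` (helper56)
-/

set_option autoImplicit false

namespace Cfsg.Agent.Helper56.MD

open Module Cfsg.Agent.Helper93.McL Cfsg.Agent.Helper93.MD

section helpers

variable {F V : Type*} [Field F] [AddCommGroup V] [Module F V]
variable {Ω : Type*} [MulAction ↥(SLV F V) Ω]

variable (F) in
/-- `ℓ(u)`: the common kernel of all `φ` with `φ u = 0` whose transvection `stv u φ` fixes `ω₀`. -/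
def eEll (ω₀ : Ω) (u : V) : Submodule F V where
  carrier := {x | ∀ φ : Dual F V, φ u = 0 → stv u φ • ω₀ = ω₀ → φ x = 0}
  add_mem' := by
    intro a b ha hb φ h1 h2
    rw [map_add, ha φ h1 h2, hb φ h1 h2, add_zero]
  zero_mem' := by
    intro φ _ _
    exact map_zero φ
  smul_mem' := by
    intro c x hx φ h1 h2
    rw [map_smul, hx φ h1 h2, smul_zero]

theorem e_mem_ell {ω₀ : Ω} {u x : V} :
    x ∈ eEll F ω₀ u ↔ ∀ φ : Dual F V, φ u = 0 → stv u φ • ω₀ = ω₀ → φ x = 0 := Iff.rfl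

theorem e_ell_iff_span {ω₀ : Ω} {u v : V}
    (hP : ∀ φ : Dual F V, φ u = 0 → (stv u φ • ω₀ = ω₀ ↔ φ v = 0)) (x : V) :
    x ∈ eEll F ω₀ u ↔ x ∈ Submodule.span F {u, v} := by
  constructor
  · intro hx
    by_contra hnot
    obtain ⟨φ, hφx, hφW⟩ := Submodule.exists_le_ker_of_notMem hnot
    have hφu : φ u = 0 := LinearMap.mem_ker.mp (hφW (Submodule.subset_span (by simp)))
    have hφv : φ v = 0 := LinearMap.mem_ker.mp (hφW (Submodule.subset_span (by simp)))
    exact hφx (hx φ hφu ((hP φ hφu).mpr hφv))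
  · intro hx φ hφu hfix
    have hφv := (hP φ hφu).mp hfix
    obtain ⟨a, b, rfl⟩ := Submodule.mem_span_pair.mp hx
    simp [hφu, hφv]

theorem e_map {ω₀ : Ω} (h : ↥(SLV F V)) (hh : h • ω₀ = ω₀) {u x : V} (hx : x ∈ eEll F ω₀ u) :
    (h : V ≃ₗ[F] V) x ∈ eEll F ω₀ ((h : V ≃ₗ[F] V) u) := by
  intro ψ hψ hfix
  have hφu : (ψ ∘ₗ ((h : V ≃ₗ[F] V) : V →ₗ[F] V)) u = 0 := by simpa using hψ
  have hconj : stv u (ψ ∘ₗ ((h : V ≃ₗ[F] V) : V →ₗ[F] V)) =
      h⁻¹ * stv ((h : V ≃ₗ[F] V) u) ψ * h := by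
    apply Subtype.ext
    have h1 := conj_tv (h : V ≃ₗ[F] V) u (ψ ∘ₗ ((h : V ≃ₗ[F] V) : V →ₗ[F] V))
    have h2 : (ψ ∘ₗ ((h : V ≃ₗ[F] V) : V →ₗ[F] V)) ∘ₗ
        (((h : V ≃ₗ[F] V)).symm : V →ₗ[F] V) = ψ := by
      ext y; simp
    rw [h2] at h1
    simp only [Subgroup.coe_mul, Subgroup.coe_inv, coe_stv]
    rw [← h1]; group
  have hinv : h⁻¹ • ω₀ = ω₀ := by rw [inv_smul_eq_iff, hh]
  have hfix' : stv u (ψ ∘ₗ ((h : V ≃ₗ[F] V) : V →ₗ[F] V)) • ω₀ = ω₀ := by
    rw [hconj, mul_smul, mul_smul, hh, hfix, hinv]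
  have h3 := hx _ hφu hfix'
  simpa using h3

theorem e_smul {ω₀ : Ω} {c : F} (hc : c ≠ 0) (u x : V) :
    x ∈ eEll F ω₀ (c • u) ↔ x ∈ eEll F ω₀ u := by
  have hstv : ∀ φ : Dual F V, stv (c • u) φ = stv u (c • φ) :=
    fun φ => Subtype.ext (tv_smul_swap c u φ)
  constructor
  · intro hx φ hφu hfix
    have h1 : (c⁻¹ • φ) (c • u) = 0 := by simp [hφu]
    have h2 : stv (c • u) (c⁻¹ • φ) • ω₀ = ω₀ := by
      rw [hstv, smul_smul, mul_inv_cancel₀ hc, one_smul]; exact hfix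
    have h3 := hx _ h1 h2
    have h4 : c⁻¹ * φ x = 0 := by simpa using h3
    rcases mul_eq_zero.mp h4 with h | h
    · exact absurd h (inv_ne_zero hc)
    · exact h
  · intro hx φ hφu hfix
    have h1 : (c • φ) u = 0 := by
      have h0 : φ (c • u) = 0 := hφu
      rw [map_smul] at h0
      simpa using h0
    have h2 : stv u (c • φ) • ω₀ = ω₀ := by rw [← hstv]; exact hfix
    have h3 := hx _ h1 h2
    have h4 : c * φ x = 0 := by simpa using h3
    rcases mul_eq_zero.mp h4 with h | h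
    · exact absurd h hc
    · exact h

theorem e_pair_swap {p p' w w' : V} (hp : p ∈ Submodule.span F {w, w'})
    (hp' : p' ∈ Submodule.span F {w, w'})
    (hind : ∀ a b : F, a • p + b • p' = 0 → a = 0 ∧ b = 0) : w ∈ Submodule.span F {p, p'} := by
  obtain ⟨a, b, hab⟩ := Submodule.mem_span_pair.mp hp
  obtain ⟨c, d, hcd⟩ := Submodule.mem_span_pair.mp hp'
  have h1 : d • p + (-b) • p' = (a * d - b * c) • w := by rw [← hab, ← hcd]; module
  have h2 : c • p + (-a) • p' = (-(a * d - b * c)) • w' := by rw [← hab, ← hcd]; module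
  by_cases hD : a * d - b * c = 0
  · rw [hD, zero_smul] at h1
    rw [hD, neg_zero, zero_smul] at h2
    obtain ⟨_, hb0⟩ := hind _ _ h1
    obtain ⟨_, ha0⟩ := hind _ _ h2
    have hb0' : b = 0 := neg_eq_zero.mp hb0
    have ha0' : a = 0 := neg_eq_zero.mp ha0
    have hp0 : p = 0 := by rw [← hab, ha0', hb0']; simp
    have h3 := hind 1 0 (by rw [hp0]; simp)
    exact absurd h3.1 one_ne_zero
  · rw [Submodule.mem_span_pair]
    refine ⟨(a * d - b * c)⁻¹ * d, (a * d - b * c)⁻¹ * (-b), ?_⟩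
    have h3 : w = (a * d - b * c)⁻¹ • ((a * d - b * c) • w) := by
      rw [smul_smul, inv_mul_cancel₀ hD, one_smul]
    rw [h3, ← h1, smul_add, smul_smul, smul_smul]

theorem e_sub {ω₀ : Ω}
    (hI : ∀ u : V, u ≠ 0 → ∃ v : V, v ∉ Submodule.span F {u} ∧
        ∀ φ : Dual F V, φ u = 0 → (stv u φ • ω₀ = ω₀ ↔ φ v = 0))
    {u p : V} (hu : u ≠ 0) (hp : p ≠ 0) (hpu : p ∈ eEll F ω₀ u) :
    ∀ x ∈ eEll F ω₀ p, x ∈ eEll F ω₀ u := by
  obtain ⟨v, hv, hPv⟩ := hI u hu
  obtain ⟨p', hp', hPp⟩ := hI p hp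
  have huu : u ∈ eEll F ω₀ u := fun φ h _ => h
  by_cases hps : p ∈ Submodule.span F {u}
  · obtain ⟨c, rfl⟩ := Submodule.mem_span_singleton.mp hps
    have hc : c ≠ 0 := by rintro rfl; simp at hp
    intro x hx
    exact (e_smul hc u x).mp hx
  · intro x hx
    by_contra hxu
    obtain ⟨φ, hφx, hφW⟩ := Submodule.exists_le_ker_of_notMem hxu
    have hφu : φ u = 0 := LinearMap.mem_ker.mp (hφW huu)
    have hφp : φ p = 0 := LinearMap.mem_ker.mp (hφW hpu)
    have hvmem : v ∈ eEll F ω₀ u := (e_ell_iff_span hPv v).mpr (Submodule.subset_span (by simp))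
    have hφv : φ v = 0 := LinearMap.mem_ker.mp (hφW hvmem)
    have hfix : stv u φ • ω₀ = ω₀ := (hPv φ hφu).mpr hφv
    have htp : ((stv u φ : ↥(SLV F V)) : V ≃ₗ[F] V) p = p := by
      rw [coe_stv, tv_apply hφu, hφp, zero_smul, add_zero]
    have htx : ((stv u φ : ↥(SLV F V)) : V ≃ₗ[F] V) x = x + φ x • u := by
      rw [coe_stv, tv_apply hφu]
    have h1 := e_map (stv u φ) hfix hx
    rw [htp, htx] at h1
    have h2 : φ x • u ∈ eEll F ω₀ p := by
      have h0 := (eEll F ω₀ p).sub_mem h1 hx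
      simpa using h0
    have hup : u ∈ eEll F ω₀ p := by
      have h0 := (eEll F ω₀ p).smul_mem (φ x)⁻¹ h2
      rwa [smul_smul, inv_mul_cancel₀ hφx, one_smul] at h0
    obtain ⟨a, b, hab⟩ := Submodule.mem_span_pair.mp ((e_ell_iff_span hPp u).mp hup)
    have hb : b ≠ 0 := by
      rintro rfl
      rw [zero_smul, add_zero] at hab
      have ha : a ≠ 0 := by rintro rfl; rw [zero_smul] at hab; exact hu hab.symm
      apply hps
      rw [Submodule.mem_span_singleton]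
      exact ⟨a⁻¹, by rw [← hab, smul_smul, inv_mul_cancel₀ ha, one_smul]⟩
    have hp'u : p' ∈ eEll F ω₀ u := by
      have h0 : p' = b⁻¹ • (u - a • p) := by
        rw [← hab, add_sub_cancel_left, smul_smul, inv_mul_cancel₀ hb, one_smul]
      rw [h0]
      exact (eEll F ω₀ u).smul_mem _ ((eEll F ω₀ u).sub_mem huu ((eEll F ω₀ u).smul_mem _ hpu))
    obtain ⟨c, d, hcd⟩ := Submodule.mem_span_pair.mp ((e_ell_iff_span hPp x).mp hx)
    apply hxu
    rw [← hcd]
    exact (eEll F ω₀ u).add_mem ((eEll F ω₀ u).smul_mem _ hpu) ((eEll F ω₀ u).smul_mem _ hp'u)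

end helpers

variable {F V : Type*} [Field F] [Fintype F] [AddCommGroup V] [Module F V] [FiniteDimensional F V]

/-! ## (E) case (I) is impossible -/

theorem caseI_false {Ω : Type*} [Finite Ω] [Nonempty Ω] [MulAction ↥(SLV F V) Ω] (hn : 3 ≤ finrank F V)
    (hI : ∀ u : V, u ≠ 0 → ∀ ω : Ω, ∃ v : V, v ∉ Submodule.span F {u} ∧
        ∀ φ : Dual F V, φ u = 0 → (stv u φ • ω = ω ↔ φ v = 0)) : False := by
  classical
  obtain ⟨ω₀⟩ := ‹Nonempty Ω›
  have hI' : ∀ u : V, u ≠ 0 → ∃ v : V, v ∉ Submodule.span F {u} ∧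
      ∀ φ : Dual F V, φ u = 0 → (stv u φ • ω₀ = ω₀ ↔ φ v = 0) := fun u hu => hI u hu ω₀
  haveI : Nontrivial V := Module.nontrivial_of_finrank_pos (R := F) (by omega)
  obtain ⟨u, hu⟩ := exists_ne (0 : V)
  obtain ⟨v, hv, hPv⟩ := hI' u hu
  have huu : u ∈ eEll F ω₀ u := fun φ h _ => h
  obtain ⟨w, hw⟩ : ∃ w : V, w ∉ eEll F ω₀ u := by
    by_contra hall
    push_neg at hall
    have htop : Submodule.span F ({u, v} : Set V) = ⊤ := by
      rw [eq_top_iff]
      intro x _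
      exact (e_ell_iff_span hPv x).mp (hall x)
    have h1 : finrank F ↥(Submodule.span F ((({u, v} : Finset V)) : Set V)) ≤
        ({u, v} : Finset V).card := finrank_span_finset_le_card _
    have h2 : ((({u, v} : Finset V)) : Set V) = {u, v} := by simp
    rw [h2, htop, finrank_top] at h1
    have h3 : ({u, v} : Finset V).card ≤ 2 := Finset.card_le_two
    omega
  have hw0 : w ≠ 0 := by
    rintro rfl
    exact hw (eEll F ω₀ u).zero_mem
  obtain ⟨w', hw', hPw⟩ := hI' w hw0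
  have hww : w ∈ eEll F ω₀ w := fun φ h _ => h
  have hdisj : ∀ x : V, x ∈ eEll F ω₀ w → x ∈ eEll F ω₀ u → x = 0 := by
    intro p hpw hpu
    by_contra hp0
    obtain ⟨p', hp', hPp⟩ := hI' p hp0
    have sub1 := e_sub hI' hu hp0 hpu
    have sub2 := e_sub hI' hw0 hp0 hpw
    have hpp : p ∈ eEll F ω₀ p := fun φ h _ => h
    have hp'p : p' ∈ eEll F ω₀ p :=
      (e_ell_iff_span hPp p').mpr (Submodule.subset_span (by simp))
    have hind : ∀ a b : F, a • p + b • p' = 0 → a = 0 ∧ b = 0 := by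
      intro a b hab
      have hb : b = 0 := by
        by_contra hb
        apply hp'
        rw [Submodule.mem_span_singleton]
        refine ⟨-(b⁻¹ * a), ?_⟩
        have h0 : b • p' = -(a • p) := by
          rw [eq_neg_iff_add_eq_zero, add_comm]
          exact hab
        calc (-(b⁻¹ * a)) • p = b⁻¹ • (-(a • p)) := by rw [neg_smul, mul_smul, smul_neg]
          _ = b⁻¹ • (b • p') := by rw [h0]
          _ = p' := by rw [smul_smul, inv_mul_cancel₀ hb, one_smul]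
      subst hb
      rw [zero_smul, add_zero] at hab
      rcases smul_eq_zero.mp hab with h | h
      · exact ⟨h, rfl⟩
      · exact absurd h hp0
    have hwsp : w ∈ Submodule.span F {p, p'} :=
      e_pair_swap ((e_ell_iff_span hPw p).mp (sub2 p hpp))
        ((e_ell_iff_span hPw p').mp (sub2 p' hp'p)) hind
    exact hw (sub1 w ((e_ell_iff_span hPp w).mpr hwsp))
  have hw'w : w' ∈ eEll F ω₀ w := (e_ell_iff_span hPw w').mpr (Submodule.subset_span (by simp))
  have hw'W : w' ∉ eEll F ω₀ u ⊔ Submodule.span F {w} := by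
    intro hmem
    obtain ⟨y, hy, z, hz, hyz⟩ := Submodule.mem_sup.mp hmem
    obtain ⟨c, rfl⟩ := Submodule.mem_span_singleton.mp hz
    have hyw : y ∈ eEll F ω₀ w := by
      have h0 : y = w' - c • w := by rw [← hyz]; abel
      rw [h0]
      exact (eEll F ω₀ w).sub_mem hw'w ((eEll F ω₀ w).smul_mem _ hww)
    have hy0 := hdisj y hyw hy
    apply hw'
    rw [Submodule.mem_span_singleton]
    exact ⟨c, by rw [← hyz, hy0, zero_add]⟩
  obtain ⟨φ, hφw', hφW⟩ := Submodule.exists_le_ker_of_notMem hw'W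
  have hφu : φ u = 0 := LinearMap.mem_ker.mp (hφW (Submodule.mem_sup_left huu))
  have hvmem : v ∈ eEll F ω₀ u := (e_ell_iff_span hPv v).mpr (Submodule.subset_span (by simp))
  have hφv : φ v = 0 := LinearMap.mem_ker.mp (hφW (Submodule.mem_sup_left hvmem))
  have hφw : φ w = 0 :=
    LinearMap.mem_ker.mp (hφW (Submodule.mem_sup_right (Submodule.mem_span_singleton_self w)))
  have hfix : stv u φ • ω₀ = ω₀ := (hPv φ hφu).mpr hφv
  have htw : ((stv u φ : ↥(SLV F V)) : V ≃ₗ[F] V) w = w := by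
    rw [coe_stv, tv_apply hφu, hφw, zero_smul, add_zero]
  have htw' : ((stv u φ : ↥(SLV F V)) : V ≃ₗ[F] V) w' = w' + φ w' • u := by
    rw [coe_stv, tv_apply hφu]
  have h1 := e_map (stv u φ) hfix hw'w
  rw [htw, htw'] at h1
  have h2 : φ w' • u ∈ eEll F ω₀ w := by
    have h0 := (eEll F ω₀ w).sub_mem h1 hw'w
    simpa using h0
  have huw : u ∈ eEll F ω₀ w := by
    have h0 := (eEll F ω₀ w).smul_mem (φ w')⁻¹ h2
    rwa [smul_smul, inv_mul_cancel₀ hφw', one_smul] at h0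
  exact hu (hdisj u huw huu)

end Cfsg.Agent.Helper56.MD
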