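import Mathlib

/-!
# O5760 (C36d) (helper56, for helper7's O5760 server, S0980)
-/

set_option autoImplicit false
set_option linter.style.haveILetI false
set_option linter.unusedVariables false

namespace Cfsg.Agent.Helper56.O5760

universe u v

theorem h56_mem_normalizer_of_conj_mem {G : Type u} [Group G] [Finite G] (D : Subgroup G) (x : G)
    (h : ∀ d ∈ D, x * d * x⁻¹ ∈ D) : x ∈ Subgroup.normalizer (D : Set G) := by
  rw [Subgroup.mem_normalizer_iff]
  intro y
  constructor
  · exact h y
  · intro hy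
    let f : D → D := fun d => ⟨x * d * x⁻¹, h d d.2⟩
    have hinj : Function.Injective f := by
      intro a b hab
      have h1 : x * (a : G) * x⁻¹ = x * (b : G) * x⁻¹ := congrArg Subtype.val hab
      ext
      exact mul_left_cancel (mul_right_cancel h1)
    have hsurj := Finite.injective_iff_surjective.mp hinj
    obtain ⟨d, hd⟩ := hsurj ⟨x * y * x⁻¹, hy⟩
    have h1 : x * (d : G) * x⁻¹ = x * y * x⁻¹ := congrArg Subtype.val hd
    have h2 : (d : G) = y := mul_left_cancel (mul_right_cancel h1)
    rw [← h2]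
    exact d.2

theorem h56_card_mul_relIndex {G : Type u} [Group G] [Finite G] (H K : Subgroup G) (h : H ≤ K) :
    Nat.card H * H.relIndex K = Nat.card K := by
  have h1 := Subgroup.card_mul_index (H.subgroupOf K)
  rw [Nat.card_congr (Subgroup.subgroupOfEquivOfLe h).toEquiv] at h1
  exact h1

/-- (C36d) -/
theorem false_of_thirtysix {G : Type u} [Group G] [Finite G] [IsSimpleGroup G] (hG : Nat.card G = 5760)
    (R : Sylow 5 G) (hR : Nat.card (R : Subgroup G) = 5)
    (hN : Nat.card (Subgroup.normalizer ((R : Subgroup G) : Set G)) = 160)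
    (hmax : ∀ Y : Subgroup G, Subgroup.normalizer ((R : Subgroup G) : Set G) ≤ Y →
      Y = Subgroup.normalizer ((R : Subgroup G) : Set G) ∨ Y = ⊤)
    (K : Subgroup G) (hKC : K ≤ Subgroup.centralizer ((R : Subgroup G) : Set G))
    (hKcard : Nat.card K = 8 ∨ Nat.card K = 16)
    (hKnorm : ∀ n ∈ Subgroup.normalizer ((R : Subgroup G) : Set G), ∀ k ∈ K, n * k * n⁻¹ ∈ K)
    (T : Subgroup G) (g : G) (hTN : T ≤ Subgroup.normalizer ((R : Subgroup G) : Set G))
    (hT : Nat.card T = 32) (hKT : K ≤ T)
    (hgN : g ∉ Subgroup.normalizer ((R : Subgroup G) : Set G))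
    (hgT : ∀ t : G, t ∈ T ↔ g * t * g⁻¹ ∈ T) (hgg : g * g ∈ T) : False := by
  classical
  set N : Subgroup G := Subgroup.normalizer ((R : Subgroup G) : Set G) with hNdef
  set K' : Subgroup G := K.map (MulAut.conj g).toMonoidHom with hK'def
  have hmemK' : ∀ y : G, y ∈ K' ↔ ∃ k ∈ K, g * k * g⁻¹ = y := by
    intro y
    rw [hK'def, Subgroup.mem_map]
    simp only [MulEquiv.coe_toMonoidHom, MulAut.conj_apply]
  have hK'T : K' ≤ T := by
    intro y hy
    obtain ⟨k, hk, rfl⟩ := (hmemK' y).1 hy
    exact (hgT k).1 (hKT hk)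
  have hK'card : Nat.card K' = Nat.card K := by
    rw [hK'def]
    exact Subgroup.card_map_of_injective (MulAut.conj g).injective
  set D : Subgroup G := K ⊓ K' with hDdef
  have hDK : D ≤ K := inf_le_left
  have hDT : D ≤ T := hDK.trans hKT
  -- |D| ≥ 2
  have hDcard : 2 ≤ Nat.card D := by
    have h1 := h56_card_mul_relIndex K T hKT
    have h2 := h56_card_mul_relIndex K' T hK'T
    have h3 := h56_card_mul_relIndex D T hDT
    have h4 : D.relIndex T ≤ K.relIndex T * K'.relIndex T := Subgroup.relIndex_inf_le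
    rw [hT] at h1 h2 h3
    rw [hK'card] at h2
    by_contra hlt
    push_neg at hlt
    have hD1 : Nat.card D = 1 := by
      have : Nat.card D ≠ 0 := by
        intro h0
        rw [h0, zero_mul] at h3
        norm_num at h3
      omega
    rw [hD1, one_mul] at h3
    rcases hKcard with h8 | h16
    · rw [h8] at h1 h2
      have : K.relIndex T = 4 := by omega
      have : K'.relIndex T = 4 := by omega
      nlinarith
    · rw [h16] at h1 h2
      have : K.relIndex T = 2 := by omega
      have : K'.relIndex T = 2 := by omega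
      nlinarith
  have hDbot : D ≠ ⊥ := by
    intro h
    rw [h, Subgroup.card_bot] at hDcard
    norm_num at hDcard
  have hDtop : D ≠ ⊤ := by
    intro h
    have h1 : Nat.card D ≤ Nat.card K := Subgroup.card_le_of_le hDK
    rw [h, Subgroup.card_top, hG] at h1
    rcases hKcard with h8 | h16
    · rw [h8] at h1; norm_num at h1
    · rw [h16] at h1; norm_num at h1
  -- R normalizes D
  have hRD : (R : Subgroup G) ≤ Subgroup.normalizer (D : Set G) := by
    intro r hr
    apply h56_mem_normalizer_of_conj_mem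
    intro d hd
    have hdC : d ∈ Subgroup.centralizer ((R : Subgroup G) : Set G) := hKC (hDK hd)
    rw [Subgroup.mem_centralizer_iff] at hdC
    have h1 : r * d = d * r := hdC r hr
    have : r * d * r⁻¹ = d := by rw [h1, mul_inv_cancel_right]
    rw [this]
    exact hd
  -- T normalizes D
  have hTD : T ≤ Subgroup.normalizer (D : Set G) := by
    intro t ht
    apply h56_mem_normalizer_of_conj_mem
    intro d hd
    have hd' : d ∈ K ∧ d ∈ K' := Subgroup.mem_inf.1 hd
    refine Subgroup.mem_inf.2 ⟨hKnorm t (hTN ht) d hd'.1, ?_⟩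
    obtain ⟨k, hk, rfl⟩ := (hmemK' d).1 hd'.2
    have ht' : g⁻¹ * t * g ∈ T := by
      rw [hgT]
      have : g * (g⁻¹ * t * g) * g⁻¹ = t := by group
      rw [this]
      exact ht
    rw [hmemK']
    refine ⟨(g⁻¹ * t * g) * k * (g⁻¹ * t * g)⁻¹, hKnorm _ (hTN ht') k hk, ?_⟩
    group
  -- g normalizes D
  have hgD : g ∈ Subgroup.normalizer (D : Set G) := by
    apply h56_mem_normalizer_of_conj_mem
    intro d hd
    have hd' : d ∈ K ∧ d ∈ K' := Subgroup.mem_inf.1 hd
    refine Subgroup.mem_inf.2 ⟨?_, ?_⟩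
    · obtain ⟨k, hk, rfl⟩ := (hmemK' d).1 hd'.2
      have h1 := hKnorm (g * g) (hTN hgg) k hk
      have : g * (g * k * g⁻¹) * g⁻¹ = g * g * k * (g * g)⁻¹ := by group
      rw [this]
      exact h1
    · rw [hmemK']
      exact ⟨d, hd'.1, rfl⟩
  -- N = R ⊔ T
  have hRN : (R : Subgroup G) ≤ N := Subgroup.le_normalizer
  have hsupN : (R : Subgroup G) ⊔ T ≤ N := sup_le hRN hTN
  have hsupcard : Nat.card ((R : Subgroup G) ⊔ T : Subgroup G) = 160 := by
    have h5 : 5 ∣ Nat.card ((R : Subgroup G) ⊔ T : Subgroup G) := by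
      have h := Subgroup.card_dvd_of_le (le_sup_left : (R : Subgroup G) ≤ (R : Subgroup G) ⊔ T)
      rw [hR] at h
      exact h
    have h32 : 32 ∣ Nat.card ((R : Subgroup G) ⊔ T : Subgroup G) := by
      have h := Subgroup.card_dvd_of_le (le_sup_right : T ≤ (R : Subgroup G) ⊔ T)
      rw [hT] at h
      exact h
    have h160 : Nat.card ((R : Subgroup G) ⊔ T : Subgroup G) ∣ 160 := by
      have h := Subgroup.card_dvd_of_le hsupN
      rw [hN] at h
      exact h
    have hcop : Nat.Coprime 5 32 := by norm_num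
    have : 5 * 32 ∣ Nat.card ((R : Subgroup G) ⊔ T : Subgroup G) :=
      Nat.Coprime.mul_dvd_of_dvd_of_dvd hcop h5 h32
    exact Nat.dvd_antisymm h160 (by norm_num at this ⊢; exact this)
  have hsupeq : (R : Subgroup G) ⊔ T = N := by
    apply Subgroup.eq_of_le_of_card_ge hsupN
    rw [hsupcard, hN]
  have hND : N ≤ Subgroup.normalizer (D : Set G) := by
    rw [← hsupeq]
    exact sup_le hRD hTD
  rcases hmax _ hND with h | h
  · apply hgN
    rw [← h]
    exact hgD
  · have hnormal : D.Normal := Subgroup.normalizer_eq_top_iff.1 h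
    rcases hnormal.eq_bot_or_eq_top with hb | ht
    · exact hDbot hb
    · exact hDtop ht

end Cfsg.Agent.Helper56.O5760
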