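import Mathlib
import Cfsg.Agent.S1017
import Cfsg.Agent.S0992
import Cfsg.Agent.Lib.Helper17.Simple
import Cfsg.Agent.Lib.Helper17.Sieve
import Cfsg.Agent.Lib.Helper17.PrimeTIApp3
import Cfsg.Agent.Lib.Helper17.PrimeTID
import Cfsg.Agent.Lib.Helper75.FixKill
import Cfsg.Agent.Lib.Helper87.SVKit
import Cfsg.Agent.Lib.Helper56.O5760C36d

/-!
# O175560 (N17556): no simple group of order 17556 = 2^2 * 3 * 7 * 11 * 19
(helper56, for helper24's O175560 server, S4274)

`n_19 = 77`, `|N(P)| = 228`, `e ∣ 6`, so an involution `u` centralizes `P` (Sylow 19).  Its number of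
fixed points on `Syl_19` is `1 mod 19`, `77 = 1 mod 4`, `< 77`, hence `1`: so `u ^ g ∈ N(P)` implies
`g ∈ N(P)`.  The Sylow 2-subgroup `T ∋ u` is a four-group in `C(u) ≤ N(P)`; an element `g` of order `3`
in `N(T)` (S0992) moves `u`, lies in `N(P)`, so `T ≤ C(P) = K`, `|K| = 76`, `K = P × T` abelian T.I.
with `C(k) ≤ K`, `|N(K) : K| = 3`.  The degree equation (`e = 3`, `t = 25`) gives two degrees
`≡ ±1 mod 76` dividing `17556`, both `77`, and the exceptional degree `155`, which does not divide.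
-/

set_option autoImplicit false
set_option linter.style.haveILetI false
set_option linter.unusedSectionVars false
set_option linter.unusedVariables false

namespace Cfsg.Agent.Helper56.O175560

open Nat MulAction Cfsg Cfsg.Agent.Helper17 Cfsg.Agent.Helper17.Sieve Cfsg.Agent.Helper75.FixKill
  Cfsg.Agent.Helper87.SV Cfsg.Agent.Helper17.PrimeTI Cfsg.Agent.Helper56.O5760

universe u

set_option maxHeartbeats 1000000 in
/-- **Abelian T.I. subgroup with `|N(K) : K| = 3`**: the analogue of `frob3_normalizer_degrees`. -/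
theorem h56_ti3_degrees {G : Type u} [Group G] [Fintype G]
    (hperf : commutator G = ⊤) (K : Subgroup G) (m t : ℕ)
    (hTI : ∀ g : G, g ∉ Subgroup.normalizer (K : Set G) → ∀ k ∈ K, g * k * g⁻¹ ∈ K → k = 1)
    (hlt : K < Subgroup.normalizer (K : Set G))
    (hC : ∀ k ∈ K, k ≠ 1 → Subgroup.centralizer ({k} : Set G) ≤ K)
    (hab : ∀ a ∈ K, ∀ b ∈ K, a * b = b * a)
    (he : K.relIndex (Subgroup.normalizer (K : Set G)) = 3)
    (hK : Nat.card K = m)
    (hte : t * 3 + 1 = m) (ht : 2 ≤ t) (hsq : ∀ w : ℤ, w ^ 2 ≠ t + 1) :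
    ∃ x₁ x₂ : ℕ, 1 < x₁ ∧ 1 < x₂ ∧ x₁ ∣ Nat.card G ∧ x₂ ∣ Nat.card G ∧
      ((m ∣ x₁ - 1 ∧ m ∣ x₂ - 1 ∧ 1 + x₁ + x₂ ∣ Nat.card G) ∨
       (m ∣ x₁ - 1 ∧ m ∣ x₂ + 1 ∧ (1 + x₁ - x₂ ∣ Nat.card G ∨ x₂ - x₁ - 1 ∣ Nat.card G)) ∨
       (m ∣ x₁ + 1 ∧ m ∣ x₂ - 1 ∧ (1 + x₂ - x₁ ∣ Nat.card G ∨ x₁ - x₂ - 1 ∣ Nat.card G)) ∨
       (m ∣ x₁ + 1 ∧ m ∣ x₂ + 1 ∧ x₁ + x₂ - 1 ∣ Nat.card G)) := by
  classical
  obtain ⟨w, d, E, a, hEcard, hEdeg, hEne, haE, haK, hcong, hnorm, hdegeq, -, -⟩ :=
    ti_degree_equation_ext K hTI hlt hC hab 3 t he (by rw [hK]; exact hte) ht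
  rw [hK] at hcong hnorm
  set ψ1 : IrrCharacter G := ⟨fun _ => 1, Cfsg.Agent.Helper81.isIrrCharacter_one⟩ with hψ1
  have hψ1E : ψ1 ∉ E := fun h => hEne ψ1 h rfl
  obtain ⟨k, hk, hk1⟩ : ∃ k ∈ K, k ≠ 1 := by
    have h1 : 1 < Nat.card K := by rw [hK]; omega
    rw [Subgroup.one_lt_card_iff_ne_bot] at h1
    obtain ⟨k, hk⟩ := (Subgroup.ne_bot_iff_exists_ne_one (H := K)).1 h1
    exact ⟨(k : G), k.2, fun h => hk (Subtype.ext h)⟩
  have ha1 : a ψ1 = 1 := by
    have h := haK ψ1 hψ1E k hk hk1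
    have h' : ((1 : ℤ) : ℂ) = ((a ψ1 : ℤ) : ℂ) := by
      rw [← h]; simp [hψ1]
    exact_mod_cast h'.symm
  have hdeg1 : charDegree (ψ1 : G → ℂ) = 1 := charDegree_one
  have hd : d ∣ Nat.card G := by
    obtain ⟨ψ, hψ⟩ := Finset.card_pos.1 (by omega : 0 < E.card)
    rw [← hEdeg ψ hψ]
    exact Cfsg.Agent.Helper79.irr_degree_dvd_card ψ
  have hdpos : 0 < d := by
    obtain ⟨ψ, hψ⟩ := Finset.card_pos.1 (by omega : 0 < E.card)
    rw [← hEdeg ψ hψ]
    exact (Cfsg.Agent.Helper79.irr_one_eq ψ).2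
  have hsplit1 := Finset.add_sum_erase Finset.univ (fun ψ => (a ψ) ^ 2) (Finset.mem_univ ψ1)
  have hsplit2 := Finset.add_sum_erase Finset.univ
    (fun ψ => a ψ * (charDegree (ψ : G → ℂ) : ℤ)) (Finset.mem_univ ψ1)
  simp only [ha1, hdeg1] at hsplit1 hsplit2
  have hrest : 0 ≤ ∑ ψ ∈ Finset.univ.erase ψ1, (a ψ) ^ 2 :=
    Finset.sum_nonneg (fun i _ => sq_nonneg _)
  rw [← hsplit1] at hnorm
  rw [← hsplit2] at hdegeq
  have hp2 : (m : ℤ) = 3 * t + 1 := by rw [← hte]; push_cast; ring
  have ht' : (2 : ℤ) ≤ t := by exact_mod_cast ht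
  have hle1 : ∑ ψ ∈ Finset.univ.erase ψ1, (a ψ) ^ 2 ≤ 2 := by
    by_contra hgt
    push Not at hgt
    have h2 : (3 : ℤ) ≤ ∑ ψ ∈ Finset.univ.erase ψ1, (a ψ) ^ 2 := hgt
    nlinarith [sq_nonneg w]
  have hcases : ∑ ψ ∈ Finset.univ.erase ψ1, (a ψ) ^ 2 = 0 ∨
      ∑ ψ ∈ Finset.univ.erase ψ1, (a ψ) ^ 2 = 1 ∨
      ∑ ψ ∈ Finset.univ.erase ψ1, (a ψ) ^ 2 = 2 := by omega
  rcases hcases with h0 | h1 | h2
  · -- only the trivial character: impossible
    exfalso
    have hz := all_zero _ a h0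
    have hs0 : ∑ ψ ∈ Finset.univ.erase ψ1, a ψ * (charDegree (ψ : G → ℂ) : ℤ) = 0 :=
      Finset.sum_eq_zero (fun ψ hψ => by rw [hz ψ hψ, zero_mul])
    rw [hs0] at hdegeq
    rw [h0] at hnorm
    push_cast at hdegeq
    have hdw : (d : ℤ) * w = -1 := by linarith
    have hd0 : (0 : ℤ) ≤ d := by positivity
    have hd1 : (1 : ℤ) ≤ d := by exact_mod_cast hdpos
    have hwneg : w ≤ -1 := by
      by_contra h
      push Not at h
      have : 0 ≤ w := by omega
      nlinarith
    have hwge : -1 ≤ w := by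
      by_contra h
      push Not at h
      have : w ≤ -2 := by omega
      nlinarith
    have hw1 : w = -1 := by omega
    rw [hw1] at hnorm
    nlinarith
  · -- one more character: `w ^ 2 = t + 1`, excluded
    exfalso
    rw [h1] at hnorm
    apply hsq w
    nlinarith
  · -- two more characters
    obtain ⟨X, hX, haX, hrestX⟩ := peel (Finset.univ.erase ψ1) a 1 (by norm_num)
      (by rw [h2]; norm_num)
    obtain ⟨Y, hY, haY, hrestY⟩ := peel ((Finset.univ.erase ψ1).erase X) a 0 (by norm_num)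
      (by rw [hrestX]; norm_num)
    have hXne : X ≠ ψ1 := (Finset.mem_erase.1 hX).1
    have hYne : Y ≠ ψ1 := (Finset.mem_erase.1 (Finset.mem_erase.1 hY).2).1
    have hz := all_zero _ a (by exact_mod_cast hrestY)
    have hsplit3 := Finset.add_sum_erase (Finset.univ.erase ψ1)
      (fun ψ => a ψ * (charDegree (ψ : G → ℂ) : ℤ)) hX
    have hsplit4 := Finset.add_sum_erase ((Finset.univ.erase ψ1).erase X)
      (fun ψ => a ψ * (charDegree (ψ : G → ℂ) : ℤ)) hY
    have hs0 : ∑ ψ ∈ ((Finset.univ.erase ψ1).erase X).erase Y,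
        a ψ * (charDegree (ψ : G → ℂ) : ℤ) = 0 :=
      Finset.sum_eq_zero (fun ψ hψ => by rw [hz ψ hψ, zero_mul])
    rw [hs0, add_zero] at hsplit4
    rw [← hsplit4] at hsplit3
    rw [← hsplit3] at hdegeq
    push_cast at hdegeq
    rw [h2] at hnorm
    have hw1 : w ^ 2 = 1 := by nlinarith
    have hw : w = 1 ∨ w = -1 := by
      have h : (w - 1) * (w + 1) = 0 := by ring_nf; linarith
      rcases mul_eq_zero.1 h with h | h
      · left; linarith
      · right; linarith
    have hnotE : ∀ Z : IrrCharacter G, (a Z = 1 ∨ a Z = -1) → Z ∉ E := by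
      intro Z haZ h
      have := haE Z h
      rcases haZ with h' | h' <;> rw [h'] at this <;> norm_num at this
    have hXE := hnotE X haX
    have hYE := hnotE Y haY
    have hdeg_gt : ∀ Z : IrrCharacter G, Z ≠ ψ1 → 1 < charDegree (Z : G → ℂ) := by
      intro Z hZ
      have hpos : 0 < charDegree (Z : G → ℂ) := (Cfsg.Agent.Helper79.irr_one_eq Z).2
      have hne1 : charDegree (Z : G → ℂ) ≠ 1 := by
        intro h
        apply hZ
        apply Subtype.ext
        exact linear_trivial_of_perfect hperf Z h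
      omega
    have hcX := hcong X hXE
    have hcY := hcong Y hYE
    refine ⟨charDegree (X : G → ℂ), charDegree (Y : G → ℂ), hdeg_gt X hXne, hdeg_gt Y hYne,
      Cfsg.Agent.Helper79.irr_degree_dvd_card X, Cfsg.Agent.Helper79.irr_degree_dvd_card Y, ?_⟩
    have hx2 := hdeg_gt X hXne
    have hy2 := hdeg_gt Y hYne
    set x := charDegree (X : G → ℂ) with hx
    set y := charDegree (Y : G → ℂ) with hy
    have hd0 : (1 : ℤ) ≤ d := by exact_mod_cast hdpos
    have hx2' : (2 : ℤ) ≤ x := by exact_mod_cast hx2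
    have hy2' : (2 : ℤ) ≤ y := by exact_mod_cast hy2
    have cast_sub_one : ∀ n : ℕ, 1 < n → ((n - 1 : ℕ) : ℤ) = (n : ℤ) - 1 := by
      intro n hn
      rw [Nat.cast_sub (by omega)]; simp
    have dvd_sub : ∀ n : ℕ, 1 < n → (m : ℤ) ∣ (n : ℤ) - 1 → m ∣ n - 1 := by
      intro n hn h
      rw [← cast_sub_one n hn] at h
      exact_mod_cast h
    have dvd_add : ∀ n : ℕ, (m : ℤ) ∣ (n : ℤ) - (-1) → m ∣ n + 1 := by
      intro n h
      have : ((n + 1 : ℕ) : ℤ) = (n : ℤ) - (-1) := by push_cast; ring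
      rw [← this] at h
      exact_mod_cast h
    rcases haX with haX | haX <;> rcases haY with haY | haY
    · -- (+, +)
      left
      rw [haX] at hcX hdegeq
      rw [haY] at hcY hdegeq
      refine ⟨dvd_sub x hx2 hcX, dvd_sub y hy2 hcY, ?_⟩
      rcases hw with hw | hw
      · rw [hw] at hdegeq; exfalso; linarith
      · rw [hw] at hdegeq
        have hdx : d = 1 + x + y := by omega
        rw [← hdx]; exact hd
    · -- (+, -)
      right; left
      rw [haX] at hcX hdegeq
      rw [haY] at hcY hdegeq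
      refine ⟨dvd_sub x hx2 hcX, dvd_add y hcY, ?_⟩
      rcases hw with hw | hw
      · rw [hw] at hdegeq
        right
        have hdx : d = y - x - 1 := by omega
        rw [← hdx]; exact hd
      · rw [hw] at hdegeq
        left
        have hdx : d = 1 + x - y := by omega
        rw [← hdx]; exact hd
    · -- (-, +)
      right; right; left
      rw [haX] at hcX hdegeq
      rw [haY] at hcY hdegeq
      refine ⟨dvd_add x hcX, dvd_sub y hy2 hcY, ?_⟩
      rcases hw with hw | hw
      · rw [hw] at hdegeq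
        right
        have hdx : d = x - y - 1 := by omega
        rw [← hdx]; exact hd
      · rw [hw] at hdegeq
        left
        have hdx : d = 1 + y - x := by omega
        rw [← hdx]; exact hd
    · -- (-, -)
      right; right; right
      rw [haX] at hcX hdegeq
      rw [haY] at hcY hdegeq
      refine ⟨dvd_add x hcX, dvd_add y hcY, ?_⟩
      rcases hw with hw | hw
      · rw [hw] at hdegeq
        have hdx : d = x + y - 1 := by omega
        rw [← hdx]; exact hd
      · rw [hw] at hdegeq; exfalso; linarith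

set_option maxRecDepth 100000 in
theorem h56_17556_adm19 : ∀ d ∈ List.range (924 + 1), d ∣ 924 → d % 19 = 1 →
    ¬ Bad (19 ^ 1 * 924) 19 1 924 d → d = 77 := by
  decide +kernel

set_option maxRecDepth 1000000 in
theorem h56_17556_div : ∀ d ∈ List.range (17556 + 1), d ∣ 17556 → 1 < d →
    (d % 76 = 1 ∨ d % 76 = 75) → d = 77 := by
  decide +kernel

set_option maxHeartbeats 2000000 in
/-- no nonabelian simple group of order 17556 -/
theorem h56_no_17556 : NoSimple.{u} 17556 := by
  intro G _ _ _ hna hn0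
  classical
  have h19 : Fact (Nat.Prime 19) := ⟨by norm_num⟩
  have h2 : Fact (Nat.Prime 2) := ⟨by norm_num⟩
  have h3 : Fact (Nat.Prime 3) := ⟨by norm_num⟩
  have hn19 : Nat.card G = 19 ^ 1 * 924 := by rw [hn0]; norm_num
  obtain ⟨hP19, hr19, hd19, hm19, hb19, hone19, he19⟩ :=
    h87_data hna 19 924 (by norm_num) hn19 (by norm_num)
  have hc19 : Nat.card (Sylow 19 G) = 77 := h56_17556_adm19 _ hr19 hd19 hm19 hb19
  obtain ⟨P⟩ : Nonempty (Sylow 19 G) := inferInstance
  have hP : Nat.card (P : Subgroup G) = 19 := hP19 P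
  have h2G : 2 < Nat.card G := by rw [hn0]; norm_num
  -- notation
  obtain ⟨N, hNdef⟩ : ∃ N : Subgroup G, N = Subgroup.normalizer ((P : Subgroup G) : Set G) :=
    ⟨_, rfl⟩
  obtain ⟨K, hKdef⟩ : ∃ K : Subgroup G, K = Subgroup.centralizer ((P : Subgroup G) : Set G) :=
    ⟨_, rfl⟩
  have hKN : K ≤ N := by rw [hKdef, hNdef]; exact Subgroup.centralizer_le_normalizer _
  have hPK : (P : Subgroup G) ≤ K := by
    rw [hKdef]; exact Cfsg.Agent.S1017.le_centralizer_self P hP
  have hNcard : Nat.card N = 228 := by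
    have := h87_card_normalizer P
    rw [hn0, hc19] at this
    rw [hNdef, this]
  obtain ⟨e, he1, he2, he3⟩ := he19 P
  rw [hc19, ← hKdef] at he3
  have hce : Nat.card K * e = 228 := by omega
  have hele : e ≤ 18 := Nat.le_of_dvd (by norm_num) he1
  have h2K : 2 ∣ Nat.card K := by
    generalize Nat.card K = c at hce
    interval_cases e <;> omega
  -- fixed points of an involution of `K` on `Syl_19`
  have hfix : ∀ v : G, orderOf v = 2 → v ∈ K → ∀ Q : Sylow 19 G, v • Q = Q → Q = P := by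
    intro v hv hvK
    have hvK' : v ∈ Subgroup.centralizer ((P : Subgroup G) : Set G) := by rw [← hKdef]; exact hvK
    have hf1 := Cfsg.Agent.S1017.card_fixedBy_sylow_modEq P hP v hvK'
    have hf4 := Cfsg.Agent.S1017.card_fixedBy_mod_four h2G (α := Sylow 19 G) v hv
    have hfle := Cfsg.Agent.S1017.card_fixedBy_le (α := Sylow 19 G) v
    have hv1 : v ≠ 1 := Cfsg.Agent.S1017.ne_one_of_orderOf_prime v Nat.prime_two hv
    have hfne := Cfsg.Agent.S1017.card_fixedBy_ne (α := Sylow 19 G)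
      (Cfsg.Agent.S1017.sylow_action_nontrivial hone19) v hv1
    rw [hc19] at hf4 hfle hfne
    have hf : Nat.card (fixedBy (Sylow 19 G) v) = 1 := by
      unfold Nat.ModEq at hf1 hf4
      omega
    have hPfix : P ∈ fixedBy (Sylow 19 G) v := by
      rw [MulAction.mem_fixedBy]
      have hvN : v ∈ N := hKN hvK
      rw [hNdef] at hvN
      exact Sylow.smul_eq_iff_mem_normalizer.mpr hvN
    intro Q hQ
    have hQfix : Q ∈ fixedBy (Sylow 19 G) v := hQ
    have hsub : Subsingleton (fixedBy (Sylow 19 G) v) := (Nat.card_eq_one_iff_unique.1 hf).1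
    have := Subsingleton.elim (⟨Q, hQfix⟩ : fixedBy (Sylow 19 G) v) ⟨P, hPfix⟩
    exact congrArg Subtype.val this
  have hL1 : ∀ v : G, orderOf v = 2 → v ∈ K → ∀ g : G, g * v * g⁻¹ ∈ N → g ∈ N := by
    intro v hv hvK g hg
    have h2' : (g * v * g⁻¹) • P = P := by
      rw [hNdef] at hg
      exact Sylow.smul_eq_iff_mem_normalizer.mpr hg
    have h1 : v • (g⁻¹ • P) = g⁻¹ • P := by
      calc v • (g⁻¹ • P) = g⁻¹ • ((g * v * g⁻¹) • P) := by
            rw [smul_smul, smul_smul]; congr 1; group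
        _ = g⁻¹ • P := by rw [h2']
    have h3' := hfix v hv hvK _ h1
    have h4 : g⁻¹ ∈ N := by
      rw [hNdef]
      exact Sylow.smul_eq_iff_mem_normalizer.mp h3'
    have := N.inv_mem h4
    rwa [inv_inv] at this
  -- `K` is normalized by `N`
  have hKnorm : ∀ n ∈ N, ∀ y ∈ K, n * y * n⁻¹ ∈ K := by
    intro n hn y hy
    rw [hKdef, Subgroup.mem_centralizer_iff]
    intro z hz
    have hz' : n⁻¹ * z * n ∈ (P : Subgroup G) := by
      have hn' : n⁻¹ ∈ Subgroup.normalizer ((P : Subgroup G) : Set G) := by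
        rw [← hNdef]; exact N.inv_mem hn
      have := (Subgroup.mem_normalizer_iff.1 hn' z).1 hz
      rwa [inv_inv] at this
    have hy' : y ∈ Subgroup.centralizer ((P : Subgroup G) : Set G) := by rw [← hKdef]; exact hy
    have hc : (n⁻¹ * z * n) * y = y * (n⁻¹ * z * n) :=
      (Subgroup.mem_centralizer_iff.1 hy') _ hz'
    calc z * (n * y * n⁻¹) = n * ((n⁻¹ * z * n) * y) * n⁻¹ := by group
      _ = n * (y * (n⁻¹ * z * n)) * n⁻¹ := by rw [hc]
      _ = n * y * n⁻¹ * z := by group
  -- the involution `u`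
  obtain ⟨u', hu'⟩ := exists_prime_orderOf_dvd_card' (G := ↥K) 2 h2K
  obtain ⟨u, hudef⟩ : ∃ u : G, u = (u' : G) := ⟨_, rfl⟩
  have hu : orderOf u = 2 := by rw [hudef, Subgroup.orderOf_coe]; exact hu'
  have huK : u ∈ K := by rw [hudef]; exact u'.2
  have hu1 : u ≠ 1 := Cfsg.Agent.S1017.ne_one_of_orderOf_prime u Nat.prime_two hu
  -- the Sylow 2-subgroup `T`
  obtain ⟨T, huT⟩ := Cfsg.Agent.S1017.exists_sylow_mem_of_orderOf (p := 2) u hu
  have hEven : Even (Nat.card G) := by rw [hn0]; exact ⟨8778, by norm_num⟩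
  have h8 : ¬ 8 ∣ Nat.card G := by rw [hn0]; norm_num
  obtain ⟨hT4, hTrel⟩ := Cfsg.Agent.S0992.result hna hEven h8 T
  haveI := hT4
  have hTcard : Nat.card (T : Subgroup G) = 4 := IsKleinFour.card_four
  have hTsq : ∀ t ∈ (T : Subgroup G), t * t = 1 := by
    intro t ht
    have := IsKleinFour.mul_self (⟨t, ht⟩ : (T : Subgroup G))
    exact congrArg Subtype.val this
  have hTcomm : ∀ a ∈ (T : Subgroup G), ∀ b ∈ (T : Subgroup G), a * b = b * a := by
    intro a ha b hb
    have hc : IsMulCommutative ↥(T : Subgroup G) := IsKleinFour.isMulCommutative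
    have := hc.is_comm.comm (⟨a, ha⟩ : (T : Subgroup G)) ⟨b, hb⟩
    exact congrArg Subtype.val this
  have hTfour : ∀ x ∈ (T : Subgroup G), ∀ y ∈ (T : Subgroup G), ∀ z ∈ (T : Subgroup G),
      x ≠ 1 → y ≠ 1 → x ≠ y → z ≠ 1 → z ≠ x → z ≠ y → z = x * y := by
    intro x hx y hy z hz hx1 hy1 hxy hz1 hzx hzy
    have := IsKleinFour.eq_mul_of_ne_all (G := ↥(T : Subgroup G)) (x := ⟨x, hx⟩) (y := ⟨y, hy⟩)
      (z := ⟨z, hz⟩) (fun h => hx1 (congrArg Subtype.val h)) (fun h => hy1 (congrArg Subtype.val h))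
      (fun h => hxy (congrArg Subtype.val h)) (fun h => hz1 (congrArg Subtype.val h))
      (fun h => hzx (congrArg Subtype.val h)) (fun h => hzy (congrArg Subtype.val h))
    exact congrArg Subtype.val this
  have hTN : (T : Subgroup G) ≤ N := by
    intro t ht
    apply hL1 u hu huK t
    have : t * u * t⁻¹ = u := by rw [hTcomm t ht u huT, mul_inv_cancel_right]
    rw [this]
    exact hKN huK
  -- an element of order 3 in `N(T)`
  obtain ⟨NT, hNTdef⟩ : ∃ NT : Subgroup G, NT = Subgroup.normalizer ((T : Subgroup G) : Set G) :=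
    ⟨_, rfl⟩
  obtain ⟨CT, hCTdef⟩ : ∃ CT : Subgroup G, CT = Subgroup.centralizer ((T : Subgroup G) : Set G) :=
    ⟨_, rfl⟩
  have hCTNT : CT ≤ NT := by rw [hCTdef, hNTdef]; exact Subgroup.centralizer_le_normalizer _
  rw [← hCTdef, ← hNTdef] at hTrel
  have hcardNT : Nat.card CT * 3 = Nat.card NT := by
    have := h56_card_mul_relIndex CT NT hCTNT
    rw [hTrel] at this
    exact this
  have h3NT : 3 ∣ Nat.card NT := ⟨Nat.card CT, by rw [← hcardNT]; ring⟩
  obtain ⟨g', hg'⟩ := exists_prime_orderOf_dvd_card' (G := ↥NT) 3 h3NT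
  obtain ⟨g, hgdef⟩ : ∃ g : G, g = (g' : G) := ⟨_, rfl⟩
  have hg3 : orderOf g = 3 := by rw [hgdef, Subgroup.orderOf_coe]; exact hg'
  have hgNT : g ∈ NT := by rw [hgdef]; exact g'.2
  have hgpow : g ^ 3 = 1 := by rw [← hg3]; exact pow_orderOf_eq_one g
  have hgCT : g ∉ CT := by
    intro hmem
    have h3C : 3 ∣ Nat.card CT := by rw [← hg3]; exact Subgroup.orderOf_dvd_natCard _ hmem
    obtain ⟨k, hk⟩ := h3C
    have h9 : 9 ∣ Nat.card NT := ⟨k, by rw [← hcardNT, hk]; ring⟩
    have hdv : Nat.card NT ∣ Nat.card G := Subgroup.card_subgroup_dvd_card _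
    rw [hn0] at hdv
    have := h9.trans hdv
    omega
  have hgT : ∀ t ∈ (T : Subgroup G), g * t * g⁻¹ ∈ (T : Subgroup G) := by
    intro t ht
    have hg'' : g ∈ Subgroup.normalizer ((T : Subgroup G) : Set G) := by rw [← hNTdef]; exact hgNT
    exact (Subgroup.mem_normalizer_iff.1 hg'' t).1 ht
  -- if `g` fixes an involution of `T` it centralizes `T`
  have hKC : ∀ v ∈ (T : Subgroup G), v ≠ 1 → g * v * g⁻¹ = v →
      ∀ t ∈ (T : Subgroup G), g * t * g⁻¹ = t := by
    intro v hvT hv1 hgv t htT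
    by_cases ht1 : t = 1
    · rw [ht1]; group
    by_cases htv : t = v
    · rw [htv]; exact hgv
    by_contra hst
    have hsT := hgT t htT
    have hs1 : g * t * g⁻¹ ≠ 1 := by
      intro h
      apply ht1
      have : t = g⁻¹ * (g * t * g⁻¹) * g := by group
      rw [this, h]; group
    have hsv : g * t * g⁻¹ ≠ v := by
      intro h
      apply htv
      have h' : g * t * g⁻¹ = g * v * g⁻¹ := by rw [h, hgv]
      exact mul_left_cancel (mul_right_cancel h')
    have hs := hTfour v hvT t htT (g * t * g⁻¹) hsT hv1 ht1 (fun h => htv h.symm) hs1 hsv hst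
    -- `g * s * g⁻¹ = t`
    have h1 : g * (g * t * g⁻¹) * g⁻¹ = t := by
      have : g * (v * t) * g⁻¹ = (g * v * g⁻¹) * (g * t * g⁻¹) := by group
      rw [hs, this, hgv, hs, ← mul_assoc, hTsq v hvT, one_mul]
    have hggg : g * g * g = 1 := by rw [← hgpow, pow_succ, pow_succ, pow_one]
    apply hst
    calc g * t * g⁻¹ = g * (g * (g * t * g⁻¹) * g⁻¹) * g⁻¹ := by rw [h1]
      _ = (g * g * g) * t * (g * g * g)⁻¹ := by group
      _ = t := by rw [hggg]; group
  have hgu : g * u * g⁻¹ ≠ u := by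
    intro h
    apply hgCT
    rw [hCTdef, Subgroup.mem_centralizer_iff]
    intro t ht
    have := hKC u huT hu1 h t ht
    calc t * g = (g * t * g⁻¹) * g := by rw [this]
      _ = g * t := by group
  -- `g ∈ N` and `T ≤ K`
  have ht0T : g * u * g⁻¹ ∈ (T : Subgroup G) := hgT u huT
  have hgN : g ∈ N := hL1 u hu huK g (hTN ht0T)
  have ht0K : g * u * g⁻¹ ∈ K := hKnorm g hgN u huK
  have ht01 : g * u * g⁻¹ ≠ 1 := by
    intro h
    apply hu1
    have : u = g⁻¹ * (g * u * g⁻¹) * g := by group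
    rw [this, h]; group
  have hTK : (T : Subgroup G) ≤ K := by
    intro z hz
    by_cases hz1 : z = 1
    · rw [hz1]; exact K.one_mem
    by_cases hzu : z = u
    · rw [hzu]; exact huK
    by_cases hzt : z = g * u * g⁻¹
    · rw [hzt]; exact ht0K
    have := hTfour u huT (g * u * g⁻¹) ht0T z hz hu1 ht01 (fun h => hgu h.symm) hz1 hzu hzt
    rw [this]
    exact K.mul_mem huK ht0K
  have hK76 : Nat.card K = 76 := by
    have h4K : 4 ∣ Nat.card K := by
      have := Subgroup.card_dvd_of_le hTK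
      rwa [hTcard] at this
    generalize Nat.card K = c at hce h4K
    interval_cases e <;> omega
  -- decomposition of `K`
  have hD : ∀ a ∈ K, ∃ p ∈ (P : Subgroup G), ∃ t ∈ (T : Subgroup G), a = p * t := by
    have hc1 : Nat.card ((P : Subgroup G).subgroupOf K) = 19 := by
      rw [Nat.card_congr (Subgroup.subgroupOfEquivOfLe hPK).toEquiv]; exact hP
    have hc2 : Nat.card ((T : Subgroup G).subgroupOf K) = 4 := by
      rw [Nat.card_congr (Subgroup.subgroupOfEquivOfLe hTK).toEquiv]; exact hTcard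
    have hcomp : Subgroup.IsComplement' ((P : Subgroup G).subgroupOf K)
        ((T : Subgroup G).subgroupOf K) :=
      Subgroup.isComplement'_of_coprime (by rw [hc1, hc2, hK76]) (by rw [hc1, hc2]; norm_num)
    intro a ha
    obtain ⟨⟨p, t⟩, hpt⟩ := hcomp.2 ⟨a, ha⟩
    refine ⟨((p : K) : G), Subgroup.mem_subgroupOf.1 p.2, ((t : K) : G),
      Subgroup.mem_subgroupOf.1 t.2, ?_⟩
    have := congrArg Subtype.val hpt
    simpa using this.symm
  have hPcomm : ∀ p ∈ (P : Subgroup G), ∀ y ∈ K, p * y = y * p := by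
    intro p hp y hy
    have hy' : y ∈ Subgroup.centralizer ((P : Subgroup G) : Set G) := by rw [← hKdef]; exact hy
    exact (Subgroup.mem_centralizer_iff.1 hy') p hp
  have hab : ∀ a ∈ K, ∀ b ∈ K, a * b = b * a := by
    intro a ha b hb
    obtain ⟨p, hp, t, ht, rfl⟩ := hD a ha
    obtain ⟨p', hp', t', ht', rfl⟩ := hD b hb
    have c1 : Commute p p' := hPcomm p hp p' (hPK hp')
    have c2 : Commute p t' := hPcomm p hp t' (hTK ht')
    have c3 : Commute t p' := (hPcomm p' hp' t (hTK ht)).symm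
    have c4 : Commute t t' := hTcomm t ht t' ht'
    exact ((c1.mul_right c2).mul_left (c3.mul_right c4))
  -- centralizers of involutions of `T`
  have hInv : ∀ t ∈ (T : Subgroup G), t ≠ 1 → Subgroup.centralizer ({t} : Set G) ≤ K := by
    intro t ht ht1
    have hto : orderOf t = 2 := by
      apply orderOf_eq_prime
      · rw [pow_two]; exact hTsq t ht
      · exact ht1
    have htK : t ∈ K := hTK ht
    have hCN : Subgroup.centralizer ({t} : Set G) ≤ N := by
      intro x hx
      apply hL1 t hto htK x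
      have hx' : t * x = x * t := (Subgroup.mem_centralizer_iff.1 hx) t rfl
      have : x * t * x⁻¹ = t := by rw [← hx', mul_inv_cancel_right]
      rw [this]
      exact hKN htK
    have hKC' : K ≤ Subgroup.centralizer ({t} : Set G) := by
      intro y hy
      rw [Subgroup.mem_centralizer_iff]
      intro z hz
      rw [Set.mem_singleton_iff] at hz
      rw [hz]
      exact hab t htK y hy
    have hne : Nat.card (Subgroup.centralizer ({t} : Set G)) ≠ 228 := by
      intro h
      have heq : Subgroup.centralizer ({t} : Set G) = N :=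
        Subgroup.eq_of_le_of_card_ge hCN (by rw [h, hNcard])
      have hgC : g ∈ Subgroup.centralizer ({t} : Set G) := by rw [heq]; exact hgN
      have hgt' : t * g = g * t := (Subgroup.mem_centralizer_iff.1 hgC) t rfl
      have hgt : g * t * g⁻¹ = t := by rw [← hgt', mul_inv_cancel_right]
      apply hgu
      exact hKC t ht ht1 hgt u huT
    have h76 : Nat.card K ∣ Nat.card (Subgroup.centralizer ({t} : Set G)) :=
      Subgroup.card_dvd_of_le hKC'
    have h228 : Nat.card (Subgroup.centralizer ({t} : Set G)) ∣ Nat.card N :=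
      Subgroup.card_dvd_of_le hCN
    rw [hK76] at h76
    rw [hNcard] at h228
    have hc76 : Nat.card (Subgroup.centralizer ({t} : Set G)) = 76 := by
      obtain ⟨j, hj⟩ := h76
      obtain ⟨l, hl⟩ := h228
      rw [hj] at hl hne
      have hjl : j * l = 3 := by
        have : 76 * (j * l) = 76 * 3 := by rw [← mul_assoc, ← hl]
        exact Nat.eq_of_mul_eq_mul_left (by norm_num) this
      have hj3 : j ∣ 3 := ⟨l, hjl.symm⟩
      rcases (Nat.dvd_prime Nat.prime_three).1 hj3 with h | h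
      · rw [hj, h]
      · exfalso; apply hne; rw [h]
    have heq : K = Subgroup.centralizer ({t} : Set G) :=
      Subgroup.eq_of_le_of_card_ge hKC' (by rw [hc76, hK76])
    rw [← heq]
  have hC : ∀ k ∈ K, k ≠ 1 → Subgroup.centralizer ({k} : Set G) ≤ K := by
    intro k hk hk1
    obtain ⟨p, hp, t, ht, rfl⟩ := hD k hk
    by_cases hp1 : p = 1
    · rw [hp1, one_mul] at hk1 ⊢
      exact hInv t ht hk1
    · intro x hx
      have hpt : Commute p t := hPcomm p hp t (hTK ht)
      have hx' : (p * t) * x = x * (p * t) := (Subgroup.mem_centralizer_iff.1 hx) (p * t) rfl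
      have hpow : (p * t) ^ 4 = p ^ 4 := by
        rw [hpt.mul_pow]
        have : t ^ 4 = 1 := by
          have h2' : t ^ 2 = 1 := by rw [pow_two]; exact hTsq t ht
          calc t ^ 4 = (t ^ 2) ^ 2 := by rw [← pow_mul]
            _ = 1 := by rw [h2', one_pow]
        rw [this, mul_one]
      have hcx : Commute (p ^ 4) x := by
        rw [← hpow]
        exact (show Commute (p * t) x from hx').pow_left 4
      obtain ⟨hz, hord⟩ := Cfsg.Agent.S1017.zpowers_eq_of_card_prime (P : Subgroup G) hP p hp hp1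
      have hp4 : p ^ 4 ≠ 1 := by
        intro h
        have := orderOf_dvd_of_pow_eq_one h
        rw [hord] at this
        omega
      obtain ⟨hz4, -⟩ := Cfsg.Agent.S1017.zpowers_eq_of_card_prime (P : Subgroup G) hP (p ^ 4)
        ((P : Subgroup G).pow_mem hp 4) hp4
      rw [hKdef, Subgroup.mem_centralizer_iff]
      intro y hy
      have hy' : y ∈ Subgroup.zpowers (p ^ 4) := by rw [hz4]; exact hy
      obtain ⟨n, rfl⟩ := Subgroup.mem_zpowers_iff.1 hy'
      exact (hcx.zpow_left n)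
  -- T.I.
  have hTI : ∀ x : G, x ∉ Subgroup.normalizer (K : Set G) → ∀ k ∈ K, x * k * x⁻¹ ∈ K → k = 1 := by
    intro x hx k hk hxk
    by_contra hk1
    apply hx
    have hinv : x⁻¹ ∈ Subgroup.normalizer (K : Set G) := by
      apply h56_mem_normalizer_of_conj_mem
      intro y hy
      rw [inv_inv]
      apply hC k hk hk1
      rw [Subgroup.mem_centralizer_iff]
      intro z hz
      rw [Set.mem_singleton_iff] at hz
      rw [hz]
      have hc := hab (x * k * x⁻¹) hxk y hy
      calc k * (x⁻¹ * y * x) = x⁻¹ * ((x * k * x⁻¹) * y) * x := by group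
        _ = x⁻¹ * (y * (x * k * x⁻¹)) * x := by rw [hc]
        _ = x⁻¹ * y * x * k := by group
    have := (Subgroup.normalizer (K : Set G)).inv_mem hinv
    rwa [inv_inv] at this
  -- `N(K) = N`
  have hNK : Subgroup.normalizer (K : Set G) = N := by
    apply le_antisymm
    · intro n hn
      rw [hNdef]
      apply h56_mem_normalizer_of_conj_mem
      intro y hy
      have hyK : n * y * n⁻¹ ∈ K := (Subgroup.mem_normalizer_iff.1 hn y).1 (hPK hy)
      obtain ⟨p, hp, t, ht, hpt⟩ := hD _ hyK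
      have hy19 : y ^ 19 = 1 := by
        have := Subgroup.orderOf_dvd_natCard (P : Subgroup G) hy
        rw [hP] at this
        exact orderOf_dvd_iff_pow_eq_one.1 this
      have hp19 : p ^ 19 = 1 := by
        have := Subgroup.orderOf_dvd_natCard (P : Subgroup G) hp
        rw [hP] at this
        exact orderOf_dvd_iff_pow_eq_one.1 this
      have hcomm : Commute p t := hPcomm p hp t (hTK ht)
      have h1 : (n * y * n⁻¹) ^ 19 = 1 := by rw [conj_pow, hy19]; group
      have ht19 : t ^ 19 = t := by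
        have h2' : t ^ 2 = 1 := by rw [pow_two]; exact hTsq t ht
        calc t ^ 19 = (t ^ 2) ^ 9 * t := by rw [← pow_mul, ← pow_succ]
          _ = t := by rw [h2', one_pow, one_mul]
      rw [hpt, hcomm.mul_pow, hp19, one_mul, ht19] at h1
      rw [hpt, h1, mul_one]
      exact hp
    · intro n hn
      apply h56_mem_normalizer_of_conj_mem
      intro y hy
      exact hKnorm n hn y hy
  have hlt : K < Subgroup.normalizer (K : Set G) := by
    rw [hNK]
    apply lt_of_le_of_ne hKN
    intro h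
    rw [← h, hK76] at hNcard
    omega
  have he : K.relIndex (Subgroup.normalizer (K : Set G)) = 3 := by
    rw [hNK]
    have := h56_card_mul_relIndex K N hKN
    rw [hK76, hNcard] at this
    omega
  -- the degree equation
  have hnp : ¬ (Nat.card G).Prime := by rw [hn0]; norm_num
  have hperf := perfect_of_simple (G := G) hnp
  haveI : Fintype G := Fintype.ofFinite G
  have hsq : ∀ w : ℤ, w ^ 2 ≠ ((25 : ℕ) : ℤ) + 1 := by
    intro w hw
    push_cast at hw
    have h1 : w ≤ 6 := by nlinarith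
    have h2' : -6 ≤ w := by nlinarith
    interval_cases w <;> norm_num at hw
  obtain ⟨x₁, x₂, hx1, hx2, hd1, hd2, hcases⟩ :=
    h56_ti3_degrees hperf K 76 25 hTI hlt hC hab he hK76 (by norm_num) (by norm_num) hsq
  rw [hn0] at hd1 hd2 hcases
  have hle1 : x₁ ≤ 17556 := Nat.le_of_dvd (by norm_num) hd1
  have hle2 : x₂ ≤ 17556 := Nat.le_of_dvd (by norm_num) hd2
  have key := h56_17556_div
  have k1 := key x₁ (List.mem_range.2 (by omega)) hd1 hx1
  have k2 := key x₂ (List.mem_range.2 (by omega)) hd2 hx2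
  rcases hcases with ⟨ha, hb, hc⟩ | ⟨ha, hb, hc⟩ | ⟨ha, hb, hc⟩ | ⟨ha, hb, hc⟩
  · have e1 := k1 (Or.inl (by omega))
    have e2 := k2 (Or.inl (by omega))
    rw [e1, e2] at hc
    omega
  · have e2 := k2 (Or.inr (by omega))
    omega
  · have e1 := k1 (Or.inr (by omega))
    omega
  · have e1 := k1 (Or.inr (by omega))
    omega

/-- (N17556) `17556 = 2^2 * 3 * 7 * 11 * 19`. -/
theorem no_17556 {G : Type u} [Group G] [Finite G] [IsSimpleGroup G] : Nat.card G ≠ 17556 := by
  intro h
  have hna : ¬ IsMulCommutative G :=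
    Cfsg.Agent.Helper17.not_comm_of_not_prime (by rw [h]; norm_num)
  exact h56_no_17556.{u} G hna h

end Cfsg.Agent.Helper56.O175560
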