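import Mathlib
import Cfsg.Prelude.Def_Blocks
import Cfsg.Agent.Lib.Helper55.O2520Defs
import Cfsg.Agent.Lib.Helper17.Simple
import Cfsg.Agent.Lib.Helper17.Burnside
import Cfsg.Agent.Lib.Helper17.EmbedNormalizer
import Cfsg.Agent.Lib.Helper17.FamilyCount
import Cfsg.Agent.Lib.Helper17.PrimeSylow
import Cfsg.Agent.S1010

/-!
# O2520 (N5) (helper56, for helper55's O2520 server, row S0984): `n_5 = 126`.
`n_5 ∈ {1,6,21,36,56,126}`; `1` simple, `6` embedding in `A_6`, `21` S1010, `36` an element of order 7
centralizing a Sylow 5 against `|N(P7)| = 21`, `56` Burnside.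
-/

set_option autoImplicit false
set_option linter.style.haveILetI false

namespace Cfsg.Agent.Helper56.O2520

open Cfsg Cfsg.Agent.Helper55.O2520 Cfsg.Agent.Helper17
open scoped Classical

universe u

theorem h56_n5_cases : ∀ n ≤ 504, n ∣ 504 → n % 5 = 1 →
    n = 1 ∨ n = 6 ∨ n = 21 ∨ n = 36 ∨ n = 56 ∨ n = 126 := by
  decide +kernel

section grp
variable {G : Type u} [Group G] [Finite G] [IsSimpleGroup G] (hG : Nat.card G = 2520)
include hG

/-- (N5) -/
theorem card_sylow5 (h7 : Nat.card (Sylow 7 G) = 120) : Nat.card (Sylow 5 G) = 126 := by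
  haveI h5p : Fact (Nat.Prime 5) := ⟨by norm_num⟩
  haveI h7p : Fact (Nat.Prime 7) := ⟨by norm_num⟩
  have hnc : ¬ IsMulCommutative G := not_comm_of_not_prime (by rw [hG]; norm_num)
  have hG5 : Nat.card G = 5 ^ 1 * 504 := by rw [hG]; norm_num
  have hG7 : Nat.card G = 7 ^ 1 * 360 := by rw [hG]; norm_num
  obtain ⟨hdvd, hmod⟩ := sylow_count (G := G) (p := 5) hG5 (by norm_num)
  have hne1 : Nat.card (Sylow 5 G) ≠ 1 :=
    sylow_count_ne_one (G := G) (p := 5) hG5 (by norm_num) (by norm_num) (by norm_num)
  obtain ⟨P⟩ : Nonempty (Sylow 5 G) := inferInstance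
  have hP : Nat.card (P : Subgroup G) = 5 := by
    have := sylow_card_eq P hG5 (by norm_num); simpa using this
  have hNn := card_normalizer_mul_sylow_count P
  rw [hG] at hNn
  have hCr := card_centralizer_mul_relIndex (P : Subgroup G)
  have hrd := relIndex_centralizer_dvd (P : Subgroup G) hP
  have hCN : Subgroup.centralizer ((P : Subgroup G) : Set G) ≤
      Subgroup.normalizer ((P : Subgroup G) : Set G) := Subgroup.centralizer_le_normalizer _
  rcases h56_n5_cases _ (Nat.le_of_dvd (by norm_num) hdvd) hdvd hmod with h | h | h | h | h | h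
  · exact absurd h hne1
  · -- 6
    exfalso
    have := sylow_count_factorial (G := G) hnc (p := 5) hne1
    rw [h, hG] at this
    revert this
    decide
  · exact absurd h (Cfsg.Agent.S1010.result)
  · -- 36
    exfalso
    rw [h] at hNn
    have hN : Nat.card (Subgroup.normalizer ((P : Subgroup G) : Set G)) = 70 := by omega
    rw [hN] at hCr
    -- relIndex divides 4 and 70
    have hr2 : (Subgroup.centralizer ((P : Subgroup G) : Set G)).relIndex
        (Subgroup.normalizer ((P : Subgroup G) : Set G)) ∣ 2 := by
      have h70 : (Subgroup.centralizer ((P : Subgroup G) : Set G)).relIndex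
          (Subgroup.normalizer ((P : Subgroup G) : Set G)) ∣ 70 := ⟨_, by rw [mul_comm]; exact hCr.symm⟩
      have := Nat.dvd_gcd hrd h70
      simpa using this
    have h7C : 7 ∣ Nat.card (Subgroup.centralizer ((P : Subgroup G) : Set G)) := by
      have hle : (Subgroup.centralizer ((P : Subgroup G) : Set G)).relIndex
          (Subgroup.normalizer ((P : Subgroup G) : Set G)) ≤ 2 := Nat.le_of_dvd (by norm_num) hr2
      have hpos : 0 < (Subgroup.centralizer ((P : Subgroup G) : Set G)).relIndex
          (Subgroup.normalizer ((P : Subgroup G) : Set G)) := Nat.pos_of_dvd_of_pos hr2 (by norm_num)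
      interval_cases hri : (Subgroup.centralizer ((P : Subgroup G) : Set G)).relIndex
          (Subgroup.normalizer ((P : Subgroup G) : Set G))
      · exact ⟨10, by omega⟩
      · exact ⟨5, by omega⟩
    obtain ⟨x, hx⟩ := exists_prime_orderOf_dvd_card' (G := Subgroup.centralizer ((P : Subgroup G) : Set G)) 7 h7C
    have hx' : orderOf (x : G) = 7 := by rw [Subgroup.orderOf_coe]; exact hx
    obtain ⟨Q, hxQ⟩ := exists_sylow_mem_of_orderOf (x : G) hx'
    have hQ : Nat.card (Q : Subgroup G) = 7 := by
      have := sylow_card_eq Q hG7 (by norm_num); simpa using this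
    have hx1 : (x : G) ≠ 1 := by
      intro h1; rw [h1, orderOf_one] at hx'; norm_num at hx'
    have hz := (zpowers_eq_of_card_prime (Q : Subgroup G) hQ (x : G) hxQ hx1).1
    have hNQ := card_normalizer_mul_sylow_count Q
    rw [hG, h7] at hNQ
    have hNQ' : Nat.card (Subgroup.normalizer ((Q : Subgroup G) : Set G)) = 21 := by omega
    have hPle : (P : Subgroup G) ≤ Subgroup.normalizer ((Q : Subgroup G) : Set G) := by
      refine le_trans ?_ (Subgroup.centralizer_le_normalizer _)
      intro y hy
      rw [Subgroup.mem_centralizer_iff]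
      intro z hz'
      rw [SetLike.mem_coe, ← hz, Subgroup.mem_zpowers_iff] at hz'
      obtain ⟨k, rfl⟩ := hz'
      have hxy : y * (x : G) = (x : G) * y := (Subgroup.mem_centralizer_iff.mp x.2) y hy
      have hc : Commute (x : G) y := hxy.symm
      exact (hc.zpow_left k).eq
    have := Subgroup.card_dvd_of_le hPle
    rw [hP, hNQ'] at this
    norm_num at this
  · -- 56
    exfalso
    rw [h] at hNn
    have hN : Nat.card (Subgroup.normalizer ((P : Subgroup G) : Set G)) = 45 := by omega
    rw [hN] at hCr
    have hr1 : (Subgroup.centralizer ((P : Subgroup G) : Set G)).relIndex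
        (Subgroup.normalizer ((P : Subgroup G) : Set G)) = 1 := by
      have h45 : (Subgroup.centralizer ((P : Subgroup G) : Set G)).relIndex
          (Subgroup.normalizer ((P : Subgroup G) : Set G)) ∣ 45 := ⟨_, by rw [mul_comm]; exact hCr.symm⟩
      have := Nat.dvd_gcd hrd h45
      simpa using this
    rw [hr1, mul_one] at hCr
    have hEq : Subgroup.centralizer ((P : Subgroup G) : Set G) =
        Subgroup.normalizer ((P : Subgroup G) : Set G) :=
      Subgroup.eq_of_le_of_card_ge hCN (by rw [hCr, hN])
    exact not_normalizer_le_centralizer P (by rw [hP]; norm_num) (by rw [hP, hG]; norm_num)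
      (by rw [hEq])
  · exact h

end grp

end Cfsg.Agent.Helper56.O2520
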