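import Mathlib
import Cfsg.Prelude.Def_Blocks
import Cfsg.Agent.Lib.Helper55.O2520Defs

/-!
# O2520 (SUMN) (helper56, for helper55's O2520 server, row S0984)
`N = P ⋊ ⟨u⟩` of order 36, `D = P ⋊ ⟨u²⟩` of order 18, and the sums of a class function over them.
-/

set_option autoImplicit false

namespace Cfsg.Agent.Helper56.O2520

open Cfsg Cfsg.Agent.Helper55.O2520
open scoped Classical

universe u

section gen
variable {G : Type u} [Group G]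

theorem h56_conj_pow_mem (P : Subgroup G) (v : G) (hnorm : ∀ x ∈ P, v * x * v⁻¹ ∈ P) (k : ℕ) :
    ∀ x ∈ P, v ^ k * x * (v ^ k)⁻¹ ∈ P := by
  induction k with
  | zero => intro x hx; simpa using hx
  | succ k ih =>
    intro x hx
    have h := hnorm _ (ih x hx)
    have e : v ^ (k + 1) * x * (v ^ (k + 1))⁻¹ = v * (v ^ k * x * (v ^ k)⁻¹) * v⁻¹ := by
      rw [pow_succ']; group
    rw [e]; exact h

/-- the explicit subgroup `P * ⟨v⟩` -/
def h56_PV (P : Subgroup G) (v : G) (n : ℕ) (hn : 0 < n) (hv : v ^ n = 1)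
    (hnorm : ∀ x ∈ P, v * x * v⁻¹ ∈ P) : Subgroup G where
  carrier := {g | ∃ y ∈ P, ∃ k : ℕ, g = y * v ^ k}
  one_mem' := ⟨1, P.one_mem, 0, by simp⟩
  mul_mem' := by
    rintro a b ⟨y, hy, k, rfl⟩ ⟨y', hy', k', rfl⟩
    refine ⟨y * (v ^ k * y' * (v ^ k)⁻¹),
      P.mul_mem hy (h56_conj_pow_mem P v hnorm k y' hy'), k + k', ?_⟩
    rw [pow_add]; group
  inv_mem' := by
    rintro a ⟨y, hy, k, rfl⟩
    have hm : v ^ ((n - 1) * k) = (v ^ k)⁻¹ := by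
      rw [eq_inv_iff_mul_eq_one, ← pow_add]
      have : (n - 1) * k + k = n * k := by
        obtain ⟨n', rfl⟩ := Nat.exists_eq_succ_of_ne_zero hn.ne'
        simp only [Nat.succ_eq_add_one, Nat.add_sub_cancel]; ring
      rw [this, pow_mul, hv, one_pow]
    refine ⟨v ^ ((n - 1) * k) * y⁻¹ * (v ^ ((n - 1) * k))⁻¹,
      h56_conj_pow_mem P v hnorm _ _ (P.inv_mem hy), (n - 1) * k, ?_⟩
    rw [hm]; group

theorem h56_mem_sup_iff (P : Subgroup G) (v : G) (n : ℕ) (hn : 0 < n) (hv : orderOf v = n)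
    (hnorm : ∀ x ∈ P, v * x * v⁻¹ ∈ P) (g : G) :
    g ∈ P ⊔ Subgroup.zpowers v ↔ ∃ y ∈ P, ∃ k < n, g = y * v ^ k := by
  have hvn : v ^ n = 1 := by rw [← hv]; exact pow_orderOf_eq_one v
  constructor
  · intro hg
    have hle : P ⊔ Subgroup.zpowers v ≤ h56_PV P v n hn hvn hnorm := by
      refine sup_le ?_ ?_
      · intro y hy; exact ⟨y, hy, 0, by simp⟩
      · rw [Subgroup.zpowers_le]; exact ⟨1, P.one_mem, 1, by simp⟩
    obtain ⟨y, hy, k, rfl⟩ := hle hg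
    refine ⟨y, hy, k % n, Nat.mod_lt _ hn, ?_⟩
    rw [← hv, pow_mod_orderOf]
  · rintro ⟨y, hy, k, -, rfl⟩
    exact Subgroup.mul_mem _ (Subgroup.mem_sup_left hy)
      (Subgroup.mem_sup_right (Subgroup.pow_mem _ (Subgroup.mem_zpowers v) k))

theorem h56_inj (P : Subgroup G) (v : G) (n : ℕ) (hv : orderOf v = n) (hcop : Nat.Coprime n 3)
    (hP3 : ∀ x ∈ P, x ^ 3 = 1) {y y' : G} (hy : y ∈ P) (hy' : y' ∈ P) {k k' : ℕ}
    (hk : k < n) (hk' : k' < n) (h : y * v ^ k = y' * v ^ k') : y = y' ∧ k = k' := by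
  have hvn : v ^ n = 1 := by rw [← hv]; exact pow_orderOf_eq_one v
  have hg2 : y'⁻¹ * y = v ^ ((k' : ℤ) - k) := by
    rw [zpow_sub, zpow_natCast, zpow_natCast, eq_mul_inv_iff_mul_eq, mul_assoc, h]; group
  have h3 : (y'⁻¹ * y) ^ 3 = 1 := hP3 _ (P.mul_mem (P.inv_mem hy') hy)
  have hn' : (y'⁻¹ * y) ^ n = 1 := by
    rw [hg2, ← zpow_natCast, ← zpow_mul, mul_comm, zpow_mul, zpow_natCast, hvn, one_zpow]
  have h1 : orderOf (y'⁻¹ * y) ∣ Nat.gcd n 3 :=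
    Nat.dvd_gcd (orderOf_dvd_of_pow_eq_one hn') (orderOf_dvd_of_pow_eq_one h3)
  rw [hcop] at h1
  have hg1 : y'⁻¹ * y = 1 := orderOf_eq_one_iff.mp (Nat.dvd_one.mp h1)
  have hyy : y = y' := (inv_mul_eq_one.mp hg1).symm
  refine ⟨hyy, ?_⟩
  subst hyy
  have hpow : v ^ k = v ^ k' := mul_left_cancel h
  have hmod := pow_eq_pow_iff_modEq.mp hpow
  rw [hv] at hmod
  exact Nat.ModEq.eq_of_lt_of_lt hmod hk hk'

variable [Fintype G]

theorem h56_filter_eq (P : Subgroup G) (v : G) (n : ℕ) (hn : 0 < n) (hv : orderOf v = n)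
    (hnorm : ∀ x ∈ P, v * x * v⁻¹ ∈ P) :
    Finset.univ.filter (fun g => g ∈ P ⊔ Subgroup.zpowers v) =
      ((Finset.univ.filter (fun y => y ∈ P)) ×ˢ Finset.range n).image
        (fun p : G × ℕ => p.1 * v ^ p.2) := by
  ext g
  simp only [Finset.mem_filter, Finset.mem_univ, true_and, Finset.mem_image, Finset.mem_product,
    Finset.mem_range, Prod.exists]
  rw [h56_mem_sup_iff P v n hn hv hnorm g]
  constructor
  · rintro ⟨y, hy, k, hk, rfl⟩; exact ⟨y, k, ⟨hy, hk⟩, rfl⟩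
  · rintro ⟨y, k, ⟨hy, hk⟩, rfl⟩; exact ⟨y, hy, k, hk, rfl⟩

theorem h56_injOn (P : Subgroup G) (v : G) (n : ℕ) (hv : orderOf v = n) (hcop : Nat.Coprime n 3)
    (hP3 : ∀ x ∈ P, x ^ 3 = 1) :
    Set.InjOn (fun p : G × ℕ => p.1 * v ^ p.2)
      (((Finset.univ.filter (fun y => y ∈ P)) ×ˢ Finset.range n : Finset (G × ℕ)) : Set (G × ℕ)) := by
  rintro ⟨y, k⟩ hyk ⟨y', k'⟩ hyk' h
  simp only [Finset.coe_product, Finset.coe_filter, Finset.mem_univ, true_and, Finset.coe_range,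
    Set.mem_prod, Set.mem_ofPred_eq, Set.mem_Iio] at hyk hyk'
  obtain ⟨h1, h2⟩ := h56_inj P v n hv hcop hP3 hyk.1 hyk'.1 hyk.2 hyk'.2 h
  rw [h1, h2]

theorem h56_card_sup (P : Subgroup G) (v : G) (n : ℕ) (hn : 0 < n) (hv : orderOf v = n)
    (hcop : Nat.Coprime n 3) (hP3 : ∀ x ∈ P, x ^ 3 = 1)
    (hnorm : ∀ x ∈ P, v * x * v⁻¹ ∈ P) :
    Nat.card (P ⊔ Subgroup.zpowers v : Subgroup G) = Nat.card P * n := by
  have e1 : Nat.card (P ⊔ Subgroup.zpowers v : Subgroup G) =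
      (Finset.univ.filter (fun g => g ∈ P ⊔ Subgroup.zpowers v)).card :=
    Nat.subtype_card _ (fun x => by simp)
  have e2 : Nat.card P = (Finset.univ.filter (fun y => y ∈ P)).card :=
    Nat.subtype_card _ (fun x => by simp)
  rw [e1, h56_filter_eq P v n hn hv hnorm, Finset.card_image_of_injOn (h56_injOn P v n hv hcop hP3),
    Finset.card_product, Finset.card_range, e2]

theorem h56_sum_sup (P : Subgroup G) (v : G) (n : ℕ) (hn : 0 < n) (hv : orderOf v = n)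
    (hcop : Nat.Coprime n 3) (hP3 : ∀ x ∈ P, x ^ 3 = 1)
    (hnorm : ∀ x ∈ P, v * x * v⁻¹ ∈ P) (χ : G → ℂ) :
    ∑ g : G, (if g ∈ P ⊔ Subgroup.zpowers v then χ g else 0) =
      ∑ k ∈ Finset.range n, ∑ y : G, (if y ∈ P then χ (y * v ^ k) else 0) := by
  rw [← Finset.sum_filter, h56_filter_eq P v n hn hv hnorm,
    Finset.sum_image (h56_injOn P v n hv hcop hP3), Finset.sum_product_right]
  refine Finset.sum_congr rfl (fun k _ => ?_)
  rw [Finset.sum_filter]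

end gen

section cfg
variable {G : Type u} [Group G] (P : Subgroup G) (u w : G) (hc : Config P u w)
include hc

theorem h56_comm {x y : G} (hx : x ∈ P) (hy : y ∈ P) : x * y = y * x := by
  have h1 := hc.inv (x * y) (P.mul_mem hx hy)
  have h2 := hc.inv x hx
  have h3 := hc.inv y hy
  have h4 : u ^ 2 * (x * y) * (u ^ 2)⁻¹ = (u ^ 2 * x * (u ^ 2)⁻¹) * (u ^ 2 * y * (u ^ 2)⁻¹) := by
    group
  rw [h4, h2, h3, mul_inv_rev] at h1
  have h5 : (y * x)⁻¹ = (x * y)⁻¹ := by rw [mul_inv_rev, mul_inv_rev]; exact h1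
  exact (inv_injective h5).symm

theorem h56_inv_sq {y : G} (hy : y ∈ P) : y⁻¹ * y⁻¹ = y := by
  have h := hc.expP y hy
  have h' : y * (y * y) = 1 := by rw [← h, pow_succ', pow_two]
  calc y⁻¹ * y⁻¹ = y⁻¹ * y⁻¹ * (y * (y * y)) := by rw [h', mul_one]
    _ = y := by group

/-- `y * v` is conjugate to `v` when conjugation by `v` squares to inversion on `P` -/
theorem h56_conj_v (v : G) (hv1 : ∀ x ∈ P, v * x * v⁻¹ ∈ P)
    (hv2 : ∀ x ∈ P, v * (v * x * v⁻¹) * v⁻¹ = x⁻¹) (y : G) (hy : y ∈ P) :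
    ∃ z : G, z * v * z⁻¹ = y * v := by
  obtain ⟨s, hs⟩ : ∃ s, s = v * y * v⁻¹ := ⟨_, rfl⟩
  have hsP : s ∈ P := hs ▸ hv1 y hy
  have h2 : v * s * v⁻¹ = y⁻¹ := by rw [hs]; exact hv2 y hy
  have hcomm : y⁻¹ * s = s * y⁻¹ := h56_comm P u w hc (P.inv_mem hy) hsP
  refine ⟨s⁻¹ * y⁻¹, ?_⟩
  calc s⁻¹ * y⁻¹ * v * (s⁻¹ * y⁻¹)⁻¹
      = s⁻¹ * y⁻¹ * (v * y * v⁻¹) * (v * s * v⁻¹) * v := by group
    _ = s⁻¹ * y⁻¹ * s * y⁻¹ * v := by rw [← hs, h2]
    _ = s⁻¹ * (y⁻¹ * s) * y⁻¹ * v := by group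
    _ = s⁻¹ * (s * y⁻¹) * y⁻¹ * v := by rw [hcomm]
    _ = (y⁻¹ * y⁻¹) * v := by group
    _ = y * v := by rw [h56_inv_sq P u w hc hy]

theorem h56_conj_u2 (y : G) (hy : y ∈ P) : y⁻¹ * u ^ 2 * (y⁻¹)⁻¹ = y * u ^ 2 := by
  have h := hc.inv y hy
  calc y⁻¹ * u ^ 2 * (y⁻¹)⁻¹ = y⁻¹ * (u ^ 2 * y * (u ^ 2)⁻¹) * u ^ 2 := by group
    _ = (y⁻¹ * y⁻¹) * u ^ 2 := by rw [h]
    _ = y * u ^ 2 := by rw [h56_inv_sq P u w hc hy]

theorem h56_u4 : u ^ 4 = 1 := by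
  have := pow_orderOf_eq_one u
  rwa [hc.ordu] at this

theorem h56_hv2_u (x : G) (hx : x ∈ P) : u * (u * x * u⁻¹) * u⁻¹ = x⁻¹ := by
  rw [← hc.inv x hx, pow_two]; group

theorem h56_hv2_u3 (x : G) (hx : x ∈ P) :
    u ^ 3 * (u ^ 3 * x * (u ^ 3)⁻¹) * (u ^ 3)⁻¹ = x⁻¹ := by
  have h33 : u ^ 3 * u ^ 3 = u ^ 2 := by
    rw [← pow_add, show 3 + 3 = 4 + 2 from rfl, pow_add, h56_u4 P u w hc, one_mul]
  rw [← hc.inv x hx, ← h33]; group

end cfg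

section sums
variable {G : Type u} [Group G] [Fintype G] (P : Subgroup G) (u w : G) (hc : Config P u w)
  (χ : G → ℂ) (hcl : ∀ g x : G, χ (g * x * g⁻¹) = χ x)
include hc hcl

omit hcl in
theorem h56_sum_const (c : ℂ) : ∑ y : G, (if y ∈ P then c else 0) = 9 * c := by
  have e2 : Nat.card P = (Finset.univ.filter (fun y => y ∈ P)).card :=
    Nat.subtype_card _ (fun x => by simp)
  rw [← Finset.sum_filter, Finset.sum_const, ← e2, hc.cardP, nsmul_eq_mul]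
  norm_num

/-- (SUMN) -/
theorem sum_N :
    Nat.card (P ⊔ Subgroup.zpowers u : Subgroup G) = 36 ∧
    Nat.card (P ⊔ Subgroup.zpowers (u ^ 2) : Subgroup G) = 18 ∧
    ∑ g : G, (if g ∈ P ⊔ Subgroup.zpowers u then χ g else 0) =
      ∑ g : G, (if g ∈ P then χ g else 0) + 9 * (χ u + χ (u ^ 2) + χ (u ^ 3)) ∧
    ∑ g : G, (if g ∈ P ⊔ Subgroup.zpowers (u ^ 2) then χ g else 0) =
      ∑ g : G, (if g ∈ P then χ g else 0) + 9 * χ (u ^ 2) := by
  have hou2 : orderOf (u ^ 2) = 2 := by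
    rw [orderOf_pow' u (by norm_num : (2 : ℕ) ≠ 0), hc.ordu]; norm_num
  have hnorm2 : ∀ x ∈ P, u ^ 2 * x * (u ^ 2)⁻¹ ∈ P := h56_conj_pow_mem P u hc.norm 2
  have hnorm3 : ∀ x ∈ P, u ^ 3 * x * (u ^ 3)⁻¹ ∈ P := h56_conj_pow_mem P u hc.norm 3
  have hχ1 : ∀ y ∈ P, χ (y * u) = χ u := by
    intro y hy
    obtain ⟨z, hz⟩ := h56_conj_v P u w hc u hc.norm (h56_hv2_u P u w hc) y hy
    rw [← hz, hcl]
  have hχ3 : ∀ y ∈ P, χ (y * u ^ 3) = χ (u ^ 3) := by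
    intro y hy
    obtain ⟨z, hz⟩ := h56_conj_v P u w hc (u ^ 3) hnorm3 (h56_hv2_u3 P u w hc) y hy
    rw [← hz, hcl]
  have hχ2 : ∀ y ∈ P, χ (y * u ^ 2) = χ (u ^ 2) := by
    intro y hy
    rw [← h56_conj_u2 P u w hc y hy, hcl]
  have hs : ∀ (v : G), (∀ y ∈ P, χ (y * v) = χ v) →
      ∑ y : G, (if y ∈ P then χ (y * v) else 0) = 9 * χ v := by
    intro v hv
    rw [← h56_sum_const P u w hc (χ v)]
    refine Finset.sum_congr rfl (fun y _ => ?_)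
    by_cases hy : y ∈ P
    · rw [if_pos hy, if_pos hy, hv y hy]
    · rw [if_neg hy, if_neg hy]
  refine ⟨?_, ?_, ?_, ?_⟩
  · rw [h56_card_sup P u 4 (by norm_num) hc.ordu (by norm_num) hc.expP hc.norm, hc.cardP]
  · rw [h56_card_sup P (u ^ 2) 2 (by norm_num) hou2 (by norm_num) hc.expP hnorm2, hc.cardP]
  · rw [h56_sum_sup P u 4 (by norm_num) hc.ordu (by norm_num) hc.expP hc.norm χ]
    simp only [Finset.sum_range_succ, Finset.sum_range_zero, zero_add, pow_zero, mul_one, pow_one]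
    rw [hs u hχ1, hs (u ^ 2) hχ2, hs (u ^ 3) hχ3]
    ring
  · rw [h56_sum_sup P (u ^ 2) 2 (by norm_num) hou2 (by norm_num) hc.expP hnorm2 χ]
    simp only [Finset.sum_range_succ, Finset.sum_range_zero, zero_add, pow_zero, mul_one, pow_one]
    rw [hs (u ^ 2) hχ2]

end sums

end Cfsg.Agent.Helper56.O2520
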