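import Mathlib
import Cfsg.Agent.S1017

/-!
# O5760 (C16b) (helper56, for helper7's O5760 server, S0980)
-/

set_option autoImplicit false
set_option linter.style.haveILetI false
set_option linter.unusedVariables false

namespace Cfsg.Agent.Helper56.O5760

open Cfsg MulAction
open scoped ComplexConjugate

universe u v

section C16

variable {G : Type u} [Group G] [Finite G] [IsSimpleGroup G]

/-- (C16b) -/
theorem false_of_sixteen (hG : Nat.card G = 5760) (h16 : Nat.card (Sylow 5 G) = 16) (R : Sylow 5 G)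
    (hC : 9 ∣ Nat.card (Subgroup.centralizer ((R : Subgroup G) : Set G)))
    (hfix : ∀ x : G, orderOf x = 3 → x ∈ Subgroup.centralizer ((R : Subgroup G) : Set G) →
      Nat.card (fixedBy (Sylow 5 G) x) = 1) : False := by
  classical
  haveI : Fact (Nat.Prime 3) := ⟨Nat.prime_three⟩
  set C : Subgroup G := Subgroup.centralizer ((R : Subgroup G) : Set G) with hCdef
  have hdvd : 3 ^ 2 ∣ Nat.card ↥C := by
    norm_num
    exact hC
  obtain ⟨A₀, hA₀⟩ := Sylow.exists_subgroup_card_pow_prime 3 hdvd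
  haveI : Finite (Sylow 5 G) := Nat.finite_of_card_ne_zero (by rw [h16]; norm_num)
  -- elements of C fix R
  have hCR : ∀ a : ↥A₀, (((a : ↥C) : G)) • R = R := by
    intro a
    rw [Sylow.smul_eq_iff_mem_normalizer]
    exact Subgroup.centralizer_le_normalizer _ (a : ↥C).2
  -- a nontrivial element of A₀ fixes no R' ≠ R
  have hnofix : ∀ (R' : Sylow 5 G), R' ≠ R → ∀ c : ↥A₀, c ≠ 1 → (((c : ↥C) : G)) • R' ≠ R' := by
    intro R' hR' c hc1 hcfix
    have hco : orderOf c ∣ 3 ^ 2 := by
      rw [← hA₀]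
      exact orderOf_dvd_natCard c
    obtain ⟨k, hk3, hk⟩ := (Nat.dvd_prime_pow Nat.prime_three).1 hco
    have hk0 : k ≠ 0 := by
      rintro rfl
      rw [pow_zero, orderOf_eq_one_iff] at hk
      exact hc1 hk
    set z₀ : ↥A₀ := c ^ (3 ^ (k - 1)) with hz₀
    have hz₀o : orderOf z₀ = 3 := by
      rw [hz₀, orderOf_pow_of_dvd (by positivity) (by rw [hk]; exact pow_dvd_pow 3 (Nat.sub_le k 1)), hk]
      have : k = (k - 1) + 1 := by omega
      conv_lhs => rw [this, pow_succ]
      exact Nat.mul_div_cancel_left 3 (by positivity)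
    set z : G := ((z₀ : ↥C) : G) with hz
    have hzo : orderOf z = 3 := by
      rw [hz, Subgroup.orderOf_coe, Subgroup.orderOf_coe]
      exact hz₀o
    have hzC : z ∈ C := (z₀ : ↥C).2
    have hzR' : z • R' = R' := by
      have e : z = (((c : ↥C) : G)) ^ (3 ^ (k - 1)) := rfl
      rw [e]
      have hpow : ∀ n : ℕ, (((c : ↥C) : G)) ^ n • R' = R' := by
        intro n
        induction n with
        | zero => rw [pow_zero, one_smul]
        | succ n ih => rw [pow_succ, mul_smul, hcfix, ih]
      exact hpow _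
    have hzR : z • R = R := by
      rw [Sylow.smul_eq_iff_mem_normalizer]
      exact Subgroup.centralizer_le_normalizer _ hzC
    have h1 := hfix z hzo hzC
    obtain ⟨hss, _⟩ := Nat.card_eq_one_iff_unique.1 h1
    have := @Subsingleton.elim _ hss (⟨R, hzR⟩ : fixedBy (Sylow 5 G) z) ⟨R', hzR'⟩
    exact hR' (congrArg Subtype.val this).symm
  -- key: a • R' = b • R'' with R' ≠ R forces relation
  have hkey : ∀ (R' : Sylow 5 G), R' ≠ R → ∀ a b : ↥A₀,
      (((a : ↥C) : G)) • R' = (((b : ↥C) : G)) • R' → a = b := by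
    intro R' hR' a b hab
    by_contra hne
    set c : ↥A₀ := b⁻¹ * a with hc
    have hc1 : c ≠ 1 := by
      intro h1
      apply hne
      have : b * c = b := by rw [h1, mul_one]
      rw [hc, mul_inv_cancel_left] at this
      exact this
    have hcfix : (((c : ↥C) : G)) • R' = R' := by
      have e : (((c : ↥C) : G)) = (((b : ↥C) : G))⁻¹ * (((a : ↥C) : G)) := rfl
      rw [e, mul_smul, hab, inv_smul_smul]
    exact hnofix R' hR' c hc1 hcfix
  have hnt : Nontrivial (Sylow 5 G) := by
    rw [← Finite.one_lt_card_iff_nontrivial, h16]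
    norm_num
  obtain ⟨R', hR'⟩ := exists_ne R
  -- a point outside {R} ∪ A₀ • R'
  have hex : ∃ R'' : Sylow 5 G, R'' ≠ R ∧ ∀ a : ↥A₀, (((a : ↥C) : G)) • R' ≠ R'' := by
    by_contra hcon
    push_neg at hcon
    let f : Option ↥A₀ → Sylow 5 G := fun o =>
      match o with
      | none => R
      | some a => (((a : ↥C) : G)) • R'
    have hsurj : Function.Surjective f := by
      intro Q
      by_cases hQ : Q = R
      · exact ⟨none, hQ.symm⟩
      · obtain ⟨a, ha⟩ := hcon Q hQ
        exact ⟨some a, ha⟩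
    have hle := Nat.card_le_card_of_surjective f hsurj
    rw [h16, Finite.card_option, hA₀] at hle
    norm_num at hle
  obtain ⟨R'', hR''R, hR''⟩ := hex
  let F : Option (↥A₀ ⊕ ↥A₀) → Sylow 5 G := fun o =>
    match o with
    | none => R
    | some (Sum.inl a) => (((a : ↥C) : G)) • R'
    | some (Sum.inr a) => (((a : ↥C) : G)) • R''
  have hmove : ∀ (Q : Sylow 5 G), Q ≠ R → ∀ a : ↥A₀, (((a : ↥C) : G)) • Q ≠ R := by
    intro Q hQ a h
    apply hQ
    have h2 : (((a : ↥C) : G))⁻¹ • ((((a : ↥C) : G)) • Q) = (((a : ↥C) : G))⁻¹ • R := by rw [h]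
    rw [inv_smul_smul] at h2
    rw [h2]
    have h3 := hCR a
    calc (((a : ↥C) : G))⁻¹ • R = (((a : ↥C) : G))⁻¹ • ((((a : ↥C) : G)) • R) := by rw [h3]
      _ = R := inv_smul_smul _ _
  have hFinj : Function.Injective F := by
    intro x y hxy
    rcases x with _ | (a | a) <;> rcases y with _ | (b | b)
    · rfl
    · exact absurd hxy.symm (hmove R' hR' b)
    · exact absurd hxy.symm (hmove R'' hR''R b)
    · exact absurd hxy (hmove R' hR' a)
    · have := hkey R' hR' a b hxy
      rw [this]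
    · exfalso
      -- a • R' = b • R''  ⇒  (b⁻¹ a) • R' = R''
      have h1 : ((((b⁻¹ * a : ↥A₀) : ↥C) : G)) • R' = R'' := by
        have e : ((((b⁻¹ * a : ↥A₀) : ↥C) : G)) = (((b : ↥C) : G))⁻¹ * (((a : ↥C) : G)) := rfl
        rw [e, mul_smul]
        have hxy' : (((a : ↥C) : G)) • R' = (((b : ↥C) : G)) • R'' := hxy
        rw [hxy', inv_smul_smul]
      exact hR'' _ h1
    · exact absurd hxy (hmove R'' hR''R a)
    · exfalso
      have h1 : ((((a⁻¹ * b : ↥A₀) : ↥C) : G)) • R' = R'' := by
        have e : ((((a⁻¹ * b : ↥A₀) : ↥C) : G)) = (((a : ↥C) : G))⁻¹ * (((b : ↥C) : G)) := rfl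
        rw [e, mul_smul]
        have hxy' : (((a : ↥C) : G)) • R'' = (((b : ↥C) : G)) • R' := hxy
        rw [← hxy', inv_smul_smul]
      exact hR'' _ h1
    · have := hkey R'' hR''R a b hxy
      rw [this]
  have hle := Nat.card_le_card_of_injective F hFinj
  rw [h16, Finite.card_option, Nat.card_sum, hA₀] at hle
  norm_num at hle

end C16

end Cfsg.Agent.Helper56.O5760
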