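import Mathlib

/-!
# O5760 (C36b) (helper56, for helper7's O5760 server, S0980)
-/

set_option autoImplicit false
set_option linter.style.haveILetI false
set_option linter.unusedVariables false

namespace Cfsg.Agent.Helper56.O5760

universe u v

/-- (C36b) -/
theorem exists_complement_K {G : Type u} [Group G] [Finite G] (R : Sylow 5 G)
    (hR : Nat.card (R : Subgroup G) = 5) (c : ℕ) (hc : Nat.Coprime c 5)
    (hC : Nat.card (Subgroup.centralizer ((R : Subgroup G) : Set G)) = 5 * c) :
    ∃ K : Subgroup G, K ≤ Subgroup.centralizer ((R : Subgroup G) : Set G) ∧ Nat.card K = c ∧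
      ∀ n ∈ Subgroup.normalizer ((R : Subgroup G) : Set G), ∀ k ∈ K, n * k * n⁻¹ ∈ K := by
  classical
  haveI : Fact (Nat.Prime 5) := ⟨by norm_num⟩
  set C : Subgroup G := Subgroup.centralizer ((R : Subgroup G) : Set G) with hCdef
  -- R is abelian, so R ≤ C
  have hcyc : IsCyclic (R : Subgroup G) := isCyclic_of_prime_card hR
  have hRcomm : ∀ x ∈ (R : Subgroup G), ∀ y ∈ (R : Subgroup G), y * x = x * y := by
    intro x hx y hy
    obtain ⟨g, hg⟩ := hcyc.exists_generator
    obtain ⟨i, hi⟩ := Subgroup.mem_zpowers_iff.1 (hg ⟨x, hx⟩)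
    obtain ⟨j, hj⟩ := Subgroup.mem_zpowers_iff.1 (hg ⟨y, hy⟩)
    have h1 : (⟨y, hy⟩ : (R : Subgroup G)) * ⟨x, hx⟩ = ⟨x, hx⟩ * ⟨y, hy⟩ := by
      rw [← hi, ← hj]
      exact zpow_mul_comm g j i
    exact congrArg Subtype.val h1
  have hRC : (R : Subgroup G) ≤ C := by
    intro x hx
    rw [hCdef, Subgroup.mem_centralizer_iff]
    intro y hy
    exact hRcomm x hx y hy
  set R' : Subgroup ↥C := (R : Subgroup G).subgroupOf C with hR'def
  have hR'card : Nat.card R' = 5 := by
    rw [hR'def, Nat.card_congr (Subgroup.subgroupOfEquivOfLe hRC).toEquiv, hR]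
  have hR'central : ∀ r ∈ R', ∀ γ : ↥C, γ * r = r * γ := by
    intro r hr γ
    have h1 := (Subgroup.mem_centralizer_iff.1 γ.2) r.1 (Subgroup.mem_subgroupOf.1 hr)
    ext
    exact h1.symm
  haveI hR'normal : R'.Normal := ⟨fun r hr γ => by
    have h := hR'central r hr γ
    rw [h, mul_inv_cancel_right]
    exact hr⟩
  have hidx : R'.index = c := by
    have h := Subgroup.card_mul_index R'
    rw [hR'card, hC] at h
    omega
  obtain ⟨K', hK'⟩ := Subgroup.exists_left_complement'_of_coprime (N := R')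
    (by rw [hR'card, hidx]; exact hc.symm)
  have hK'card : Nat.card K' = c := by
    have h := hK'.card_mul_card
    rw [hR'card, hC] at h
    omega
  have hchar : ∀ γ : ↥C, γ ∈ K' ↔ γ ^ c = 1 := by
    intro γ
    constructor
    · intro hγ
      have h := pow_card_eq_one' (G := ↥K') (x := ⟨γ, hγ⟩)
      rw [hK'card] at h
      have h2 := congrArg Subtype.val h
      simpa using h2
    · intro hγ
      obtain ⟨⟨k, r⟩, hkr, _⟩ := (Subgroup.isComplement'_def.1 hK').existsUnique γ
      simp only at hkr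
      have hcomm : Commute (k : ↥C) (r : ↥C) := hR'central r.1 r.2 k.1
      have hpow : γ ^ c = (k : ↥C) ^ c * (r : ↥C) ^ c := by rw [← hkr, hcomm.mul_pow]
      have hkc : (k : ↥C) ^ c = 1 := by
        have h := pow_card_eq_one' (G := ↥K') (x := ⟨k.1, k.2⟩)
        rw [hK'card] at h
        have h2 := congrArg Subtype.val h
        simpa using h2
      have hrc : (r : ↥C) ^ c = 1 := by
        rw [hpow, hkc, one_mul] at hγ
        exact hγ
      have hr5 : (r : ↥C) ^ 5 = 1 := by
        have h := pow_card_eq_one' (G := ↥R') (x := ⟨r.1, r.2⟩)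
        rw [hR'card] at h
        have h2 := congrArg Subtype.val h
        simpa using h2
      have hr1 : (r : ↥C) = 1 := by
        have h1 : orderOf (r : ↥C) ∣ c := orderOf_dvd_of_pow_eq_one hrc
        have h2 : orderOf (r : ↥C) ∣ 5 := orderOf_dvd_of_pow_eq_one hr5
        have h3 : orderOf (r : ↥C) ∣ Nat.gcd c 5 := Nat.dvd_gcd h1 h2
        rw [Nat.Coprime.gcd_eq_one hc] at h3
        exact orderOf_eq_one_iff.1 (Nat.dvd_one.1 h3)
      rw [← hkr, hr1, mul_one]
      exact k.2
  refine ⟨K'.map C.subtype, Subgroup.map_subtype_le K', ?_, ?_⟩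
  · rw [Subgroup.card_map_of_injective C.subtype_injective, hK'card]
  · intro n hn k hk
    obtain ⟨γ, hγ, rfl⟩ := Subgroup.mem_map.1 hk
    have hmemC : n * (γ : G) * n⁻¹ ∈ C := by
      apply Subgroup.mem_centralizer_iff.2
      intro h hh
      have hh' : n⁻¹ * h * n ∈ (R : Subgroup G) := (Subgroup.mem_normalizer_iff''.1 hn h).1 hh
      have h1 := (Subgroup.mem_centralizer_iff.1 γ.2) _ hh'
      -- h1 : n⁻¹ * h * n * γ = γ * (n⁻¹ * h * n)
      calc h * (n * (γ : G) * n⁻¹) = n * ((n⁻¹ * h * n) * (γ : G)) * n⁻¹ := by group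
        _ = n * ((γ : G) * (n⁻¹ * h * n)) * n⁻¹ := by rw [h1]
        _ = n * (γ : G) * n⁻¹ * h := by group
    have hpow : (⟨n * (γ : G) * n⁻¹, hmemC⟩ : ↥C) ^ c = 1 := by
      ext
      have h1 : ((γ : ↥C) : G) ^ c = 1 := by
        have := (hchar γ).1 hγ
        have h2 := congrArg Subtype.val this
        simpa using h2
      simp only [Subgroup.coe_pow, Subgroup.coe_one]
      rw [conj_pow, h1, mul_one, mul_inv_cancel]
    have hmemK' := (hchar _).2 hpow
    exact Subgroup.mem_map.2 ⟨_, hmemK', rfl⟩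

end Cfsg.Agent.Helper56.O5760
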