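import Cfsg.Agent.Lib.Helper93.OR0

/-!
# OR3 (Q3a) (helper56, for helper93's OR3 server, S2459)

Every matrix `M` over `ZMod 3` of determinant 1 with first column `(1,1,0)` is a product of two
`SL₃`-conjugates of `X3`: a table gives `u, w` of determinant 1 with `M * u * w = u * X3 * w * X3`
(no inverses), then `v = u * w`.  The table is checked by one kernel computation with explicit
3 x 3 product / determinant formulas on a 9-field structure.
-/

set_option autoImplicit false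
set_option linter.style.haveILetI false

namespace Cfsg.Agent.Helper56.OR

open Matrix Cfsg.Agent.Helper93.OR

local notation "SL3" => Matrix.SpecialLinearGroup (Fin 3)

/-- a 3 x 3 matrix over `ZMod 3` as nine fields -/
structure H56M9 where
  a00 : ZMod 3
  a01 : ZMod 3
  a02 : ZMod 3
  a10 : ZMod 3
  a11 : ZMod 3
  a12 : ZMod 3
  a20 : ZMod 3
  a21 : ZMod 3
  a22 : ZMod 3
  deriving DecidableEq

namespace H56M9

def toMat (A : H56M9) : Matrix (Fin 3) (Fin 3) (ZMod 3) :=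
  !![A.a00, A.a01, A.a02; A.a10, A.a11, A.a12; A.a20, A.a21, A.a22]

def mul (A B : H56M9) : H56M9 :=
  ⟨A.a00 * B.a00 + A.a01 * B.a10 + A.a02 * B.a20,
   A.a00 * B.a01 + A.a01 * B.a11 + A.a02 * B.a21,
   A.a00 * B.a02 + A.a01 * B.a12 + A.a02 * B.a22,
   A.a10 * B.a00 + A.a11 * B.a10 + A.a12 * B.a20,
   A.a10 * B.a01 + A.a11 * B.a11 + A.a12 * B.a21,
   A.a10 * B.a02 + A.a11 * B.a12 + A.a12 * B.a22,
   A.a20 * B.a00 + A.a21 * B.a10 + A.a22 * B.a20,
   A.a20 * B.a01 + A.a21 * B.a11 + A.a22 * B.a21,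
   A.a20 * B.a02 + A.a21 * B.a12 + A.a22 * B.a22⟩

def det (A : H56M9) : ZMod 3 :=
  A.a00 * A.a11 * A.a22 - A.a00 * A.a12 * A.a21 - A.a01 * A.a10 * A.a22 + A.a01 * A.a12 * A.a20
    + A.a02 * A.a10 * A.a21 - A.a02 * A.a11 * A.a20

theorem toMat_mul (A B : H56M9) : (A.mul B).toMat = A.toMat * B.toMat := by
  ext i j
  fin_cases i <;> fin_cases j <;>
    simp [toMat, mul, Matrix.mul_apply, Fin.sum_univ_three]

theorem toMat_det (A : H56M9) : A.toMat.det = A.det := by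
  rw [Matrix.det_fin_three]
  simp [toMat, det]

end H56M9

/-- the matrix `X3mat` as nine fields -/
def h56X9 : H56M9 := ⟨0, 0, 1, 0, 1, 0, -1, 0, 0⟩

theorem h56X9_toMat : h56X9.toMat = X3mat := by
  ext i j
  fin_cases i <;> fin_cases j <;> simp [H56M9.toMat, h56X9, X3mat]

/-- the table: index `a + 3 b + 9 c + 27 d + 81 e + 243 f`, value = 18 base-3 digits (`u` then `w`) -/
def h56tab : List ℕ :=
  [
    0, 0, 0, 0, 0, 0, 0, 0, 0, 0, 0, 0,
    0, 0, 0, 0, 0, 0, 0, 0, 0, 0, 0, 0,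
    0, 0, 0, 0, 0, 0, 0, 0, 0, 0, 0, 0,
    0, 0, 0, 0, 0, 0, 0, 0, 0, 0, 0, 0,
    0, 0, 0, 0, 0, 0, 0, 0, 0, 0, 0, 0,
    0, 0, 0, 0, 0, 0, 0, 0, 0, 0, 0, 0,
    0, 0, 0, 0, 0, 0, 0, 0, 0, 0, 0, 0,
    130165227, 129968397, 129830616, 0, 0, 0, 0, 0, 0, 136923057, 135424962, 135405279,
    0, 0, 0, 0, 0, 0, 140028597, 139851450, 140205744, 0, 0, 0,
    0, 0, 0, 0, 0, 0, 228836349, 141563871, 176085018, 0, 0, 0,
    0, 0, 0, 54100719, 180006957, 180369999, 0, 0, 0, 0, 0, 0,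
    50013864, 175947885, 178101432, 220661343, 49530537, 136514574, 0, 0, 0, 0, 0, 0,
    217459332, 224766099, 143276292, 0, 0, 0, 0, 0, 0, 228625506, 51125346, 140391639,
    0, 0, 0, 0, 0, 0, 0, 0, 0, 0, 0, 0,
    174883059, 219423258, 137955564, 0, 0, 0, 0, 0, 0, 138421152, 139734891, 136752471,
    0, 0, 0, 0, 0, 0, 227948184, 220228317, 186110874, 182981277, 177824331, 48861315,
    0, 0, 0, 0, 0, 0, 175010148, 175298346, 131735493, 0, 0, 0,
    0, 0, 0, 181393515, 176230251, 183034008, 0, 0, 0, 0, 0, 0,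
    0, 0, 0, 173323485, 221251590, 219663828, 0, 0, 0, 0, 0, 0,
    48124296, 184457502, 226353861, 0, 0, 0, 0, 0, 0, 173187891, 222861222, 225465939,
    0, 0, 0, 0, 0, 174723165, 0, 0, 174412611, 0, 0, 174574449,
    138215574, 0, 0, 135252189, 0, 0, 137006163, 0, 0, 0, 186377688, 0,
    0, 139875507, 0, 0, 177555573, 0, 0, 0, 175077459, 0, 0, 183189042,
    0, 0, 141528879, 141935661, 0, 0, 216175563, 0, 0, 216774801, 0, 0,
    0, 185669100, 0, 0, 178086771, 0, 0, 215924058, 0, 0, 0, 228024729,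
    0, 0, 137397636, 0, 0, 222727815, 132901164, 0, 0, 216175806, 0, 0,
    184783365, 0, 0, 0, 51076746, 0, 0, 133463466, 0, 0, 131997933, 0,
    0, 0, 174716604, 130156479, 0, 0, 0, 219453876, 0, 224369577, 0, 0,
    0, 135232506, 0, 0, 0, 138316176, 0, 186364566, 0, 0, 0, 140229801,
    135849483, 0, 0, 0, 180184104, 0, 0, 0, 48557322, 184405014, 0, 0,
    0, 0, 184262859, 51730659, 0, 0, 0, 178471683, 0, 224899749, 0, 0,
    0, 50140710, 0, 0, 0, 225312849, 221724468, 0, 0, 0, 227062449, 0,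
    0, 0, 221828310, 0, 223053678, 0, 0, 0, 219561039, 138318606, 0, 0,
    0, 0, 224455545, 136181664, 0, 0, 0, 180868635, 0, 0, 0, 174710043,
    0, 130018698, 0, 228204549, 0, 0, 181383363, 0, 0, 0, 0, 135271872,
    0, 139548996, 0, 0, 186371127, 0, 140052654, 0, 0, 0, 0, 186301143,
    183506400, 0, 0, 0, 0, 183565206, 0, 183075318, 0, 0, 222351651, 0,
    182320803, 0, 0, 0, 0, 220337424, 0, 0, 50333166, 0, 216507987, 0,
    182541690, 0, 0, 0, 217588365, 0, 130487202, 0, 0, 0, 0, 138412647,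
    0, 0, 184610592, 0, 225828333, 0, 54584046, 0, 0, 177142473, 0, 0,
    0, 0, 51302007, 0, 228545235, 0, 0, 219292038, 0, 0, 174340440, 0,
    0, 219313908, 0, 0, 0, 136826829, 0, 0, 135079416, 0, 0, 183803832,
    216907635, 0, 0, 227657313, 0, 0, 142351434, 0, 0, 0, 135669906, 0,
    0, 222222618, 0, 0, 229369734, 0, 0, 0, 52001847, 0, 0, 134985618,
    0, 0, 135783630, 183521466, 0, 0, 134766918, 0, 0, 130828563, 0, 0,
    0, 219876210, 0, 0, 49703310, 0, 0, 181962135, 0, 0, 0, 181892151,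
    0, 0, 136334754, 0, 0, 220575807, 217468323, 0, 0, 130881051, 0, 0,
    221266899, 0, 0, 0, 219302973, 0, 130200219, 0, 0, 0, 0, 142410483,
    0, 0, 136835577, 0, 135099099, 0, 225315279, 0, 0, 227563272, 0, 0,
    0, 0, 140201370, 0, 227674809, 0, 0, 0, 50401206, 0, 229216644, 0,
    141795693, 0, 0, 216403497, 0, 0, 0, 0, 133887501, 0, 51715350, 0,
    0, 137909394, 0, 134587584, 0, 0, 0, 0, 179740143, 224381187, 0, 0,
    0, 0, 227189295, 0, 225697761, 0, 0, 225568728, 0, 228652398, 0, 0,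
    0, 0, 225909900, 0, 0, 217887984, 0, 131875461, 0, 228304665, 0, 0,
    0, 219300786, 0, 0, 0, 218994606, 174508839, 0, 0, 0, 0, 136818081,
    135059733, 0, 0, 0, 136780902, 0, 179267994, 0, 0, 0, 186408306, 0,
    0, 0, 186392997, 185637834, 0, 0, 0, 131553972, 0, 0, 0, 51420348,
    0, 141883416, 0, 0, 0, 134626950, 183812337, 0, 0, 0, 0, 185914044,
    184297851, 0, 0, 0, 131365890, 0, 0, 0, 184700502, 140734998, 0, 0,
    0, 172947321, 0, 172877337, 0, 0, 0, 141435081, 0, 0, 0, 48231459,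
    0, 132317235, 0, 0, 0, 219970008, 222078276, 0, 0
  ]

/-- base-3 digit `k` of `n` as an element of `ZMod 3` -/
def h56dg (n k : ℕ) : ZMod 3 :=
  match n / 3 ^ k % 3 with
  | 0 => 0
  | 1 => 1
  | _ => 2

def h56U (n : ℕ) : H56M9 :=
  ⟨h56dg n 0, h56dg n 1, h56dg n 2, h56dg n 3, h56dg n 4, h56dg n 5, h56dg n 6, h56dg n 7, h56dg n 8⟩

def h56W (n : ℕ) : H56M9 :=
  ⟨h56dg n 9, h56dg n 10, h56dg n 11, h56dg n 12, h56dg n 13, h56dg n 14, h56dg n 15, h56dg n 16,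
    h56dg n 17⟩

def h56idx (a b c d e f : ZMod 3) : ℕ :=
  a.val + 3 * b.val + 9 * c.val + 27 * d.val + 81 * e.val + 243 * f.val

def h56M (a b c d e f : ZMod 3) : H56M9 := ⟨1, a, b, 1, c, d, 0, e, f⟩

def h56chk (a b c d e f : ZMod 3) : Bool :=
  let n := h56tab.getD (h56idx a b c d e f) 0
  decide ((h56M a b c d e f).det = 1 →
    ((h56U n).det = 1 ∧ (h56W n).det = 1 ∧
      ((h56M a b c d e f).mul (h56U n)).mul (h56W n)
        = (((h56U n).mul h56X9).mul (h56W n)).mul h56X9))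

theorem h56chk_all : ∀ a b c d e f : ZMod 3, h56chk a b c d e f = true := by
  decide +kernel

/-- (Q3a) -/
theorem q3_table (M : Matrix (Fin 3) (Fin 3) (ZMod 3)) (hdet : M.det = 1)
    (hcol : ∀ i, M i 0 = ![1, 1, 0] i) :
    ∃ u v : SL3 (ZMod 3), M = ((u * X3 * u⁻¹ * (v * X3 * v⁻¹) : SL3 (ZMod 3)) :
      Matrix (Fin 3) (Fin 3) (ZMod 3)) := by
  have hM : M = (h56M (M 0 1) (M 0 2) (M 1 1) (M 1 2) (M 2 1) (M 2 2)).toMat := by
    ext i j
    have h0 := hcol 0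
    have h1 := hcol 1
    have h2 := hcol 2
    fin_cases i <;> fin_cases j <;> simp [H56M9.toMat, h56M] <;> simp_all
  have hchk := h56chk_all (M 0 1) (M 0 2) (M 1 1) (M 1 2) (M 2 1) (M 2 2)
  set n := h56tab.getD (h56idx (M 0 1) (M 0 2) (M 1 1) (M 1 2) (M 2 1) (M 2 2)) 0 with hn
  have hdet9 : (h56M (M 0 1) (M 0 2) (M 1 1) (M 1 2) (M 2 1) (M 2 2)).det = 1 := by
    rw [← H56M9.toMat_det, ← hM]
    exact hdet
  have hmain := of_decide_eq_true hchk hdet9
  obtain ⟨hu, hw, heq⟩ := hmain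
  have hu' : (h56U n).toMat.det = 1 := by rw [H56M9.toMat_det]; exact hu
  have hw' : (h56W n).toMat.det = 1 := by rw [H56M9.toMat_det]; exact hw
  have heq' : M * (h56U n).toMat * (h56W n).toMat
      = (h56U n).toMat * X3mat * (h56W n).toMat * X3mat := by
    have := congrArg H56M9.toMat heq
    rw [H56M9.toMat_mul, H56M9.toMat_mul, H56M9.toMat_mul, H56M9.toMat_mul, H56M9.toMat_mul,
      h56X9_toMat, ← hM] at this
    exact this
  set u : SL3 (ZMod 3) := ⟨(h56U n).toMat, hu'⟩ with hudef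
  set w : SL3 (ZMod 3) := ⟨(h56W n).toMat, hw'⟩ with hwdef
  set Ms : SL3 (ZMod 3) := ⟨M, hdet⟩ with hMs
  have hgrp : Ms * u * w = u * X3 * w * X3 := by
    apply Subtype.ext
    simp only [Matrix.SpecialLinearGroup.coe_mul]
    exact heq'
  refine ⟨u, u * w, ?_⟩
  have h2 : Ms = u * X3 * u⁻¹ * (u * w * X3 * (u * w)⁻¹) := by
    have h3 : Ms = u * X3 * w * X3 * (u * w)⁻¹ := by
      rw [← hgrp]
      group
    rw [h3]
    group
  have h4 := congrArg (fun A : SL3 (ZMod 3) => (A : Matrix (Fin 3) (Fin 3) (ZMod 3))) h2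
  exact h4

end Cfsg.Agent.Helper56.OR
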