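import Cfsg.Agent.S2542

set_option autoImplicit false
open Cfsg

namespace Cfsg.Agent.Helper56.PSL11

open Matrix Cfsg.Agent.Helper56 Cfsg.Agent.S2542

/-! ### matrix level computations -/

/-- encode a matrix as a natural number -/
def code (m : M11) : ℕ :=
  (m 0 0).val + 11 * ((m 0 1).val + 11 * ((m 1 0).val + 11 * (m 1 1).val))

lemma code_inj {m m' : M11} (h : code m = code m') : m = m' := by
  have _ : NeZero 11 := ⟨by norm_num⟩
  unfold code at h
  have h00 := ZMod.val_lt (m 0 0)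
  have h01 := ZMod.val_lt (m 0 1)
  have h10 := ZMod.val_lt (m 1 0)
  have h11 := ZMod.val_lt (m 1 1)
  have h00' := ZMod.val_lt (m' 0 0)
  have h01' := ZMod.val_lt (m' 0 1)
  have h10' := ZMod.val_lt (m' 1 0)
  have h11' := ZMod.val_lt (m' 1 1)
  have e00 : m 0 0 = m' 0 0 := ZMod.val_injective _ (by omega)
  have e01 : m 0 1 = m' 0 1 := ZMod.val_injective _ (by omega)
  have e10 : m 1 0 = m' 1 0 := ZMod.val_injective _ (by omega)
  have e11 : m 1 1 = m' 1 1 := ZMod.val_injective _ (by omega)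
  ext i j
  fin_cases i <;> fin_cases j <;> assumption

/-- codes of the `120` elements of the subgroup `2.A5` -/
def HL : List ℕ := [231, 297, 440, 572, 627, 825, 880, 1012, 1155, 1221, 1332, 1561, 1641, 1737, 1880, 1990, 2081, 2268, 2378, 2441, 2653, 2668, 2795, 3019, 3070, 3180, 3367, 3470, 3580, 3723, 3807, 3899, 3997, 4220, 4309, 4396, 4539, 4649, 4749, 4936, 5046, 5100, 5321, 5327, 5552, 5638, 5728, 5871, 5981, 6078, 6265, 6375, 6432, 6650, 6664, 6877, 6970, 7053, 7196, 7306, 7410, 7597, 7707, 7757, 7982, 7988, 8122, 8347, 8397, 8507, 8694, 8798, 8908, 9051, 9134, 9227, 9325, 9454, 9672, 9729, 9839, 10026, 10123, 10233, 10376, 10466, 10552, 10655, 10783, 11004, 11058, 11168, 11355, 11455, 11565, 11708, 11795, 11884, 11984, 12205, 12297, 12381, 12524, 12634, 12737, 12924, 13034, 13085, 13309, 13320, 13451, 13663, 13726, 13836, 14023, 14114, 14224, 14367, 14463, 14543]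

/-- membership test -/
def memH (m : M11) : Prop := code m ∈ HL

instance (m : M11) : Decidable (memH m) := by unfold memH; infer_instance

set_option maxRecDepth 100000 in
lemma memH_complete : ∀ ij, memH (eM ij) := by
  decide +kernel

set_option maxRecDepth 100000 in
lemma memH_sound' : ∀ c ∈ HL, ∃ ij, code (eM ij) = c := by
  decide +kernel

lemma memH_sound {m : M11} (h : memH m) : ∃ ij, eM ij = m := by
  obtain ⟨ij, hij⟩ := memH_sound' _ h
  exact ⟨ij, code_inj hij⟩

def RM : Fin 11 → M11 := ![!![1, 0; 0, 1], !![1, 1; 0, 1], !![8, 8; 0, 7], !![9, 9; 0, 5], !![6, 6; 0, 2], !![4, 4; 0, 3], !![7, 8; 9, 1], !![1, 8; 6, 5], !![6, 9; 3, 1], !![3, 2; 2, 9], !![1, 9; 8, 7]]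
def RM' : Fin 11 → M11 := ![!![1, 0; 0, 1], !![1, 10; 0, 1], !![7, 3; 0, 8], !![5, 2; 0, 9], !![2, 5; 0, 6], !![3, 7; 0, 4], !![1, 3; 2, 7], !![5, 3; 5, 1], !![1, 2; 8, 6], !![9, 9; 9, 3], !![7, 2; 3, 1]]

def Dm : M11 := !![2, 0; 0, 1]
def Dm' : M11 := !![6, 0; 0, 1]
def A0m : M11 := !![0, 1; 10, 0]

set_option maxRecDepth 100000 in
lemma RM_spec : ∀ k, RM' k * RM k = 1 ∧ RM k 0 0 * RM k 1 1 - RM k 0 1 * RM k 1 0 = 1 ∧
    RM' k 0 0 * RM' k 1 1 - RM' k 0 1 * RM' k 1 0 = 1 := by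
  decide +kernel

set_option maxRecDepth 100000 in
/-- an element with square `1` is `±1` -/
lemma D0 : ∀ a b c d : ZMod 11, a * d - b * c = 1 → !![a, b; c, d] * !![a, b; c, d] = 1 →
    !![a, b; c, d] = (1 : M11) ∨ !![a, b; c, d] = (-1 : M11) := by
  decide +kernel

set_option maxRecDepth 100000 in
/-- elements with square `-1` are conjugate to `A0m` -/
lemma D1 : ∀ a b c d : ZMod 11, a * d - b * c = 1 → !![a, b; c, d] * !![a, b; c, d] = -1 →
    ∃ p q : ZMod 11, p * (p * b - q * a) - q * (p * a + q * c) = 1 ∧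
      !![p, q; p * a + q * c, p * b - q * a] * !![a, b; c, d] =
        A0m * !![p, q; p * a + q * c, p * b - q * a] := by
  decide +kernel

def pw3 (z : M11) : M11 := z * z * z
def pw5 (z : M11) : M11 := z * z * z * z * z

set_option maxRecDepth 100000 in
/-- the classification of `(2,3,5)` pairs with first element `A0m` -/
lemma D2 : ∀ a b c d : ZMod 11, a * d - b * c = 1 →
    pw3 !![a, b; c, d] = 1 → !![a, b; c, d] ≠ (1 : M11) →
    (pw5 (A0m * !![a, b; c, d]) = 1 ∨ pw5 (A0m * !![a, b; c, d]) = -1) →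
    ∃ k : Fin 11,
      (memH (RM' k * A0m * RM k) ∧ memH (RM' k * !![a, b; c, d] * RM k)) ∨
      (memH (RM' k * (Dm' * A0m * Dm) * RM k) ∧
        memH (RM' k * (Dm' * !![a, b; c, d] * Dm) * RM k)) := by
  decide +kernel

set_option maxRecDepth 100000 in
/-- the two subgroups are not conjugate -/
lemma D3 : ∀ a b c d : ZMod 11, a * d - b * c = 1 →
    ¬ (memH (Dm' * (!![a, b; c, d] * !![7, 1; 9, 3] * !![d, -b; -c, a]) * Dm) ∧
       memH (Dm' * (!![a, b; c, d] * !![3, 0; 0, 4] * !![d, -b; -c, a]) * Dm)) := by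
  decide +kernel

end Cfsg.Agent.Helper56.PSL11
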