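import Mathlib
import Cfsg.Prelude.Def_ChevStructure

/-!
# REE (STAB) (helper56, for helper36's REE server): `s` preserves `U V H N B`
-/

set_option autoImplicit false
set_option linter.style.haveILetI false
set_option linter.unusedVariables false
set_option linter.unusedSectionVars false

namespace Cfsg.Agent.Helper56.REE

open Cfsg Cfsg.Lie

universe u

/-- closure induction for a map multiplicative on a subgroup -/
theorem stab_closure {M : Type*} [Group M] (Gp K : Subgroup M) (s : M → M)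
    (hs_mul : ∀ x ∈ Gp, ∀ y ∈ Gp, s (x * y) = s x * s y) (hs_one : s 1 = 1) (S : Set M)
    (hS : ∀ g ∈ S, g ∈ Gp ∧ s g ∈ K) : ∀ g ∈ Subgroup.closure S, g ∈ Gp ∧ s g ∈ K := by
  intro g hg
  induction hg using Subgroup.closure_induction with
  | mem x hx => exact hS x hx
  | one => exact ⟨Gp.one_mem, by rw [hs_one]; exact K.one_mem⟩
  | mul x y _ _ hx hy =>
    exact ⟨Gp.mul_mem hx.1 hy.1, by rw [hs_mul x hx.1 y hy.1]; exact K.mul_mem hx.2 hy.2⟩
  | inv x _ hx =>
    refine ⟨Gp.inv_mem hx.1, ?_⟩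
    have h1 : s x * s x⁻¹ = 1 := by
      rw [← hs_mul x hx.1 x⁻¹ (Gp.inv_mem hx.1), mul_inv_cancel, hs_one]
    have h2 : s x⁻¹ = (s x)⁻¹ := (inv_eq_of_mul_eq_one_right h1).symm
    rw [h2]
    exact K.inv_mem hx.2

/-- the same for a join of two subgroups -/
theorem stab_sup {M : Type*} [Group M] (Gp K A B : Subgroup M) (s : M → M)
    (hs_mul : ∀ x ∈ Gp, ∀ y ∈ Gp, s (x * y) = s x * s y) (hs_one : s 1 = 1)
    (hA : ∀ g ∈ A, g ∈ Gp ∧ s g ∈ K) (hB : ∀ g ∈ B, g ∈ Gp ∧ s g ∈ K) :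
    ∀ g ∈ A ⊔ B, g ∈ Gp ∧ s g ∈ K := by
  intro g hg
  rw [Subgroup.sup_eq_closure] at hg
  refine stab_closure Gp K s hs_mul hs_one _ ?_ g hg
  rintro x (hx | hx)
  · exact hA x hx
  · exact hB x hx

section Words

variable (D : ChevalleyDatum) {F : Type u} [Field F] (X : ℕ → F → GL D.Idx F)

/-- the product of a word in the `X r t` -/
def stabXw (w : List (ℕ × F)) : GL D.Idx F := (w.map fun p => X p.1 p.2).prod

theorem stabXw_val (hX : ∀ r t, ((X r t : GL D.Idx F) : Matrix D.Idx D.Idx F) = D.x F r t)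
    (w : List (ℕ × F)) :
    ((stabXw D X w : GL D.Idx F) : Matrix D.Idx D.Idx F) = D.wordMat F w := by
  induction w with
  | nil => simp [stabXw, ChevalleyDatum.wordMat]
  | cons p w ih =>
    simp only [stabXw, List.map_cons, List.prod_cons, Units.val_mul, ChevalleyDatum.wordMat] at ih ⊢
    rw [hX, ih]

theorem stabXw_s (s : GL D.Idx F → GL D.Idx F)
    (hs_mul : ∀ x ∈ D.group F, ∀ y ∈ D.group F, s (x * y) = s x * s y) (hs_one : s 1 = 1)
    (sg : ℕ → ℕ) (τ : ℕ → F →+* F)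
    (hXmem : ∀ r < D.nroots, ∀ t, X r t ∈ D.group F)
    (hsx : ∀ r < D.nroots, ∀ t : F, s (X r t) = X (sg r) (τ r t))
    (w : List (ℕ × F)) (hw : ∀ p ∈ w, p.1 < D.nroots) :
    stabXw D X w ∈ D.group F ∧
      s (stabXw D X w) = stabXw D X (w.map fun p => (sg p.1, τ p.1 p.2)) := by
  induction w with
  | nil =>
    refine ⟨?_, ?_⟩
    · simp only [stabXw, List.map_nil, List.prod_nil]
      exact (D.group F).one_mem
    · simp only [stabXw, List.map_nil, List.prod_nil]
      exact hs_one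
  | cons p w ih =>
    have hp : p.1 < D.nroots := hw p (List.mem_cons_self)
    have ih' := ih (fun q hq => hw q (List.mem_cons_of_mem _ hq))
    have hXp : X p.1 p.2 ∈ D.group F := hXmem p.1 hp p.2
    refine ⟨?_, ?_⟩
    · simp only [stabXw, List.map_cons, List.prod_cons]
      exact (D.group F).mul_mem hXp ih'.1
    · have e : stabXw D X (p :: w) = X p.1 p.2 * stabXw D X w := by
        simp only [stabXw, List.map_cons, List.prod_cons]
      rw [e, hs_mul _ hXp _ ih'.1, hsx p.1 hp p.2, ih'.2]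
      simp only [stabXw, List.map_cons, List.prod_cons]

end Words

/-- (STAB) -/
theorem sigma_stable (D : ChevalleyDatum) {F : Type u} [Field F] (X : ℕ → F → GL D.Idx F)
    (hX : ∀ r t, ((X r t : GL D.Idx F) : Matrix D.Idx D.Idx F) = D.x F r t)
    (s : GL D.Idx F → GL D.Idx F)
    (hs_mul : ∀ x ∈ D.group F, ∀ y ∈ D.group F, s (x * y) = s x * s y)
    (hs_one : s 1 = 1)
    (sg : ℕ → ℕ) (τ : ℕ → F →+* F)
    (hsg : ∀ r < D.nroots, sg r < D.nroots)
    (hpos : ∀ r, D.IsPosRoot r → D.IsPosRoot (sg r))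
    (hneg : ∀ r, D.IsNegRoot r → D.IsNegRoot (sg r))
    (hsgneg : ∀ r < D.nroots, D.neg r < D.nroots ∧ sg (D.neg r) = D.neg (sg r) ∧ τ (D.neg r) = τ r)
    (hsx : ∀ r < D.nroots, ∀ t : F, s (X r t) = X (sg r) (τ r t)) :
    (∀ g ∈ D.posUnipotent F, s g ∈ D.posUnipotent F) ∧
    (∀ g ∈ D.negUnipotent F, s g ∈ D.negUnipotent F) ∧
    (∀ g ∈ D.diagonalSubgroup F, s g ∈ D.diagonalSubgroup F) ∧
    (∀ g ∈ D.monomialSubgroup F, s g ∈ D.monomialSubgroup F) ∧
    (∀ g ∈ D.borelSubgroup F, s g ∈ D.borelSubgroup F) := by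
  classical
  have hXmem : ∀ r < D.nroots, ∀ t, X r t ∈ D.group F := by
    intro r hr t
    apply Subgroup.subset_closure
    refine ⟨⟨r, hr⟩, t, ?_⟩
    rw [hX, ChevalleyDatum.x, dif_pos hr]
  -- U
  have hU : ∀ g ∈ D.posUnipotent F, g ∈ D.group F ∧ s g ∈ D.posUnipotent F := by
    apply stab_closure (D.group F) (D.posUnipotent F) s hs_mul hs_one
    rintro g ⟨r, t, hr, hg⟩
    have hgX : g = X r t := Units.ext (by rw [hg, hX])
    rw [hgX]
    refine ⟨hXmem r hr.1 t, ?_⟩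
    rw [hsx r hr.1 t]
    exact Subgroup.subset_closure ⟨sg r, τ r t, hpos r hr, hX _ _⟩
  -- V
  have hV : ∀ g ∈ D.negUnipotent F, g ∈ D.group F ∧ s g ∈ D.negUnipotent F := by
    apply stab_closure (D.group F) (D.negUnipotent F) s hs_mul hs_one
    rintro g ⟨r, t, hr, hg⟩
    have hgX : g = X r t := Units.ext (by rw [hg, hX])
    rw [hgX]
    refine ⟨hXmem r hr.1 t, ?_⟩
    rw [hsx r hr.1 t]
    exact Subgroup.subset_closure ⟨sg r, τ r t, hneg r hr, hX _ _⟩
  -- H
  have hH : ∀ g ∈ D.diagonalSubgroup F, g ∈ D.group F ∧ s g ∈ D.diagonalSubgroup F := by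
    apply stab_closure (D.group F) (D.diagonalSubgroup F) s hs_mul hs_one
    rintro g ⟨r, t, hr, ht, hg⟩
    obtain ⟨hnr, hsn, hτn⟩ := hsgneg r hr
    have hgX : g = stabXw D X (D.hWord r t) := Units.ext (by rw [hg, stabXw_val D X hX]; rfl)
    have hw : ∀ p ∈ D.hWord r t, p.1 < D.nroots := by
      intro p hp
      simp only [ChevalleyDatum.hWord, ChevalleyDatum.nWord, List.cons_append, List.nil_append,
        List.mem_cons, List.not_mem_nil, or_false] at hp
      rcases hp with rfl | rfl | rfl | rfl | rfl | rfl <;> assumption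
    obtain ⟨h1, h2⟩ := stabXw_s D X s hs_mul hs_one sg τ hXmem hsx (D.hWord r t) hw
    rw [hgX]
    refine ⟨h1, ?_⟩
    rw [h2]
    have hmap : ((D.hWord r t).map fun p => (sg p.1, τ p.1 p.2)) = D.hWord (sg r) (τ r t) := by
      simp only [ChevalleyDatum.hWord, ChevalleyDatum.nWord, List.cons_append, List.nil_append,
        List.map_cons, List.map_nil, hsn, hτn, map_neg, map_inv₀, map_one]
    rw [hmap]
    apply Subgroup.subset_closure
    refine ⟨sg r, τ r t, hsg r hr, ?_, ?_⟩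
    · exact (map_ne_zero (τ r)).2 ht
    · rw [stabXw_val D X hX]; rfl
  -- the `n_r`
  have hn : ∀ g ∈ Subgroup.closure {g : GL D.Idx F | ∃ r : ℕ, r < D.nroots ∧
      (g : Matrix D.Idx D.Idx F) = D.nMat F r 1},
      g ∈ D.group F ∧ s g ∈ Subgroup.closure {g : GL D.Idx F | ∃ r : ℕ, r < D.nroots ∧
      (g : Matrix D.Idx D.Idx F) = D.nMat F r 1} := by
    apply stab_closure (D.group F) _ s hs_mul hs_one
    rintro g ⟨r, hr, hg⟩
    obtain ⟨hnr, hsn, hτn⟩ := hsgneg r hr
    have hgX : g = stabXw D X (D.nWord r (1 : F)) :=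
      Units.ext (by rw [hg, stabXw_val D X hX]; rfl)
    have hw : ∀ p ∈ D.nWord r (1 : F), p.1 < D.nroots := by
      intro p hp
      simp only [ChevalleyDatum.nWord, List.mem_cons, List.not_mem_nil, or_false] at hp
      rcases hp with rfl | rfl | rfl <;> assumption
    obtain ⟨h1, h2⟩ := stabXw_s D X s hs_mul hs_one sg τ hXmem hsx (D.nWord r (1 : F)) hw
    rw [hgX]
    refine ⟨h1, ?_⟩
    rw [h2]
    have hmap : ((D.nWord r (1 : F)).map fun p => (sg p.1, τ p.1 p.2)) =
        D.nWord (sg r) (1 : F) := by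
      simp only [ChevalleyDatum.nWord, List.map_cons, List.map_nil, hsn, hτn, map_neg,
        map_inv₀, map_one]
    rw [hmap]
    apply Subgroup.subset_closure
    refine ⟨sg r, hsg r hr, ?_⟩
    rw [stabXw_val D X hX]; rfl
  refine ⟨fun g hg => (hU g hg).2, fun g hg => (hV g hg).2, fun g hg => (hH g hg).2, ?_, ?_⟩
  · intro g hg
    refine (stab_sup (D.group F) (D.monomialSubgroup F) (D.diagonalSubgroup F) _ s hs_mul hs_one
      ?_ ?_ g hg).2
    · intro x hx
      exact ⟨(hH x hx).1, (le_sup_left : D.diagonalSubgroup F ≤ D.monomialSubgroup F) (hH x hx).2⟩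
    · intro x hx
      exact ⟨(hn x hx).1, (le_sup_right : _ ≤ D.monomialSubgroup F) (hn x hx).2⟩
  · intro g hg
    refine (stab_sup (D.group F) (D.borelSubgroup F) (D.posUnipotent F) (D.diagonalSubgroup F) s
      hs_mul hs_one ?_ ?_ g hg).2
    · intro x hx
      exact ⟨(hU x hx).1, (le_sup_left : D.posUnipotent F ≤ D.borelSubgroup F) (hU x hx).2⟩
    · intro x hx
      exact ⟨(hH x hx).1, (le_sup_right : D.diagonalSubgroup F ≤ D.borelSubgroup F) (hH x hx).2⟩

end Cfsg.Agent.Helper56.REE
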