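import Mathlib

/-!
# RMK (SUM), abstract part (helper56): a weighted double count over a finite `G`-set

For a finite group `G` acting on a finite set `Ω`, a subgroup `H` containing a Sylow `p`-subgroup
`P` of `G`, and a relation `R : X → Ω → Prop` whose fibres `{θ | R ψ θ}` are single `H`-orbits of
size prime to `p`:
`|X| * |N_G(P) ⊓ H| = ∑ over the P-fixed θ of |{ψ | R ψ θ}| * |N_G(P) ⊓ H ⊓ G_θ|`.
-/

set_option autoImplicit false
set_option linter.style.haveILetI false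
set_option linter.unusedSectionVars false

namespace Cfsg.Agent.Helper56.RMK

universe u v w

open MulAction
open scoped Pointwise

section Abs

/-- a subgroup of index prime to `p` contains a conjugate of any Sylow `p`-subgroup -/
theorem h56_exists_conj_le_of_not_dvd_index {K : Type u} [Group K] [Finite K] {p : ℕ}
    [hp : Fact p.Prime] (P : Sylow p K) (T : Subgroup K) (hT : ¬ p ∣ T.index) :
    ∃ g : K, ∀ s ∈ P, g⁻¹ * s * g ∈ T := by
  classical
  set v := (Nat.card K).factorization p with hv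
  have hdvd : p ^ v ∣ Nat.card T := by
    have h1 : p ^ v ∣ Nat.card K := Nat.ordProj_dvd (Nat.card K) p
    have h2 : Nat.card T * T.index = Nat.card K := Subgroup.card_mul_index T
    rw [← h2] at h1
    exact (Nat.Coprime.pow_left v
      ((Nat.Prime.coprime_iff_not_dvd hp.out).mpr hT)).dvd_of_dvd_mul_right h1
  obtain ⟨Q₀, hQ₀⟩ := Sylow.exists_subgroup_card_pow_prime p hdvd
  set Q : Subgroup K := Q₀.map T.subtype with hQ
  have hQcard : Nat.card Q = p ^ v := by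
    rw [hQ, Subgroup.card_map_of_injective T.subtype_injective, hQ₀]
  let Qs : Sylow p K := Sylow.ofCard Q hQcard
  obtain ⟨g, hg⟩ := MulAction.exists_smul_eq K Qs P
  refine ⟨g, ?_⟩
  intro s hs
  have hs' : s ∈ ((g • Qs : Sylow p K) : Subgroup K) := by rw [hg]; exact hs
  have hs'' : s ∈ MulAut.conj g • (Qs : Subgroup K) := by
    rw [← Sylow.coe_subgroup_smul]; exact hs'
  rw [Subgroup.mem_smul_pointwise_iff_exists] at hs''
  obtain ⟨b, hb, rfl⟩ := hs''
  have hbQ : b ∈ Q := hb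
  obtain ⟨b₀, _, rfl⟩ := Subgroup.mem_map.mp hbQ
  rw [MulAut.smul_def, MulAut.conj_apply]
  have : g⁻¹ * (g * (T.subtype b₀) * g⁻¹) * g = (b₀ : K) := by
    show g⁻¹ * (g * (b₀ : K) * g⁻¹) * g = (b₀ : K)
    group
  rw [this]
  exact b₀.2

variable {G : Type u} [Group G] [Finite G]

/-- the ambient form: a subgroup `S` of odd (`p'`-) relative index in `H ≥ P` contains an
`H`-conjugate of `P` -/
theorem h56_exists_conj_of_relIndex {p : ℕ} [Fact p.Prime] (P : Sylow p G) (H S : Subgroup G)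
    (hPH : (P : Subgroup G) ≤ H) (hidx : ¬ p ∣ S.relIndex H) :
    ∃ h ∈ H, ∀ x ∈ (P : Subgroup G), h⁻¹ * x * h ∈ S := by
  obtain ⟨g, hg⟩ := h56_exists_conj_le_of_not_dvd_index (P.subtype hPH) (S.subgroupOf H) hidx
  refine ⟨g, g.2, ?_⟩
  intro x hx
  have h1 : (⟨x, hPH hx⟩ : ↥H) ∈ P.subtype hPH := by
    show (⟨x, hPH hx⟩ : ↥H) ∈ (P : Subgroup G).subgroupOf H
    rw [Subgroup.mem_subgroupOf]
    exact hx
  have h2 := hg ⟨x, hPH hx⟩ h1
  rw [Subgroup.mem_subgroupOf] at h2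
  exact h2

variable {Ω : Type v} [MulAction G Ω]

/-- two `P`-fixed points in one `H`-orbit are conjugate under `N_G(P) ⊓ H` -/
theorem h56_fixed_conj {p : ℕ} [Fact p.Prime] (P : Sylow p G) (H : Subgroup G)
    (hPH : (P : Subgroup G) ≤ H) (θ : Ω) (hθ : ∀ x ∈ (P : Subgroup G), x • θ = θ)
    (h : G) (hh : h ∈ H) (hθ' : ∀ x ∈ (P : Subgroup G), x • (h • θ) = h • θ) :
    ∃ n ∈ Subgroup.normalizer ((P : Subgroup G) : Set G) ⊓ H, h • θ = n • θ := by
  classical
  set S : Subgroup G := H ⊓ stabilizer G θ with hS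
  have hPS : (P : Subgroup G) ≤ S := by
    intro x hx
    exact ⟨hPH hx, hθ x hx⟩
  have hQS : ((h⁻¹ • P : Sylow p G) : Subgroup G) ≤ S := by
    intro y hy
    rw [Sylow.coe_subgroup_smul, Subgroup.mem_smul_pointwise_iff_exists] at hy
    obtain ⟨x, hx, rfl⟩ := hy
    rw [MulAut.smul_def, MulAut.conj_apply, inv_inv]
    refine ⟨H.mul_mem (H.mul_mem (H.inv_mem hh) (hPH hx)) hh, ?_⟩
    show (h⁻¹ * x * h) • θ = θ
    rw [mul_smul, mul_smul, hθ' x hx, inv_smul_smul]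
  obtain ⟨s, hs⟩ := MulAction.exists_smul_eq ↥S ((h⁻¹ • P : Sylow p G).subtype hQS)
    (P.subtype hPS)
  rw [Sylow.smul_subtype] at hs
  have hs2 : (s : G) • (h⁻¹ • P : Sylow p G) = P := Sylow.subtype_injective hs
  rw [← mul_smul, Sylow.smul_eq_iff_mem_normalizer] at hs2
  refine ⟨((s : G) * h⁻¹)⁻¹, ⟨Subgroup.inv_mem _ hs2, ?_⟩, ?_⟩
  · exact H.inv_mem (H.mul_mem s.2.1 (H.inv_mem hh))
  · have hsθ : (s : G) • θ = θ := s.2.2
    have hsθ' : (s : G)⁻¹ • θ = θ := by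
      conv_lhs => rw [← hsθ]
      rw [inv_smul_smul]
    rw [mul_inv_rev, inv_inv, mul_smul, hsθ']

/-- orbit-stabilizer for a subgroup `N` acting transitively on a finite set `F` of points:
`∑_{θ ∈ F} |N ⊓ G_θ| = |N|` -/
theorem h56_sum_orbit (N : Subgroup G) (F : Finset Ω) (hne : F.Nonempty)
    (hclosed : ∀ θ ∈ F, ∀ n ∈ N, n • θ ∈ F)
    (htrans : ∀ θ ∈ F, ∀ θ' ∈ F, ∃ n ∈ N, θ' = n • θ) :
    ∑ θ ∈ F, Nat.card ↥(N ⊓ stabilizer G θ) = Nat.card ↥N := by
  classical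
  have key : ∀ θ ∈ F, F.card * Nat.card ↥(N ⊓ stabilizer G θ) = Nat.card ↥N := by
    intro θ hθ
    have horb : orbit ↥N θ = (F : Set Ω) := by
      ext θ'
      constructor
      · rintro ⟨n, rfl⟩
        exact hclosed θ hθ n n.2
      · intro h'
        obtain ⟨n, hn, rfl⟩ := htrans θ hθ θ' h'
        exact ⟨⟨n, hn⟩, rfl⟩
    have h1 := Nat.card_congr (orbitProdStabilizerEquivGroup ↥N θ)
    rw [Nat.card_prod] at h1
    have h2 : Nat.card ↥(orbit ↥N θ) = F.card := by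
      rw [horb, Nat.card_coe_set_eq, Set.ncard_coe_finset]
    have h3 : Nat.card ↥(stabilizer ↥N θ) = Nat.card ↥(N ⊓ stabilizer G θ) := by
      have h4 : stabilizer ↥N θ = (N ⊓ stabilizer G θ).subgroupOf N := by
        ext n
        rw [Subgroup.mem_subgroupOf, MulAction.mem_stabilizer_iff, Subgroup.mem_inf,
          MulAction.mem_stabilizer_iff]
        constructor
        · intro hn
          exact ⟨n.2, hn⟩
        · intro hn
          exact hn.2
      rw [h4]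
      exact Nat.card_congr (Subgroup.subgroupOfEquivOfLe inf_le_left).toEquiv
    rw [← h2, ← h3]
    exact h1
  have hpos : 0 < F.card := Finset.card_pos.2 hne
  apply Nat.eq_of_mul_eq_mul_left hpos
  rw [Finset.mul_sum, Finset.sum_congr rfl key, Finset.sum_const, smul_eq_mul]

/-- the weighted double count -/
theorem h56_sum_abs [Finite Ω] {X : Type w} [Finite X] {p : ℕ} [Fact p.Prime] (P : Sylow p G)
    (H : Subgroup G) (hPH : (P : Subgroup G) ≤ H) (R : X → Ω → Prop)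
    (hR1 : ∀ ψ, ∃ θ, R ψ θ)
    (hR2 : ∀ ψ θ, R ψ θ → ∀ h ∈ H, R ψ (h • θ))
    (hR3 : ∀ ψ θ θ', R ψ θ → R ψ θ' → ∃ h ∈ H, θ' = h • θ)
    (hR4 : ∀ ψ θ, R ψ θ → ¬ p ∣ (H ⊓ stabilizer G θ).relIndex H) :
    Nat.card X * Nat.card ↥(Subgroup.normalizer ((P : Subgroup G) : Set G) ⊓ H) =
      ∑ᶠ θ : {θ : Ω // (P : Subgroup G) ≤ stabilizer G θ},
        Nat.card {ψ : X // R ψ θ.1} *
          Nat.card ↥(Subgroup.normalizer ((P : Subgroup G) : Set G) ⊓ H ⊓ stabilizer G θ.1) := by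
  classical
  haveI : Fintype Ω := Fintype.ofFinite Ω
  haveI : Fintype X := Fintype.ofFinite X
  set N : Subgroup G := Subgroup.normalizer ((P : Subgroup G) : Set G) ⊓ H with hN
  set A : Finset Ω := Finset.univ.filter (fun θ => (P : Subgroup G) ≤ stabilizer G θ) with hA
  -- the fibre of `ψ` among the `P`-fixed points is one `N`-orbit
  have hfib : ∀ ψ : X, ∑ θ ∈ A.filter (fun θ => R ψ θ), Nat.card ↥(N ⊓ stabilizer G θ) =
      Nat.card ↥N := by
    intro ψ
    apply h56_sum_orbit N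
    · -- nonempty
      obtain ⟨θ₁, h1⟩ := hR1 ψ
      obtain ⟨h, hh, hconj⟩ := h56_exists_conj_of_relIndex P H (H ⊓ stabilizer G θ₁) hPH
        (hR4 ψ θ₁ h1)
      refine ⟨h • θ₁, ?_⟩
      rw [Finset.mem_filter, hA, Finset.mem_filter]
      refine ⟨⟨Finset.mem_univ _, ?_⟩, hR2 ψ θ₁ h1 h hh⟩
      intro x hx
      rw [MulAction.mem_stabilizer_iff]
      have h2 : (h⁻¹ * x * h) • θ₁ = θ₁ := (hconj x hx).2
      have h3 : x * h = h * (h⁻¹ * x * h) := by group
      rw [← mul_smul, h3, mul_smul, h2]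
    · -- closed
      intro θ hθ n hn
      rw [Finset.mem_filter, hA, Finset.mem_filter] at hθ ⊢
      refine ⟨⟨Finset.mem_univ _, ?_⟩, hR2 ψ θ hθ.2 n hn.2⟩
      intro x hx
      rw [MulAction.mem_stabilizer_iff]
      have hn1 : n⁻¹ * x * n ∈ (P : Subgroup G) :=
        (Subgroup.mem_set_normalizer_iff''.1 hn.1 x).1 hx
      have h2 : (n⁻¹ * x * n) • θ = θ := hθ.1.2 hn1
      have h3 : x * n = n * (n⁻¹ * x * n) := by group
      rw [← mul_smul, h3, mul_smul, h2]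
    · -- transitive
      intro θ hθ θ' hθ'
      rw [Finset.mem_filter, hA, Finset.mem_filter] at hθ hθ'
      obtain ⟨h, hh, rfl⟩ := hR3 ψ θ θ' hθ.2 hθ'.2
      exact h56_fixed_conj P H hPH θ (fun x hx => hθ.1.2 hx) h hh (fun x hx => hθ'.1.2 hx)
  -- the double count
  rw [finsum_eq_sum_of_fintype]
  have hsub : ∑ θ : {θ : Ω // (P : Subgroup G) ≤ stabilizer G θ},
      Nat.card {ψ : X // R ψ θ.1} * Nat.card ↥(N ⊓ stabilizer G θ.1) =
      ∑ θ ∈ A, Nat.card {ψ : X // R ψ θ} * Nat.card ↥(N ⊓ stabilizer G θ) := by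
    rw [hA]
    exact (Finset.sum_subtype (Finset.univ.filter
      (fun θ => (P : Subgroup G) ≤ stabilizer G θ)) (fun θ => by simp)
      (fun θ => Nat.card {ψ : X // R ψ θ} * Nat.card ↥(N ⊓ stabilizer G θ))).symm
  rw [hsub]
  have hterm : ∀ θ : Ω, Nat.card {ψ : X // R ψ θ} * Nat.card ↥(N ⊓ stabilizer G θ) =
      ∑ ψ : X, if R ψ θ then Nat.card ↥(N ⊓ stabilizer G θ) else 0 := by
    intro θ
    rw [← Finset.sum_filter, Finset.sum_const, smul_eq_mul, Nat.card_eq_fintype_card,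
      Fintype.card_subtype]
  rw [Finset.sum_congr rfl (fun θ _ => hterm θ), Finset.sum_comm]
  have hψ : ∀ ψ : X, ∑ θ ∈ A, (if R ψ θ then Nat.card ↥(N ⊓ stabilizer G θ) else 0) =
      Nat.card ↥N := by
    intro ψ
    rw [← Finset.sum_filter]
    exact hfib ψ
  rw [Finset.sum_congr rfl (fun ψ _ => hψ ψ), Finset.sum_const, smul_eq_mul, Finset.card_univ,
    Nat.card_eq_fintype_card]

end Abs

end Cfsg.Agent.Helper56.RMK
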