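import Mathlib
import Cfsg.Prelude.Def_Characters
import Cfsg.Prelude.Def_Blocks
import Cfsg.Agent.Lib.Helper80.RMKDefs
import Cfsg.Agent.Lib.Helper80.RMKBasic
import Cfsg.Agent.Lib.Helper81.CharCorr
import Cfsg.Agent.Lib.Helper81.CharClifford
import Cfsg.Agent.Lib.Helper79.Coprime.KerPrimeA
import Cfsg.Agent.Lib.Helper56.RMKSUMa

/-!
# RMK (SUM) (helper56, for helper80's RMK server, S4581)

The good characters of `H ≥ P, M` counted through the `P`-invariant characters of `M` below them: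
the four ambient Clifford facts feeding the abstract double count `h56_sum_abs`.
-/

set_option autoImplicit false
set_option linter.style.haveILetI false
set_option linter.unusedSectionVars false

namespace Cfsg.Agent.Helper56.RMK

open Cfsg Cfsg.Agent.Helper80 Cfsg.Agent.Helper80.RMK
open scoped ComplexConjugate

universe u

section Bridge

variable {G : Type u} [Group G] [Finite G] (M : Subgroup G) [hM : M.Normal] (H : Subgroup G)
  (hMH : M ≤ H)

/-- a function on `↥M` read on `↥(M.subgroupOf H)` -/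
def h56_rd (θ : ↥M → ℂ) : ↥(M.subgroupOf H) → ℂ :=
  fun n => θ (Subgroup.subgroupOfEquivOfLe hMH n)

theorem h56_rd_apply (θ : ↥M → ℂ) (n : ↥(M.subgroupOf H)) :
    h56_rd M H hMH θ n = θ (Subgroup.subgroupOfEquivOfLe hMH n) := rfl

theorem h56_rd_injective {θ₁ θ₂ : ↥M → ℂ} (h : h56_rd M H hMH θ₁ = h56_rd M H hMH θ₂) :
    θ₁ = θ₂ := by
  funext m
  have h1 := congrFun h ((Subgroup.subgroupOfEquivOfLe hMH).symm m)
  rw [h56_rd_apply, h56_rd_apply, MulEquiv.apply_symm_apply] at h1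
  exact h1

theorem h56_rd_irr (θ : IrrCharacter ↥M) :
    IsIrrCharacter ↥(M.subgroupOf H) (h56_rd M H hMH (θ : ↥M → ℂ)) :=
  Cfsg.Agent.Helper81.isIrrCharacter_comp_equiv (Subgroup.subgroupOfEquivOfLe hMH) θ.2

/-- `Over` read in `↥H` -/
theorem h56_over_iff (ψ : IrrCharacter ↥H) (θ : IrrCharacter ↥M) [Fintype ↥(M.subgroupOf H)] :
    Over hMH ψ θ ↔
      classInner (fun n : ↥(M.subgroupOf H) => (ψ : ↥H → ℂ) n)
        (h56_rd M H hMH (θ : ↥M → ℂ)) ≠ 0 := by
  classical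
  unfold Over classInner
  haveI : Fintype ↥M := Fintype.ofFinite _
  rw [finsum_eq_sum_of_fintype]
  have hc : (Nat.card ↥(M.subgroupOf H) : ℂ)⁻¹ ≠ 0 := by
    apply inv_ne_zero
    exact_mod_cast (Nat.card_pos (α := ↥(M.subgroupOf H))).ne'
  rw [Ne, Ne, mul_eq_zero, not_or]
  have hsum : ∑ m : ↥M, (ψ : ↥H → ℂ) (Subgroup.inclusion hMH m) * conj ((θ : ↥M → ℂ) m) =
      ∑ n : ↥(M.subgroupOf H), (ψ : ↥H → ℂ) n * conj (h56_rd M H hMH (θ : ↥M → ℂ) n) := by
    rw [← (Subgroup.subgroupOfEquivOfLe hMH).toEquiv.sum_comp]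
    apply Finset.sum_congr rfl
    intro n _
    rfl
  rw [hsum]
  constructor
  · intro h
    exact ⟨hc, h⟩
  · intro h
    exact h.2

/-- the conjugation action read in `↥H` -/
theorem h56_rd_smul (g : ↥H) (θ : IrrCharacter ↥M) :
    h56_rd M H hMH ((letI := irrConjAction M hM; (g : G) • θ : IrrCharacter ↥M) : ↥M → ℂ) =
      Cfsg.Agent.Helper81.conjFun (M.subgroupOf H) (hM.subgroupOf H)
        (h56_rd M H hMH (θ : ↥M → ℂ)) g⁻¹ := by
  funext n
  rw [h56_rd_apply, irrConjAction_smul_coe, Cfsg.Agent.Helper81.conjFun_apply,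
    Cfsg.Agent.Helper81.conjFun_apply, h56_rd_apply]
  apply congrArg
  apply Subtype.ext
  rfl

/-- (hR1) every character of `H` lies over some character of `M` -/
theorem h56_exists_over (ψ : IrrCharacter ↥H) : ∃ θ : IrrCharacter ↥M, Over hMH ψ θ := by
  classical
  haveI : Fintype ↥H := Fintype.ofFinite _
  haveI : Fintype ↥(M.subgroupOf H) := Fintype.ofFinite _
  have hres : IsCharacter ↥(M.subgroupOf H) (fun n : ↥(M.subgroupOf H) => (ψ : ↥H → ℂ) n) :=
    Cfsg.Agent.Helper81.isCharacter_restrict (M.subgroupOf H) (Cfsg.Agent.Helper81.IsIrrCharacter.isCharacter ψ.2)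
  have hres0 : (fun n : ↥(M.subgroupOf H) => (ψ : ↥H → ℂ) n) ≠ 0 := by
    intro h0
    have h1 := congrFun h0 1
    have h2 := Cfsg.Agent.Helper79.irr_one_eq ψ
    simp only [Pi.zero_apply, Subgroup.coe_one] at h1
    rw [h2.1] at h1
    have : charDegree (ψ : ↥H → ℂ) = 0 := by exact_mod_cast h1
    exact h2.2.ne' this
  obtain ⟨θ₀, hθ₀, hne⟩ := Cfsg.Agent.Helper81.exists_irr_constituent hres hres0
  refine ⟨⟨fun m => θ₀ ((Subgroup.subgroupOfEquivOfLe hMH).symm m),
    Cfsg.Agent.Helper81.isIrrCharacter_comp_equiv (Subgroup.subgroupOfEquivOfLe hMH).symm hθ₀⟩, ?_⟩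
  rw [h56_over_iff]
  have h3 : h56_rd M H hMH (fun m => θ₀ ((Subgroup.subgroupOfEquivOfLe hMH).symm m)) = θ₀ := by
    funext n
    rw [h56_rd_apply, MulEquiv.symm_apply_apply]
  show classInner _ (h56_rd M H hMH (fun m => θ₀ ((Subgroup.subgroupOfEquivOfLe hMH).symm m))) ≠ 0
  rw [h3]
  exact hne

/-- (hR2) the `H`-conjugates of a constituent are constituents -/
theorem h56_over_smul (ψ : IrrCharacter ↥H) (θ : IrrCharacter ↥M) (hov : Over hMH ψ θ)
    (h : G) (hh : h ∈ H) :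
    Over hMH ψ (letI := irrConjAction M hM; h • θ : IrrCharacter ↥M) := by
  classical
  haveI : Fintype ↥H := Fintype.ofFinite _
  haveI : Fintype ↥(M.subgroupOf H) := Fintype.ofFinite _
  rw [h56_over_iff] at hov ⊢
  have h1 := h56_rd_smul M H hMH ⟨h, hh⟩ θ
  show classInner _ (h56_rd M H hMH
    ((letI := irrConjAction M hM; ((⟨h, hh⟩ : ↥H) : G) • θ : IrrCharacter ↥M) : ↥M → ℂ)) ≠ 0
  rw [h1, Cfsg.Agent.Helper81.classInner_restrict_conjFun (M.subgroupOf H) (hM.subgroupOf H)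
    (Cfsg.Agent.Helper81.isClassFunction_of_isCharacter
      (Cfsg.Agent.Helper81.IsIrrCharacter.isCharacter ψ.2))]
  exact hov

/-- (hR3) two constituents are `H`-conjugate (Clifford) -/
theorem h56_over_conj (ψ : IrrCharacter ↥H) (θ θ' : IrrCharacter ↥M) (hov : Over hMH ψ θ)
    (hov' : Over hMH ψ θ') :
    ∃ h ∈ H, θ' = (letI := irrConjAction M hM; h • θ : IrrCharacter ↥M) := by
  classical
  haveI : Fintype ↥H := Fintype.ofFinite _
  haveI : Fintype ↥(M.subgroupOf H) := Fintype.ofFinite _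
  rw [h56_over_iff] at hov hov'
  by_contra hcon
  apply hov'
  apply Cfsg.Agent.Helper81.clifford_not_conj (M.subgroupOf H) (hM.subgroupOf H) ψ.2
    (h56_rd_irr M H hMH θ) (h56_rd_irr M H hMH θ') hov
  rintro ⟨g, hg⟩
  apply hcon
  refine ⟨((g⁻¹ : ↥H) : G), (g⁻¹ : ↥H).2, ?_⟩
  apply Subtype.ext
  apply h56_rd_injective M H hMH
  rw [h56_rd_smul M H hMH g⁻¹ θ, inv_inv]
  exact hg

/-- (hR4) the inertia group in `H` of a constituent of a character of odd degree has odd index -/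
theorem h56_over_relIndex (ψ : IrrCharacter ↥H) (θ : IrrCharacter ↥M) (hov : Over hMH ψ θ)
    (hodd : Odd (charDegree (ψ : ↥H → ℂ))) :
    ¬ 2 ∣ (H ⊓ stab M θ).relIndex H := by
  classical
  haveI : Fintype ↥H := Fintype.ofFinite _
  haveI : Fintype ↥(M.subgroupOf H) := Fintype.ofFinite _
  rw [h56_over_iff] at hov
  have hidx := Cfsg.Agent.Helper79.Cop.inertia_index_dvd_degree (M.subgroupOf H)
    (hM.subgroupOf H) ψ.2 (h56_rd_irr M H hMH θ) hov
  have hT : (H ⊓ stab M θ).subgroupOf H =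
      Cfsg.Agent.Helper79.Cop.inertia (M.subgroupOf H) (hM.subgroupOf H)
        (h56_rd M H hMH (θ : ↥M → ℂ)) := by
    ext g
    rw [Subgroup.mem_subgroupOf, Subgroup.mem_inf, Cfsg.Agent.Helper79.Cop.mem_inertia]
    letI := irrConjAction M hM
    have hstab : ∀ x : G, x ∈ stab M θ ↔ x • θ = θ := fun x => MulAction.mem_stabilizer_iff
    have hkey : Cfsg.Agent.Helper81.conjFun (M.subgroupOf H) (hM.subgroupOf H)
        (h56_rd M H hMH (θ : ↥M → ℂ)) g =
        h56_rd M H hMH ((((g⁻¹ : ↥H) : G) • θ : IrrCharacter ↥M) : ↥M → ℂ) := by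
      rw [h56_rd_smul M H hMH g⁻¹ θ, inv_inv]
    rw [hkey]
    constructor
    · rintro ⟨_, hg⟩
      have hg' : ((g⁻¹ : ↥H) : G) ∈ stab M θ := by
        have : ((g⁻¹ : ↥H) : G) = (g : G)⁻¹ := rfl
        rw [this]
        exact Subgroup.inv_mem _ hg
      rw [(hstab _).1 hg']
    · intro hg
      refine ⟨g.2, ?_⟩
      have h1 : (((g⁻¹ : ↥H) : G) • θ : IrrCharacter ↥M) = θ :=
        Subtype.ext (h56_rd_injective M H hMH hg)
      have h2 : ((g⁻¹ : ↥H) : G) ∈ stab M θ := (hstab _).2 h1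
      have h3 : ((g⁻¹ : ↥H) : G) = (g : G)⁻¹ := rfl
      rw [h3] at h2
      have h4 := Subgroup.inv_mem _ h2
      rw [inv_inv] at h4
      exact h4
  have hrel : (H ⊓ stab M θ).relIndex H = ((H ⊓ stab M θ).subgroupOf H).index := rfl
  rw [hrel, hT]
  intro h2
  have h3 : 2 ∣ charDegree (ψ : ↥H → ℂ) := h2.trans hidx
  rcases hodd with ⟨k, hk⟩
  omega

end Bridge

/-- (SUM) the good characters of `H ≥ P, M` counted through the `P`-invariant characters of `M`
below them (Clifford + Sylow + orbit-stabilizer) -/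
theorem sum_over_fixed (r : Bool) {G : Type u} [Group G] [Finite G] (M : Subgroup G)
    [hM : M.Normal] (P : Sylow 2 G) (H : Subgroup G) (hMH : M ≤ H)
    (hPH : (P : Subgroup G) ≤ H) :
    cnt r ↥H * Nat.card ↥(Subgroup.normalizer ((P : Subgroup G) : Set G) ⊓ H) =
      ∑ᶠ θ : {θ : IrrCharacter ↥M // (P : Subgroup G) ≤ stab M θ},
        cntOver r hMH θ.1 *
          Nat.card ↥(Subgroup.normalizer ((P : Subgroup G) : Set G) ⊓ H ⊓ stab M θ.1) := by
  classical
  letI := irrConjAction M hM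
  haveI : Fact (Nat.Prime 2) := ⟨Nat.prime_two⟩
  have key := h56_sum_abs (Ω := IrrCharacter ↥M) (X := {ψ : IrrCharacter ↥H // Good r ψ}) P H hPH
    (fun ψ θ => Over hMH ψ.1 θ)
    (fun ψ => h56_exists_over M H hMH ψ.1)
    (fun ψ θ hov h hh => h56_over_smul M H hMH ψ.1 θ hov h hh)
    (fun ψ θ θ' hov hov' => h56_over_conj M H hMH ψ.1 θ θ' hov hov')
    (fun ψ θ hov => h56_over_relIndex M H hMH ψ.1 θ hov ψ.2.2)
  have hcnt : ∀ θ : IrrCharacter ↥M, cntOver r hMH θ =
      Nat.card {ψ : {ψ : IrrCharacter ↥H // Good r ψ} // Over hMH ψ.1 θ} := by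
    intro θ
    unfold cntOver
    exact (Nat.card_congr (Equiv.subtypeSubtypeEquivSubtypeInter _ _)).symm
  simp only [hcnt]
  exact key

end Cfsg.Agent.Helper56.RMK
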