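import Mathlib
import Cfsg.Agent.Lib.Helper76.RuZDefs

/-!
# RUZ server (helper76, S3174): piece (FREE1) `exists_norm_preimage` (helper56)
-/

set_option autoImplicit false

namespace Cfsg.Agent.Helper56.RuZ

open Cfsg.Agent.Helper76.RuZ

/-- counting lemma: a map `f` multiplicative on `H`, with values in `L` and kernel inside `K`. -/
theorem h56_count_onto {G : Type*} [Group G] [Finite G] (H K L : Subgroup G) (f : G → G)
    (hmul : ∀ a ∈ H, ∀ b ∈ H, f (a * b) = f a * f b)
    (hL : ∀ a ∈ H, f a ∈ L) (hK : ∀ a ∈ H, f a = 1 → a ∈ K) :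
    Nat.card H ≤ Nat.card K * Nat.card L ∧
      (Nat.card H = Nat.card K * Nat.card L → ∀ l ∈ L, ∃ a ∈ H, f a = l) := by
  classical
  have h1 : f 1 = 1 := by
    have := hmul 1 H.one_mem 1 H.one_mem
    rw [mul_one] at this
    exact (mul_eq_left.mp this.symm)
  let φ : ↥H →* ↥L :=
    { toFun := fun a => ⟨f a.1, hL a.1 a.2⟩
      map_one' := by
        apply Subtype.ext
        simpa using h1
      map_mul' := by
        intro a b
        apply Subtype.ext
        simpa using hmul a.1 a.2 b.1 b.2 }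
  have hcard : Nat.card φ.ker * Nat.card φ.range = Nat.card H := by
    rw [← Subgroup.index_ker]
    exact Subgroup.card_mul_index _
  have hker : Nat.card φ.ker ≤ Nat.card K := by
    apply Nat.card_le_card_of_injective
      (fun a : φ.ker => (⟨a.1.1, hK a.1.1 a.1.2 (by
        have := a.2
        rw [MonoidHom.mem_ker] at this
        have h2 := congrArg Subtype.val this
        simpa [φ] using h2)⟩ : K))
    intro a b hab
    apply Subtype.ext
    apply Subtype.ext
    simpa using congrArg Subtype.val hab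
  have hrange : Nat.card φ.range ≤ Nat.card L := Subgroup.card_le_card_group _
  have hKpos : 0 < Nat.card K := Nat.card_pos
  have hLpos : 0 < Nat.card L := Nat.card_pos
  have hkpos : 0 < Nat.card φ.ker := Nat.card_pos
  have hrpos : 0 < Nat.card φ.range := Nat.card_pos
  refine ⟨?_, ?_⟩
  · rw [← hcard]
    exact Nat.mul_le_mul hker hrange
  · intro heq l hl
    have hr : Nat.card φ.range = Nat.card L := by
      rcases Nat.lt_or_ge (Nat.card φ.range) (Nat.card L) with hlt | hge
      · exfalso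
        have : Nat.card φ.ker * Nat.card φ.range < Nat.card K * Nat.card L :=
          Nat.mul_lt_mul_of_le_of_lt hker hlt hKpos
        omega
      · exact le_antisymm hrange hge
    have htop : φ.range = ⊤ := Subgroup.eq_top_of_card_eq _ hr
    have : (⟨l, hl⟩ : L) ∈ φ.range := by rw [htop]; trivial
    obtain ⟨a, ha⟩ := this
    refine ⟨a.1, a.2, ?_⟩
    have := congrArg Subtype.val ha
    simpa [φ] using this


section Abs

variable {Q : Type*} [Group Q]

/-- `φ_g v = v * g v g⁻¹`. -/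
def h56_phi (g v : Q) : Q := v * (g * v * g⁻¹)

/-- `M` is a normal elementary abelian 2-subgroup of `Q`. -/
structure h56_EA (M : Subgroup Q) : Prop where
  nrm : ∀ q : Q, ∀ v ∈ M, q * v * q⁻¹ ∈ M
  comm : ∀ a ∈ M, ∀ b ∈ M, a * b = b * a
  sq : ∀ a ∈ M, a * a = 1

theorem h56_conj_comm (g q v : Q) (h : (g⁻¹ * q * g) * v = v * (g⁻¹ * q * g)) :
    q * (g * v * g⁻¹) = (g * v * g⁻¹) * q := by
  calc q * (g * v * g⁻¹) = g * ((g⁻¹ * q * g) * v) * g⁻¹ := by group
    _ = g * (v * (g⁻¹ * q * g)) * g⁻¹ := by rw [h]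
    _ = (g * v * g⁻¹) * q := by group

theorem h56_step (M : Subgroup Q) (hM : h56_EA M) (S : Set Q) (g : Q) (hgg : g * g ∈ M)
    (hinv : ∀ v ∈ M ⊓ Subgroup.centralizer S, g * v * g⁻¹ ∈ Subgroup.centralizer S) :
    (∀ a ∈ M ⊓ Subgroup.centralizer S, ∀ b ∈ M ⊓ Subgroup.centralizer S,
        h56_phi g (a * b) = h56_phi g a * h56_phi g b) ∧
      (∀ a ∈ M ⊓ Subgroup.centralizer S, h56_phi g a ∈ M ⊓ Subgroup.centralizer (insert g S)) ∧
      (∀ a ∈ M ⊓ Subgroup.centralizer S, h56_phi g a = 1 →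
        a ∈ M ⊓ Subgroup.centralizer (insert g S)) := by
  refine ⟨?_, ?_, ?_⟩
  · intro a ha b hb
    have haM : a ∈ M := ha.1
    have hbM : b ∈ M := hb.1
    have h1 : b * (g * a * g⁻¹) = (g * a * g⁻¹) * b := hM.comm b hbM _ (hM.nrm g a haM)
    unfold h56_phi
    calc a * b * (g * (a * b) * g⁻¹) = a * (b * (g * a * g⁻¹)) * (g * b * g⁻¹) := by group
      _ = a * ((g * a * g⁻¹) * b) * (g * b * g⁻¹) := by rw [h1]
      _ = a * (g * a * g⁻¹) * (b * (g * b * g⁻¹)) := by group
  · intro a ha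
    have haM : a ∈ M := ha.1
    have haS : a ∈ Subgroup.centralizer S := ha.2
    have hcM : g * a * g⁻¹ ∈ M := hM.nrm g a haM
    have hcS : g * a * g⁻¹ ∈ Subgroup.centralizer S := hinv a ha
    have h1 : (g * g) * a = a * (g * g) := hM.comm _ hgg a haM
    have h2 : a * (g * a * g⁻¹) = (g * a * g⁻¹) * a := hM.comm a haM _ hcM
    refine Subgroup.mem_inf.mpr ⟨M.mul_mem haM hcM, ?_⟩
    rw [Subgroup.mem_centralizer_iff]
    intro h hh
    rcases hh with rfl | hh
    · unfold h56_phi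
      calc h * (a * (h * a * h⁻¹)) = (h * a * h⁻¹) * ((h * h) * a) * h⁻¹ := by group
        _ = (h * a * h⁻¹) * (a * (h * h)) * h⁻¹ := by rw [h1]
        _ = ((h * a * h⁻¹) * a) * h := by group
        _ = (a * (h * a * h⁻¹)) * h := by rw [h2]
    · have := (Subgroup.centralizer S).mul_mem haS hcS
      rw [Subgroup.mem_centralizer_iff] at this
      exact this h hh
  · intro a ha h1
    have haM : a ∈ M := ha.1
    have haS : a ∈ Subgroup.centralizer S := ha.2
    refine Subgroup.mem_inf.mpr ⟨haM, ?_⟩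
    rw [Subgroup.mem_centralizer_iff]
    intro h hh
    rcases hh with rfl | hh
    · unfold h56_phi at h1
      have h2 : a * a = 1 := hM.sq a haM
      have h3 : h * a * h⁻¹ = a := by
        have : a * (h * a * h⁻¹) = a * a := by rw [h1, h2]
        exact mul_left_cancel this
      calc h * a = (h * a * h⁻¹) * h := by group
        _ = a * h := by rw [h3]
    · rw [Subgroup.mem_centralizer_iff] at haS
      exact haS h hh

/-- invariance: if `g⁻¹ q g` lies in the subgroup generated by things commuting with `v`... -/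
theorem h56_inv_of (q g v : Q) (Z : Subgroup Q) (hZ : Z = Subgroup.centralizer {v})
    (h : g⁻¹ * q * g ∈ Z) : q * (g * v * g⁻¹) = (g * v * g⁻¹) * q := by
  subst hZ
  rw [Subgroup.mem_centralizer_iff] at h
  have := h v rfl
  exact h56_conj_comm g q v this.symm

end Abs


section Main

variable {T : Type*} [Group T] [Finite T]

theorem h56_index_le (A : Subgroup T) (L : List T) (h : ∀ t : T, ∃ g ∈ L, g⁻¹ * t ∈ A) :
    A.index ≤ L.length := by
  classical
  have hsurj : Function.Surjective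
      (fun i : Fin L.length => (QuotientGroup.mk (L.get i) : T ⧸ A)) := by
    intro q
    induction q using QuotientGroup.induction_on with
    | H t =>
      obtain ⟨g, hgL, hgt⟩ := h t
      obtain ⟨i, hi⟩ := List.mem_iff_get.mp hgL
      refine ⟨i, ?_⟩
      show (QuotientGroup.mk (L.get i) : T ⧸ A) = QuotientGroup.mk t
      rw [hi, QuotientGroup.eq]
      exact hgt
  have := Nat.card_le_card_of_surjective _ hsurj
  simpa [Subgroup.index] using this

theorem h56_card_comap (F : Subgroup T) [F.Normal] (C : Subgroup (T ⧸ F)) :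
    Nat.card (C.comap (QuotientGroup.mk' F)) = Nat.card F * Nat.card C := by
  have h1 := Subgroup.card_mul_index (C.comap (QuotientGroup.mk' F))
  have h2 : (C.comap (QuotientGroup.mk' F)).index = C.index :=
    Subgroup.index_comap_of_surjective C (QuotientGroup.mk'_surjective F)
  have h3 := Subgroup.card_mul_index C
  have h4 := Subgroup.card_eq_card_quotient_mul_card_subgroup F
  have h5 : C.index ≠ 0 := Subgroup.index_ne_zero_of_finite
  rw [h2] at h1
  have : Nat.card (C.comap (QuotientGroup.mk' F)) * C.index =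
      (Nat.card F * Nat.card C) * C.index := by
    rw [h1, h4, ← h3]; ring
  exact Nat.eq_of_mul_eq_mul_right (Nat.pos_of_ne_zero h5) this

theorem h56_cover_mem (W A : Subgroup T) (hWA : W ≤ A) (t r g : T) (hgt : g⁻¹ * t ∈ W)
    (hrg : r⁻¹ * g ∈ A) : r⁻¹ * t ∈ A := by
  have : r⁻¹ * t = (r⁻¹ * g) * (g⁻¹ * t) := by group
  rw [this]
  exact A.mul_mem hrg (hWA hgt)


theorem exists_norm_preimage (W F Z2 : Subgroup T) (x y z : T) (hc : Cfg W F Z2) (hg : Gens W F Z2 x y z)
    (hidx : W.index = 8) (hcardW : Nat.card W = 2 ^ 8 * Nat.card F)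
    (hfix : ∀ U A : Subgroup T, F ≤ U → U ≤ W → W ≤ A →
      (∀ u ∈ U, ∀ a ∈ A, a * u * a⁻¹ * u⁻¹ ∈ F) → Nat.card U ≤ Nat.card F * 2 ^ A.index)
    (s : T) (hsW : s ∈ W) (hsF : s ∉ F) (hsT : ∀ t : T, t * s * t⁻¹ * s⁻¹ ∈ F) :
    ∃ w ∈ W, nrm x y z w * s⁻¹ ∈ F := by
  classical
  haveI := hc.nF
  haveI := hc.nW
  set π : T →* T ⧸ F := QuotientGroup.mk' F with hπ
  have hπ1 : ∀ f : T, π f = 1 ↔ f ∈ F := fun f => QuotientGroup.eq_one_iff f
  have hπs : Function.Surjective π := QuotientGroup.mk'_surjective F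
  set M : Subgroup (T ⧸ F) := W.map π with hMdef
  have hMmem : ∀ a ∈ W, π a ∈ M := fun a ha => Subgroup.mem_map_of_mem π ha
  have hMpre : ∀ t : T, π t ∈ M → t ∈ W := by
    intro t ht
    obtain ⟨a, ha, hat⟩ := Subgroup.mem_map.mp ht
    have h0 : π (a⁻¹ * t) = 1 := by rw [map_mul, map_inv, hat]; group
    have h1 : a⁻¹ * t ∈ W := hc.FW ((hπ1 _).mp h0)
    have h2 : t = a * (a⁻¹ * t) := by group
    rw [h2]; exact W.mul_mem ha h1
  have hEA : h56_EA M := by
    refine ⟨?_, ?_, ?_⟩
    · intro q v hv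
      obtain ⟨t, rfl⟩ := hπs q
      obtain ⟨a, ha, rfl⟩ := Subgroup.mem_map.mp hv
      have h0 : π t * π a * (π t)⁻¹ = π (t * a * t⁻¹) := by simp
      rw [h0]
      exact hMmem _ (hc.nW.conj_mem a ha t)
    · intro a ha b hb
      obtain ⟨a', ha', rfl⟩ := Subgroup.mem_map.mp ha
      obtain ⟨b', hb', rfl⟩ := Subgroup.mem_map.mp hb
      have h1 : π (a' * b' * a'⁻¹ * b'⁻¹) = 1 := (hπ1 _).mpr (hc.comm a' ha' b' hb')
      have h2 : a' * b' = (a' * b' * a'⁻¹ * b'⁻¹) * (b' * a') := by group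
      have h3 : π (a' * b') = π (b' * a') := by
        conv_lhs => rw [h2]
        rw [map_mul, h1, one_mul]
      rw [← map_mul, h3, map_mul]
    · intro a ha
      obtain ⟨a', ha', rfl⟩ := Subgroup.mem_map.mp ha
      rw [← map_mul]; exact (hπ1 _).mpr (hc.sq a' ha')
  have hFpos : 0 < Nat.card F := Nat.card_pos
  have hcomapM : M.comap π = W := by
    ext t; constructor
    · intro ht; exact hMpre t ht
    · intro ht; exact hMmem t ht
  have hcardM : Nat.card M = 2 ^ 8 := by
    have h1 := h56_card_comap F M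
    rw [← hπ, hcomapM, hcardW] at h1
    have h2 : Nat.card F * 2 ^ 8 = Nat.card F * Nat.card M := by rw [← h1]; ring
    exact (Nat.eq_of_mul_eq_mul_left hFpos h2).symm
  -- the bound from `hfix`
  have hbound : ∀ C : Subgroup (T ⧸ F), C ≤ M → ∀ n : ℕ,
      ((Subgroup.centralizer (C : Set (T ⧸ F))).comap π).index ≤ n → Nat.card C ≤ 2 ^ n := by
    intro C hCM n hn
    have h1 := hfix (C.comap π) ((Subgroup.centralizer (C : Set (T ⧸ F))).comap π) ?_ ?_ ?_ ?_
    · rw [h56_card_comap F C] at h1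
      have h2 : Nat.card C ≤ 2 ^ ((Subgroup.centralizer (C : Set (T ⧸ F))).comap π).index :=
        Nat.le_of_mul_le_mul_left h1 hFpos
      exact h2.trans (Nat.pow_le_pow_right (by norm_num) hn)
    · intro f hf
      rw [Subgroup.mem_comap, (hπ1 f).mpr hf]
      exact C.one_mem
    · intro u hu
      exact hMpre u (hCM (Subgroup.mem_comap.mp hu))
    · intro a ha
      rw [Subgroup.mem_comap, Subgroup.mem_centralizer_iff]
      intro c hc'
      exact hEA.comm c (hCM hc') _ (hMmem a ha)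
    · intro u hu a ha
      rw [Subgroup.mem_comap, Subgroup.mem_centralizer_iff] at ha
      have h2 := ha (π u) (Subgroup.mem_comap.mp hu)
      apply (hπ1 _).mp
      rw [map_mul, map_mul, map_mul, map_inv, map_inv, ← h2]
      group
  -- the images of the generators
  set zb := π z with hzb
  set xb := π x with hxb
  set yb := π y with hyb
  have hzz : zb * zb ∈ M := by rw [hzb, ← map_mul]; exact hMmem _ hg.zsq
  have hxx : xb * xb ∈ M := by rw [hxb, ← map_mul]; exact hMmem _ hg.xsq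
  have hyy : yb * yb ∈ M := by rw [hyb, ← map_mul]; exact hMmem _ hg.ysq
  have hrxz : xb * zb * xb⁻¹ * zb⁻¹ ∈ M := by
    have := hMmem _ hg.xz
    simpa [hxb, hzb] using this
  have hryz : yb * zb * yb⁻¹ * zb⁻¹ ∈ M := by
    have := hMmem _ hg.yz
    simpa [hyb, hzb] using this
  have hryx : yb * xb * yb⁻¹ * (xb * zb)⁻¹ ∈ M := by
    have := hMmem _ hg.yx
    simpa [hyb, hxb, hzb] using this
  -- centralizer of `v ∈ M` contains `M`
  have hMZ : ∀ v ∈ M, M ≤ Subgroup.centralizer {v} := by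
    intro v hv m hm
    rw [Subgroup.mem_centralizer_iff]
    intro h hh
    rw [Set.mem_singleton_iff] at hh
    subst hh
    exact hEA.comm h hv m hm
  have hconjM : ∀ q m : T ⧸ F, m ∈ M → q⁻¹ * m * q ∈ M := by
    intro q m hm
    have := hEA.nrm q⁻¹ m hm
    simpa using this
  -- the invariance of `C_M(z)` under any `g` with `g z g⁻¹ z⁻¹ ∈ M`
  have hinvz : ∀ g : T ⧸ F, g * zb * g⁻¹ * zb⁻¹ ∈ M → ∀ v ∈ M, zb * v = v * zb →
      zb * (g * v * g⁻¹) = (g * v * g⁻¹) * zb := by
    intro g hgz v hvM hvz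
    apply h56_inv_of zb g v (Subgroup.centralizer {v}) rfl
    have h1 : g⁻¹ * zb * g = (g⁻¹ * (g * zb * g⁻¹ * zb⁻¹)⁻¹ * g) * zb := by group
    rw [h1]
    apply Subgroup.mul_mem
    · exact hMZ v hvM (hconjM g _ (M.inv_mem hgz))
    · rw [Subgroup.mem_centralizer_iff]
      intro h hh
      rw [Set.mem_singleton_iff] at hh
      subst hh
      exact hvz.symm
  set S0 : Set (T ⧸ F) := ∅ with hS0
  set S1 : Set (T ⧸ F) := insert zb S0 with hS1
  set S2 : Set (T ⧸ F) := insert xb S1 with hS2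
  set S3 : Set (T ⧸ F) := insert yb S2 with hS3
  have hinv1 : ∀ v ∈ M ⊓ Subgroup.centralizer S0, zb * v * zb⁻¹ ∈ Subgroup.centralizer S0 := by
    intro v _
    rw [Subgroup.mem_centralizer_iff]
    intro h hh
    exact absurd hh (Set.notMem_empty h)
  have hinv2 : ∀ v ∈ M ⊓ Subgroup.centralizer S1, xb * v * xb⁻¹ ∈ Subgroup.centralizer S1 := by
    intro v hv
    have hvM : v ∈ M := hv.1
    have hvS : v ∈ Subgroup.centralizer S1 := hv.2
    rw [Subgroup.mem_centralizer_iff] at hvS
    rw [Subgroup.mem_centralizer_iff]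
    intro h hh
    rcases hh with rfl | hh
    · exact hinvz xb hrxz v hvM (hvS _ (Set.mem_insert _ _))
    · exact absurd hh (Set.notMem_empty h)
  have hinv3 : ∀ v ∈ M ⊓ Subgroup.centralizer S2, yb * v * yb⁻¹ ∈ Subgroup.centralizer S2 := by
    intro v hv
    have hvM : v ∈ M := hv.1
    have hvS : v ∈ Subgroup.centralizer S2 := hv.2
    rw [Subgroup.mem_centralizer_iff] at hvS
    have hvx : xb * v = v * xb := hvS _ (Set.mem_insert _ _)
    have hvz : zb * v = v * zb := hvS _ (Set.mem_insert_of_mem _ (Set.mem_insert _ _))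
    rw [Subgroup.mem_centralizer_iff]
    intro h hh
    rcases hh with rfl | hh
    · apply h56_inv_of xb yb v (Subgroup.centralizer {v}) rfl
      have h1 : yb⁻¹ * xb * yb =
          (yb * yb)⁻¹ * (yb * xb * yb⁻¹ * (xb * zb)⁻¹) * (xb * zb) * (yb * yb) := by group
      rw [h1]
      have hx' : xb ∈ Subgroup.centralizer {v} := by
        rw [Subgroup.mem_centralizer_iff]
        intro k hk
        rw [Set.mem_singleton_iff] at hk
        subst hk
        exact hvx.symm
      have hz' : zb ∈ Subgroup.centralizer {v} := by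
        rw [Subgroup.mem_centralizer_iff]
        intro k hk
        rw [Set.mem_singleton_iff] at hk
        subst hk
        exact hvz.symm
      exact Subgroup.mul_mem _ (Subgroup.mul_mem _ (Subgroup.mul_mem _
        (Subgroup.inv_mem _ (hMZ v hvM hyy)) (hMZ v hvM hryx)) (Subgroup.mul_mem _ hx' hz'))
        (hMZ v hvM hyy)
    · rcases hh with rfl | hh
      · exact hinvz yb hryz v hvM hvz
      · exact absurd hh (Set.notMem_empty h)
  obtain ⟨m1, l1, k1⟩ := h56_step M hEA S0 zb hzz hinv1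
  obtain ⟨m2, l2, k2⟩ := h56_step M hEA S1 xb hxx hinv2
  obtain ⟨m3, l3, k3⟩ := h56_step M hEA S2 yb hyy hinv3
  have count1 := h56_count_onto (M ⊓ Subgroup.centralizer S0) (M ⊓ Subgroup.centralizer S1)
    (M ⊓ Subgroup.centralizer S1) (h56_phi zb) m1 l1 k1
  have count2 := h56_count_onto (M ⊓ Subgroup.centralizer S1) (M ⊓ Subgroup.centralizer S2)
    (M ⊓ Subgroup.centralizer S2) (h56_phi xb) m2 l2 k2
  have count3 := h56_count_onto (M ⊓ Subgroup.centralizer S2) (M ⊓ Subgroup.centralizer S3)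
    (M ⊓ Subgroup.centralizer S3) (h56_phi yb) m3 l3 k3
  have hC0 : M ⊓ Subgroup.centralizer S0 = M := by
    ext v
    simp [Subgroup.mem_centralizer_iff, hS0]
  -- index bounds
  have hWA : ∀ C : Subgroup (T ⧸ F), C ≤ M →
      W ≤ (Subgroup.centralizer (C : Set (T ⧸ F))).comap π := by
    intro C hCM a ha
    rw [Subgroup.mem_comap, Subgroup.mem_centralizer_iff]
    intro c hc'
    exact hEA.comm c (hCM hc') _ (hMmem a ha)
  have hmemA : ∀ (C : Subgroup (T ⧸ F)) (S : Set (T ⧸ F)) (t : T),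
      C ≤ Subgroup.centralizer S → π t ∈ S →
      t ∈ (Subgroup.centralizer (C : Set (T ⧸ F))).comap π := by
    intro C S t hCS ht
    rw [Subgroup.mem_comap, Subgroup.mem_centralizer_iff]
    intro c hc'
    have h1 := hCS hc'
    rw [Subgroup.mem_centralizer_iff] at h1
    exact (h1 _ ht).symm
  have hcase : ∀ (A : Subgroup T) (L : List T), W ≤ A → ∀ t r g a : T, r ∈ L → g⁻¹ * t ∈ W →
      a ∈ A → r⁻¹ * g = a → ∃ r ∈ L, r⁻¹ * t ∈ A := by
    intro A L hWA' t r g a hr hgt ha hrg
    exact ⟨r, hr, h56_cover_mem W A hWA' t r g hgt (hrg ▸ ha)⟩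
  have hidx4 : ∀ A : Subgroup T, W ≤ A → z ∈ A → A.index ≤ 4 := by
    intro A hWA' hzA
    have h1 := h56_index_le A [1, x, y, y * x] ?_
    · simpa using h1
    intro t
    obtain ⟨g, hg8, hgt⟩ := hg.cover t
    rcases hg8 with h | h | h | h | h | h | h | h
    · exact hcase A _ hWA' t 1 g 1 (by simp) hgt A.one_mem (by rw [h]; group)
    · exact hcase A _ hWA' t 1 g z (by simp) hgt hzA (by rw [h]; group)
    · exact hcase A _ hWA' t x g 1 (by simp) hgt A.one_mem (by rw [h]; group)
    · exact hcase A _ hWA' t x g z (by simp) hgt hzA (by rw [h]; group)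
    · exact hcase A _ hWA' t y g 1 (by simp) hgt A.one_mem (by rw [h]; group)
    · exact hcase A _ hWA' t y g z (by simp) hgt hzA (by rw [h]; group)
    · exact hcase A _ hWA' t (y * x) g 1 (by simp) hgt A.one_mem (by rw [h]; group)
    · exact hcase A _ hWA' t (y * x) g z (by simp) hgt hzA (by rw [h]; group)
  have hidx2 : ∀ A : Subgroup T, W ≤ A → z ∈ A → x ∈ A → A.index ≤ 2 := by
    intro A hWA' hzA hxA
    have hxzA : x * z ∈ A := A.mul_mem hxA hzA
    have h1 := h56_index_le A [1, y] ?_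
    · simpa using h1
    intro t
    obtain ⟨g, hg8, hgt⟩ := hg.cover t
    rcases hg8 with h | h | h | h | h | h | h | h
    · exact hcase A _ hWA' t 1 g 1 (by simp) hgt A.one_mem (by rw [h]; group)
    · exact hcase A _ hWA' t 1 g z (by simp) hgt hzA (by rw [h]; group)
    · exact hcase A _ hWA' t 1 g x (by simp) hgt hxA (by rw [h]; group)
    · exact hcase A _ hWA' t 1 g (x * z) (by simp) hgt hxzA (by rw [h]; group)
    · exact hcase A _ hWA' t y g 1 (by simp) hgt A.one_mem (by rw [h]; group)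
    · exact hcase A _ hWA' t y g z (by simp) hgt hzA (by rw [h]; group)
    · exact hcase A _ hWA' t y g x (by simp) hgt hxA (by rw [h]; group)
    · exact hcase A _ hWA' t y g (x * z) (by simp) hgt hxzA (by rw [h]; group)
  have hidx1 : ∀ A : Subgroup T, W ≤ A → z ∈ A → x ∈ A → y ∈ A → A.index ≤ 1 := by
    intro A hWA' hzA hxA hyA
    have hxzA : x * z ∈ A := A.mul_mem hxA hzA
    have h1 := h56_index_le A [1] ?_
    · simpa using h1
    intro t
    obtain ⟨g, hg8, hgt⟩ := hg.cover t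
    rcases hg8 with h | h | h | h | h | h | h | h
    · exact hcase A _ hWA' t 1 g 1 (by simp) hgt A.one_mem (by rw [h]; group)
    · exact hcase A _ hWA' t 1 g z (by simp) hgt hzA (by rw [h]; group)
    · exact hcase A _ hWA' t 1 g x (by simp) hgt hxA (by rw [h]; group)
    · exact hcase A _ hWA' t 1 g (x * z) (by simp) hgt hxzA (by rw [h]; group)
    · exact hcase A _ hWA' t 1 g y (by simp) hgt hyA (by rw [h]; group)
    · exact hcase A _ hWA' t 1 g (y * z) (by simp) hgt (A.mul_mem hyA hzA) (by rw [h]; group)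
    · exact hcase A _ hWA' t 1 g (y * x) (by simp) hgt (A.mul_mem hyA hxA) (by rw [h]; group)
    · exact hcase A _ hWA' t 1 g (y * x * z) (by simp) hgt
        (A.mul_mem (A.mul_mem hyA hxA) hzA) (by rw [h]; group)
  have hz1 : π z ∈ S1 := Set.mem_insert _ _
  have hz2 : π z ∈ S2 := Set.mem_insert_of_mem _ hz1
  have hz3 : π z ∈ S3 := Set.mem_insert_of_mem _ hz2
  have hx2 : π x ∈ S2 := Set.mem_insert _ _
  have hx3 : π x ∈ S3 := Set.mem_insert_of_mem _ hx2
  have hy3 : π y ∈ S3 := Set.mem_insert _ _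
  have b1 : Nat.card ↥(M ⊓ Subgroup.centralizer S1) ≤ 2 ^ 4 :=
    hbound _ inf_le_left 4 (hidx4 _ (hWA _ inf_le_left) (hmemA _ S1 z inf_le_right hz1))
  have b2 : Nat.card ↥(M ⊓ Subgroup.centralizer S2) ≤ 2 ^ 2 :=
    hbound _ inf_le_left 2 (hidx2 _ (hWA _ inf_le_left) (hmemA _ S2 z inf_le_right hz2)
      (hmemA _ S2 x inf_le_right hx2))
  have b3 : Nat.card ↥(M ⊓ Subgroup.centralizer S3) ≤ 2 ^ 1 :=
    hbound _ inf_le_left 1 (hidx1 _ (hWA _ inf_le_left) (hmemA _ S3 z inf_le_right hz3)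
      (hmemA _ S3 x inf_le_right hx3) (hmemA _ S3 y inf_le_right hy3))
  have e0 : Nat.card ↥(M ⊓ Subgroup.centralizer S0) = 2 ^ 8 := by rw [hC0, hcardM]
  have c1 := count1.1
  have c2 := count2.1
  have c3 := count3.1
  rw [e0] at c1
  have e1 : Nat.card ↥(M ⊓ Subgroup.centralizer S1) = 16 := by
    have hb : Nat.card ↥(M ⊓ Subgroup.centralizer S1) ≤ 16 := le_trans b1 (by norm_num)
    have hc1 : 256 ≤ Nat.card ↥(M ⊓ Subgroup.centralizer S1) *
        Nat.card ↥(M ⊓ Subgroup.centralizer S1) := le_trans (by norm_num) c1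
    by_contra hne
    have h1 : Nat.card ↥(M ⊓ Subgroup.centralizer S1) ≤ 15 := by omega
    have h2 := Nat.mul_le_mul h1 h1
    omega
  rw [e1] at c2
  have e2 : Nat.card ↥(M ⊓ Subgroup.centralizer S2) = 4 := by
    have hb : Nat.card ↥(M ⊓ Subgroup.centralizer S2) ≤ 4 := le_trans b2 (by norm_num)
    by_contra hne
    have h1 : Nat.card ↥(M ⊓ Subgroup.centralizer S2) ≤ 3 := by omega
    have h2 := Nat.mul_le_mul h1 h1
    omega
  rw [e2] at c3
  have e3 : Nat.card ↥(M ⊓ Subgroup.centralizer S3) = 2 := by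
    have hb : Nat.card ↥(M ⊓ Subgroup.centralizer S3) ≤ 2 := le_trans b3 (by norm_num)
    by_contra hne
    have h1 : Nat.card ↥(M ⊓ Subgroup.centralizer S3) ≤ 1 := by omega
    have h2 := Nat.mul_le_mul h1 h1
    omega
  have onto1 := count1.2 (by rw [e0, e1]; norm_num)
  have onto2 := count2.2 (by rw [e1, e2])
  have onto3 := count3.2 (by rw [e2, e3])
  have hsC3 : π s ∈ M ⊓ Subgroup.centralizer S3 := by
    refine Subgroup.mem_inf.mpr ⟨hMmem s hsW, ?_⟩
    rw [Subgroup.mem_centralizer_iff]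
    intro h _
    obtain ⟨t, rfl⟩ := hπs h
    have h1 : π (t * s * t⁻¹ * s⁻¹) = 1 := (hπ1 _).mpr (hsT t)
    have h2 : t * s = (t * s * t⁻¹ * s⁻¹) * (s * t) := by group
    calc π t * π s = π (t * s) := (map_mul π t s).symm
      _ = π ((t * s * t⁻¹ * s⁻¹) * (s * t)) := by rw [← h2]
      _ = π s * π t := by rw [map_mul, h1, one_mul, map_mul]
  obtain ⟨v2, hv2, e2'⟩ := onto3 (π s) hsC3
  obtain ⟨v1, hv1, e1'⟩ := onto2 v2 hv2
  obtain ⟨v0, hv0, e0'⟩ := onto1 v1 hv1
  have hv0M : v0 ∈ M := hv0.1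
  obtain ⟨w, hw, rfl⟩ := Subgroup.mem_map.mp hv0M
  refine ⟨w, hw, ?_⟩
  apply (hπ1 _).mp
  have hfin : π (nrm x y z w) = π s := by
    rw [← e2', ← e1', ← e0']
    simp only [nrm, h56_phi, map_mul, map_inv]
    rfl
  rw [map_mul, map_inv, hfin, mul_inv_cancel]

end Main

end Cfsg.Agent.Helper56.RuZ
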