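import Mathlib
import Cfsg.Agent.Lib.Helper64.S4017Defs
import Cfsg.Agent.S0144

/-!
S4017M project (helper64, S4017): core of piece (HLEM) `Setting.lemmaH`, with the piece (HGEN)
`normal_of_transitive` (at the subgroup `H`) as a hypothesis.
-/

set_option autoImplicit false

namespace Cfsg.Agent.Helper56.S4017M

open Cfsg.Agent.Helper64.S4017

universe u

variable {G : Type u} [Group G] [Finite G] {a p : ℕ} {Q : Subgroup G} {x : G}

/-- a positive number all of whose prime factors are `2` or `p` is `2 ^ i * p ^ j` -/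
theorem hlem_two_prime_card {n p : ℕ} (hn : n ≠ 0) (hp : p.Prime)
    (hord : ∀ r : ℕ, r.Prime → r ∣ n → r = 2 ∨ r = p) :
    ∃ i j : ℕ, n = 2 ^ i * p ^ j := by
  set m := n / 2 ^ n.factorization 2 with hm
  have h1 : 2 ^ n.factorization 2 * m = n := Nat.ordProj_mul_ordCompl_eq_self n 2
  have hm0 : m ≠ 0 := by
    intro h0
    rw [h0, mul_zero] at h1
    exact hn h1.symm
  set m' := m / p ^ m.factorization p with hm'
  have h2 : p ^ m.factorization p * m' = m := Nat.ordProj_mul_ordCompl_eq_self m p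
  have hm'1 : m' = 1 := by
    by_contra hne
    obtain ⟨r, hr, hrm'⟩ := Nat.exists_prime_and_dvd hne
    have hrm : r ∣ m := dvd_trans hrm' (Nat.ordCompl_dvd m p)
    have hrn : r ∣ n := dvd_trans hrm (Nat.ordCompl_dvd n 2)
    rcases hord r hr hrn with h | h
    · subst h
      exact Nat.not_dvd_ordCompl Nat.prime_two hn hrm
    · subst h
      exact Nat.not_dvd_ordCompl hp hm0 hrm'
  rw [hm'1, mul_one] at h2
  exact ⟨n.factorization 2, m.factorization p, by rw [h2, h1]⟩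

theorem hlem_p_ne_two (h : Setting a p Q x) : p ≠ 2 := by
  intro h2
  have h1 := h.p_eq
  have h3 := h.two_le
  obtain ⟨b, rfl⟩ : ∃ b, a = b + 1 := ⟨a - 1, by omega⟩
  rw [pow_succ, h2] at h1
  omega

theorem lemmaH_core (h : Setting a p Q x) (H : Subgroup G) (hH : H ≠ ⊤) (hQ : Q ≤ H)
    (hx : x ∈ H)
    (hgen : Group.IsSolvable H → p.Prime → p ≠ 2 → 2 ≤ a →
      ∀ (Q' : Subgroup H), Nat.card Q' = 2 ^ a → ¬ 2 ^ (a + 1) ∣ Nat.card H →
      (∀ r : ℕ, r.Prime → r ∣ Nat.card H → r = 2 ∨ r = p) →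
      (∀ P : Sylow p H, ∀ g ∈ P, ∀ h ∈ P, g * h = h * g) →
      ∀ (x' : H), (∀ s ∈ Q', x' * s * x'⁻¹ ∈ Q') → IsPel p x' →
      (∀ t ∈ Q', t ≠ 1 → ∀ s ∈ Q', s ≠ 1 → ∃ i : ℕ, x' ^ i * t * (x' ^ i)⁻¹ = s) →
      Q'.Normal) :
    ∀ g ∈ H, ∀ s ∈ Q, g * s * g⁻¹ ∈ Q := by
  classical
  have hp : p.Prime := h.prime
  have hp2 : p ≠ 2 := hlem_p_ne_two h
  have hQH : Nat.card Q ∣ Nat.card H := Subgroup.card_dvd_of_le hQ
  have h2H : 2 ∣ Nat.card H := by
    refine dvd_trans ?_ hQH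
    rw [h.card_Q]
    exact dvd_pow_self 2 (by have := h.two_le; omega)
  have hord : ∀ r : ℕ, r.Prime → r ∣ Nat.card H → r = 2 ∨ r = p := h.star H hH h2H
  obtain ⟨i, j, hij⟩ := hlem_two_prime_card (Nat.card_pos (α := H)).ne' hp hord
  have hsolv : Group.IsSolvable H := Cfsg.Agent.S0144.result 2 p i j Nat.prime_two hp hij
  have hcardQ' : Nat.card (Q.subgroupOf H) = 2 ^ a := by
    rw [Nat.card_congr (Subgroup.subgroupOfEquivOfLe hQ).toEquiv, h.card_Q]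
  have hsyl : ¬ 2 ^ (a + 1) ∣ Nat.card H := fun hd =>
    h.sylow (dvd_trans hd (Subgroup.card_subgroup_dvd_card H))
  have habel : ∀ P : Sylow p H, ∀ g ∈ P, ∀ h' ∈ P, g * h' = h' * g := by
    intro P g hg h' hh'
    have : Fact p.Prime := ⟨hp⟩
    have hPp : IsPGroup p ((P : Subgroup H).map H.subtype) := P.isPGroup'.map H.subtype
    obtain ⟨P', hP'⟩ := hPp.exists_le_sylow
    have hg' : (g : G) ∈ P' := hP' (Subgroup.mem_map_of_mem H.subtype hg)
    have hh'' : (h' : G) ∈ P' := hP' (Subgroup.mem_map_of_mem H.subtype hh')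
    have := h.abel P' _ hg' _ hh''
    exact Subtype.ext this
  have hxn : ∀ s ∈ Q.subgroupOf H, (⟨x, hx⟩ : H) * s * (⟨x, hx⟩ : H)⁻¹ ∈ Q.subgroupOf H := by
    intro s hs
    rw [Subgroup.mem_subgroupOf] at hs ⊢
    exact h.x_norm _ hs
  have hxp : IsPel p (⟨x, hx⟩ : H) := by
    obtain ⟨j, hj⟩ := h.x_pel
    refine ⟨j, ?_⟩
    rw [← hj]
    exact Subgroup.orderOf_mk x hx
  have htr : ∀ t ∈ Q.subgroupOf H, t ≠ 1 → ∀ s ∈ Q.subgroupOf H, s ≠ 1 →
      ∃ i : ℕ, (⟨x, hx⟩ : H) ^ i * t * ((⟨x, hx⟩ : H) ^ i)⁻¹ = s := by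
    intro t ht ht1 s hs hs1
    rw [Subgroup.mem_subgroupOf] at ht hs
    have ht1' : (t : G) ≠ 1 := fun h0 => ht1 (Subtype.ext h0)
    have hs1' : (s : G) ≠ 1 := fun h0 => hs1 (Subtype.ext h0)
    obtain ⟨i, hi⟩ := h.x_trans _ ht ht1' _ hs hs1'
    refine ⟨i, Subtype.ext ?_⟩
    simpa using hi
  have hnorm : (Q.subgroupOf H).Normal :=
    hgen hsolv hp hp2 h.two_le (Q.subgroupOf H) hcardQ' hsyl hord habel ⟨x, hx⟩ hxn hxp htr
  intro g hg s hs
  have hs' : (⟨s, hQ hs⟩ : H) ∈ Q.subgroupOf H := by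
    rw [Subgroup.mem_subgroupOf]
    exact hs
  have := hnorm.conj_mem _ hs' ⟨g, hg⟩
  rw [Subgroup.mem_subgroupOf] at this
  simpa using this

end Cfsg.Agent.Helper56.S4017M
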