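import Mathlib
import Cfsg.Agent.Lib.Helper62.SLN0
import Cfsg.Agent.Lib.Helper78.SLN_G12

/-!
# SLNC (GGEN) (helper56, for helper93's SLNC sub-server, TOP-C of SLN, S2332):
G12 without the hypothesis `w j = 0` (helper78's G12 proof only used it for the first step).
-/

set_option autoImplicit false

namespace Cfsg.Agent.Helper56.SLNC

open Matrix Module Cfsg.Agent.Helper93.U2 Cfsg.Agent.Helper62.SLN Cfsg.Agent.Helper78.SLN

variable {F : Type*} [Field F] {κ : Type} [Fintype κ] [DecidableEq κ]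

/-- piece GGEN -/
theorem tvEl_comm_fix_gen (hκ : 4 ≤ Fintype.card κ) (i : κ) (w t : κ → F)
    (ht : Function.update t i 0 ⬝ᵥ w = 0) :
    ∃ X Y : SpecialLinearGroup κ F, X.1 *ᵥ w = w ∧ Y.1 *ᵥ w = w ∧ tvEl i t = X * Y * X⁻¹ * Y⁻¹ := by
  by_cases h0 : Function.update t i 0 = 0
  · refine ⟨1, 1, ?_, ?_, ?_⟩
    · rw [Matrix.SpecialLinearGroup.coe_one, Matrix.one_mulVec]
    · rw [Matrix.SpecialLinearGroup.coe_one, Matrix.one_mulVec]
    · apply Subtype.ext
      rw [tvEl_val, h0]
      simp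
  · obtain ⟨f, y, hfj, hfw, hfy, hsy⟩ :=
      g12_exists_fy hκ i w (Function.update t i 0) h0 (Function.update_self i 0 t)
    refine ⟨tvEl i f, g11Y y (Function.update t i 0) hsy, ?_, ?_, g11_of_fy i t f y hfj hsy hfy⟩
    · apply g11_tvEl_fix
      have hf' : Function.update f i 0 = f := by
        rw [Function.update_eq_self_iff]
        exact hfj.symm
      rw [hf']
      exact hfw
    · apply g11_Y_fix
      exact ht

end Cfsg.Agent.Helper56.SLNC
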