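import Mathlib
import Cfsg.Agent.Lib.Helper62.SLN0
import Cfsg.Agent.Lib.Helper60.SLN_S0
import Cfsg.Agent.Lib.Helper60.SLN_S2
import Cfsg.Agent.Lib.Helper60.SLN_S3
import Cfsg.Agent.Lib.Helper88.SLN_S4
import Cfsg.Agent.Lib.Helper5.SLN_S6
import Cfsg.Agent.Lib.Helper57.SLN_K1a3
import Cfsg.Agent.Lib.Helper57.SLN_K1b3

/-!
# SLN project (S2332), piece TOP-B, core (helper56): `n = 3`, `q ∉ {2, 4}`, with ORB as a hypothesis.
-/

set_option autoImplicit false

namespace Cfsg.Agent.Helper56.SLN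

open Matrix Module Cfsg.Agent.Helper93.U2 Cfsg.Agent.Helper62.SLN

variable {F : Type*} [Field F] [Fintype F] [DecidableEq F] {κ : Type} [Fintype κ] [DecidableEq κ]

/-- core of TOP-B: ORB is a hypothesis -/
theorem topB_core
    (horb : ∀ (ψ : AddChar F ℂ) (pr : Pairing (κ → F)) (_ : ∀ w u, pr.β w u = ψ (w ⬝ᵥ u)) {k : ℕ}
      (ρ : Representation ℂ (SpecialLinearGroup (Unit ⊕ κ) F) (Fin k → ℂ)) (j : κ)
      (_ : ∀ w : κ → F, w ≠ 0 → finrank ℂ (wt pr ρ w) = 1)
      (_ : ∀ a : F, a ≠ 0 → ∀ t : κ → F, ∀ v ∈ wt pr ρ (a • Pi.single j 1), ρ (qEl j t) v = v)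
      (𝒲 : Finset (κ → F)) (_ : ∀ w ∈ 𝒲, w j = 0 ∧ w ≠ 0)
      (_ : ∀ w ∈ 𝒲, ∀ t : κ → F, t ⬝ᵥ w = 0 → ∀ v ∈ wt pr ρ w, ρ (qEl j t) v = v),
      finrank ℂ (fixSp ρ (Qset (F := F) j) ⊓ wt pr ρ 0 : Submodule ℂ (Fin k → ℂ)) + 𝒲.card ≤
        finrank ℂ (wt pr ρ 0))
    (hκ : Fintype.card κ = 2) (hq2 : Fintype.card F ≠ 2) (hq4 : Fintype.card F ≠ 4) {k : ℕ}
    (ρ : Representation ℂ (SpecialLinearGroup (Unit ⊕ κ) F) (Fin k → ℂ)) (hρ : ρ.IsIrreducible)
    (hk : 2 ≤ k) :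
    2 * (Fintype.card F ^ 2 - 1) ≤ k ∨
    ∃ c : ℕ, k = c + (Fintype.card F ^ 2 - 1) ∧
      ((k : ℤ) ∣ ((gs (Fintype.card F) 3 * (Fintype.card F ^ 2 - 1) : ℕ) : ℤ) * ((c : ℤ) - 1)) ∧
      Fintype.card F - 1 ≤ c := by
  classical
  obtain ⟨ψ, pr, hpr⟩ := Cfsg.Agent.Helper60.SLN.exists_pairing F κ
  obtain ⟨w0, hw0, hw0ne⟩ :=
    Cfsg.Agent.Helper60.SLN.exists_wt_ne_bot ψ pr hpr ρ hρ hk (by omega)
  have hd : ∀ w : κ → F, w ≠ 0 → finrank ℂ (wt pr ρ w) = finrank ℂ (wt pr ρ w0) :=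
    fun w hw => Cfsg.Agent.Helper60.SLN.finrank_wt_const ψ pr hpr ρ (by omega) w w0 hw hw0
  have hdpos : 1 ≤ finrank ℂ (wt pr ρ w0) := by
    by_contra h
    have h0 : finrank ℂ (wt pr ρ w0) = 0 := by omega
    exact hw0ne (Submodule.finrank_eq_zero.1 h0)
  have hdim := Cfsg.Agent.Helper88.SLN.dim_formula ψ pr hpr ρ _ hd
  rw [Module.finrank_fin_fun, hκ] at hdim
  have hq1 : 1 ≤ Fintype.card F ^ 2 := Nat.one_le_pow _ _ Fintype.card_pos
  by_cases hd2 : 2 ≤ finrank ℂ (wt pr ρ w0)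
  · left
    have := Nat.mul_le_mul_right (Fintype.card F ^ 2 - 1) hd2
    omega
  · right
    have hd1' : finrank ℂ (wt pr ρ w0) = 1 := by omega
    have hd1 : ∀ w : κ → F, w ≠ 0 → finrank ℂ (wt pr ρ w) = 1 := fun w hw => by
      rw [hd w hw, hd1']
    rw [hd1', one_mul] at hdim
    refine ⟨finrank ℂ (wt pr ρ 0), hdim, ?_, ?_⟩
    · have h := Cfsg.Agent.Helper5.SLN.div_transvections ψ pr hpr ρ hρ (by omega) 1 hd1
      rw [Module.finrank_fin_fun, hκ] at h
      exact_mod_cast h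
    · -- ORB
      obtain ⟨j, j', hjj'⟩ : ∃ j j' : κ, j ≠ j' := by
        have : 1 < Fintype.card κ := by omega
        exact Fintype.exists_pair_of_one_lt_card this
      let 𝒲 : Finset (κ → F) :=
        (Finset.univ.filter (fun a : F => a ≠ 0)).image (fun a => a • (Pi.single j' 1 : κ → F))
      have hcard : 𝒲.card = Fintype.card F - 1 := by
        rw [Finset.card_image_of_injective]
        · rw [Finset.filter_ne' Finset.univ (0 : F), Finset.card_erase_of_mem (Finset.mem_univ _),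
            Finset.card_univ]
        · intro a b hab
          have := congrFun hab j'
          simpa using this
      have h := horb ψ pr hpr ρ j hd1
        (fun a ha t v hv =>
          Cfsg.Agent.Helper57.SLN.k1a_three ψ pr hpr ρ hκ hq2 hq4 hd1 j a ha t v hv)
        𝒲
        (by
          intro w hw
          obtain ⟨a, ha, rfl⟩ := Finset.mem_image.1 hw
          have ha0 : a ≠ 0 := (Finset.mem_filter.1 ha).2
          refine ⟨by simp [hjj'], ?_⟩
          intro h0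
          have := congrFun h0 j'
          simp at this
          exact ha0 this)
        (by
          intro w hw t ht v hv
          obtain ⟨a, ha, rfl⟩ := Finset.mem_image.1 hw
          have ha0 : a ≠ 0 := (Finset.mem_filter.1 ha).2
          have hwj : (a • (Pi.single j' 1 : κ → F)) j = 0 := by simp [hjj']
          have hw0' : a • (Pi.single j' 1 : κ → F) ≠ 0 := by
            intro h0
            have := congrFun h0 j'
            simp at this
            exact ha0 this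
          have h1 := Cfsg.Agent.Helper57.SLN.k1b_three ψ pr hpr hκ j _ hwj hw0' t ht
          rw [h1, map_one]
          rfl)
      rw [hcard] at h
      omega

end Cfsg.Agent.Helper56.SLN
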