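import Mathlib
import Cfsg.Agent.Lib.Helper62.SLN0
import Cfsg.Agent.Lib.Helper56.SLN_TOPBCore
import Cfsg.Agent.Lib.Helper70.SLN_ORB

/-!
# SLN project (S2332), piece TOP-B (helper56, for helper62's SLN server): `n = 3`, `q ∉ {2, 4}`.
`topB_core` (S0 S2 S3 S4 S6 K1a3 K1b3) + ORB (helper70).
-/

set_option autoImplicit false

namespace Cfsg.Agent.Helper56.SLN

open Matrix Module Cfsg.Agent.Helper93.U2 Cfsg.Agent.Helper62.SLN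

variable {F : Type*} [Field F] [Fintype F] [DecidableEq F] {κ : Type} [Fintype κ] [DecidableEq κ]

/-- piece TOP-B (S0, S2, S3, S4, S6, K1a3, K1b3, ORB with `𝒲 = {a • single j' 1 : a ≠ 0}`):
`n = 3`, `q ∉ {2, 4}`. -/
theorem topB (hκ : Fintype.card κ = 2) (hq2 : Fintype.card F ≠ 2) (hq4 : Fintype.card F ≠ 4) {k : ℕ}
    (ρ : Representation ℂ (SpecialLinearGroup (Unit ⊕ κ) F) (Fin k → ℂ)) (hρ : ρ.IsIrreducible)
    (hk : 2 ≤ k) :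
    2 * (Fintype.card F ^ 2 - 1) ≤ k ∨
    ∃ c : ℕ, k = c + (Fintype.card F ^ 2 - 1) ∧
      ((k : ℤ) ∣ ((gs (Fintype.card F) 3 * (Fintype.card F ^ 2 - 1) : ℕ) : ℤ) * ((c : ℤ) - 1)) ∧
      Fintype.card F - 1 ≤ c :=
  topB_core
    (fun ψ pr hpr _ ρ j hd1 h1a 𝒲 h𝒲0 h𝒲 =>
      Cfsg.Agent.Helper70.SLN.orb ψ pr hpr ρ j hd1 h1a 𝒲 h𝒲0 h𝒲)
    hκ hq2 hq4 ρ hρ hk

end Cfsg.Agent.Helper56.SLN
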