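import Mathlib
import Cfsg.Agent.Lib.Helper2.SS0
import Cfsg.Agent.Lib.Helper2.SRC0

/-!
# SS (Y11a core) (helper56, for helper2's SS server, S2411): the closure argument for `n ≥ 3`,
with the orbit facts (Y9a, Y9b, Y10) as hypotheses.
-/

set_option autoImplicit false
set_option linter.unusedSimpArgs false

namespace Cfsg.Agent.Helper56.SS

open Matrix Cfsg Cfsg.Agent.Helper13 Cfsg.Agent.Helper84.SpRoot Cfsg.Agent.Helper5.SpAut
open Cfsg.Agent.Helper2.SR Cfsg.Agent.Helper2.SS

section Y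
variable {F : Type*} [Field F] {m : ℕ}

theorem h56_be_inl (i k : Fin (m + 2)) :
    (be i : Fin (m + 2) ⊕ Fin (m + 2) → F) (Sum.inl k) = if k = i then 1 else 0 := by
  simp [be, Pi.single_apply]

theorem h56_be_inr (i k : Fin (m + 2)) :
    (be i : Fin (m + 2) ⊕ Fin (m + 2) → F) (Sum.inr k) = 0 := by
  simp [be, Pi.single_apply]

theorem h56_bf_inl (i k : Fin (m + 2)) :
    (bf i : Fin (m + 2) ⊕ Fin (m + 2) → F) (Sum.inl k) = 0 := by
  simp [bf, Pi.single_apply]

theorem h56_bf_inr (i k : Fin (m + 2)) :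
    (bf i : Fin (m + 2) ⊕ Fin (m + 2) → F) (Sum.inr k) = if k = i then 1 else 0 := by
  simp [bf, Pi.single_apply]

/-- a vector orthogonal to `e_0` lies in any subspace containing `e_i` (all `i`) and `f_i` (`i ≠ 0`) -/
theorem h56_mem_of_basis (S : Submodule F (Fin (m + 2) ⊕ Fin (m + 2) → F))
    (he : ∀ i : Fin (m + 2), be i ∈ S) (hf : ∀ i : Fin (m + 2), i ≠ 0 → bf i ∈ S)
    (x : Fin (m + 2) ⊕ Fin (m + 2) → F) (hx : Cfsg.sympForm (m + 2) F x (be 0) = 0) : x ∈ S := by
  rw [(form_basis _ _).1] at hx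
  have hsum : x = ∑ k, Pi.single k (x k) := (Finset.univ_sum_single x).symm
  rw [hsum]
  refine Submodule.sum_mem _ (fun k _ => ?_)
  rcases k with i | i
  · have : (Pi.single (Sum.inl i) (x (Sum.inl i)) : Fin (m + 2) ⊕ Fin (m + 2) → F) =
        x (Sum.inl i) • be i := by
      ext k; simp [be, Pi.single_apply]
    rw [this]; exact S.smul_mem _ (he i)
  · by_cases hi : i = 0
    · subst hi; rw [hx, Pi.single_zero]; exact S.zero_mem
    · have : (Pi.single (Sum.inr i) (x (Sum.inr i)) : Fin (m + 2) ⊕ Fin (m + 2) → F) =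
          x (Sum.inr i) • bf i := by
        ext k; simp [bf, Pi.single_apply]
      rw [this]; exact S.smul_mem _ (hf i hi)

theorem h56_cyc_core (hm : 1 ≤ m) {α β ξ : F} (hαβ : α * β ≠ 0) (hβ : β ≠ 0) (hξ : ξ ≠ 0)
    (O : Set (Fin (m + 2) ⊕ Fin (m + 2) → F))
    (hOe : ∀ i : Fin (m + 2), (be i : Fin (m + 2) ⊕ Fin (m + 2) → F) ∈ O ∧
      (bf i : Fin (m + 2) ⊕ Fin (m + 2) → F) ∈ O)
    (D : ℕ → Fin (m + 2) ⊕ Fin (m + 2) → F) (hD0 : D 0 = dV α β ξ) (hOD : ∀ j, D j ∈ O)
    (hDj : ∀ j : ℕ, 2 ≤ j → j ≤ m → ∀ a b c : Fin (m + 2), a.val = j - 1 → b.val = j →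
      c.val = j + 1 →
      D j = (1 - α * β) • be c + (α * β) • be b - (β * ξ) • bf a - β • bf c)
    (S : Submodule F (Fin (m + 2) ⊕ Fin (m + 2) → F)) (hp : pGe β ξ ∈ S)
    (hcl : ∀ v ∈ O, Cfsg.sympForm (m + 2) F v (be 0) = 0 →
        (∃ w ∈ S, Cfsg.sympForm (m + 2) F w v ≠ 0) → v ∈ S) :
    ∀ x, Cfsg.sympForm (m + 2) F x (be 0) = 0 → x ∈ S := by
  have hβξ : β * ξ ≠ 0 := mul_ne_zero hβ hξ
  have h0B : (0 : Fin (m + 2)) ≠ jB := by
    intro h; have := congrArg Fin.val h; simp [jB] at this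
  have h1B : (1 : Fin (m + 2)) ≠ jB := by
    intro h; have := congrArg Fin.val h; simp [jB] at this; omega
  have h01 : (0 : Fin (m + 2)) ≠ 1 := by
    intro h; have := congrArg Fin.val h; simp at this
  -- e_1
  have he1 : (be 1 : Fin (m + 2) ⊕ Fin (m + 2) → F) ∈ S := by
    refine hcl _ (hOe 1).1 ?_ ⟨pGe β ξ, hp, ?_⟩
    · rw [(form_basis _ _).1, h56_be_inr]
    · rw [(form_basis _ _).1]
      simp only [pGe, wpV, Pi.add_apply, Pi.neg_apply, Pi.smul_apply, smul_eq_mul, h56_be_inr,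
        h56_bf_inr, if_neg h1B, if_true, mul_zero, add_zero, neg_zero, zero_add, mul_one]
      exact hβξ
  -- f_1
  have hf1 : (bf 1 : Fin (m + 2) ⊕ Fin (m + 2) → F) ∈ S := by
    refine hcl _ (hOe 1).2 ?_ ⟨be 1, he1, ?_⟩
    · rw [(form_basis _ _).1, h56_bf_inr, if_neg h01]
    · rw [(form_basis _ _).2.2.1, h56_bf_inr, if_pos rfl]; norm_num
  -- d
  have hdS : dV α β ξ ∈ S := by
    refine hcl _ (hD0 ▸ hOD 0) ?_ ⟨be 1, he1, ?_⟩
    · rw [(form_basis _ _).1]
      simp only [dV, Pi.add_apply, Pi.sub_apply, Pi.smul_apply, smul_eq_mul, h56_be_inr, h56_bf_inr,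
        if_neg h01, mul_zero, add_zero, sub_zero]
    · rw [(form_basis _ _).2.2.1]
      simp only [dV, Pi.add_apply, Pi.sub_apply, Pi.smul_apply, smul_eq_mul, h56_be_inr, h56_bf_inr,
        if_true, mul_zero, add_zero, sub_zero, mul_one, zero_sub, neg_neg]
      exact hβ
  -- f_{n-1}
  have hfB : (bf jB : Fin (m + 2) ⊕ Fin (m + 2) → F) ∈ S := by
    refine hcl _ (hOe jB).2 ?_ ⟨dV α β ξ, hdS, ?_⟩
    · rw [(form_basis _ _).1, h56_bf_inr, if_neg h0B]
    · rw [(form_basis _ _).2.1]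
      simp only [dV, Pi.add_apply, Pi.sub_apply, Pi.smul_apply, smul_eq_mul, h56_be_inl, h56_bf_inl,
        if_neg h1B.symm, if_neg h0B.symm, if_true, mul_zero, add_zero, sub_zero, mul_one, zero_sub,
        neg_neg]
      exact hβξ
  -- e_{n-1}
  have heB : (be jB : Fin (m + 2) ⊕ Fin (m + 2) → F) ∈ S := by
    refine hcl _ (hOe jB).1 ?_ ⟨bf jB, hfB, ?_⟩
    · rw [(form_basis _ _).1, h56_be_inr]
    · rw [(form_basis _ _).2.2.2, h56_be_inl, if_pos rfl]; exact one_ne_zero
  -- e_0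
  have he0 : (be 0 : Fin (m + 2) ⊕ Fin (m + 2) → F) ∈ S := by
    have h1 : (α * β) • (be 0 : Fin (m + 2) ⊕ Fin (m + 2) → F) =
        dV α β ξ - (1 - α * β) • be 1 + (β * ξ) • be jB + β • bf 1 := by
      simp only [dV]; abel
    have h2 : (α * β) • (be 0 : Fin (m + 2) ⊕ Fin (m + 2) → F) ∈ S := by
      rw [h1]
      exact S.add_mem (S.add_mem (S.sub_mem hdS (S.smul_mem _ he1)) (S.smul_mem _ heB))
        (S.smul_mem _ hf1)
    have h3 := S.smul_mem (α * β)⁻¹ h2
    rwa [smul_smul, inv_mul_cancel₀ hαβ, one_smul] at h3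
  -- induction
  have hind : ∀ j : ℕ, 1 ≤ j → ∀ hj : j ≤ m,
      (be ⟨j, by omega⟩ : Fin (m + 2) ⊕ Fin (m + 2) → F) ∈ S ∧
      (bf ⟨j, by omega⟩ : Fin (m + 2) ⊕ Fin (m + 2) → F) ∈ S := by
    intro j hj1
    induction j, hj1 using Nat.le_induction with
    | base =>
      intro hj
      have e : (⟨1, by omega⟩ : Fin (m + 2)) = 1 := by ext; simp
      rw [e]; exact ⟨he1, hf1⟩
    | succ j hj1 ih =>
      intro hj
      obtain ⟨hea, -⟩ := ih (by omega)
      set a : Fin (m + 2) := ⟨j, by omega⟩ with ha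
      set b : Fin (m + 2) := ⟨j + 1, by omega⟩ with hb
      set c : Fin (m + 2) := ⟨j + 2, by omega⟩ with hc
      have hDeq := hDj (j + 1) (by omega) hj a b c (by simp [ha]) (by simp [hb]) (by simp [hc])
      have hab : a ≠ b := by intro h; have := congrArg Fin.val h; simp [ha, hb] at this
      have hac : a ≠ c := by intro h; have := congrArg Fin.val h; simp [ha, hc] at this
      have hbc : b ≠ c := by intro h; have := congrArg Fin.val h; simp [hb, hc] at this
      have h0a : (0 : Fin (m + 2)) ≠ a := by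
        intro h; have := congrArg Fin.val h; simp [ha] at this; omega
      have h0b : (0 : Fin (m + 2)) ≠ b := by
        intro h; have := congrArg Fin.val h; simp [hb] at this
      have h0c : (0 : Fin (m + 2)) ≠ c := by
        intro h; have := congrArg Fin.val h; simp [hc] at this
      have hDS : D (j + 1) ∈ S := by
        refine hcl _ (hOD (j + 1)) ?_ ⟨be a, hea, ?_⟩
        · rw [(form_basis _ _).1, hDeq]
          simp only [Pi.add_apply, Pi.sub_apply, Pi.smul_apply, smul_eq_mul, h56_be_inr, h56_bf_inr,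
            if_neg h0a, if_neg h0c, mul_zero, add_zero, sub_zero]
        · rw [(form_basis _ _).2.2.1, hDeq]
          simp only [Pi.add_apply, Pi.sub_apply, Pi.smul_apply, smul_eq_mul, h56_be_inr, h56_bf_inr,
            if_neg hac, if_true, mul_zero, add_zero, sub_zero, mul_one, zero_sub, neg_neg]
          exact hβξ
      have hfb : (bf b : Fin (m + 2) ⊕ Fin (m + 2) → F) ∈ S := by
        refine hcl _ (hOe b).2 ?_ ⟨D (j + 1), hDS, ?_⟩
        · rw [(form_basis _ _).1, h56_bf_inr, if_neg h0b]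
        · rw [(form_basis _ _).2.1, hDeq]
          simp only [Pi.add_apply, Pi.sub_apply, Pi.smul_apply, smul_eq_mul, h56_be_inl, h56_bf_inl,
            if_neg hbc, if_true, mul_zero, zero_add, sub_zero, mul_one]
          exact neg_ne_zero.mpr hαβ
      have heb : (be b : Fin (m + 2) ⊕ Fin (m + 2) → F) ∈ S := by
        refine hcl _ (hOe b).1 ?_ ⟨bf b, hfb, ?_⟩
        · rw [(form_basis _ _).1, h56_be_inr]
        · rw [(form_basis _ _).2.2.2, h56_be_inl, if_pos rfl]; exact one_ne_zero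
      exact ⟨heb, hfb⟩
  -- all basis vectors
  intro x hx
  refine h56_mem_of_basis S ?_ ?_ x hx
  · intro i
    by_cases hi0 : i.val = 0
    · have : i = 0 := Fin.ext (by simpa using hi0)
      rw [this]; exact he0
    · by_cases hiB : i.val = m + 1
      · have : i = jB := Fin.ext (by simpa [jB] using hiB)
        rw [this]; exact heB
      · have h := (hind i.val (by omega) (by omega)).1
        exact h
  · intro i hi
    have hi0 : i.val ≠ 0 := fun h => hi (Fin.ext (by simpa using h))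
    by_cases hiB : i.val = m + 1
    · have : i = jB := Fin.ext (by simpa [jB] using hiB)
      rw [this]; exact hfB
    · have h := (hind i.val (by omega) (by omega)).2
      exact h

end Y

end Cfsg.Agent.Helper56.SS
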