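import Mathlib
import Cfsg.Agent.Lib.Helper2.SS0
import Cfsg.Agent.Lib.Helper2.SRC0
import Cfsg.Agent.Lib.Helper56.SSY11aCore

/-!
# SS (Y11b core) (helper56, for helper2's SS server, S2411): the closure argument for `n = 2`,
with the orbit facts as hypotheses.
-/

set_option autoImplicit false
set_option linter.unusedSimpArgs false

namespace Cfsg.Agent.Helper56.SS

open Matrix Cfsg Cfsg.Agent.Helper13 Cfsg.Agent.Helper84.SpRoot Cfsg.Agent.Helper5.SpAut
open Cfsg.Agent.Helper2.SR Cfsg.Agent.Helper2.SS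

section Y
variable {F : Type*} [Field F]

theorem h56_cyc_two_core {α β ξ : F} (hαβ : α * β ≠ 0) (hβ : β ≠ 0) (hγ : 1 - β * (ξ + α) ≠ 0)
    (O : Set (Fin (0 + 2) ⊕ Fin (0 + 2) → F))
    (hOe : ∀ i : Fin (0 + 2), (be (m := 0) i : Fin (0 + 2) ⊕ Fin (0 + 2) → F) ∈ O ∧
      (bf (m := 0) i : Fin (0 + 2) ⊕ Fin (0 + 2) → F) ∈ O)
    (hOD : dV (m := 0) α β ξ ∈ O)
    (S : Submodule F (Fin (0 + 2) ⊕ Fin (0 + 2) → F)) (hp : pTwo α β ξ ∈ S)
    (hcl : ∀ v ∈ O, Cfsg.sympForm (0 + 2) F v (be 0) = 0 →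
        (∃ w ∈ S, Cfsg.sympForm (0 + 2) F w v ≠ 0) → v ∈ S) :
    ∀ x, Cfsg.sympForm (0 + 2) F x (be 0) = 0 → x ∈ S := by
  have hB1 : (jB : Fin (0 + 2)) = 1 := by ext; simp [jB]
  have h01 : (0 : Fin (0 + 2)) ≠ 1 := by
    intro h; have := congrArg Fin.val h; simp at this
  -- e_1
  have he1 : (be (m := 0) 1 : Fin (0 + 2) ⊕ Fin (0 + 2) → F) ∈ S := by
    refine hcl _ (hOe 1).1 ?_ ⟨pTwo α β ξ, hp, ?_⟩
    · rw [(form_basis _ _).1, h56_be_inr]
    · rw [(form_basis _ _).1]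
      simp only [pTwo, wV, wpV, hB1, Pi.add_apply, Pi.sub_apply, Pi.neg_apply, Pi.smul_apply,
        smul_eq_mul, h56_be_inr, h56_bf_inr, if_true, mul_zero, add_zero, sub_zero, zero_add,
        mul_one]
      intro h
      apply hγ
      linear_combination -h
  -- f_1
  have hf1 : (bf (m := 0) 1 : Fin (0 + 2) ⊕ Fin (0 + 2) → F) ∈ S := by
    refine hcl _ (hOe 1).2 ?_ ⟨be 1, he1, ?_⟩
    · rw [(form_basis _ _).1, h56_bf_inr, if_neg h01]
    · rw [(form_basis _ _).2.2.1, h56_bf_inr, if_pos rfl]; norm_num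
  -- d
  have hdS : dV (m := 0) α β ξ ∈ S := by
    refine hcl _ hOD ?_ ⟨be 1, he1, ?_⟩
    · rw [(form_basis _ _).1]
      simp only [dV, hB1, Pi.add_apply, Pi.sub_apply, Pi.smul_apply, smul_eq_mul, h56_be_inr,
        h56_bf_inr, if_neg h01, mul_zero, add_zero, sub_zero]
    · rw [(form_basis _ _).2.2.1]
      simp only [dV, hB1, Pi.add_apply, Pi.sub_apply, Pi.smul_apply, smul_eq_mul, h56_be_inr,
        h56_bf_inr, if_true, mul_zero, add_zero, sub_zero, mul_one, zero_sub, neg_neg]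
      exact hβ
  -- e_0
  have he0 : (be (m := 0) 0 : Fin (0 + 2) ⊕ Fin (0 + 2) → F) ∈ S := by
    have h1 : (α * β) • (be (m := 0) 0 : Fin (0 + 2) ⊕ Fin (0 + 2) → F) =
        dV (m := 0) α β ξ - (1 - α * β) • be 1 + (β * ξ) • be 1 + β • bf 1 := by
      simp only [dV, hB1]; abel
    have h2 : (α * β) • (be (m := 0) 0 : Fin (0 + 2) ⊕ Fin (0 + 2) → F) ∈ S := by
      rw [h1]
      exact S.add_mem (S.add_mem (S.sub_mem hdS (S.smul_mem _ he1)) (S.smul_mem _ he1))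
        (S.smul_mem _ hf1)
    have h3 := S.smul_mem (α * β)⁻¹ h2
    rwa [smul_smul, inv_mul_cancel₀ hαβ, one_smul] at h3
  intro x hx
  refine h56_mem_of_basis (m := 0) S ?_ ?_ x hx
  · intro i
    fin_cases i
    · exact he0
    · exact he1
  · intro i hi
    fin_cases i
    · exact absurd rfl hi
    · exact hf1

end Y

end Cfsg.Agent.Helper56.SS
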