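import Mathlib
import Cfsg.Agent.Lib.Helper2.SS0
import Cfsg.Agent.Lib.Helper12.SSY1
import Cfsg.Agent.Lib.Helper41.SSY3
import Cfsg.Agent.Lib.Helper5.SSY9a
import Cfsg.Agent.Lib.Helper56.SSY11aCore
import Cfsg.Agent.Lib.Helper56.SSY11bCore

/-!
# SS (Y11a) (Y11b) (helper56, for helper2's SS server, S2411): the closure arguments, VERBATIM.
Cores: `SSY11aCore`, `SSY11bCore`; orbit facts: helper5's `orb_basis`, `c_pow_d` and a private `orb_d`.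
-/

set_option autoImplicit false

namespace Cfsg.Agent.Helper56.SS

open Matrix Cfsg Cfsg.Agent.Helper13 Cfsg.Agent.Helper84.SpRoot Cfsg.Agent.Helper5.SpAut
open Cfsg.Agent.Helper2.SR Cfsg.Agent.Helper2.SS

section Y
variable {F : Type*} [Field F] {m : ℕ}

/-- private copy of (Y9b): `c^j d = (c^j y c) e_0` -/
theorem h56_orb_d {H : Subgroup (Matrix.symplecticGroup (Fin (m + 2)) F)} {α β ξ : F}
    (hc : cEl m F ∈ H) (hy : yEl α β ξ ∈ H) :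
    ∀ j : ℕ, ((cEl m F) ^ j).val *ᵥ dV α β ξ ∈ Orb H (be 0) := by
  intro j
  refine ⟨(cEl m F) ^ j * yEl α β ξ * cEl m F,
    H.mul_mem (H.mul_mem (H.pow_mem hc j) hy) hc, ?_⟩
  rw [mul_act, mul_act, (Cfsg.Agent.Helper12.SS.c_act).1 0 1 (by simp),
    (Cfsg.Agent.Helper41.SS.y_act α β ξ).2.1]

/-- (Y11a) the closure argument, `n ≥ 3`. -/
theorem cyc_ge (hm : 1 ≤ m) {α β ξ : F} (hαβ : α * β ≠ 0) (hβ : β ≠ 0) (hξ : ξ ≠ 0)
    {H : Subgroup (Matrix.symplecticGroup (Fin (m + 2)) F)}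
    (hc : cEl m F ∈ H) (hy : yEl α β ξ ∈ H) :
    ∀ S : Submodule F (Fin (m + 2) ⊕ Fin (m + 2) → F), pGe β ξ ∈ S →
      (∀ v ∈ Orb H (be 0), Cfsg.sympForm (m + 2) F v (be 0) = 0 →
        (∃ w ∈ S, Cfsg.sympForm (m + 2) F w v ≠ 0) → v ∈ S) →
      ∀ x, Cfsg.sympForm (m + 2) F x (be 0) = 0 → x ∈ S := by
  intro S hp hcl
  refine h56_cyc_core hm hαβ hβ hξ (Orb H (be 0)) (Cfsg.Agent.Helper5.SS.orb_basis hc)
    (fun j => ((cEl m F) ^ j).val *ᵥ dV α β ξ) ?_ (h56_orb_d hc hy) ?_ S hp hcl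
  · simp
  · intro j h2 hjm a b c ha hb hcc
    exact Cfsg.Agent.Helper5.SS.c_pow_d α β ξ j h2 hjm a b c ha hb hcc

/-- (Y11b) `n = 2`. -/
theorem cyc_two {α β ξ : F} (hαβ : α * β ≠ 0) (hβ : β ≠ 0) (hγ : 1 - β * (ξ + α) ≠ 0)
    {H : Subgroup (Matrix.symplecticGroup (Fin (0 + 2)) F)}
    (hc : cEl 0 F ∈ H) (hy : yEl α β ξ ∈ H) :
    ∀ S : Submodule F (Fin (0 + 2) ⊕ Fin (0 + 2) → F), pTwo α β ξ ∈ S →
      (∀ v ∈ Orb H (be 0), Cfsg.sympForm (0 + 2) F v (be 0) = 0 →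
        (∃ w ∈ S, Cfsg.sympForm (0 + 2) F w v ≠ 0) → v ∈ S) →
      ∀ x, Cfsg.sympForm (0 + 2) F x (be 0) = 0 → x ∈ S := by
  intro S hp hcl
  refine h56_cyc_two_core hαβ hβ hγ (Orb H (be 0)) (Cfsg.Agent.Helper5.SS.orb_basis hc) ?_ S hp hcl
  have := h56_orb_d hc hy 0
  simpa using this

end Y

end Cfsg.Agent.Helper56.SS
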