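import Mathlib
import Cfsg.Agent.Lib.Helper2.SS0
import Cfsg.Agent.Lib.Helper2.SRC0
import Cfsg.Agent.Lib.Helper12.SSY1
import Cfsg.Agent.Lib.Helper41.SSY3
import Cfsg.Agent.Lib.Helper41.SSY4
import Cfsg.Agent.Lib.Helper58.SSG1
import Cfsg.Agent.Lib.Helper56.SSY11aCore

/-!
# SS (Y12a) (Y12b) (helper56, for helper2's SS server, S2411): the seeds.
-/

set_option autoImplicit false
set_option linter.unusedSimpArgs false

namespace Cfsg.Agent.Helper56.SS

open Matrix Cfsg Cfsg.Agent.Helper13 Cfsg.Agent.Helper84.SpRoot Cfsg.Agent.Helper5.SpAut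
open Cfsg.Agent.Helper2.SR Cfsg.Agent.Helper2.SS

section Y
variable {F : Type*} [Field F] {m : ℕ}

/-- transvections with centre in the orbit of `e_0` -/
theorem h56_conj_mem {H : Subgroup (Matrix.symplecticGroup (Fin (m + 2)) F)} {κ : F}
    (hκ : sympT (be (m := m) 0) κ ∈ H) :
    ∀ g ∈ H, sympT (g.val *ᵥ be (m := m) 0) κ ∈ H := by
  intro g hg
  rw [← conj_sympT]
  exact H.mul_mem (H.mul_mem hg hκ) (H.inv_mem hg)

theorem h56_c_e0 : (cEl m F).val *ᵥ be 0 = be 1 :=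
  (Cfsg.Agent.Helper12.SS.c_act).1 0 1 (by simp)

/-- (Y12a) odd characteristic. -/
theorem seed_odd {H : Subgroup (Matrix.symplecticGroup (Fin (m + 2)) F)} {ξ κ : F}
    (h2 : (2 : F) ≠ 0) (hc : cEl m F ∈ H) (hy : yEl 2 1 ξ ∈ H)
    (hκ : sympT (be (m := m) 0) κ ∈ H) (hκ0 : κ ≠ 0) :
    ∃ a : F, a ≠ 0 ∧ a • be 1 ∈ QQ H (be (m := m) 0) := by
  have hconj := h56_conj_mem hκ
  have h1 : sympT (be (m := m) 1) κ ∈ H := by
    have := hconj _ hc; rwa [h56_c_e0] at this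
  have hyd : (yEl (m := m) 2 1 ξ * yEl 2 1 ξ * cEl m F).val *ᵥ be 0 =
      (-1 : F) • (be 1 + (-2 : F) • be 0) := by
    rw [mul_act, mul_act, h56_c_e0, (Cfsg.Agent.Helper41.SS.y_act 2 1 ξ).2.1,
      Cfsg.Agent.Helper41.SS.y_d 2 1 ξ 0 (by ring)]
    module
  have h2' : sympT (be (m := m) 1 + (-2 : F) • be 0) κ ∈ H := by
    have := hconj _ (H.mul_mem (H.mul_mem hy hy) hc)
    rw [hyd, sympT_smul] at this
    have e : κ * (-1 : F) ^ 2 = κ := by ring
    rwa [e] at this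
  have hv : Cfsg.sympForm (m + 2) F (be (m := m) 1) (be 0) = 0 := by
    rw [(form_basis _ _).1, h56_be_inr]
  refine ⟨κ * (-2), ?_, Cfsg.Agent.Helper58.SS.seed_gen hv h2' h1⟩
  exact mul_ne_zero hκ0 (neg_ne_zero.mpr h2)

/-- (Y12b) characteristic 2. -/
theorem seed_char_two {H : Subgroup (Matrix.symplecticGroup (Fin (m + 2)) F)} {ξ : F}
    (h2 : (2 : F) = 0) (hc : cEl m F ∈ H) (hy : yEl 1 1 ξ ∈ H)
    (hκ : sympT (be (m := m) 0) 1 ∈ H) :
    ∃ w0 ∈ QQ H (be (m := m) 0), Cfsg.sympForm (m + 2) F w0 (be 1) ≠ 0 := by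
  have hneg : (-1 : F) = 1 := by
    have : (1 : F) + 1 = 0 := by rw [one_add_one_eq_two]; exact h2
    exact neg_eq_of_add_eq_zero_left this
  have h01 : (0 : Fin (m + 2)) ≠ 1 := by
    intro h; have := congrArg Fin.val h; simp at this
  have hconj := h56_conj_mem hκ
  have h1 : sympT (be (m := m) 1) (1 : F) ∈ H := by
    have := hconj _ hc; rwa [h56_c_e0] at this
  have hd1 : (dV (m := m) (1 : F) 1 ξ) (Sum.inr 1) = -1 := by
    simp only [dV, Pi.add_apply, Pi.sub_apply, Pi.smul_apply, smul_eq_mul, h56_be_inr, h56_bf_inr,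
      if_true, mul_zero, add_zero, sub_zero, mul_one, zero_sub]
  have hd0 : (dV (m := m) (1 : F) 1 ξ) (Sum.inr 0) = 0 := by
    simp only [dV, Pi.add_apply, Pi.sub_apply, Pi.smul_apply, smul_eq_mul, h56_be_inr, h56_bf_inr,
      if_neg h01, mul_zero, add_zero, sub_zero]
  -- v = d + e_1 is in the orbit
  have hv1 : (sympT (be (m := m) 1) (1 : F) * yEl 1 1 ξ * cEl m F).val *ᵥ be 0 =
      dV (1 : F) 1 ξ + be 1 := by
    rw [mul_act, mul_act, h56_c_e0, (Cfsg.Agent.Helper41.SS.y_act 1 1 ξ).2.1, sympT_act,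
      (form_basis _ _).1, hd1, one_mul, hneg, one_smul]
  have hv2 : (yEl (m := m) 1 1 ξ * yEl 1 1 ξ * cEl m F).val *ᵥ be 0 =
      (dV (1 : F) 1 ξ + be 1) + (1 : F) • be 0 := by
    rw [mul_act, mul_act, h56_c_e0, (Cfsg.Agent.Helper41.SS.y_act 1 1 ξ).2.1,
      Cfsg.Agent.Helper41.SS.y_d 1 1 ξ 1 (by ring)]
    have e : (2 : F) - 1 = 1 := by ring
    rw [e, one_smul, sub_eq_add_neg, ← neg_one_smul F (be (m := m) 1), hneg, one_smul]
  have hA : sympT (dV (m := m) (1 : F) 1 ξ + be 1) (1 : F) ∈ H := by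
    have := hconj _ (H.mul_mem (H.mul_mem h1 hy) hc); rwa [hv1] at this
  have hB : sympT ((dV (m := m) (1 : F) 1 ξ + be 1) + (1 : F) • be 0) (1 : F) ∈ H := by
    have := hconj _ (H.mul_mem (H.mul_mem hy hy) hc); rwa [hv2] at this
  have hv : Cfsg.sympForm (m + 2) F (dV (m := m) (1 : F) 1 ξ + be 1) (be 0) = 0 := by
    rw [(form_basis _ _).1, Pi.add_apply, hd0, h56_be_inr, add_zero]
  refine ⟨_, Cfsg.Agent.Helper58.SS.seed_gen hv hB hA, ?_⟩
  rw [sympForm_smul_left, (form_basis _ _).1, Pi.add_apply, hd1, h56_be_inr, add_zero, mul_one,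
    one_mul]
  exact neg_ne_zero.mpr one_ne_zero

end Y

end Cfsg.Agent.Helper56.SS
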