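import Mathlib
import Cfsg.Agent.Lib.Helper2.SS0
import Cfsg.Agent.Lib.Helper2.SRC0
import Cfsg.Agent.Lib.Helper12.SSY1
import Cfsg.Agent.Lib.Helper41.SSY3
import Cfsg.Agent.Lib.Helper56.SSY11aCore

/-!
# SS (Y7a) (Y7b) (Y7c) (helper56, for helper2's SS server, S2411): `l e_0 = e_1`, `l p = e_0`.
-/

set_option autoImplicit false
set_option linter.unusedSimpArgs false

namespace Cfsg.Agent.Helper56.SS

open Matrix Cfsg Cfsg.Agent.Helper13 Cfsg.Agent.Helper84.SpRoot Cfsg.Agent.Helper5.SpAut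
open Cfsg.Agent.Helper2.SR Cfsg.Agent.Helper2.SS

section Y
variable {F : Type*} [Field F] {m : ℕ}

/-- `ω(x, w') = ξ x(f_{n-1}) - x(e_1)` -/
theorem h56_form_wp (ξ : F) (x : Fin (m + 2) ⊕ Fin (m + 2) → F) :
    Cfsg.sympForm (m + 2) F x (wpV (m := m) ξ) = ξ * x (Sum.inr jB) - x (Sum.inl 1) := by
  rw [wpV, sympForm_add_right, sympForm_smul_right, (form_basis _ _).1, (form_basis _ _).2.1]
  ring

/-- `ω(x, w) = x(f_1) - x(f_0)` -/
theorem h56_form_w (x : Fin (m + 2) ⊕ Fin (m + 2) → F) :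
    Cfsg.sympForm (m + 2) F x (wV (m := m)) = x (Sum.inr 1) - x (Sum.inr 0) := by
  rw [wV, sympForm_sub_right, (form_basis _ _).1, (form_basis _ _).1]

/-- (Y7a) uses Y2 Y3 -/
theorem l_e0 (α β ξ : F) : (lEl (m := m) α β ξ).val *ᵥ be 0 = be 1 := by
  rw [lEl, mul_act, (Cfsg.Agent.Helper41.SS.y_act α β ξ).1]
  exact (Cfsg.Agent.Helper12.SS.c_act).1 0 1 (by simp)

/-- (Y7b) `y p = - f_{n-1}`, uses Y2 -/
theorem l_pGe (hm : 1 ≤ m) (α β ξ : F) :
    (lEl (m := m) α β ξ).val *ᵥ pGe β ξ = be 0 := by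
  have h1B : (1 : Fin (m + 2)) ≠ jB := by
    intro h; have := congrArg Fin.val h; simp [jB] at this; omega
  have h0B : (0 : Fin (m + 2)) ≠ jB := by
    intro h; have := congrArg Fin.val h; simp [jB] at this
  have hy : (yEl (m := m) α β ξ).val *ᵥ pGe β ξ = - bf jB := by
    rw [yEl, mul_act, sympT_act (wpV ξ) β]
    have h1 : Cfsg.sympForm (m + 2) F (pGe (m := m) β ξ) (wpV ξ) = -ξ := by
      rw [h56_form_wp]
      simp only [pGe, wpV, Pi.add_apply, Pi.neg_apply, Pi.smul_apply, smul_eq_mul, h56_be_inr,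
        h56_bf_inr, h56_be_inl, h56_bf_inl, if_neg h1B, if_neg h1B.symm, if_true, mul_zero,
        add_zero, zero_add, mul_one, neg_zero, sub_zero]
      ring
    rw [h1]
    have h2 : pGe (m := m) β ξ + (β * -ξ) • wpV ξ = - bf jB := by
      simp only [pGe]; module
    rw [h2, sympT_act]
    have h3 : Cfsg.sympForm (m + 2) F (- bf jB) (wV (m := m)) = 0 := by
      rw [h56_form_w]
      simp only [Pi.neg_apply, h56_bf_inr, if_neg h1B, if_neg h0B, neg_zero, sub_zero]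
    rw [h3, mul_zero, zero_smul, add_zero]
  rw [lEl, mul_act, hy, Matrix.mulVec_neg, (Cfsg.Agent.Helper12.SS.c_act).2.2.2, neg_neg]

/-- (Y7c) `y p = - f_1`, uses Y2 -/
theorem l_pTwo (α β ξ : F) : (lEl (m := 0) α β ξ).val *ᵥ pTwo α β ξ = be 0 := by
  have hB1 : (jB : Fin (0 + 2)) = 1 := by ext; simp [jB]
  have h01 : (0 : Fin (0 + 2)) ≠ 1 := by
    intro h; have := congrArg Fin.val h; simp at this
  have hy : (yEl (m := 0) α β ξ).val *ᵥ pTwo α β ξ = - bf 1 := by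
    rw [yEl, mul_act, sympT_act (wpV ξ) β]
    have h1 : Cfsg.sympForm (0 + 2) F (pTwo α β ξ) (wpV (m := 0) ξ) = -ξ - α := by
      rw [h56_form_wp]
      simp only [pTwo, wV, wpV, hB1, Pi.add_apply, Pi.sub_apply, Pi.neg_apply, Pi.smul_apply,
        smul_eq_mul, h56_be_inr, h56_bf_inr, h56_be_inl, h56_bf_inl, if_neg h01.symm, if_true,
        mul_zero, add_zero, zero_add, mul_one, neg_zero, sub_zero]
      ring
    rw [h1]
    have h2 : pTwo α β ξ + (β * (-ξ - α)) • wpV (m := 0) ξ = - bf 1 + α • wV (m := 0) := by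
      simp only [pTwo]; module
    rw [h2, sympT_act]
    have h3 : Cfsg.sympForm (0 + 2) F (- bf 1 + α • wV (m := 0)) (wV (m := 0)) = -1 := by
      rw [h56_form_w]
      simp only [wV, Pi.add_apply, Pi.sub_apply, Pi.neg_apply, Pi.smul_apply, smul_eq_mul,
        h56_be_inr, h56_bf_inr, if_neg h01, if_true, mul_zero, add_zero, sub_zero, neg_zero]
    rw [h3]
    module
  rw [lEl, mul_act, hy, Matrix.mulVec_neg]
  have := (Cfsg.Agent.Helper12.SS.c_act (m := 0) (F := F)).2.2.2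
  rw [hB1] at this
  rw [this, neg_neg]

end Y

end Cfsg.Agent.Helper56.SS
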