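import Mathlib
import Cfsg.Agent.Lib.Helper93.U20

/-!
U2 project (helper93, S2335): core of piece C7 (count_upper), with the pieces C0, C2, C3, C7a as hypotheses.
-/

set_option autoImplicit false

namespace Cfsg.Agent.Helper56.U2

open Matrix Cfsg.Agent.Helper13 Cfsg.Agent.Helper93.U2

variable {F : Type*} [Field F] [Fintype F] {q : ℕ} (hF : Fintype.card F = q ^ 2) {m : ℕ}

theorem count_upper_core
    (hC0 : ∀ x₀ : Fin m → F, x₀ ≠ 0 → {φ : Fin m → F | φ ⬝ᵥ x₀ = 0}.ncard = q ^ (2 * (m - 1)))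
    (hC3 : ∀ H : Matrix (Fin m) (Fin m) F, cT hF H = H → (∀ x, hq q H x = 0) → H = 0)
    (hC7a : ∀ d : F, {t : F | t ^ (q + 1) = d}.ncard ≤ q + 1)
    (h_conj : ∀ (H : Matrix (Fin m) (Fin m) F), cT hF H = H → ∀ x y, (hb q H x y) ^ q = hb q H y x)
    (h_add_right : ∀ (H : Matrix (Fin m) (Fin m) F) (x y z : Fin m → F),
      hb q H x (y + z) = hb q H x y + hb q H x z)
    (h_smul_right : ∀ (H : Matrix (Fin m) (Fin m) F) (c : F) (x y : Fin m → F),
      hb q H x (c • y) = c * hb q H x y)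
    (h_add_left : ∀ (H : Matrix (Fin m) (Fin m) F) (x y z : Fin m → F),
      hb q H (x + y) z = hb q H x z + hb q H y z)
    (h_smul_left : ∀ (H : Matrix (Fin m) (Fin m) F) (c : F) (x y : Fin m → F),
      hb q H (c • x) y = c ^ q * hb q H x y)
    (H : Matrix (Fin m) (Fin m) F) (hH : cT hF H = H) (hH0 : H ≠ 0) (c : F) (hc : c ≠ 0) :
    {x : Fin m → F | hq q H x = c}.ncard ≤ (q + 1) * q ^ (2 * (m - 1)) := by
  classical
  have hq0 : q ≠ 0 := (q_pos hF).ne'
  obtain ⟨x₁, hx₁⟩ : ∃ x₁, hq q H x₁ ≠ 0 := by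
    by_contra hcon
    apply hH0
    apply hC3 H hH
    intro x
    by_contra hx
    exact hcon ⟨x, hx⟩
  have hqb : ∀ x, hq q H x = hb q H x x := fun x => rfl
  have hψw : ∀ w, hb q H x₁ w = w ⬝ᵥ ((fun i => x₁ i ^ q) ᵥ* H) := by
    intro w
    unfold hb
    rw [Matrix.dotProduct_mulVec, dotProduct_comm]
  have hψ0 : ((fun i => x₁ i ^ q) ᵥ* H) ≠ 0 := by
    intro h0
    apply hx₁
    rw [hqb, hψw, h0, dotProduct_zero]
  have hW := hC0 _ hψ0
  -- the decomposition
  have hfW : ∀ x : Fin m → F, hb q H x₁ (x - (hb q H x₁ x / hq q H x₁) • x₁) = 0 := by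
    intro x
    have e : x - (hb q H x₁ x / hq q H x₁) • x₁ = x + (-(hb q H x₁ x / hq q H x₁)) • x₁ := by
      rw [neg_smul, sub_eq_add_neg]
    rw [e, h_add_right, h_smul_right, ← hqb, neg_mul, div_mul_cancel₀ _ hx₁, add_neg_cancel]
  have hkey : ∀ x : Fin m → F, hq q H x =
      (hb q H x₁ x / hq q H x₁) ^ (q + 1) * hq q H x₁ +
        hq q H (x - (hb q H x₁ x / hq q H x₁) • x₁) := by
    intro x
    set t := hb q H x₁ x / hq q H x₁ with ht
    set w := x - t • x₁ with hw
    have hw0 : hb q H x₁ w = 0 := hfW x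
    have hw0' : hb q H w x₁ = 0 := by
      rw [← h_conj H hH, hw0, zero_pow hq0]
    have hx : x = t • x₁ + w := by
      rw [hw]; abel
    have e1 : hb q H (t • x₁ + w) (t • x₁ + w) =
        hb q H (t • x₁) (t • x₁ + w) + hb q H w (t • x₁ + w) := h_add_left _ _ _ _
    have e2 : hb q H (t • x₁) (t • x₁ + w) = hb q H (t • x₁) (t • x₁) + hb q H (t • x₁) w :=
      h_add_right _ _ _ _
    have e3 : hb q H w (t • x₁ + w) = hb q H w (t • x₁) + hb q H w w := h_add_right _ _ _ _
    have e4 : hb q H (t • x₁) (t • x₁) = t ^ q * (t * hb q H x₁ x₁) := by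
      rw [h_smul_left, h_smul_right]
    have e5 : hb q H (t • x₁) w = 0 := by rw [h_smul_left, hw0, mul_zero]
    have e6 : hb q H w (t • x₁) = 0 := by rw [h_smul_right, hw0', mul_zero]
    calc hq q H x = hb q H (t • x₁ + w) (t • x₁ + w) := by rw [hqb x]; rw [← hx]
      _ = t ^ q * (t * hb q H x₁ x₁) + hb q H w w := by
          rw [e1, e2, e3, e4, e5, e6, add_zero, zero_add]
      _ = t ^ (q + 1) * hq q H x₁ + hq q H w := by
          rw [← hqb, ← hqb, pow_succ]; ring
  -- counting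
  have hS : {x : Fin m → F | hq q H x = c}.ncard =
      (Finset.univ.filter (fun x : Fin m → F => hq q H x = c)).card := by
    rw [← Set.ncard_coe_finset]
    congr 1
    ext x
    simp
  have hWc : {φ : Fin m → F | φ ⬝ᵥ ((fun i => x₁ i ^ q) ᵥ* H) = 0}.ncard =
      (Finset.univ.filter (fun φ : Fin m → F => φ ⬝ᵥ ((fun i => x₁ i ^ q) ᵥ* H) = 0)).card := by
    rw [← Set.ncard_coe_finset]
    congr 1
    ext x
    simp
  rw [hS, ← hW, hWc]
  apply Finset.card_le_mul_card_image_of_maps_to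
    (f := fun x : Fin m → F => x - (hb q H x₁ x / hq q H x₁) • x₁)
  · intro x _
    rw [Finset.mem_filter]
    refine ⟨Finset.mem_univ _, ?_⟩
    rw [← hψw]
    exact hfW x
  · intro w _
    -- fibre over w
    have hfib : (Finset.univ.filter (fun x : Fin m → F => hq q H x = c)).filter
        (fun x => x - (hb q H x₁ x / hq q H x₁) • x₁ = w) ⊆
        (Finset.univ.filter (fun τ : F => τ ^ (q + 1) = (c - hq q H w) / hq q H x₁)).image
          (fun τ => τ • x₁ + w) := by
      intro x hx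
      rw [Finset.mem_filter, Finset.mem_filter] at hx
      obtain ⟨⟨_, hxc⟩, hxw⟩ := hx
      rw [Finset.mem_image]
      refine ⟨hb q H x₁ x / hq q H x₁, ?_, ?_⟩
      · rw [Finset.mem_filter]
        refine ⟨Finset.mem_univ _, ?_⟩
        have h1 := hkey x
        rw [hxw, hxc] at h1
        rw [eq_div_iff hx₁]
        rw [h1]; ring
      · rw [← hxw]; abel
    refine le_trans (Finset.card_le_card hfib) (le_trans Finset.card_image_le ?_)
    have h2 := hC7a ((c - hq q H w) / hq q H x₁)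
    have h3 : {t : F | t ^ (q + 1) = (c - hq q H w) / hq q H x₁}.ncard =
        (Finset.univ.filter (fun τ : F => τ ^ (q + 1) = (c - hq q H w) / hq q H x₁)).card := by
      rw [← Set.ncard_coe_finset]
      congr 1
      ext x
      simp
    rw [← h3]
    exact h2

end Cfsg.Agent.Helper56.U2
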