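import Mathlib
import Cfsg.Agent.Lib.Helper93.U20
import Cfsg.Agent.Lib.Helper56.U2C7Core
import Cfsg.Agent.Lib.Helper34.U2C0
import Cfsg.Agent.Lib.Helper34.U2C2
import Cfsg.Agent.Lib.Helper25.U2C3
import Cfsg.Agent.Lib.Helper75.U2C7a

/-!
U2 project (helper93, S2335): piece C7 (count_upper), verbatim, assembled from the core in
`U2C7Core` and the landed pieces C0, C2 (helper34), C3 (helper25), C7a (helper75).
-/

set_option autoImplicit false

namespace Cfsg.Agent.Helper56.U2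

open Matrix Cfsg.Agent.Helper13 Cfsg.Agent.Helper93.U2

variable {F : Type*} [Field F] [Fintype F] {q : ℕ} (hF : Fintype.card F = q ^ 2) {m : ℕ}

/-- piece C7 (uses C0, C2, C3, C7a) -/
theorem count_upper (H : Matrix (Fin m) (Fin m) F) (hH : cT hF H = H) (hH0 : H ≠ 0)
    (c : F) (hc : c ≠ 0) :
    {x : Fin m → F | hq q H x = c}.ncard ≤ (q + 1) * q ^ (2 * (m - 1)) :=
  count_upper_core hF
    (fun x₀ hx₀ => Cfsg.Agent.Helper34.U2.ncard_dot_eq_zero hF x₀ hx₀)
    (fun H hH h => Cfsg.Agent.Helper25.U2.herm_eq_zero_of_hq hF H hH h)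
    (fun d => Cfsg.Agent.Helper75.U2.ncard_norm_fibre_le d)
    (fun H hH x y => Cfsg.Agent.Helper34.U2.hb_conj hF H hH x y)
    (fun H x y z => Cfsg.Agent.Helper34.U2.hb_add_right H x y z)
    (fun H c x y => Cfsg.Agent.Helper34.U2.hb_smul_right H c x y)
    (fun H x y z => Cfsg.Agent.Helper34.U2.hb_add_left hF H x y z)
    (fun H c x y => Cfsg.Agent.Helper34.U2.hb_smul_left H c x y)
    H hH hH0 c hc

end Cfsg.Agent.Helper56.U2
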