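import Mathlib
import Cfsg.Agent.Lib.Helper93.U20

/-!
U2 project (helper93, S2335): core of piece C8 (orbit_bound), with the pieces C3, C5, C6, C7 as hypotheses.
-/

set_option autoImplicit false

namespace Cfsg.Agent.Helper56.U2

open Matrix Cfsg.Agent.Helper13 Cfsg.Agent.Helper93.U2

variable {F : Type*} [Field F] [Fintype F] {q : ℕ} (hF : Fintype.card F = q ^ 2) {m : ℕ}

theorem hq_zero_vec (H : Matrix (Fin m) (Fin m) F) (hq0 : q ≠ 0) : hq q H 0 = 0 := by
  unfold hq
  rw [Matrix.mulVec_zero, dotProduct_zero]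

theorem orbit_bound_core
    (O : Set (Matrix (Fin m) (Fin m) F))
    (hO : ∀ H ∈ O, cT hF H = H)
    (hC3 : ∀ H : Matrix (Fin m) (Fin m) F, cT hF H = H → (∀ x, hq q H x = 0) → H = 0)
    (hC5 : ∀ (c : F) (x y : Fin m → F), x ≠ 0 → y ≠ 0 →
      {H ∈ O | hq q H x = c}.ncard = {H ∈ O | hq q H y = c}.ncard)
    (hC6 : ∀ H ∈ O, ∀ (x₀ : Fin m → F) (c : F), c ≠ 0 → hq q H x₀ = c →
      q ^ (2 * (m - 1)) ≤ {H' ∈ O | hq q H' x₀ = c}.ncard)
    (hC7 : ∀ H : Matrix (Fin m) (Fin m) F, cT hF H = H → H ≠ 0 → ∀ c : F, c ≠ 0 →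
      {x : Fin m → F | hq q H x = c}.ncard ≤ (q + 1) * q ^ (2 * (m - 1)))
    (H₀ : Matrix (Fin m) (Fin m) F) (hH₀ : H₀ ∈ O) (hne : H₀ ≠ 0) :
    q ^ (2 * m) - 1 ≤ (q + 1) * O.ncard := by
  classical
  have hqpos : 0 < q := q_pos hF
  have hq0 : q ≠ 0 := hqpos.ne'
  obtain ⟨x₀, hx₀⟩ : ∃ x₀, hq q H₀ x₀ ≠ 0 := by
    by_contra hcon
    apply hne
    apply hC3 H₀ (hO H₀ hH₀)
    intro x
    by_contra hx
    exact hcon ⟨x, hx⟩
  set c := hq q H₀ x₀ with hc
  have hx₀0 : x₀ ≠ 0 := by
    intro h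
    apply hx₀
    rw [hc, h]
    exact hq_zero_vec H₀ hq0
  have hM : q ^ (2 * (m - 1)) ≤ {H' ∈ O | hq q H' x₀ = c}.ncard := hC6 H₀ hH₀ x₀ c hx₀ rfl
  -- finsets
  set Of : Finset (Matrix (Fin m) (Fin m) F) := O.toFinset with hOf
  set T : Finset (Fin m → F) := Finset.univ.filter (fun x => x ≠ 0) with hT
  have hOcard : O.ncard = Of.card := by
    rw [Set.ncard_eq_toFinset_card']
  have hTcard : T.card = q ^ (2 * m) - 1 := by
    have h1 : T = Finset.univ.erase (0 : Fin m → F) := by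
      ext x
      simp [hT]
    rw [h1, Finset.card_erase_of_mem (Finset.mem_univ _), Finset.card_univ, Fintype.card_fun,
      Fintype.card_fin, hF, ← pow_mul]
  have hdc := Finset.sum_card_bipartiteAbove_eq_sum_card_bipartiteBelow (s := Of) (t := T)
    (fun (H : Matrix (Fin m) (Fin m) F) (x : Fin m → F) => hq q H x = c)
  -- right side: each x contributes at least q^(2(m-1))
  have hR : T.card * q ^ (2 * (m - 1)) ≤
      ∑ b ∈ T, (Of.bipartiteBelow (fun (H : Matrix (Fin m) (Fin m) F) (x : Fin m → F) => hq q H x = c) b).card := by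
    rw [← smul_eq_mul, ← Finset.sum_const]
    apply Finset.sum_le_sum
    intro x hx
    rw [hT, Finset.mem_filter] at hx
    have h1 : (Of.bipartiteBelow (fun (H : Matrix (Fin m) (Fin m) F) (x : Fin m → F) => hq q H x = c) x).card
        = {H ∈ O | hq q H x = c}.ncard := by
      rw [← Set.ncard_coe_finset]
      congr 1
      ext H
      simp [Finset.bipartiteBelow, hOf]
    rw [h1, hC5 c x x₀ hx.2 hx₀0]
    exact hM
  -- left side: each H contributes at most (q+1) q^(2(m-1))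
  have hL : ∑ a ∈ Of, (T.bipartiteAbove (fun (H : Matrix (Fin m) (Fin m) F) (x : Fin m → F) => hq q H x = c) a).card
      ≤ Of.card * ((q + 1) * q ^ (2 * (m - 1))) := by
    rw [← smul_eq_mul, ← Finset.sum_const]
    apply Finset.sum_le_sum
    intro H hH
    have hHO : H ∈ O := by
      rw [hOf] at hH
      exact Set.mem_toFinset.mp hH
    have h1 : (T.bipartiteAbove (fun (H : Matrix (Fin m) (Fin m) F) (x : Fin m → F) => hq q H x = c) H).card
        ≤ {x : Fin m → F | hq q H x = c}.ncard := by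
      rw [← Set.ncard_coe_finset]
      apply Set.ncard_le_ncard
      · intro x hx
        simp only [Finset.bipartiteAbove, Finset.coe_filter, Set.mem_setOf_eq] at hx
        exact hx.2
      · exact Set.toFinite _
    by_cases hH0 : H = 0
    · have h2 : {x : Fin m → F | hq q H x = c}.ncard = 0 := by
        have : {x : Fin m → F | hq q H x = c} = ∅ := by
          ext x
          simp only [Set.mem_setOf_eq, Set.mem_empty_iff_false, iff_false]
          intro h
          apply hx₀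
          rw [← h, hH0]
          unfold hq
          rw [Matrix.zero_mulVec, dotProduct_zero]
        rw [this, Set.ncard_empty]
      rw [h2] at h1
      exact le_trans h1 (Nat.zero_le _)
    · exact le_trans h1 (hC7 H (hO H hHO) hH0 c hx₀)
  have hfin : T.card * q ^ (2 * (m - 1)) ≤ Of.card * ((q + 1) * q ^ (2 * (m - 1))) := by
    calc T.card * q ^ (2 * (m - 1)) ≤ _ := hR
      _ = _ := hdc.symm
      _ ≤ _ := hL
  rw [hOcard, ← hTcard]
  have hpos : 0 < q ^ (2 * (m - 1)) := pow_pos hqpos _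
  have h3 : T.card * q ^ (2 * (m - 1)) ≤ ((q + 1) * Of.card) * q ^ (2 * (m - 1)) := by
    calc T.card * q ^ (2 * (m - 1)) ≤ Of.card * ((q + 1) * q ^ (2 * (m - 1))) := hfin
      _ = ((q + 1) * Of.card) * q ^ (2 * (m - 1)) := by ring
  exact Nat.le_of_mul_le_mul_right h3 hpos

end Cfsg.Agent.Helper56.U2
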