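import Mathlib
import Cfsg.Agent.Lib.Helper93.U20
import Cfsg.Agent.Lib.Helper56.U2C8Core
import Cfsg.Agent.Lib.Helper56.U2C7
import Cfsg.Agent.Lib.Helper25.U2C3
import Cfsg.Agent.Lib.Helper23.U2C5
import Cfsg.Agent.Lib.Helper44.U2C6

/-!
U2 project (helper93, S2335): piece C8 (orbit_bound), verbatim, assembled from the core in
`U2C8Core` and the landed pieces C3 (helper25), C5 (helper23), C6 (helper44), C7 (helper56).
-/

set_option autoImplicit false

namespace Cfsg.Agent.Helper56.U2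

open Matrix Cfsg.Agent.Helper13 Cfsg.Agent.Helper93.U2

variable {F : Type*} [Field F] [Fintype F] {q : ℕ} (hF : Fintype.card F = q ^ 2) {m : ℕ}

/-- piece C8 (uses C3, C5, C6, C7) -/
theorem orbit_bound (hm : 2 ≤ m) (O : Set (Matrix (Fin m) (Fin m) F))
    (hO : ∀ H ∈ O, cT hF H = H)
    (hcl : ∀ E : Matrix (Fin m) (Fin m) F, E * E = 0 → ∀ H ∈ O, cT hF (1 + E) * H * (1 + E) ∈ O)
    (H₀ : Matrix (Fin m) (Fin m) F) (hH₀ : H₀ ∈ O) (hne : H₀ ≠ 0) :
    q ^ (2 * m) - 1 ≤ (q + 1) * O.ncard :=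
  orbit_bound_core hF O hO
    (fun H hH h => Cfsg.Agent.Helper25.U2.herm_eq_zero_of_hq hF H hH h)
    (fun c x y hx hy => Cfsg.Agent.Helper23.U2.count_const hF hm O hcl c x y hx hy)
    (fun H hHO x₀ c hc hx₀ => Cfsg.Agent.Helper44.U2.count_lower hF O hcl H hHO x₀ c hc hx₀)
    (fun H hH hH0 c hc => count_upper hF H hH hH0 c hc)
    H₀ hH₀ hne

end Cfsg.Agent.Helper56.U2
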