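import Mathlib

set_option autoImplicit false
set_option linter.unusedSectionVars false
set_option linter.style.haveILetI false
set_option linter.unusedVariables false

/-! Zassenhaus project, part A: semiregular representations with enough eigenvectors; pairs of
"quadratic" elements generate a commutative subgroup or a subgroup of `SL₂(K)`. -/

namespace Cfsg.Agent.Helper56.ZA

open Matrix

section op
variable {K : Type*} [Field K] {W : Type*} [AddCommGroup W] [Module K W]

/-- the central element attached to two quadratic operators -/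
def uu (x y : Module.End K W) (a b : K) : Module.End K W :=
  x * y + y * x - b • x - a • y + (a * b) • (1 : Module.End K W)

lemma uu_apply (x y : Module.End K W) (a b : K) (v : W) :
    uu x y a b v = x (y v) + y (x v) - b • x v - a • y v + (a * b) • v := by
  simp [uu]

lemma quad_apply (x : Module.End K W) (a : K) (hx : x * x = a • x - 1) (v : W) :
    x (x v) = a • x v - v := by
  have := LinearMap.congr_fun hx v
  simpa using this

lemma uu_comm_x (x y : Module.End K W) (a b : K) (hx : x * x = a • x - 1) (v : W) :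
    uu x y a b (x v) = x (uu x y a b v) := by
  rw [uu_apply, uu_apply]
  simp only [map_add, map_sub, map_smul, quad_apply x a hx]
  module

lemma T1_key (x y : Module.End K W) (a b : K) (w : W) (lam mu : K)
    (hu : uu x y a b w = lam • w) (hxw : x w = mu • w) :
    x (y w) = (lam + b * mu - a * b) • w + (a - mu) • y w := by
  rw [uu_apply, hxw, map_smul] at hu
  have h1 : x (y w) = (x (y w) + mu • y w - b • mu • w - a • y w + (a * b) • w)
      - mu • y w + b • mu • w + a • y w - (a * b) • w := by module
  rw [hu] at h1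
  rw [h1]
  module

/-- `(b - y)(a - x)` is the inverse of `x y` -/
lemma inv_key (x y : Module.End K W) (a b : K) (hx : x * x = a • x - 1) (hy : y * y = b • y - 1)
    (v : W) :
    x (y (y (x v) - b • x v - a • y v + (a * b) • v)) = v := by
  simp only [map_add, map_sub, map_smul, quad_apply y b hy, quad_apply x a hx]
  module

end op

/-- a semiregular representation in which every group element has eigenvectors in every nonzero
invariant subspace -/
structure SRK (G : Type*) [Group G] (K : Type*) [Field K] (W : Type*) [AddCommGroup W]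
    [Module K W] where
  σ : G →* Module.End K W
  sr : ∀ g : G, g ≠ 1 → ∀ w : W, σ g w = w → w = 0
  eig : ∀ g : G, ∀ U : Submodule K W, U ≠ ⊥ → (∀ u ∈ U, σ g u ∈ U) →
    ∃ u ∈ U, u ≠ 0 ∧ ∃ μ : K, σ g u = μ • u
  ntr : ∃ w : W, w ≠ 0

namespace SRK

variable {G : Type*} [Group G] {K : Type*} [Field K] {W : Type*} [AddCommGroup W] [Module K W]
  (D : SRK G K W)

lemma inv_apply (g : G) (w : W) : D.σ g⁻¹ (D.σ g w) = w := by
  rw [← Module.End.mul_apply, ← map_mul, inv_mul_cancel, map_one, Module.End.one_apply]

lemma apply_inv (g : G) (w : W) : D.σ g (D.σ g⁻¹ w) = w := by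
  rw [← Module.End.mul_apply, ← map_mul, mul_inv_cancel, map_one, Module.End.one_apply]

lemma inj (g : G) : Function.Injective (D.σ g) := by
  intro u v h
  have := congrArg (D.σ g⁻¹) h
  rwa [D.inv_apply, D.inv_apply] at this

lemma eq_of_apply_eq (g h : G) (w : W) (hw : w ≠ 0) (h1 : D.σ g w = D.σ h w) : g = h := by
  by_contra hne
  have h2 : h⁻¹ * g ≠ 1 := by
    intro h3
    apply hne
    rw [← mul_one h, ← h3, mul_inv_cancel_left]
  apply hw
  apply D.sr _ h2
  rw [map_mul, Module.End.mul_apply, h1, D.inv_apply]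

/-- restriction along an injective homomorphism -/
def comap {H : Type*} [Group H] (f : H →* G) (hf : Function.Injective f) : SRK H K W where
  σ := D.σ.comp f
  sr := fun g hg w hw => D.sr (f g) (fun h => hg (hf (by rw [h, map_one]))) w hw
  eig := fun g U hU hinv => D.eig (f g) U hU hinv
  ntr := D.ntr

lemma sigma_invol (z : G) (hz : orderOf z = 2) : D.σ z = -1 := by
  apply LinearMap.ext
  intro w
  have hz1 : z ≠ 1 := by
    intro h
    rw [h, orderOf_one] at hz
    omega
  have hzz : z * z = 1 := by
    rw [← pow_two, ← hz, pow_orderOf_eq_one]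
  have h1 : D.σ z (D.σ z w + w) = D.σ z w + w := by
    rw [map_add, ← Module.End.mul_apply, ← map_mul, hzz, map_one, Module.End.one_apply, add_comm]
  have h2 := D.sr z hz1 _ h1
  rw [LinearMap.neg_apply, Module.End.one_apply]
  exact eq_neg_of_add_eq_zero_left h2

include D in
lemma invol_unique (z z' : G) (hz : orderOf z = 2) (hz' : orderOf z' = 2) : z = z' := by
  obtain ⟨w, hw⟩ := D.ntr
  apply D.eq_of_apply_eq z z' w hw
  rw [D.sigma_invol z hz, D.sigma_invol z' hz']

lemma quad_three (x : G) (hx : orderOf x = 3) : D.σ x * D.σ x = (-1 : K) • D.σ x - 1 := by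
  apply LinearMap.ext
  intro w
  have hx1 : x ≠ 1 := by
    intro h
    rw [h, orderOf_one] at hx
    omega
  have hxxx : x * x * x = 1 := by
    have := pow_orderOf_eq_one x
    rw [hx, pow_succ, pow_two] at this
    exact this
  have h1 : D.σ x (w + D.σ x w + D.σ x (D.σ x w)) = w + D.σ x w + D.σ x (D.σ x w) := by
    have h3 : D.σ x (D.σ x (D.σ x w)) = w := by
      rw [← Module.End.mul_apply, ← Module.End.mul_apply, ← map_mul, ← map_mul, hxxx, map_one,
        Module.End.one_apply]
    rw [map_add, map_add, h3]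
    abel
  have h2 := D.sr x hx1 _ h1
  rw [Module.End.mul_apply, LinearMap.sub_apply, LinearMap.smul_apply, Module.End.one_apply]
  have : D.σ x (D.σ x w) = -(w + D.σ x w) := by
    rw [eq_neg_iff_add_eq_zero]
    rw [← h2]
    abel
  rw [this]
  module

lemma quad_four (t : G) (ht : orderOf t = 4) : D.σ t * D.σ t = (0 : K) • D.σ t - 1 := by
  have h2 : orderOf (t * t) = 2 := by
    rw [← pow_two, orderOf_pow' t (by norm_num), ht]
    rfl
  have := D.sigma_invol (t * t) h2
  rw [map_mul] at this
  rw [this, zero_smul, zero_sub]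

end SRK

section T1

variable {G : Type*} [Group G] {K : Type*} [Field K] {W : Type*} [AddCommGroup W] [Module K W]
  (D : SRK G K W)

/-- the intertwining map `K² → W` -/
def Phi (y : Module.End K W) (w : W) : (Fin 2 → K) →ₗ[K] W where
  toFun v := v 0 • w + v 1 • y w
  map_add' u v := by
    simp only [Pi.add_apply]
    module
  map_smul' c v := by
    simp only [Pi.smul_apply, smul_eq_mul, RingHom.id_apply]
    module

lemma Phi_apply (y : Module.End K W) (w : W) (v : Fin 2 → K) :
    Phi y w v = v 0 • w + v 1 • y w := rfl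

/-- the subgroup of pairs `(g, M)` with `σ g ∘ Φ = Φ ∘ M` -/
def Rel (Φ : (Fin 2 → K) →ₗ[K] W) : Subgroup (G × Matrix.SpecialLinearGroup (Fin 2) K) where
  carrier := {p | ∀ v, D.σ p.1 (Φ v) = Φ ((p.2 : Matrix (Fin 2) (Fin 2) K) *ᵥ v)}
  one_mem' := by
    intro v
    simp
  mul_mem' := by
    intro p r hp hr v
    simp only [Set.mem_setOf_eq] at hp hr
    rw [Prod.fst_mul, Prod.snd_mul, map_mul, Module.End.mul_apply, hr, hp,
      Matrix.SpecialLinearGroup.coe_mul, Matrix.mulVec_mulVec]
  inv_mem' := by
    intro p hp v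
    simp only [Set.mem_setOf_eq] at hp
    apply D.inj p.1
    rw [Prod.fst_inv, D.apply_inv, hp, Prod.snd_inv, Matrix.mulVec_mulVec,
      ← Matrix.SpecialLinearGroup.coe_mul, mul_inv_cancel, Matrix.SpecialLinearGroup.coe_one,
      Matrix.one_mulVec]

lemma mem_Rel (Φ : (Fin 2 → K) →ₗ[K] W) (p : G × Matrix.SpecialLinearGroup (Fin 2) K) :
    p ∈ Rel D Φ ↔ ∀ v, D.σ p.1 (Φ v) = Φ ((p.2 : Matrix (Fin 2) (Fin 2) K) *ᵥ v) := Iff.rfl

/-- **Quadratic pairs.** Two elements acting quadratically generate a commutative subgroup or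
a subgroup of `SL₂(K)`. -/
theorem T1 (g h : G) (a b : K) (hg : D.σ g * D.σ g = a • D.σ g - 1)
    (hh : D.σ h * D.σ h = b • D.σ h - 1) :
    g * h = h * g ∨ ∃ φ : Subgroup.closure ({g, h} : Set G) →* Matrix.SpecialLinearGroup (Fin 2) K,
      Function.Injective φ := by
  classical
  set x := D.σ g with hxdef
  set y := D.σ h with hydef
  -- an eigenvector of `g * h`
  obtain ⟨w0, hw0ne⟩ := D.ntr
  have htop : (⊤ : Submodule K W) ≠ ⊥ := by
    intro h0
    apply hw0ne
    have : w0 ∈ (⊤ : Submodule K W) := Submodule.mem_top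
    rw [h0] at this
    exact (Submodule.mem_bot K).mp this
  obtain ⟨w₀, -, hw₀, ν, hν⟩ := D.eig (g * h) ⊤ htop (fun _ _ => Submodule.mem_top)
  rw [map_mul, Module.End.mul_apply] at hν
  have hν0 : ν ≠ 0 := by
    intro h0
    rw [h0, zero_smul] at hν
    apply hw₀
    have h1 := D.inj g (hν.trans (map_zero _).symm)
    exact D.inj h (h1.trans (map_zero _).symm)
  -- `u w₀ = (ν + ν⁻¹) w₀`
  set lam := ν + ν⁻¹ with hlam
  have hr : y (x w₀) - b • x w₀ - a • y w₀ + (a * b) • w₀ = ν⁻¹ • w₀ := by
    apply D.inj h
    apply D.inj g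
    show x (y _) = x (y _)
    rw [inv_key x y a b hg hh, map_smul, map_smul, hν, smul_smul, inv_mul_cancel₀ hν0, one_smul]
  have hu0 : uu x y a b w₀ = lam • w₀ := by
    rw [uu_apply, hlam, add_smul, ← hr, hν]
    module
  -- the eigenspace of `u`
  set U : Submodule K W := LinearMap.ker (uu x y a b - lam • (1 : Module.End K W)) with hU
  have hmemU : ∀ v, v ∈ U ↔ uu x y a b v = lam • v := by
    intro v
    rw [hU, LinearMap.mem_ker, LinearMap.sub_apply, LinearMap.smul_apply, Module.End.one_apply,
      sub_eq_zero]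
  have hUne : U ≠ ⊥ := by
    intro h0
    apply hw₀
    have : w₀ ∈ U := (hmemU w₀).mpr hu0
    rw [h0] at this
    exact (Submodule.mem_bot K).mp this
  have hUinv : ∀ u ∈ U, x u ∈ U := by
    intro u hu
    rw [hmemU] at hu ⊢
    rw [uu_comm_x x y a b hg, hu, map_smul]
  obtain ⟨w, hwU, hw, mu, hmu⟩ := D.eig g U hUne hUinv
  have huw : uu x y a b w = lam • w := (hmemU w).mp hwU
  have hxyw := T1_key x y a b w lam mu huw hmu
  set c := lam + b * mu - a * b with hc
  have hmu2 : mu * mu = a * mu - 1 := by
    have h1 := quad_apply x a hg w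
    rw [hmu, map_smul, hmu] at h1
    have h2 : (mu * mu - (a * mu - 1)) • w = 0 := by
      have : (mu * mu - (a * mu - 1)) • w = mu • mu • w - (a • mu • w - w) := by module
      rw [this, h1, sub_self]
    rcases smul_eq_zero.mp h2 with h3 | h3
    · exact sub_eq_zero.mp h3
    · exact absurd h3 hw
  by_cases hdep : ∃ ν' : K, y w = ν' • w
  · left
    obtain ⟨ν', hν'⟩ := hdep
    apply D.eq_of_apply_eq _ _ w hw
    rw [map_mul, map_mul, Module.End.mul_apply, Module.End.mul_apply]
    show x (y w) = y (x w)
    rw [hν', hmu, map_smul, map_smul, hmu, hν']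
    module
  · right
    set Φ := Phi y w with hΦ
    have hΦinj : Function.Injective Φ := by
      rw [← LinearMap.ker_eq_bot, LinearMap.ker_eq_bot']
      intro v hv
      rw [hΦ, Phi_apply] at hv
      have hv1 : v 1 = 0 := by
        by_contra h1
        apply hdep
        refine ⟨-(v 0 / v 1), ?_⟩
        have : y w = (v 1)⁻¹ • (v 0 • w + v 1 • y w) - (v 1)⁻¹ • v 0 • w := by
          rw [smul_add, smul_smul, smul_smul, inv_mul_cancel₀ h1]
          module
        rw [this, hv, smul_zero, zero_sub, smul_smul, neg_smul, div_eq_inv_mul]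
      rw [hv1, zero_smul, add_zero] at hv
      have hv0 : v 0 = 0 := by
        rcases smul_eq_zero.mp hv with h | h
        · exact h
        · exact absurd h hw
      funext i
      fin_cases i
      · exact hv0
      · exact hv1
    -- the matrices
    let Mx : Matrix.SpecialLinearGroup (Fin 2) K := ⟨!![mu, c; 0, a - mu], by
      rw [Matrix.det_fin_two_of]
      linear_combination -hmu2⟩
    let My : Matrix.SpecialLinearGroup (Fin 2) K := ⟨!![0, -1; 1, b], by
      rw [Matrix.det_fin_two_of]
      ring⟩
    have hMx : ∀ v, x (Φ v) = Φ ((Mx : Matrix (Fin 2) (Fin 2) K) *ᵥ v) := by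
      intro v
      rw [hΦ, Phi_apply, Phi_apply, map_add, map_smul, map_smul, hmu, hxyw]
      have e0 : ((Mx : Matrix (Fin 2) (Fin 2) K) *ᵥ v) 0 = mu * v 0 + c * v 1 := by
        simp [Mx, Matrix.mulVec, dotProduct, Fin.sum_univ_two]
      have e1 : ((Mx : Matrix (Fin 2) (Fin 2) K) *ᵥ v) 1 = (a - mu) * v 1 := by
        simp [Mx, Matrix.mulVec, dotProduct, Fin.sum_univ_two]
      rw [e0, e1]
      module
    have hMy : ∀ v, y (Φ v) = Φ ((My : Matrix (Fin 2) (Fin 2) K) *ᵥ v) := by
      intro v
      rw [hΦ, Phi_apply, Phi_apply, map_add, map_smul, map_smul, quad_apply y b hh w]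
      have e0 : ((My : Matrix (Fin 2) (Fin 2) K) *ᵥ v) 0 = - v 1 := by
        simp [My, Matrix.mulVec, dotProduct, Fin.sum_univ_two]
      have e1 : ((My : Matrix (Fin 2) (Fin 2) K) *ᵥ v) 1 = v 0 + b * v 1 := by
        simp [My, Matrix.mulVec, dotProduct, Fin.sum_univ_two]
      rw [e0, e1]
      module
    set Γ : Subgroup (G × Matrix.SpecialLinearGroup (Fin 2) K) :=
      Subgroup.closure {(g, Mx), (h, My)} with hΓ
    have hΓR : Γ ≤ Rel D Φ := by
      rw [hΓ, Subgroup.closure_le]
      intro p hp
      rcases hp with rfl | rfl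
      · exact hMx
      · exact hMy
    let f1 : Γ →* G := (MonoidHom.fst G _).comp Γ.subtype
    let f2 : Γ →* Matrix.SpecialLinearGroup (Fin 2) K := (MonoidHom.snd G _).comp Γ.subtype
    have hf1 : Function.Injective f1 := by
      intro p r hpr
      have hp := hΓR p.2
      have hr := hΓR r.2
      rw [mem_Rel] at hp hr
      have h1 : (p : G × Matrix.SpecialLinearGroup (Fin 2) K).1
          = (r : G × Matrix.SpecialLinearGroup (Fin 2) K).1 := hpr
      have h2 : ((p : G × Matrix.SpecialLinearGroup (Fin 2) K).2 : Matrix (Fin 2) (Fin 2) K)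
          = ((r : G × Matrix.SpecialLinearGroup (Fin 2) K).2 : Matrix (Fin 2) (Fin 2) K) := by
        apply Matrix.mulVec_injective
        funext v
        apply hΦinj
        rw [← hp, ← hr, h1]
      apply Subtype.ext
      apply Prod.ext h1
      exact Subtype.ext h2
    have hf2 : Function.Injective f2 := by
      intro p r hpr
      have hp := hΓR p.2
      have hr := hΓR r.2
      rw [mem_Rel] at hp hr
      have h2 : (p : G × Matrix.SpecialLinearGroup (Fin 2) K).2
          = (r : G × Matrix.SpecialLinearGroup (Fin 2) K).2 := hpr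
      have h1 : (p : G × Matrix.SpecialLinearGroup (Fin 2) K).1
          = (r : G × Matrix.SpecialLinearGroup (Fin 2) K).1 := by
        apply D.eq_of_apply_eq _ _ w hw
        have e : Φ ![1, 0] = w := by
          rw [hΦ, Phi_apply]
          simp
        rw [← e, hp, hr, h2]
      apply Subtype.ext
      exact Prod.ext h1 h2
    have hrange : f1.range = Subgroup.closure ({g, h} : Set G) := by
      rw [MonoidHom.range_eq_map, ← Subgroup.map_map, ← MonoidHom.range_eq_map,
        Subgroup.range_subtype, hΓ, MonoidHom.map_closure]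
      congr 1
      ext k
      simp only [Set.mem_image, Set.mem_insert_iff, Set.mem_singleton_iff]
      constructor
      · rintro ⟨p, hp | hp, rfl⟩
        · left; rw [hp]; rfl
        · right; rw [hp]; rfl
      · rintro (rfl | rfl)
        · exact ⟨(k, Mx), Or.inl rfl, rfl⟩
        · exact ⟨(k, My), Or.inr rfl, rfl⟩
    let e1 : Γ ≃* f1.range := MonoidHom.ofInjective hf1
    let e2 : f1.range ≃* Subgroup.closure ({g, h} : Set G) := MulEquiv.subgroupCongr hrange
    refine ⟨f2.comp (e1.symm.toMonoidHom.comp e2.symm.toMonoidHom), ?_⟩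
    intro p r hpr
    have := hf2 hpr
    have := e1.symm.injective this
    exact e2.symm.injective this

end T1

end Cfsg.Agent.Helper56.ZA
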