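import Mathlib
import Cfsg.Agent.Lib.Helper56.ZA
import Cfsg.Agent.Lib.Helper98.DicksonPrime

set_option autoImplicit false
set_option linter.unusedSectionVars false
set_option linter.style.haveILetI false
set_option linter.unusedVariables false

/-! Zassenhaus project, part B: Dickson's theorem applied to quadratic pairs. -/

namespace Cfsg.Agent.Helper56.ZB

open Cfsg.Agent.Helper56.ZA

lemma center_sq {K : Type*} [Field K] (A : Matrix.SpecialLinearGroup (Fin 2) K)
    (hA : A ∈ Subgroup.center (Matrix.SpecialLinearGroup (Fin 2) K)) : A * A = 1 := by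
  obtain ⟨r, hr, hrA⟩ := Matrix.SpecialLinearGroup.mem_center_iff.mp hA
  rw [Fintype.card_fin] at hr
  apply Subtype.ext
  rw [Matrix.SpecialLinearGroup.coe_mul, ← hrA, Matrix.SpecialLinearGroup.coe_one]
  rw [← map_mul, ← pow_two, hr, map_one]

variable {G : Type*} [Group G] [Finite G] {K : Type*} [Field K] [Finite K] {W : Type*}
  [AddCommGroup W] [Module K W] (D : SRK G K W) (q : ℕ) [Fact q.Prime] [CharP K q]
  (hq : ¬ q ∣ Nat.card G)

include hq in
/-- a pair of quadratic elements commutes or generates a subgroup which covers a dihedral group,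
`A₄`, `S₄` or `A₅` with kernel of exponent two -/
theorem quad_pair (g h : G) (a b : K) (hg : D.σ g * D.σ g = a • D.σ g - 1)
    (hh : D.σ h * D.σ h = b • D.σ h - 1) :
    g * h = h * g ∨
    (∃ (n : ℕ) (_ : 0 < n) (π : Subgroup.closure ({g, h} : Set G) →* DihedralGroup n),
      Function.Surjective π ∧ ∀ k, π k = 1 → k * k = 1) ∨
    (∃ π : Subgroup.closure ({g, h} : Set G) →* alternatingGroup (Fin 4),
      Function.Surjective π ∧ ∀ k, π k = 1 → k * k = 1) ∨
    (∃ π : Subgroup.closure ({g, h} : Set G) →* Equiv.Perm (Fin 4),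
      Function.Surjective π ∧ ∀ k, π k = 1 → k * k = 1) ∨
    (∃ π : Subgroup.closure ({g, h} : Set G) →* alternatingGroup (Fin 5),
      Function.Surjective π ∧ ∀ k, π k = 1 → k * k = 1) := by
  classical
  rcases T1 D g h a b hg hh with hc | ⟨φ, hφ⟩
  · exact Or.inl hc
  let ψ : Subgroup.closure ({g, h} : Set G) →* Matrix.ProjectiveSpecialLinearGroup (Fin 2) K :=
    (QuotientGroup.mk' (Subgroup.center (Matrix.SpecialLinearGroup (Fin 2) K))).comp φ
  have hker : ∀ k : Subgroup.closure ({g, h} : Set G), ψ k = 1 → k * k = 1 := by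
    intro k hk
    have h1 : φ k ∈ Subgroup.center (Matrix.SpecialLinearGroup (Fin 2) K) := by
      have : (QuotientGroup.mk' (Subgroup.center (Matrix.SpecialLinearGroup (Fin 2) K))) (φ k)
          = 1 := hk
      rwa [QuotientGroup.mk'_apply, QuotientGroup.eq_one_iff] at this
    apply hφ
    rw [map_mul, map_one]
    exact center_sq _ h1
  have hkerc : ∀ k : Subgroup.closure ({g, h} : Set G), ψ k = 1 → ∀ k' : Subgroup.closure ({g, h} : Set G), k * k' = k' * k := by
    intro k hk k'
    have h1 : φ k ∈ Subgroup.center (Matrix.SpecialLinearGroup (Fin 2) K) := by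
      have : (QuotientGroup.mk' (Subgroup.center (Matrix.SpecialLinearGroup (Fin 2) K))) (φ k)
          = 1 := hk
      rwa [QuotientGroup.mk'_apply, QuotientGroup.eq_one_iff] at this
    apply hφ
    rw [map_mul, map_mul]
    exact ((Subgroup.mem_center_iff.mp h1) (φ k')).symm
  have hfin : Finite (Matrix.SpecialLinearGroup (Fin 2) K) :=
    inferInstanceAs (Finite {A : Matrix (Fin 2) (Fin 2) K // A.det = 1})
  have hfin2 : Finite (Matrix.ProjectiveSpecialLinearGroup (Fin 2) K) :=
    inferInstanceAs (Finite (Matrix.SpecialLinearGroup (Fin 2) K ⧸ _))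
  have hcard : ¬ q ∣ Nat.card ψ.range := by
    intro hdvd
    apply hq
    have h1 : Nat.card ψ.range ∣ Nat.card (Subgroup.closure ({g, h} : Set G)) := by
      have := Subgroup.card_range_dvd ψ
      exact this
    exact (hdvd.trans h1).trans (Subgroup.card_subgroup_dvd_card _)
  have hsurj : Function.Surjective ψ.rangeRestrict := ψ.rangeRestrict_surjective
  have hrr : ∀ k : Subgroup.closure ({g, h} : Set G), ψ.rangeRestrict k = 1 → ψ k = 1 := by
    intro k hk
    have := congrArg Subtype.val hk
    exact this
  rcases Cfsg.Agent.Helper98.Dickson.dickson_pprime q ψ.range hcard with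
    hcyc | ⟨n, hn, ⟨e⟩⟩ | ⟨⟨e⟩⟩ | ⟨⟨e⟩⟩ | ⟨⟨e⟩⟩
  · left
    haveI := hcyc
    have hle : ψ.rangeRestrict.ker ≤ Subgroup.center (Subgroup.closure ({g, h} : Set G)) := by
      intro k hk
      rw [Subgroup.mem_center_iff]
      intro k'
      exact (hkerc k (hrr k hk) k').symm
    have hcomm := MonoidHom.isMulCommutative_of_isCyclic_of_ker_le_center ψ.rangeRestrict hle
    have := hcomm.is_comm.comm
      (⟨g, Subgroup.subset_closure (Set.mem_insert _ _)⟩ : Subgroup.closure ({g, h} : Set G))
      ⟨h, Subgroup.subset_closure (Set.mem_insert_of_mem _ rfl)⟩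
    exact congrArg Subtype.val this
  · right; left
    refine ⟨n, hn, e.toMonoidHom.comp ψ.rangeRestrict, e.surjective.comp hsurj, ?_⟩
    intro k hk
    apply hker k
    apply hrr
    apply e.injective
    rw [map_one]
    exact hk
  · right; right; left
    refine ⟨e.toMonoidHom.comp ψ.rangeRestrict, e.surjective.comp hsurj, ?_⟩
    intro k hk
    apply hker k
    apply hrr
    apply e.injective
    rw [map_one]
    exact hk
  · right; right; right; left
    refine ⟨e.toMonoidHom.comp ψ.rangeRestrict, e.surjective.comp hsurj, ?_⟩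
    intro k hk
    apply hker k
    apply hrr
    apply e.injective
    rw [map_one]
    exact hk
  · right; right; right; right
    refine ⟨e.toMonoidHom.comp ψ.rangeRestrict, e.surjective.comp hsurj, ?_⟩
    intro k hk
    apply hker k
    apply hrr
    apply e.injective
    rw [map_one]
    exact hk

end Cfsg.Agent.Helper56.ZB
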