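import Mathlib
import Cfsg.Agent.Lib.Helper56.ZA
import Cfsg.Agent.Lib.Helper56.ZB
import Cfsg.Agent.Lib.Helper56.FrobComplC

set_option autoImplicit false
set_option linter.unusedSectionVars false
set_option linter.style.haveILetI false
set_option linter.unusedVariables false

/-! Zassenhaus project, part C: the bundled data of a fixed-point-free group and first
consequences. -/

namespace Cfsg.Agent.Helper56.ZC

open Cfsg.Agent.Helper56.ZA Cfsg.Agent.Helper56.ZB Cfsg.Agent.Helper56.FC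

/-- all the data attached to a "fixed-point-free" group: a semiregular module over a prime field
and a semiregular module with enough eigenvectors over a finite field of the same
characteristic -/
structure FD (G : Type*) [Group G] where
  q : ℕ
  [hq : Fact q.Prime]
  V : Type
  [iV1 : AddCommGroup V]
  [iV2 : Module (ZMod q) V]
  [iV3 : Finite V]
  [iV4 : Nontrivial V]
  ρ : G →* (V ≃ₗ[ZMod q] V)
  hsr : ∀ v : V, v ≠ 0 → ∀ g : G, ρ g v = v → g = 1
  K : Type
  [iK1 : Field K]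
  [iK2 : Finite K]
  [iK3 : CharP K q]
  W : Type
  [iW1 : AddCommGroup W]
  [iW2 : Module K W]
  D : SRK G K W

attribute [instance] FD.hq FD.iV1 FD.iV2 FD.iV3 FD.iV4 FD.iK1 FD.iK2 FD.iK3 FD.iW1 FD.iW2

lemma ord_conj {G : Type*} [Group G] (g x : G) : orderOf (g * x * g⁻¹) = orderOf x := by
  have := orderOf_injective (MulAut.conj g).toMonoidHom (MulAut.conj g).injective x
  simpa using this

lemma inv_eq_sq_of_three {G : Type*} [Group G] (x : G) (hx : orderOf x = 3) : x⁻¹ = x * x := by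
  have h3 : x ^ 3 = 1 := by rw [← hx]; exact pow_orderOf_eq_one x
  symm
  apply eq_inv_of_mul_eq_one_left
  rw [← pow_two, ← pow_succ]
  exact h3

lemma ne_one_of_order {G : Type*} [Group G] (x : G) (n : ℕ) (hn : 1 < n) (hx : orderOf x = n) :
    x ≠ 1 := by
  intro h
  rw [h, orderOf_one] at hx
  omega

/-- the conclusion of `quad_pair` -/
def PairConcl {G : Type*} [Group G] (g h : G) : Prop :=
  g * h = h * g ∨
    (∃ (n : ℕ) (_ : 0 < n) (π : Subgroup.closure ({g, h} : Set G) →* DihedralGroup n),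
      Function.Surjective π ∧ ∀ k, π k = 1 → k * k = 1) ∨
    (∃ π : Subgroup.closure ({g, h} : Set G) →* alternatingGroup (Fin 4),
      Function.Surjective π ∧ ∀ k, π k = 1 → k * k = 1) ∨
    (∃ π : Subgroup.closure ({g, h} : Set G) →* Equiv.Perm (Fin 4),
      Function.Surjective π ∧ ∀ k, π k = 1 → k * k = 1) ∨
    (∃ π : Subgroup.closure ({g, h} : Set G) →* alternatingGroup (Fin 5),
      Function.Surjective π ∧ ∀ k, π k = 1 → k * k = 1)

namespace FD

variable {G : Type*} [Group G] (F : FD G)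

include F

/-- restriction along an injective homomorphism -/
def comap {H : Type*} [Group H] (f : H →* G) (hf : Function.Injective f) : FD H where
  q := F.q
  V := F.V
  ρ := F.ρ.comp f
  hsr := fun v hv g hg => hf (by rw [map_one]; exact F.hsr v hv (f g) hg)
  K := F.K
  W := F.W
  D := F.D.comap f hf

lemma faithful (g h : G) (hgh : F.D.σ g = F.D.σ h) : g = h := by
  obtain ⟨w, hw⟩ := F.D.ntr
  exact F.D.eq_of_apply_eq g h w hw (by rw [hgh])

lemma invol_unique (z z' : G) (hz : orderOf z = 2) (hz' : orderOf z' = 2) : z = z' :=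
  F.D.invol_unique z z' hz hz'

lemma invol_comm (z : G) (hz : orderOf z = 2) (g : G) : g * z = z * g := by
  have h : orderOf (g * z * g⁻¹) = 2 := by rw [ord_conj, hz]
  have := F.invol_unique _ _ h hz
  calc g * z = g * z * g⁻¹ * g := by group
    _ = z * g := by rw [this]

lemma sq_eq_invol (t z : G) (ht : orderOf t = 4) (hz : orderOf z = 2) : t * t = z := by
  apply F.invol_unique _ _ _ hz
  rw [← pow_two, orderOf_pow' t (by norm_num), ht]
  rfl

/-- commuting elements of order three generate the same subgroup -/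
lemma comm3 (x y : G) (hx : orderOf x = 3) (hy : orderOf y = 3) (hc : x * y = y * x) :
    y = x ∨ y = x⁻¹ := by
  obtain ⟨w, hw⟩ := F.D.ntr
  have hXX := quad_apply (F.D.σ x) (-1) (F.D.quad_three x hx)
  have hYY := quad_apply (F.D.σ y) (-1) (F.D.quad_three y hy)
  have hXY : ∀ v, F.D.σ x (F.D.σ y v) = F.D.σ y (F.D.σ x v) := by
    intro v
    rw [← Module.End.mul_apply, ← Module.End.mul_apply, ← map_mul, ← map_mul, hc]
  by_cases h0 : F.D.σ x w + F.D.σ y w + w = 0
  · right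
    apply F.D.eq_of_apply_eq y x⁻¹ w hw
    rw [inv_eq_sq_of_three x hx, map_mul, Module.End.mul_apply, hXX]
    have : F.D.σ y w = -(F.D.σ x w) - w := by
      have h1 : F.D.σ y w = (F.D.σ x w + F.D.σ y w + w) - F.D.σ x w - w := by abel
      rw [h1, h0]
      abel
    rw [this]
    module
  · left
    symm
    apply F.D.eq_of_apply_eq x y _ h0
    simp only [map_add, hXX, hYY, hXY]
    module

/-- commuting elements of order four generate the same subgroup -/
lemma comm4 (t s : G) (ht : orderOf t = 4) (hs : orderOf s = 4) (hc : t * s = s * t) :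
    s = t ∨ s = t⁻¹ := by
  obtain ⟨w, hw⟩ := F.D.ntr
  have hTT := quad_apply (F.D.σ t) 0 (F.D.quad_four t ht)
  have hSS := quad_apply (F.D.σ s) 0 (F.D.quad_four s hs)
  have hTS : ∀ v, F.D.σ t (F.D.σ s v) = F.D.σ s (F.D.σ t v) := by
    intro v
    rw [← Module.End.mul_apply, ← Module.End.mul_apply, ← map_mul, ← map_mul, hc]
  by_cases h0 : F.D.σ t w + F.D.σ s w = 0
  · right
    apply F.D.eq_of_apply_eq s t⁻¹ w hw
    have h1 : F.D.σ s w = -(F.D.σ t w) := by
      rw [eq_neg_iff_add_eq_zero, add_comm]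
      exact h0
    rw [h1]
    apply F.D.inj t
    rw [F.D.apply_inv, map_neg, hTT]
    module
  · left
    symm
    apply F.D.eq_of_apply_eq t s _ h0
    simp only [map_add, hTT, hSS]
    rw [hTS]
    module

variable [Finite G]

lemma not_dvd : ¬ F.q ∣ Nat.card G := sr_not_dvd F.ρ F.hsr

lemma two_ne (h2 : 2 ∣ Nat.card G) : (2 : F.K) ≠ 0 := by
  intro h
  have h1 : F.q ∣ 2 := by
    have h' : ((2 : ℕ) : F.K) = 0 := by exact_mod_cast h
    exact (CharP.cast_eq_zero_iff F.K F.q 2).mp h'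
  have hq2 : F.q = 2 := (Nat.prime_dvd_prime_iff_eq F.hq.out Nat.prime_two).mp h1
  apply F.not_dvd
  rw [hq2]
  exact h2

lemma exists_invol (h2 : 2 ∣ Nat.card G) : ∃ z : G, orderOf z = 2 :=
  exists_prime_orderOf_dvd_card' 2 h2

lemma two_sub (P : Subgroup G) (hP : IsPGroup 2 P) :
    IsCyclic P ∨ ∃ k : ℕ, 1 ≤ k ∧ Nonempty (P ≃* QuaternionGroup (2 ^ k)) :=
  sr_two F.ρ F.hsr P hP

lemma odd_sub (p : ℕ) [Fact p.Prime] (hp : p ≠ 2) (P : Subgroup G) (hP : IsPGroup p P) :
    IsCyclic P := by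
  rcases sr_pgroup F.ρ F.hsr p P hP with h | ⟨n, ⟨e⟩⟩
  · exact h
  · exact (not_quat_of_odd hp hP e).elim

lemma cc (u : G) (p : ℕ) [Fact p.Prime] (hu : orderOf u = p) (C : Subgroup G)
    (hCc : ∀ a ∈ C, ∀ b ∈ C, a * b = b * a) (hnorm : ∀ c ∈ C, u⁻¹ * c * u ∈ C)
    (hp : ¬ p ∣ Nat.card C) : ∀ c ∈ C, u⁻¹ * c * u = c :=
  sr_cc F.ρ F.hsr u p hu C hCc hnorm hp

lemma pair (g h : G) (a b : F.K) (hg : F.D.σ g * F.D.σ g = a • F.D.σ g - 1)
    (hh : F.D.σ h * F.D.σ h = b • F.D.σ h - 1) : PairConcl g h :=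
  quad_pair F.D F.q F.not_dvd g h a b hg hh

end FD

/-! ### The quaternion model -/

section quat

open QuaternionGroup

lemma quat_inv_a_one {n : ℕ} : (a 1 : QuaternionGroup n)⁻¹ = a (-1) := by
  apply inv_eq_of_mul_eq_one_right
  rw [a_mul_a, add_neg_cancel, a_zero]

lemma quat_gen_inv {n : ℕ} (x : QuaternionGroup n) :
    x * a 1 = a 1 * x ∨ x * a 1 * x⁻¹ = (a 1)⁻¹ := by
  cases x with
  | a i =>
    left
    rw [a_mul_a, a_mul_a, add_comm]
  | xa i =>
    right
    rw [mul_inv_eq_iff_eq_mul, quat_inv_a_one, xa_mul_a, a_mul_xa, sub_neg_eq_add]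

lemma quat_norm_core {n : ℕ} (j : ZMod (2 * n))
    (h : (xa j * (a 1 * xa j * (a 1)⁻¹) : QuaternionGroup n) ^ 4 = 1) : 2 * n ∣ 8 := by
  rw [quat_inv_a_one, a_mul_xa, xa_mul_a, xa_mul_xa] at h
  simp only [pow_succ, pow_zero, one_mul, a_mul_a] at h
  rw [one_def] at h
  have h0 := a.inj h
  have h8 : ((8 : ℕ) : ZMod (2 * n)) = 0 := by
    have hn : ((2 * n : ℕ) : ZMod (2 * n)) = 0 := ZMod.natCast_self _
    push_cast at hn ⊢
    linear_combination (2 : ZMod (2 * n)) * hn - h0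
  exact (ZMod.natCast_eq_zero_iff 8 (2 * n)).mp h8

lemma comm_of_isCyclic {G : Type*} [Group G] (P : Subgroup G) (hc : IsCyclic P) :
    ∀ u ∈ P, ∀ v ∈ P, u * v = v * u := by
  intro u hu v hv
  haveI := hc
  obtain ⟨g, hg⟩ := IsCyclic.exists_generator (α := P)
  have hcomm : ∀ u v : P, u * v = v * u := by
    intro u v
    obtain ⟨i, rfl⟩ := Subgroup.mem_zpowers_iff.mp (hg u)
    obtain ⟨j, rfl⟩ := Subgroup.mem_zpowers_iff.mp (hg v)
    rw [← zpow_add, ← zpow_add, add_comm]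
  exact congrArg Subtype.val (hcomm ⟨u, hu⟩ ⟨v, hv⟩)

variable {G : Type*} [Group G] [Finite G] (F : FD G)

include F

/-- a `2`-subgroup with a non-commutative normal subgroup of exponent four has order at most
`16` -/
lemma normal_q8_bound (P E : Subgroup G) (hP : IsPGroup 2 P) (hEP : E ≤ P)
    (hnorm : ∀ p ∈ P, ∀ e ∈ E, p * e * p⁻¹ ∈ E) (hexp : ∀ e ∈ E, e ^ 4 = 1)
    (hna : ∃ e₁ ∈ E, ∃ e₂ ∈ E, e₁ * e₂ ≠ e₂ * e₁) : Nat.card P ≤ 16 := by
  rcases F.two_sub P hP with hc | ⟨k, hk, ⟨e⟩⟩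
  · exfalso
    obtain ⟨e₁, h1, e₂, h2, hne⟩ := hna
    exact hne (comm_of_isCyclic P hc e₁ (hEP h1) e₂ (hEP h2))
  · haveI : NeZero (2 ^ k) := ⟨by positivity⟩
    have h1 : ∃ y ∈ E, ∃ hy : y ∈ P, ∃ j, e ⟨y, hy⟩ = xa j := by
      by_contra hcon
      push_neg at hcon
      obtain ⟨e₁, h1, e₂, h2, hne⟩ := hna
      apply hne
      have ha : ∀ y (hy : y ∈ E), ∃ i, e ⟨y, hEP hy⟩ = a i := by
        intro y hy
        cases hq : e ⟨y, hEP hy⟩ with
        | a i => exact ⟨i, rfl⟩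
        | xa j => exact absurd hq (hcon y hy (hEP hy) j)
      obtain ⟨i₁, hi₁⟩ := ha e₁ h1
      obtain ⟨i₂, hi₂⟩ := ha e₂ h2
      have : (⟨e₁, hEP h1⟩ : P) * ⟨e₂, hEP h2⟩ = ⟨e₂, hEP h2⟩ * ⟨e₁, hEP h1⟩ := by
        apply e.injective
        rw [map_mul, map_mul, hi₁, hi₂, a_mul_a, a_mul_a, add_comm]
      exact congrArg Subtype.val this
    obtain ⟨y, hyE, hyP, j, hj⟩ := h1
    set g : P := e.symm (a 1) with hg
    have hy' : (g : G) * y * (g : G)⁻¹ ∈ E := hnorm g g.2 y hyE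
    have hyy : y * ((g : G) * y * (g : G)⁻¹) ∈ E := E.mul_mem hyE hy'
    have h4 := hexp _ hyy
    have hsub : (⟨y * ((g : G) * y * (g : G)⁻¹), hEP hyy⟩ : P)
        = ⟨y, hyP⟩ * (g * ⟨y, hyP⟩ * g⁻¹) := by
      apply Subtype.ext
      simp
    have h4' : (⟨y * ((g : G) * y * (g : G)⁻¹), hEP hyy⟩ : P) ^ 4 = 1 := by
      apply Subtype.ext
      simpa using h4
    have h4'' := congrArg e h4'
    rw [map_pow, map_one, hsub, map_mul, map_mul, map_mul, map_inv, hj, hg,
      e.apply_symm_apply] at h4''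
    have hdvd := quat_norm_core j h4''
    have hle : 2 * 2 ^ k ≤ 8 := Nat.le_of_dvd (by norm_num) hdvd
    rw [Nat.card_congr e.toEquiv, Nat.card_eq_fintype_card, QuaternionGroup.card]
    omega

/-- a non-commutative `2`-subgroup has a cyclic subgroup of index two, inverted by the elements
not centralizing it -/
lemma exists_gen (P : Subgroup G) (hP : IsPGroup 2 P)
    (hna : ∃ e₁ ∈ P, ∃ e₂ ∈ P, e₁ * e₂ ≠ e₂ * e₁) :
    ∃ g ∈ P, 2 * orderOf g = Nat.card P ∧ ∀ b ∈ P, b * g = g * b ∨ b * g * b⁻¹ = g⁻¹ := by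
  rcases F.two_sub P hP with hc | ⟨k, hk, ⟨e⟩⟩
  · exfalso
    obtain ⟨e₁, h1, e₂, h2, hne⟩ := hna
    haveI := hc
    obtain ⟨g, hg⟩ := IsCyclic.exists_generator (α := P)
    have hcomm : ∀ u v : P, u * v = v * u := by
      intro u v
      obtain ⟨i, rfl⟩ := Subgroup.mem_zpowers_iff.mp (hg u)
      obtain ⟨j, rfl⟩ := Subgroup.mem_zpowers_iff.mp (hg v)
      rw [← zpow_add, ← zpow_add, add_comm]
    exact hne (congrArg Subtype.val (hcomm ⟨e₁, h1⟩ ⟨e₂, h2⟩))
  · haveI : NeZero (2 ^ k) := ⟨by positivity⟩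
    refine ⟨(e.symm (a 1) : P), (e.symm (a 1)).2, ?_, ?_⟩
    · rw [Subgroup.orderOf_coe, MulEquiv.orderOf_eq, orderOf_a_one, Nat.card_congr e.toEquiv,
        Nat.card_eq_fintype_card, QuaternionGroup.card]
      ring
    · intro b hb
      rcases quat_gen_inv (e ⟨b, hb⟩) with h | h
      · left
        have := congrArg e.symm h
        rw [map_mul, map_mul, e.symm_apply_apply] at this
        exact congrArg Subtype.val this
      · right
        have := congrArg e.symm h
        rw [map_mul, map_mul, map_inv, map_inv, e.symm_apply_apply] at this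
        exact congrArg Subtype.val this

end quat

end Cfsg.Agent.Helper56.ZC
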