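import Mathlib
import Cfsg.Agent.Lib.Helper56.ZC

set_option autoImplicit false
set_option linter.unusedSectionVars false
set_option linter.style.haveILetI false
set_option linter.unusedVariables false

/-! Zassenhaus project, part C2: more on the quaternion model. -/

namespace Cfsg.Agent.Helper56.ZC

open Cfsg.Agent.Helper56.ZA Cfsg.Agent.Helper56.ZB Cfsg.Agent.Helper56.FC

section quat2

open QuaternionGroup

variable {G : Type*} [Group G] [Finite G] (F : FD G)

include F

/-- a non-commutative `2`-subgroup has a cyclic subgroup of index two, inverted by the elements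
not centralizing it, and containing all elements of order at least `8` -/
lemma exists_gen' (P : Subgroup G) (hP : IsPGroup 2 P)
    (hna : ∃ e₁ ∈ P, ∃ e₂ ∈ P, e₁ * e₂ ≠ e₂ * e₁) :
    ∃ g ∈ P, 2 * orderOf g = Nat.card P ∧ (∀ b ∈ P, b * g = g * b ∨ b * g * b⁻¹ = g⁻¹) ∧
      (∃ b ∈ P, b * g * b⁻¹ = g⁻¹) ∧ (∀ c ∈ P, 8 ≤ orderOf c → c ∈ Subgroup.zpowers g) := by
  rcases F.two_sub P hP with hc | ⟨k, hk, ⟨e⟩⟩
  · exfalso
    obtain ⟨e₁, h1, e₂, h2, hne⟩ := hna
    exact hne (comm_of_isCyclic P hc e₁ h1 e₂ h2)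
  · haveI : NeZero (2 ^ k) := ⟨by positivity⟩
    haveI : NeZero (2 * 2 ^ k) := ⟨by positivity⟩
    refine ⟨(e.symm (a 1) : P), (e.symm (a 1)).2, ?_, ?_, ?_, ?_⟩
    · rw [Subgroup.orderOf_coe, MulEquiv.orderOf_eq, orderOf_a_one, Nat.card_congr e.toEquiv,
        Nat.card_eq_fintype_card, QuaternionGroup.card]
      ring
    · intro b hb
      rcases quat_gen_inv (e ⟨b, hb⟩) with h | h
      · left
        have := congrArg e.symm h
        rw [map_mul, map_mul, e.symm_apply_apply] at this
        exact congrArg Subtype.val this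
      · right
        have := congrArg e.symm h
        rw [map_mul, map_mul, map_inv, map_inv, e.symm_apply_apply] at this
        exact congrArg Subtype.val this
    · refine ⟨(e.symm (xa 0) : P), (e.symm (xa 0)).2, ?_⟩
      have h : (xa 0 : QuaternionGroup (2 ^ k)) * a 1 * (xa 0)⁻¹ = (a 1)⁻¹ := by
        rw [mul_inv_eq_iff_eq_mul, quat_inv_a_one, xa_mul_a, a_mul_xa, sub_neg_eq_add]
      have := congrArg e.symm h
      rw [map_mul, map_mul, map_inv, map_inv] at this
      exact congrArg Subtype.val this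
    · intro c hc hc8
      cases hq : e ⟨c, hc⟩ with
      | a i =>
        have h1 : (⟨c, hc⟩ : P) = e.symm (a i) := by
          rw [← hq, e.symm_apply_apply]
        have h2 : (a i : QuaternionGroup (2 ^ k)) = (a 1) ^ i.val := by
          rw [a_one_pow, ZMod.natCast_zmod_val]
        rw [h2, map_pow] at h1
        have h3 := congrArg Subtype.val h1
        simp only [Subgroup.coe_pow] at h3
        rw [h3]
        exact Subgroup.npow_mem_zpowers _ _
      | xa j =>
        exfalso
        have h1 : orderOf (⟨c, hc⟩ : P) = 4 := by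
          rw [← MulEquiv.orderOf_eq e, hq, orderOf_xa]
        rw [Subgroup.orderOf_mk] at h1
        omega

/-- in a non-commutative `2`-subgroup the elements of order at least `8` are centralized or
inverted by every element -/
lemma gen_inv (P : Subgroup G) (hP : IsPGroup 2 P)
    (hna : ∃ e₁ ∈ P, ∃ e₂ ∈ P, e₁ * e₂ ≠ e₂ * e₁) (c : G) (hc : c ∈ P) (hc8 : 8 ≤ orderOf c) :
    ∀ b ∈ P, b * c = c * b ∨ b * c * b⁻¹ = c⁻¹ := by
  obtain ⟨g, hg, -, hgi, -, hg8⟩ := exists_gen' F P hP hna
  obtain ⟨i, hi⟩ := Subgroup.mem_zpowers_iff.mp (hg8 c hc hc8)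
  intro b hb
  rcases hgi b hb with h | h
  · left
    rw [← hi]
    have : Commute b g := h
    exact (this.zpow_right i).eq
  · right
    rw [← hi, ← conj_zpow, h, inv_zpow]

end quat2

end Cfsg.Agent.Helper56.ZC
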