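import Mathlib
import Cfsg.Agent.Lib.Helper56.ZC

set_option autoImplicit false
set_option linter.unusedSectionVars false
set_option linter.style.haveILetI false
set_option linter.unusedVariables false

/-! Zassenhaus project, part D: operator identities (rigidity of elements of order three
normalizing a quaternion group, central quadratic elements). -/

namespace Cfsg.Agent.Helper56.ZD

open Cfsg.Agent.Helper56.ZA Cfsg.Agent.Helper56.ZB Cfsg.Agent.Helper56.ZC

section op

variable {K : Type*} [Field K] {W : Type*} [AddCommGroup W] [Module K W]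

/-- relations among operators `X, T, S` coming from `x t x⁻¹ = s`, `x s x⁻¹ = t s`, `x³ = 1` -/
lemma rig_rel (X T S : Module.End K W) (hXT : X * T = S * X) (hXS : X * S = T * S * X)
    (hX3 : X * X * X = 1) (hT : T * T = -1) (hS : S * S = -1) :
    S * (T * S) = T ∧ S * T = -(T * S) ∧ X * (T * S) = T * X ∧
      X * T * (X * T) * (X * T) = -1 := by
  have hXT' : ∀ Y, X * (T * Y) = S * (X * Y) := by
    intro Y
    rw [← mul_assoc, hXT, mul_assoc]
  have hXS' : ∀ Y, X * (S * Y) = T * (S * (X * Y)) := by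
    intro Y
    rw [← mul_assoc, hXS, mul_assoc, mul_assoc]
  have hX3r : X * (X * X) = 1 := by rw [← mul_assoc, hX3]
  have hX3' : ∀ Y, X * (X * (X * Y)) = Y := by
    intro Y
    rw [← mul_assoc, ← mul_assoc, hX3, one_mul]
  have ea : S * (T * S) = T := by
    have h1 : X * (X * (X * T)) = S * (T * S) := by
      rw [hXT, hXS', hXT', hXS', hX3r, mul_one]
    rw [← h1, hX3']
  have eb : S * T = -(T * S) := by
    have h1 : S * (T * S) * S = T * S := by rw [ea]
    have h2 : S * (T * S) * S = -(S * T) := by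
      rw [mul_assoc, mul_assoc, hS, mul_neg, mul_neg, mul_one]
    rw [h2] at h1
    rw [← h1, neg_neg]
  have ec : X * (T * S) = T * X := by
    rw [hXT', hXS, ← mul_assoc, ← mul_assoc, mul_assoc S, ea]
  refine ⟨ea, eb, ec, ?_⟩
  have h1 : X * T * (X * T) * (X * T) = S * (T * (S * (S * (T * S)))) := by
    simp only [mul_assoc]
    rw [hXT, hXT', hXT', hXS', hXS', hXT', hXS', hX3r, mul_one]
  rw [h1]
  calc S * (T * (S * (S * (T * S)))) = S * (T * (S * T)) := by rw [ea]
    _ = S * (T * S) * T := by simp only [mul_assoc]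
    _ = T * T := by rw [ea]
    _ = -1 := hT

/-- the operator of an element of order three acting on a quaternion group is determined -/
lemma rig_op (X T S : Module.End K W) (hX : X * X = (-1 : K) • X - 1) (hT : T * T = -1)
    (hS : S * S = -1) (hST : S * T = -(T * S)) (hTX : X * (T * S) = T * X)
    (hY : X * T * (X * T) = X * T - 1) :
    (2 : K) • X = -(1 + T + S + T * S) := by
  have hTST : T * S * T = S := by
    rw [mul_assoc, hST, mul_neg, ← mul_assoc, hT, neg_mul, one_mul, neg_neg]
  have h1 : X * T * (X * T) = X * X * S := by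
    calc X * T * (X * T) = X * (T * X) * T := by simp only [mul_assoc]
      _ = X * (X * (T * S)) * T := by rw [hTX]
      _ = X * X * (T * S * T) := by simp only [mul_assoc]
      _ = X * X * S := by rw [hTST]
  have h2 : X * S + X * T = 1 - S := by
    have h3 := hY
    rw [h1, hX, sub_mul, one_mul, smul_mul_assoc, neg_smul, one_smul] at h3
    calc X * S + X * T = X * S + (X * T - 1) + 1 := by abel
      _ = X * S + (-(X * S) - S) + 1 := by rw [← h3]
      _ = 1 - S := by abel
  have h3 : (S + T) * (S + T) = -1 - 1 := by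
    rw [add_mul, mul_add, mul_add, hS, hST, hT]
    abel
  have h4 : (1 - S) * (S + T) = 1 + T + S + T * S := by
    rw [sub_mul, one_mul, mul_add, hS, hST]
    abel
  have h5 : X * ((S + T) * (S + T)) = (1 - S) * (S + T) := by
    rw [← mul_assoc, mul_add X, h2]
  rw [h3, h4, mul_sub, mul_neg, mul_one] at h5
  rw [two_smul, ← h5]
  abel

end op

section grp

variable {G : Type*} [Group G] {K : Type*} [Field K] {W : Type*} [AddCommGroup W] [Module K W]
  (D : SRK G K W)

lemma sig_sq_four (t : G) (ht : orderOf t = 4) : D.σ t * D.σ t = -1 := by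
  rw [D.quad_four t ht, zero_smul, zero_sub]

/-- **Rigidity**: an operator commuting with `t` and `s = x t x⁻¹` commutes with `x` when `x` of
order three maps `s` to `t s`. -/
theorem rigid (h2 : (2 : K) ≠ 0) (x t s : G) (hx : orderOf x = 3) (ht : orderOf t = 4)
    (hs : x * t * x⁻¹ = s) (hr : x * s * x⁻¹ = t * s) (M : Module.End K W)
    (hMt : M * D.σ t = D.σ t * M) (hMs : M * D.σ s = D.σ s * M) :
    M * D.σ x = D.σ x * M := by
  have hso : orderOf s = 4 := by rw [← hs, ord_conj, ht]
  have hT := sig_sq_four D t ht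
  have hS := sig_sq_four D s hso
  have hX := D.quad_three x hx
  have hx3 : x * x * x = 1 := by
    have := pow_orderOf_eq_one x
    rw [hx, pow_succ, pow_two] at this
    exact this
  have hXT : D.σ x * D.σ t = D.σ s * D.σ x := by
    rw [← map_mul, ← map_mul, ← hs]
    congr 1
    group
  have hXS : D.σ x * D.σ s = D.σ t * D.σ s * D.σ x := by
    rw [← map_mul, ← map_mul, ← map_mul, ← hr]
    congr 1
    group
  have hX3 : D.σ x * D.σ x * D.σ x = 1 := by
    rw [← map_mul, ← map_mul, hx3, map_one]
  obtain ⟨ea, eb, ec, ed⟩ := rig_rel (D.σ x) (D.σ t) (D.σ s) hXT hXS hX3 hT hS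
  -- the element `g = x * (t * t) * t` has order three
  set g := x * (t * t) * t with hg
  have hσg : D.σ g = -(D.σ x * D.σ t) := by
    rw [hg, map_mul, map_mul, map_mul, hT, mul_neg, mul_one, neg_mul]
  have hg3 : g ^ 3 = 1 := by
    obtain ⟨w, hw⟩ := D.ntr
    apply D.eq_of_apply_eq _ _ w hw
    rw [pow_succ, pow_two, map_mul, map_mul, hσg, map_one]
    have : -(D.σ x * D.σ t) * -(D.σ x * D.σ t) * -(D.σ x * D.σ t)
        = -(D.σ x * D.σ t * (D.σ x * D.σ t) * (D.σ x * D.σ t)) := by
      simp only [neg_mul, mul_neg, neg_neg]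
    rw [this, ed, neg_neg]
  have hg1 : g ≠ 1 := by
    intro h1
    have h3 : D.σ x * D.σ t = -1 := by
      have : D.σ g = 1 := by rw [h1, map_one]
      rw [hσg] at this
      rw [← this, neg_neg]
    have h4 : D.σ x = D.σ t := by
      have h5 : D.σ x * D.σ t * D.σ t = -(D.σ t) := by rw [h3, neg_mul, one_mul]
      rw [mul_assoc, hT, mul_neg, mul_one, neg_inj] at h5
      exact h5
    have h6 : x = t := by
      obtain ⟨w, hw⟩ := D.ntr
      exact D.eq_of_apply_eq x t w hw (by rw [h4])
    rw [h6, ht] at hx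
    omega
  haveI : Fact (Nat.Prime 3) := ⟨by norm_num⟩
  have hgo : orderOf g = 3 := orderOf_eq_prime hg3 hg1
  have hY0 := D.quad_three g hgo
  have hY : D.σ x * D.σ t * (D.σ x * D.σ t) = D.σ x * D.σ t - 1 := by
    rw [hσg] at hY0
    rw [neg_mul_neg, smul_neg, neg_smul, one_smul, neg_neg] at hY0
    exact hY0
  have key := rig_op (D.σ x) (D.σ t) (D.σ s) hX hT hS eb ec hY
  have hcomm : M * ((2 : K) • D.σ x) = ((2 : K) • D.σ x) * M := by
    rw [key]
    simp only [mul_neg, neg_mul, mul_add, add_mul, mul_one, one_mul]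
    rw [hMt, hMs, ← mul_assoc, hMt, mul_assoc, hMs, mul_assoc]
  rw [mul_smul_comm, smul_mul_assoc] at hcomm
  exact smul_right_injective _ h2 hcomm

/-- the sum of an element and its inverse commutes with everything normalizing the element up to
inversion -/
lemma gp_comm (g h : G) (hgh : h * g * h⁻¹ = g ∨ h * g * h⁻¹ = g⁻¹) :
    (D.σ g + D.σ g⁻¹) * D.σ h = D.σ h * (D.σ g + D.σ g⁻¹) := by
  have e1 : ∀ a b : G, h * a * h⁻¹ = b → D.σ h * D.σ a = D.σ b * D.σ h := by
    intro a b hab
    rw [← map_mul, ← map_mul, ← hab]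
    congr 1
    group
  rcases hgh with h1 | h1
  · have h2 : h * g⁻¹ * h⁻¹ = g⁻¹ := by
      have : h * g⁻¹ * h⁻¹ = (h * g * h⁻¹)⁻¹ := by group
      rw [this, h1]
    rw [add_mul, mul_add, e1 g g h1, e1 g⁻¹ g⁻¹ h2]
  · have h2 : h * g⁻¹ * h⁻¹ = g := by
      have : h * g⁻¹ * h⁻¹ = (h * g * h⁻¹)⁻¹ := by group
      rw [this, h1, inv_inv]
    rw [add_mul, mul_add, e1 g g⁻¹ h1, e1 g⁻¹ g h2, add_comm]

/-- restriction of a semiregular representation to an invariant subspace -/
def restr (U : Submodule K W) (hU : ∀ g : G, ∀ u ∈ U, D.σ g u ∈ U) (hne : U ≠ ⊥) :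
    SRK G K U where
  σ :=
    { toFun := fun g => (D.σ g).restrict (hU g)
      map_one' := by
        apply LinearMap.ext
        intro u
        apply Subtype.ext
        simp [LinearMap.restrict_apply]
      map_mul' := by
        intro g h
        apply LinearMap.ext
        intro u
        apply Subtype.ext
        simp [LinearMap.restrict_apply] }
  sr := fun g hg u hu => Subtype.ext (D.sr g hg u (congrArg Subtype.val hu))
  eig := by
    intro g U' hU' hinv
    obtain ⟨u', hu', hu'0⟩ := Submodule.exists_mem_ne_zero_of_ne_bot hU'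
    have h1 : U'.map U.subtype ≠ ⊥ := by
      rw [Submodule.ne_bot_iff]
      exact ⟨(u' : W), Submodule.mem_map_of_mem hu', fun h => hu'0 (Subtype.ext h)⟩
    have h2 : ∀ w ∈ U'.map U.subtype, D.σ g w ∈ U'.map U.subtype := by
      rintro w ⟨u, hu, rfl⟩
      exact ⟨(D.σ g).restrict (hU g) u, hinv u hu, rfl⟩
    obtain ⟨w, ⟨u, hu, rfl⟩, hw0, μ, hμ⟩ := D.eig g _ h1 h2
    refine ⟨u, hu, fun h => hw0 (by rw [h]; rfl), μ, ?_⟩
    apply Subtype.ext
    exact hμ
  ntr := by
    obtain ⟨u, hu, hu0⟩ := Submodule.exists_mem_ne_zero_of_ne_bot hne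
    exact ⟨⟨u, hu⟩, fun h => hu0 (congrArg Subtype.val h)⟩

lemma restr_apply (U : Submodule K W) (hU : ∀ g : G, ∀ u ∈ U, D.σ g u ∈ U) (hne : U ≠ ⊥)
    (g : G) (u : U) : (((restr D U hU hne).σ g u : U) : W) = D.σ g (u : W) := rfl

/-- **Central quadratic elements.** If `σ g + σ g⁻¹` commutes with the whole group then `g`
behaves like a quadratic element against every quadratic element. -/
theorem central_quad [Finite G] [Finite K] (q : ℕ) [Fact q.Prime] [CharP K q]
    (hq : ¬ q ∣ Nat.card G) (g : G)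
    (hcen : ∀ k : G, (D.σ g + D.σ g⁻¹) * D.σ k = D.σ k * (D.σ g + D.σ g⁻¹))
    (h : G) (b : K) (hh : D.σ h * D.σ h = b • D.σ h - 1) : PairConcl g h := by
  classical
  obtain ⟨w0, hw0⟩ := D.ntr
  have htop : (⊤ : Submodule K W) ≠ ⊥ := by
    intro h0
    apply hw0
    have : w0 ∈ (⊤ : Submodule K W) := Submodule.mem_top
    rw [h0] at this
    exact (Submodule.mem_bot K).mp this
  obtain ⟨w, -, hw, μ, hμ⟩ := D.eig g ⊤ htop (fun _ _ => Submodule.mem_top)
  have hμ0 : μ ≠ 0 := by
    intro h0
    rw [h0, zero_smul] at hμ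
    exact hw (D.inj g (hμ.trans (map_zero _).symm))
  have hinv : D.σ g⁻¹ w = μ⁻¹ • w := by
    apply D.inj g
    rw [D.apply_inv, map_smul, hμ, smul_smul, inv_mul_cancel₀ hμ0, one_smul]
  set δ := μ + μ⁻¹ with hδ
  set d := D.σ g + D.σ g⁻¹ with hd
  set U : Submodule K W := LinearMap.ker (d - δ • (1 : Module.End K W)) with hU
  have hmemU : ∀ v, v ∈ U ↔ d v = δ • v := by
    intro v
    rw [hU, LinearMap.mem_ker, LinearMap.sub_apply, LinearMap.smul_apply, Module.End.one_apply,
      sub_eq_zero]
  have hwU : w ∈ U := by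
    rw [hmemU, hd, LinearMap.add_apply, hμ, hinv, hδ, add_smul]
  have hUne : U ≠ ⊥ := by
    intro h0
    apply hw
    rw [h0] at hwU
    exact (Submodule.mem_bot K).mp hwU
  have hUinv : ∀ k : G, ∀ u ∈ U, D.σ k u ∈ U := by
    intro k u hu
    rw [hmemU] at hu ⊢
    have := LinearMap.congr_fun (hcen k) u
    rw [Module.End.mul_apply, Module.End.mul_apply] at this
    rw [this, hu, map_smul]
  have hg' : (restr D U hUinv hUne).σ g * (restr D U hUinv hUne).σ g
      = δ • (restr D U hUinv hUne).σ g - 1 := by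
    apply LinearMap.ext
    intro u
    apply Subtype.ext
    have h1 := (hmemU _).mp (hUinv g u u.2)
    rw [hd, LinearMap.add_apply, D.inv_apply] at h1
    rw [Module.End.mul_apply, restr_apply, restr_apply, LinearMap.sub_apply,
      LinearMap.smul_apply, Module.End.one_apply]
    rw [Submodule.coe_sub, Submodule.coe_smul, restr_apply]
    rw [← h1]
    abel
  have hh' : (restr D U hUinv hUne).σ h * (restr D U hUinv hUne).σ h
      = b • (restr D U hUinv hUne).σ h - 1 := by
    apply LinearMap.ext
    intro u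
    apply Subtype.ext
    have h1 := quad_apply (D.σ h) b hh (u : W)
    rw [Module.End.mul_apply, restr_apply, restr_apply, LinearMap.sub_apply,
      LinearMap.smul_apply, Module.End.one_apply]
    rw [Submodule.coe_sub, Submodule.coe_smul, restr_apply]
    exact h1
  exact quad_pair (restr D U hUinv hUne) q hq g h δ b hg' hh'

end grp

end Cfsg.Agent.Helper56.ZD
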