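import Mathlib

set_option autoImplicit false
set_option linter.unusedSectionVars false
set_option linter.style.haveILetI false
set_option linter.unusedVariables false
set_option maxRecDepth 100000

/-! Zassenhaus project: facts about `A₄` and `A₅` checked by enumeration. -/

namespace Cfsg.Agent.Helper56.ZE0

abbrev A4 := alternatingGroup (Fin 4)
abbrev A5 := alternatingGroup (Fin 5)

theorem a4_ord : ∀ p : A4, p * p = 1 ∨ p * p * p = 1 := by decide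

theorem a4_v_mul : ∀ p : A4, p * p = 1 → ∀ q : A4, q * q = 1 → (p * q) * (p * q) = 1 := by decide

theorem a4_card_v : (Finset.univ.filter (fun p : A4 => p * p = 1)).card = 4 := by decide

theorem a4_nc : ∀ c : A4, c ≠ 1 → c * c * c = 1 → ∀ τ : A4, τ ≠ 1 → τ * τ = 1 →
    c * τ ≠ τ * c := by decide

theorem a4_nn : ∀ c : A4, c ≠ 1 → c * c * c = 1 → ∀ τ : A4, τ ≠ 1 → τ * τ = 1 →
    τ * c * τ⁻¹ ≠ c ∧ τ * c * τ⁻¹ ≠ c⁻¹ := by decide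

theorem a4_r : ∀ c : A4, c ≠ 1 → c * c * c = 1 → ∀ τ : A4, τ ≠ 1 → τ * τ = 1 →
    c * (c * τ * c⁻¹) * c⁻¹ = τ * (c * τ * c⁻¹) := by decide

theorem a4_e : ∀ c : A4, c ≠ 1 → c * c * c = 1 → ∀ τ : A4, τ ≠ 1 → τ * τ = 1 →
    ∀ ρ : A4, ρ ≠ 1 → ρ * ρ = 1 →
    ρ = τ ∨ ρ = c * τ * c⁻¹ ∨ ρ = c * (c * τ * c⁻¹) * c⁻¹ := by decide

theorem a4_ex : ∃ c : A4, c ≠ 1 ∧ c * c * c = 1 := by decide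

theorem a4_ex2 : ∃ τ τ' : A4, τ ≠ 1 ∧ τ * τ = 1 ∧ τ' ≠ 1 ∧ τ' * τ' = 1 ∧ τ ≠ τ' := by decide

theorem a4_card : Fintype.card A4 = 12 := by decide

theorem a5_ord : ∀ p : A5, p * p = 1 ∨ p * p * p = 1 ∨ p ^ 5 = 1 := by decide

theorem a5_two : ∀ p : A5, p ^ 8 = 1 → p * p = 1 := by decide

theorem a5_c : ∀ τ : A5, τ ≠ 1 → τ * τ = 1 → ∀ c : A5, c ≠ 1 → c * c * c = 1 →
    τ * c * τ⁻¹ ≠ c := by decide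

theorem a5_cent_card : ∀ τ : A5, τ ≠ 1 → τ * τ = 1 →
    (Finset.univ.filter (fun ρ : A5 => ρ * τ = τ * ρ)).card = 4 := by decide

set_option synthInstance.maxSize 2000 in
set_option synthInstance.maxHeartbeats 400000 in
theorem a5_sw : ∀ τ : A5, (τ ≠ 1 ∧ τ * τ = 1) → ∀ c₁ : A5, (c₁ ≠ 1 ∧ c₁ * c₁ * c₁ = 1 ∧
    (τ * c₁ * τ⁻¹ = c₁ ∨ τ * c₁ * τ⁻¹ = c₁⁻¹)) → ∀ c₂ : A5, (c₂ ≠ 1 ∧ c₂ * c₂ * c₂ = 1 ∧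
    (τ * c₂ * τ⁻¹ = c₂ ∨ τ * c₂ * τ⁻¹ = c₂⁻¹) ∧ c₂ ≠ c₁ ∧ c₂ ≠ c₁⁻¹) →
    ∀ ρ : A5, (ρ * τ = τ * ρ ∧ ρ ≠ 1 ∧ ρ ≠ τ) →
    (ρ * c₁ * ρ⁻¹ = c₂ ∨ ρ * c₁ * ρ⁻¹ = c₂⁻¹) := by decide

theorem a5_n : ∀ τ : A5, τ ≠ 1 → τ * τ = 1 → ∃ c : A5, c ≠ 1 ∧ c * c * c = 1 ∧
    τ * c * τ⁻¹ ≠ c ∧ τ * c * τ⁻¹ ≠ c⁻¹ ∧
    ∀ ρ : A5, ρ * τ = τ * ρ → (c * ρ * c⁻¹) * τ = τ * (c * ρ * c⁻¹) := by decide

theorem a5_ex : ∃ c : A5, c ≠ 1 ∧ c * c * c = 1 := by decide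

theorem a5_ex2 : ∃ τ τ' : A5, τ ≠ 1 ∧ τ * τ = 1 ∧ τ' ≠ 1 ∧ τ' * τ' = 1 ∧ τ ≠ τ' := by decide

theorem a5_card : Fintype.card A5 = 60 := by decide

end Cfsg.Agent.Helper56.ZE0
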