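import Mathlib
import Cfsg.Agent.Lib.Helper56.ZE0

set_option autoImplicit false
set_option linter.unusedSectionVars false
set_option linter.style.haveILetI false
set_option linter.unusedVariables false
set_option maxRecDepth 100000

/-! Zassenhaus project: more facts about `A₅` checked by enumeration. -/

namespace Cfsg.Agent.Helper56.ZE0

theorem a5_cent_exp : ∀ τ : A5, τ ≠ 1 → τ * τ = 1 → ∀ ρ : A5, ρ * τ = τ * ρ → ρ * ρ = 1 := by
  decide

theorem a5_ex_cent : ∀ τ : A5, τ ≠ 1 → τ * τ = 1 → ∃ ρ : A5, ρ * τ = τ * ρ ∧ ρ ≠ 1 ∧ ρ ≠ τ := by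
  decide

end Cfsg.Agent.Helper56.ZE0
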