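import Mathlib
import Cfsg.Agent.Lib.Helper56.ZE0

set_option autoImplicit false
set_option linter.unusedSectionVars false
set_option linter.style.haveILetI false
set_option linter.unusedVariables false
set_option maxRecDepth 100000

/-! Zassenhaus project: more facts about `A₄`, `S₄`, `A₅` checked by enumeration. -/

namespace Cfsg.Agent.Helper56.ZE0

theorem a5_conj : ∀ τ : A5, (τ ≠ 1 ∧ τ * τ = 1) → ∀ τ' : A5, (τ' ≠ 1 ∧ τ' * τ' = 1) →
    ∃ ρ : A5, ρ * τ * ρ⁻¹ = τ' := by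
  decide

theorem a4_two : ∀ p : A4, p ^ 8 = 1 → p * p = 1 := by decide

theorem s4_key : ∀ p : Equiv.Perm (Fin 4), p ^ 8 = 1 → ∀ q : Equiv.Perm (Fin 4),
    (q ≠ 1 ∧ q * q * q = 1 ∧ ((p * p) * q * (p * p)⁻¹ = q ∨ (p * p) * q * (p * p)⁻¹ = q⁻¹)) →
    p * p = 1 := by
  decide

end Cfsg.Agent.Helper56.ZE0
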