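import Mathlib
import Cfsg.Agent.Lib.Helper56.ZD
import Cfsg.Agent.Lib.Helper56.ZE0

set_option autoImplicit false
set_option linter.unusedSectionVars false
set_option linter.style.haveILetI false
set_option linter.unusedVariables false

/-! Zassenhaus project, part E1: covers of `A₄`, `A₅` with kernel of exponent two; pairs of
elements of order three. -/

namespace Cfsg.Agent.Helper56.ZE

open Cfsg.Agent.Helper56.ZA Cfsg.Agent.Helper56.ZB Cfsg.Agent.Helper56.ZC Cfsg.Agent.Helper56.ZD
  Cfsg.Agent.Helper56.ZE0

/-- a surjection with kernel of exponent two -/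
structure Cover {G : Type*} [Group G] (H : Subgroup G) (P : Type*) [Group P] where
  π : H →* P
  surj : Function.Surjective π
  ker : ∀ k, π k = 1 → k * k = 1

/-- a "line": a subgroup generated by two elements of order three which covers `A₄` -/
def IsLine {G : Type*} [Group G] (L : Subgroup G) : Prop :=
  (∃ x y : G, orderOf x = 3 ∧ orderOf y = 3 ∧ L = Subgroup.closure {x, y}) ∧
    Nonempty (Cover L A4)

/-- a "plane": a subgroup generated by two elements of order three which covers `A₅` -/
def IsPlane {G : Type*} [Group G] (S : Subgroup G) : Prop :=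
  (∃ x y : G, orderOf x = 3 ∧ orderOf y = 3 ∧ S = Subgroup.closure {x, y}) ∧
    Nonempty (Cover S A5)

/-- the subgroup generated by the elements of order dividing four -/
def E4 {G : Type*} [Group G] (L : Subgroup G) : Subgroup G :=
  Subgroup.closure {g | g ∈ L ∧ g ^ 4 = 1}

lemma E4_le {G : Type*} [Group G] (L : Subgroup G) : E4 L ≤ L := by
  rw [E4, Subgroup.closure_le]
  intro g hg
  exact hg.1

lemma ord_of_cube {G : Type*} [Group G] (a : G) (h1 : a ≠ 1) (h3 : a * a * a = 1) :
    orderOf a = 3 := by
  haveI : Fact (Nat.Prime 3) := ⟨by norm_num⟩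
  apply orderOf_eq_prime _ h1
  rw [pow_succ, pow_two]
  exact h3

lemma cube_of_ord {G : Type*} [Group G] (a : G) (h : orderOf a = 3) : a * a * a = 1 := by
  have := pow_orderOf_eq_one a
  rw [h, pow_succ, pow_two] at this
  exact this

lemma ord_of_sq {G : Type*} [Group G] (a : G) (h1 : a ≠ 1) (h2 : a * a = 1) :
    orderOf a = 2 := by
  haveI : Fact (Nat.Prime 2) := ⟨Nat.prime_two⟩
  apply orderOf_eq_prime _ h1
  rw [pow_two]
  exact h2

lemma ord_four_of {G : Type*} [Group G] (a : G) (h2 : a * a ≠ 1) (h4 : a * a * (a * a) = 1) :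
    orderOf a = 4 := by
  have := orderOf_eq_prime_pow (x := a) (p := 2) (n := 1) (by rw [pow_one, pow_two]; exact h2)
    (by
      show a ^ 2 ^ 2 = 1
      have : a ^ 2 ^ 2 = a * a * (a * a) := by
        rw [show (2 : ℕ) ^ 2 = 2 + 2 by norm_num, pow_add, pow_two]
      rw [this]
      exact h4)
  simpa using this

lemma cube_central {G : Type*} [Group G] (z a : G) (hc : ∀ g : G, g * z = z * g) :
    z * a * (z * a) * (z * a) = z * z * z * (a * a * a) := by
  have hc' : ∀ g Y : G, g * (z * Y) = z * (g * Y) := by
    intro g Y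
    rw [← mul_assoc, hc g, mul_assoc]
  simp only [mul_assoc]
  rw [hc' a, hc' a, hc' a]

section kit

variable {G : Type*} [Group G] [Finite G] (F : FD G) {H : Subgroup G} {P : Type*} [Group P]
  (C : Cover H P) (z : G) (hz : orderOf z = 2)

include F hz

lemma ker_cases (k : H) (hk : C.π k = 1) : (k : G) = 1 ∨ (k : G) = z := by
  by_cases h1 : (k : G) = 1
  · exact Or.inl h1
  · right
    have h2 : (k : G) * (k : G) = 1 := congrArg Subtype.val (C.ker k hk)
    exact F.invol_unique _ _ (ord_of_sq _ h1 h2) hz

lemma z_mem (h2 : ∃ τ τ' : P, τ ≠ 1 ∧ τ * τ = 1 ∧ τ' ≠ 1 ∧ τ' * τ' = 1 ∧ τ ≠ τ') :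
    ∃ hzH : z ∈ H, C.π ⟨z, hzH⟩ = 1 := by
  obtain ⟨τ, τ', h1, h1', h2, h2', hne⟩ := h2
  obtain ⟨a, ha⟩ := C.surj τ
  obtain ⟨b, hb⟩ := C.surj τ'
  have haa : C.π (a * a) = 1 := by rw [map_mul, ha, h1']
  have hbb : C.π (b * b) = 1 := by rw [map_mul, hb, h2']
  rcases ker_cases F C z hz (a * a) haa with h3 | h3
  · rcases ker_cases F C z hz (b * b) hbb with h4 | h4
    · exfalso
      have ha1 : (a : G) ≠ 1 := by
        intro h
        apply h1
        rw [← ha, show a = 1 from Subtype.ext h, map_one]
      have hb1 : (b : G) ≠ 1 := by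
        intro h
        apply h2
        rw [← hb, show b = 1 from Subtype.ext h, map_one]
      have e1 := F.invol_unique _ _ (ord_of_sq _ ha1 h3) hz
      have e2 := F.invol_unique _ _ (ord_of_sq _ hb1 h4) hz
      apply hne
      rw [← ha, ← hb, show a = b from Subtype.ext (e1.trans e2.symm)]
    · have hzH : z ∈ H := by
        rw [← h4]
        exact (b * b).2
      refine ⟨hzH, ?_⟩
      rw [← hbb]
      congr 1
      exact Subtype.ext h4.symm
  · have hzH : z ∈ H := by
      rw [← h3]
      exact (a * a).2
    refine ⟨hzH, ?_⟩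
    rw [← haa]
    congr 1
    exact Subtype.ext h3.symm

lemma lift_eq (a b : H) (h : C.π a = C.π b) : (a : G) = b ∨ (a : G) = z * b := by
  have h1 : C.π (a * b⁻¹) = 1 := by rw [map_mul, map_inv, h, mul_inv_cancel]
  rcases ker_cases F C z hz _ h1 with h2 | h2
  · left
    have : (a : G) * (b : G)⁻¹ = 1 := h2
    exact mul_inv_eq_one.mp this
  · right
    have : (a : G) * (b : G)⁻¹ = z := h2
    rw [← this]
    group

lemma ord3_map (a : H) (ha : orderOf (a : G) = 3) :
    C.π a ≠ 1 ∧ C.π a * C.π a * C.π a = 1 := by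
  constructor
  · intro h
    rcases ker_cases F C z hz a h with h1 | h1
    · rw [h1, orderOf_one] at ha
      omega
    · rw [h1, hz] at ha
      omega
  · rw [← map_mul, ← map_mul]
    have : a * a * a = 1 := Subtype.ext (cube_of_ord _ ha)
    rw [this, map_one]

lemma ord4_map (a : H) (ha : orderOf (a : G) = 4) (hzH : z ∈ H) (hπz : C.π ⟨z, hzH⟩ = 1) :
    C.π a ≠ 1 ∧ C.π a * C.π a = 1 := by
  constructor
  · intro h
    rcases ker_cases F C z hz a h with h1 | h1
    · rw [h1, orderOf_one] at ha
      omega
    · rw [h1, hz] at ha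
      omega
  · rw [← map_mul]
    have : a * a = ⟨z, hzH⟩ := Subtype.ext (F.sq_eq_invol _ z ha hz)
    rw [this, hπz]

lemma map_ord2 (a : H) (h1 : C.π a ≠ 1) (h2 : C.π a * C.π a = 1) (hzH : z ∈ H)
    (hπz : C.π ⟨z, hzH⟩ = 1) : orderOf (a : G) = 4 := by
  have haa : C.π (a * a) = 1 := by rw [map_mul, h2]
  have h4 : (a : G) * a * (a * a) = 1 := congrArg Subtype.val (C.ker _ haa)
  apply ord_four_of _ _ h4
  intro h3
  apply h1
  by_cases ha1 : (a : G) = 1
  · rw [show a = 1 from Subtype.ext ha1, map_one]
  · have hao := ord_of_sq _ ha1 h3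
    have haz := F.invol_unique _ _ hao hz
    rw [show a = ⟨z, hzH⟩ from Subtype.ext haz, hπz]

lemma map_ord3 (a : H) (h1 : C.π a ≠ 1) (h3 : C.π a * C.π a * C.π a = 1) :
    orderOf (a : G) = 3 ∨ orderOf (z * (a : G)) = 3 := by
  have haaa : C.π (a * a * a) = 1 := by rw [map_mul, map_mul, h3]
  rcases ker_cases F C z hz _ haaa with h4 | h4
  · left
    apply ord_of_cube _ _ h4
    intro h
    apply h1
    rw [show a = 1 from Subtype.ext h, map_one]
  · right
    have hzz : z * z = 1 := by
      have := pow_orderOf_eq_one z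
      rw [hz, pow_two] at this
      exact this
    have hc : ∀ g : G, g * z = z * g := F.invol_comm z hz
    apply ord_of_cube
    · intro h
      have ha : (a : G) = z := by
        have : z * (z * (a : G)) = z * 1 := by rw [h]
        rw [← mul_assoc, hzz, one_mul, mul_one] at this
        exact this
      have h5 : (a : G) * a * a = z := h4
      rw [ha, hzz, one_mul] at h5
      -- `z = z` fine; but then `π a` is an involution image: `π (a*a) = 1` and `π(a*a*a)=1`
      apply h1
      have h6 : C.π (a * a) = 1 := by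
        have : a * a = 1 := Subtype.ext (by
          show (a : G) * a = 1
          rw [ha, hzz])
        rw [this, map_one]
      have h7 : C.π (a * a * a) = C.π a := by
        rw [map_mul, h6, one_mul]
      rw [← h7, haaa]
    · have h5 : (a : G) * a * a = z := h4
      calc z * (a : G) * (z * a) * (z * a) = z * z * z * ((a : G) * a * a) :=
            cube_central z a hc
        _ = 1 := by rw [h5, hzz, one_mul, hzz]

lemma lift_eq3 (a b : H) (ha : orderOf (a : G) = 3) (hb : orderOf (b : G) = 3)
    (h : C.π a = C.π b) : (a : G) = b := by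
  rcases lift_eq F C z hz a b h with h1 | h1
  · exact h1
  · exfalso
    have hzz : z * z = 1 := by
      have := pow_orderOf_eq_one z
      rw [hz, pow_two] at this
      exact this
    have hc : ∀ g : G, g * z = z * g := F.invol_comm z hz
    have h3 := cube_of_ord _ ha
    have h3b := cube_of_ord _ hb
    rw [h1] at h3
    have : z * (b : G) * (z * b) * (z * b) = z * z * z * ((b : G) * b * b) :=
      cube_central z b hc
    rw [this, h3b, hzz, one_mul, mul_one] at h3
    rw [h3, orderOf_one] at hz
    omega

lemma cover_card (hzH : z ∈ H) (hπz : C.π ⟨z, hzH⟩ = 1) :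
    Nat.card H = 2 * Nat.card P := by
  have h1 := Subgroup.card_eq_card_quotient_mul_card_subgroup C.π.ker
  have h2 : Nat.card (H ⧸ C.π.ker) = Nat.card P :=
    Nat.card_congr (QuotientGroup.quotientKerEquivOfSurjective C.π C.surj).toEquiv
  have h3 : Nat.card C.π.ker = 2 := by
    rw [Nat.card_eq_two_iff]
    refine ⟨1, ⟨⟨z, hzH⟩, hπz⟩, ?_, ?_⟩
    · intro h
      have := congrArg (fun k : C.π.ker => ((k : H) : G)) h
      simp only [OneMemClass.coe_one] at this
      rw [← this, orderOf_one] at hz
      omega
    · ext k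
      simp only [Set.mem_insert_iff, Set.mem_singleton_iff, Set.mem_univ, iff_true]
      rcases ker_cases F C z hz k.1 k.2 with h | h
      · left
        apply Subtype.ext
        apply Subtype.ext
        exact h
      · right
        apply Subtype.ext
        apply Subtype.ext
        exact h
  rw [h1, h2, h3, mul_comm]

end kit

section pair33

variable {G : Type*} [Group G] [Finite G] (F : FD G)

include F

/-- two elements of order three commute or generate a cover of `A₄` or of `A₅` -/
theorem pair33 (x y : G) (hx : orderOf x = 3) (hy : orderOf y = 3) :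
    x * y = y * x ∨ Nonempty (Cover (Subgroup.closure ({x, y} : Set G)) A4) ∨
      Nonempty (Cover (Subgroup.closure ({x, y} : Set G)) A5) := by
  have hX := F.D.quad_three x hx
  have hY := F.D.quad_three y hy
  have hx3 := cube_of_ord x hx
  have hy3 := cube_of_ord y hy
  rcases F.pair x y (-1) (-1) hX hY with h | ⟨n, hn, π, hs, hk⟩ | ⟨π, hs, hk⟩ | ⟨π, hs, hk⟩ |
    ⟨π, hs, hk⟩
  · exact Or.inl h
  · exfalso
    have key : ∀ g (hg : g ∈ Subgroup.closure ({x, y} : Set G)),
        ∃ i, π ⟨g, hg⟩ = DihedralGroup.r i := by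
      intro g hg
      induction hg using Subgroup.closure_induction with
      | mem g hg =>
        have hg3 : g * g * g = 1 := by
          rcases hg with rfl | rfl
          · exact hx3
          · exact hy3
        cases hq : π ⟨g, Subgroup.subset_closure hg⟩ with
        | r i => exact ⟨i, rfl⟩
        | sr i =>
          exfalso
          have h3 : π ⟨g, Subgroup.subset_closure hg⟩ * π ⟨g, Subgroup.subset_closure hg⟩ *
              π ⟨g, Subgroup.subset_closure hg⟩ = 1 := by
            rw [← map_mul, ← map_mul]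
            have : (⟨g, Subgroup.subset_closure hg⟩ : Subgroup.closure ({x, y} : Set G)) *
                ⟨g, Subgroup.subset_closure hg⟩ * ⟨g, Subgroup.subset_closure hg⟩ = 1 :=
              Subtype.ext hg3
            rw [this, map_one]
          rw [hq, DihedralGroup.sr_mul_sr, sub_self, DihedralGroup.r_mul_sr,
            DihedralGroup.one_def] at h3
          cases h3
      | one =>
        refine ⟨0, ?_⟩
        rw [show (⟨1, Subgroup.one_mem _⟩ : Subgroup.closure ({x, y} : Set G)) = 1 from rfl,
          map_one]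
        rfl
      | mul a b ha hb iha ihb =>
        obtain ⟨i, hi⟩ := iha
        obtain ⟨j, hj⟩ := ihb
        refine ⟨i + j, ?_⟩
        rw [show (⟨a * b, Subgroup.mul_mem _ ha hb⟩ : Subgroup.closure ({x, y} : Set G))
          = ⟨a, ha⟩ * ⟨b, hb⟩ from rfl, map_mul, hi, hj, DihedralGroup.r_mul_r]
      | inv a ha iha =>
        obtain ⟨i, hi⟩ := iha
        refine ⟨-i, ?_⟩
        rw [show (⟨a⁻¹, Subgroup.inv_mem _ ha⟩ : Subgroup.closure ({x, y} : Set G))
          = ⟨a, ha⟩⁻¹ from rfl, map_inv, hi]
        apply inv_eq_of_mul_eq_one_right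
        rw [DihedralGroup.r_mul_r, add_neg_cancel]
        rfl
    obtain ⟨k, hk'⟩ := hs (DihedralGroup.sr 0)
    obtain ⟨i, hi⟩ := key k.1 k.2
    rw [hk'] at hi
    cases hi
  · exact Or.inr (Or.inl ⟨⟨π, hs, hk⟩⟩)
  · exfalso
    have key : ∀ g (hg : g ∈ Subgroup.closure ({x, y} : Set G)),
        Equiv.Perm.sign (π ⟨g, hg⟩) = 1 := by
      intro g hg
      induction hg using Subgroup.closure_induction with
      | mem g hg =>
        have hg3 : g * g * g = 1 := by
          rcases hg with rfl | rfl
          · exact hx3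
          · exact hy3
        have h3 : π ⟨g, Subgroup.subset_closure hg⟩ * π ⟨g, Subgroup.subset_closure hg⟩ *
            π ⟨g, Subgroup.subset_closure hg⟩ = 1 := by
          rw [← map_mul, ← map_mul]
          have : (⟨g, Subgroup.subset_closure hg⟩ : Subgroup.closure ({x, y} : Set G)) *
              ⟨g, Subgroup.subset_closure hg⟩ * ⟨g, Subgroup.subset_closure hg⟩ = 1 :=
            Subtype.ext hg3
          rw [this, map_one]
        have h4 := congrArg Equiv.Perm.sign h3
        rw [map_mul, map_mul, map_one] at h4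
        rcases Int.units_eq_one_or (Equiv.Perm.sign (π ⟨g, Subgroup.subset_closure hg⟩)) with
          h | h
        · exact h
        · rw [h] at h4
          exact absurd h4 (by decide)
      | one =>
        rw [show (⟨1, Subgroup.one_mem _⟩ : Subgroup.closure ({x, y} : Set G)) = 1 from rfl,
          map_one, map_one]
      | mul a b ha hb iha ihb =>
        rw [show (⟨a * b, Subgroup.mul_mem _ ha hb⟩ : Subgroup.closure ({x, y} : Set G))
          = ⟨a, ha⟩ * ⟨b, hb⟩ from rfl, map_mul, map_mul, iha, ihb, mul_one]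
      | inv a ha iha =>
        rw [show (⟨a⁻¹, Subgroup.inv_mem _ ha⟩ : Subgroup.closure ({x, y} : Set G))
          = ⟨a, ha⟩⁻¹ from rfl, map_inv, map_inv, iha, inv_one]
    obtain ⟨k, hk'⟩ := hs (Equiv.swap 0 1)
    have h1 := key k.1 k.2
    rw [hk', Equiv.Perm.sign_swap (by decide)] at h1
    exact absurd h1 (by decide)
  · exact Or.inr (Or.inr ⟨⟨π, hs, hk⟩⟩)

end pair33

end Cfsg.Agent.Helper56.ZE
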