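import Mathlib
import Cfsg.Agent.Lib.Helper56.ZE1

set_option autoImplicit false
set_option linter.unusedSectionVars false
set_option linter.style.haveILetI false
set_option linter.unusedVariables false

/-! Zassenhaus project, part E2: structure of lines. -/

namespace Cfsg.Agent.Helper56.ZE

open Cfsg.Agent.Helper56.ZA Cfsg.Agent.Helper56.ZB Cfsg.Agent.Helper56.ZC Cfsg.Agent.Helper56.ZD
  Cfsg.Agent.Helper56.ZE0

/-- the Klein four subgroup of `A₄` -/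
def Vs : Subgroup A4 where
  carrier := {p | p * p = 1}
  one_mem' := by simp
  mul_mem' := fun {p q} hp hq => a4_v_mul p hp q hq
  inv_mem' := fun {p} hp => by
    show p⁻¹ * p⁻¹ = 1
    rw [← mul_inv_rev, hp, inv_one]

lemma mem_Vs (p : A4) : p ∈ Vs ↔ p * p = 1 := Iff.rfl

lemma Vs_card : Nat.card Vs = 4 := by
  haveI := Fintype.ofFinite Vs
  rw [Nat.card_eq_fintype_card]
  refine (Fintype.card_of_subtype (Finset.univ.filter (fun p : A4 => p * p = 1)) ?_).trans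
    a4_card_v
  intro p
  simp [mem_Vs]

lemma Vs_index : Vs.index = 3 := by
  have h := Vs.index_mul_card
  rw [Vs_card, Nat.card_eq_fintype_card, a4_card] at h
  omega

lemma comm_of_invol {P : Type*} [Group P] (p q : P) (hp : p * p = 1) (hq : q * q = 1)
    (hpq : (p * q) * (p * q) = 1) : p * q = q * p := by
  have h : p * q = (p * q)⁻¹ := eq_inv_of_mul_eq_one_left hpq
  rw [h, mul_inv_rev, inv_eq_of_mul_eq_one_left hq, inv_eq_of_mul_eq_one_left hp]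

section line

variable {G : Type*} [Group G] [Finite G] (F : FD G) (z : G) (hz : orderOf z = 2)

include F hz

lemma two_ne' : (2 : F.K) ≠ 0 := by
  apply F.two_ne
  rw [← hz]
  exact orderOf_dvd_natCard z

lemma zz : z * z = 1 := by
  have := pow_orderOf_eq_one z
  rw [hz, pow_two] at this
  exact this

lemma line_z {L : Subgroup G} (C : Cover L A4) : ∃ hzL : z ∈ L, C.π ⟨z, hzL⟩ = 1 :=
  z_mem F C z hz a4_ex2

lemma plane_z {S : Subgroup G} (C : Cover S A5) : ∃ hzS : z ∈ S, C.π ⟨z, hzS⟩ = 1 :=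
  z_mem F C z hz a5_ex2

lemma line_card {L : Subgroup G} (C : Cover L A4) : Nat.card L = 24 := by
  obtain ⟨hzL, hπz⟩ := line_z F z hz C
  rw [cover_card F C z hz hzL hπz, Nat.card_eq_fintype_card, a4_card]

lemma plane_card {S : Subgroup G} (C : Cover S A5) : Nat.card S = 120 := by
  obtain ⟨hzS, hπz⟩ := plane_z F z hz C
  rw [cover_card F C z hz hzS hπz, Nat.card_eq_fintype_card, a5_card]

lemma key4 {L : Subgroup G} (C : Cover L A4) (g : L) :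
    (g : G) ^ 4 = 1 ↔ C.π g * C.π g = 1 := by
  constructor
  · intro h
    have h4 : C.π g ^ 4 = 1 := by
      rw [← map_pow]
      have : g ^ 4 = 1 := Subtype.ext (by simpa using h)
      rw [this, map_one]
    rcases a4_ord (C.π g) with h2 | h3
    · exact h2
    · have : C.π g = 1 := by
        have e : C.π g ^ 4 = C.π g * C.π g * C.π g * C.π g := by
          rw [pow_succ, pow_succ, pow_two]
        rw [e, h3, one_mul] at h4
        exact h4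
      rw [this, mul_one]
  · intro h
    have h1 : C.π (g * g) = 1 := by rw [map_mul, h]
    have h2 := congrArg Subtype.val (C.ker _ h1)
    have : (g : G) ^ 4 = (g : G) * g * (g * g) := by
      rw [show (4 : ℕ) = 2 + 2 by norm_num, pow_add, pow_two]
    rw [this]
    exact h2

lemma mem_E4 {L : Subgroup G} (C : Cover L A4) (g : G) :
    g ∈ E4 L ↔ g ∈ L ∧ g ^ 4 = 1 := by
  constructor
  · intro hg
    induction hg using Subgroup.closure_induction with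
    | mem g hg => exact hg
    | one => exact ⟨L.one_mem, one_pow 4⟩
    | mul a b ha hb iha ihb =>
      refine ⟨L.mul_mem iha.1 ihb.1, ?_⟩
      have h1 := (key4 F z hz C ⟨a, iha.1⟩).mp iha.2
      have h2 := (key4 F z hz C ⟨b, ihb.1⟩).mp ihb.2
      have h3 := a4_v_mul _ h1 _ h2
      rw [← map_mul] at h3
      exact (key4 F z hz C (⟨a, iha.1⟩ * ⟨b, ihb.1⟩)).mpr h3
    | inv a ha iha =>
      refine ⟨L.inv_mem iha.1, ?_⟩
      rw [inv_pow, iha.2, inv_one]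
  · intro hg
    exact Subgroup.subset_closure hg

lemma E4_card {L : Subgroup G} (C : Cover L A4) : Nat.card (E4 L) = 8 := by
  have hK : (Vs.comap C.π).index = 3 := by
    rw [Subgroup.index_comap_of_surjective _ C.surj, Vs_index]
  have h1 := (Vs.comap C.π).index_mul_card
  rw [hK, line_card F z hz C] at h1
  have h2 : E4 L = (Vs.comap C.π).map L.subtype := by
    ext g
    rw [mem_E4 F z hz C, Subgroup.mem_map]
    constructor
    · rintro ⟨hgL, hg4⟩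
      refine ⟨⟨g, hgL⟩, ?_, rfl⟩
      rw [Subgroup.mem_comap, mem_Vs]
      exact (key4 F z hz C ⟨g, hgL⟩).mp hg4
    · rintro ⟨g', hg', rfl⟩
      refine ⟨g'.2, ?_⟩
      rw [Subgroup.mem_comap, mem_Vs] at hg'
      exact (key4 F z hz C g').mpr hg'
  rw [h2, Subgroup.card_map_of_injective L.subtype_injective]
  omega

lemma E4_conj {L : Subgroup G} (C : Cover L A4) (g : G) (hg : ∀ l ∈ L, g * l * g⁻¹ ∈ L) :
    ∀ e ∈ E4 L, g * e * g⁻¹ ∈ E4 L := by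
  intro e he
  rw [mem_E4 F z hz C] at he ⊢
  refine ⟨hg e he.1, ?_⟩
  rw [conj_pow, he.2, mul_one, mul_inv_cancel]

lemma ord4_mem_E4 {L : Subgroup G} (t : G) (htL : t ∈ L) (ht : orderOf t = 4) : t ∈ E4 L := by
  apply Subgroup.subset_closure
  refine ⟨htL, ?_⟩
  rw [← ht]
  exact pow_orderOf_eq_one t

lemma line_exists_t {L : Subgroup G} (C : Cover L A4) : ∃ t ∈ L, orderOf t = 4 := by
  obtain ⟨hzL, hπz⟩ := line_z F z hz C
  obtain ⟨τ, τ', h1, h1', -⟩ := a4_ex2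
  obtain ⟨t, ht⟩ := C.surj τ
  refine ⟨t, t.2, ?_⟩
  apply map_ord2 F C z hz t _ _ hzL hπz
  · rw [ht]
    exact h1
  · rw [ht]
    exact h1'

lemma line_nc {L : Subgroup G} (C : Cover L A4) (x : G) (hxL : x ∈ L) (hx : orderOf x = 3)
    (t : G) (htL : t ∈ L) (ht : orderOf t = 4) : x * t ≠ t * x := by
  obtain ⟨hzL, hπz⟩ := line_z F z hz C
  obtain ⟨c1, c3⟩ := ord3_map F C z hz ⟨x, hxL⟩ hx
  obtain ⟨t1, t2⟩ := ord4_map F C z hz ⟨t, htL⟩ ht hzL hπz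
  intro h
  apply a4_nc _ c1 c3 _ t1 t2
  rw [← map_mul, ← map_mul]
  congr 1
  exact Subtype.ext h

lemma line_nn {L : Subgroup G} (C : Cover L A4) (x : G) (hxL : x ∈ L) (hx : orderOf x = 3)
    (t : G) (htL : t ∈ L) (ht : orderOf t = 4) : t * x * t⁻¹ ≠ x ∧ t * x * t⁻¹ ≠ x⁻¹ := by
  obtain ⟨hzL, hπz⟩ := line_z F z hz C
  obtain ⟨c1, c3⟩ := ord3_map F C z hz ⟨x, hxL⟩ hx
  obtain ⟨t1, t2⟩ := ord4_map F C z hz ⟨t, htL⟩ ht hzL hπz
  obtain ⟨n1, n2⟩ := a4_nn _ c1 c3 _ t1 t2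
  constructor
  · intro h
    apply n1
    rw [← map_inv, ← map_mul, ← map_mul]
    congr 1
    exact Subtype.ext h
  · intro h
    apply n2
    rw [← map_inv, ← map_inv, ← map_mul, ← map_mul]
    congr 1
    exact Subtype.ext h

lemma line_gen {L : Subgroup G} (C : Cover L A4) (x y : G) (hxL : x ∈ L) (hyL : y ∈ L)
    (hx : orderOf x = 3) (hy : orderOf y = 3) (hxy : x * y ≠ y * x) :
    Subgroup.closure {x, y} = L := by
  have hle : Subgroup.closure {x, y} ≤ L := by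
    rw [Subgroup.closure_le]
    rintro g (rfl | rfl)
    · exact hxL
    · exact hyL
  apply Subgroup.eq_of_le_of_card_ge hle
  rw [line_card F z hz C]
  rcases pair33 F x y hx hy with h | ⟨⟨C'⟩⟩ | ⟨⟨C'⟩⟩
  · exact absurd h hxy
  · rw [line_card F z hz C']
  · rw [plane_card F z hz C']
    norm_num

lemma line_sup {L : Subgroup G} (C : Cover L A4) (H : Subgroup G) (hE : E4 L ≤ H) (x : G)
    (hxL : x ∈ L) (hx : orderOf x = 3) (hxH : x ∈ H) : L ≤ H := by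
  have hK : H ⊓ L = L := by
    apply Subgroup.eq_of_le_of_card_ge inf_le_right
    rw [line_card F z hz C]
    have h8 : 8 ∣ Nat.card (H ⊓ L : Subgroup G) := by
      rw [← E4_card F z hz C]
      exact Subgroup.card_dvd_of_le (le_inf hE (E4_le L))
    have h3 : 3 ∣ Nat.card (H ⊓ L : Subgroup G) := by
      have := orderOf_dvd_natCard (⟨x, ⟨hxH, hxL⟩⟩ : (H ⊓ L : Subgroup G))
      rw [← hx]
      have e : orderOf (⟨x, ⟨hxH, hxL⟩⟩ : (H ⊓ L : Subgroup G)) = orderOf x :=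
        Subgroup.orderOf_mk x _
      rwa [e] at this
    have h24 : 24 ∣ Nat.card (H ⊓ L : Subgroup G) :=
      Nat.Coprime.mul_dvd_of_dvd_of_dvd (by norm_num : Nat.Coprime 8 3) h8 h3
    exact Nat.le_of_dvd Nat.card_pos h24
  rw [← hK]
  exact inf_le_left

/-- the quaternion relation `s t = z t s` for `s = x t x⁻¹` -/
lemma line_quat {L : Subgroup G} (C : Cover L A4) (x : G) (hxL : x ∈ L) (hx : orderOf x = 3)
    (t : G) (htL : t ∈ L) (ht : orderOf t = 4) :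
    (x * t * x⁻¹) * t = z * (t * (x * t * x⁻¹)) := by
  have hsL : x * t * x⁻¹ ∈ L := L.mul_mem (L.mul_mem hxL htL) (L.inv_mem hxL)
  have hso : orderOf (x * t * x⁻¹) = 4 := by rw [ord_conj, ht]
  obtain ⟨hzL, hπz⟩ := line_z F z hz C
  obtain ⟨t1, t2⟩ := ord4_map F C z hz ⟨t, htL⟩ ht hzL hπz
  obtain ⟨s1, s2⟩ := ord4_map F C z hz ⟨x * t * x⁻¹, hsL⟩ hso hzL hπz
  obtain ⟨c1, c3⟩ := ord3_map F C z hz ⟨x, hxL⟩ hx
  have hcomm : C.π ⟨x * t * x⁻¹, hsL⟩ * C.π ⟨t, htL⟩ = C.π ⟨t, htL⟩ * C.π ⟨x * t * x⁻¹, hsL⟩ :=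
    comm_of_invol _ _ s2 t2 (a4_v_mul _ s2 _ t2)
  have hdec : (⟨x * t * x⁻¹, hsL⟩ : L) = ⟨x, hxL⟩ * ⟨t, htL⟩ * ⟨x, hxL⟩⁻¹ := rfl
  rcases lift_eq F C z hz (⟨x * t * x⁻¹, hsL⟩ * ⟨t, htL⟩) (⟨t, htL⟩ * ⟨x * t * x⁻¹, hsL⟩)
    (by rw [map_mul, map_mul, hcomm]) with h | h
  · exfalso
    have h' : t * (x * t * x⁻¹) = (x * t * x⁻¹) * t := h.symm
    have hπ : C.π ⟨x * t * x⁻¹, hsL⟩ = C.π ⟨t, htL⟩ := by
      rcases F.comm4 t (x * t * x⁻¹) ht hso h' with e | e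
      · congr 1
        exact Subtype.ext e
      · have : (⟨x * t * x⁻¹, hsL⟩ : L) = ⟨t, htL⟩⁻¹ := Subtype.ext e
        rw [this, map_inv]
        exact inv_eq_of_mul_eq_one_left t2
    rw [hdec, map_mul, map_mul, map_inv] at hπ
    apply a4_nc _ c1 c3 _ t1 t2
    calc C.π ⟨x, hxL⟩ * C.π ⟨t, htL⟩
        = C.π ⟨x, hxL⟩ * C.π ⟨t, htL⟩ * (C.π ⟨x, hxL⟩)⁻¹ * C.π ⟨x, hxL⟩ := by group
      _ = C.π ⟨t, htL⟩ * C.π ⟨x, hxL⟩ := by rw [hπ]
  · exact h

/-- **Rigidity for lines**: an operator commuting with `E4 L` commutes with `L`. -/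
theorem line_commutant {L : Subgroup G} (hL : IsLine L) (M : Module.End F.K F.W)
    (hM : ∀ e ∈ E4 L, M * F.D.σ e = F.D.σ e * M) : ∀ l ∈ L, M * F.D.σ l = F.D.σ l * M := by
  obtain ⟨⟨x₀, y₀, hx₀, hy₀, hLeq⟩, ⟨C⟩⟩ := hL
  have h2 := two_ne' F z hz
  obtain ⟨hzL, hπz⟩ := line_z F z hz C
  have hzc : ∀ g : G, g * z = z * g := F.invol_comm z hz
  have hzz := zz F z hz
  have hA : ∀ x ∈ L, orderOf x = 3 → M * F.D.σ x = F.D.σ x * M := by
    intro x hxL hx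
    obtain ⟨t, htL, ht⟩ := line_exists_t F z hz C
    have hsL : x * t * x⁻¹ ∈ L := L.mul_mem (L.mul_mem hxL htL) (L.inv_mem hxL)
    have hso : orderOf (x * t * x⁻¹) = 4 := by rw [ord_conj, ht]
    have hrL : x * (x * t * x⁻¹) * x⁻¹ ∈ L := L.mul_mem (L.mul_mem hxL hsL) (L.inv_mem hxL)
    have htE : t ∈ E4 L := ord4_mem_E4 F z hz t htL ht
    have hsE : x * t * x⁻¹ ∈ E4 L := ord4_mem_E4 F z hz _ hsL hso
    obtain ⟨t1, t2⟩ := ord4_map F C z hz ⟨t, htL⟩ ht hzL hπz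
    obtain ⟨c1, c3⟩ := ord3_map F C z hz ⟨x, hxL⟩ hx
    have hr := a4_r _ c1 c3 _ t1 t2
    have hπr : C.π ⟨x * (x * t * x⁻¹) * x⁻¹, hrL⟩
        = C.π (⟨t, htL⟩ * ⟨x * t * x⁻¹, hsL⟩) := by
      have e1 : (⟨x * (x * t * x⁻¹) * x⁻¹, hrL⟩ : L)
          = ⟨x, hxL⟩ * (⟨x, hxL⟩ * ⟨t, htL⟩ * ⟨x, hxL⟩⁻¹) * ⟨x, hxL⟩⁻¹ := rfl
      have e2 : (⟨x * t * x⁻¹, hsL⟩ : L) = ⟨x, hxL⟩ * ⟨t, htL⟩ * ⟨x, hxL⟩⁻¹ := rfl
      rw [e1, e2]
      simp only [map_mul, map_inv]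
      exact hr
    rcases lift_eq F C z hz _ _ hπr with h | h
    · exact rigid F.D h2 x t (x * t * x⁻¹) hx ht rfl h M (hM t htE) (hM _ hsE)
    · have hq := line_quat F z hz C x hxL hx t htL ht
      have hs' : x * t⁻¹ * x⁻¹ = (x * t * x⁻¹)⁻¹ := by group
      have hr' : x * (x * t * x⁻¹)⁻¹ * x⁻¹ = t⁻¹ * (x * t * x⁻¹)⁻¹ := by
        have e1 : x * (x * t * x⁻¹)⁻¹ * x⁻¹ = (x * (x * t * x⁻¹) * x⁻¹)⁻¹ := by
          simp only [mul_inv_rev, inv_inv, mul_assoc]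
        have h' : x * (x * t * x⁻¹) * x⁻¹ = z * (t * (x * t * x⁻¹)) := h
        rw [e1, h', ← hq, mul_inv_rev]
      exact rigid F.D h2 x t⁻¹ (x * t * x⁻¹)⁻¹ hx (by rw [orderOf_inv, ht]) hs' hr' M
        (hM _ ((E4 L).inv_mem htE)) (hM _ ((E4 L).inv_mem hsE))
  intro l hl
  rw [hLeq] at hl
  have hx₀L : x₀ ∈ L := by
    rw [hLeq]
    exact Subgroup.subset_closure (Set.mem_insert _ _)
  have hy₀L : y₀ ∈ L := by
    rw [hLeq]
    exact Subgroup.subset_closure (Set.mem_insert_of_mem _ rfl)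
  induction hl using Subgroup.closure_induction with
  | mem g hg =>
    rcases hg with rfl | rfl
    · exact hA _ hx₀L hx₀
    · exact hA _ hy₀L hy₀
  | one => rw [map_one, mul_one, one_mul]
  | mul a b ha hb iha ihb =>
    rw [map_mul, ← mul_assoc, iha, mul_assoc, ihb, mul_assoc]
  | inv a ha iha =>
    have e1 : F.D.σ a⁻¹ * F.D.σ a = 1 := by rw [← map_mul, inv_mul_cancel, map_one]
    have e2 : F.D.σ a * F.D.σ a⁻¹ = 1 := by rw [← map_mul, mul_inv_cancel, map_one]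
    calc M * F.D.σ a⁻¹ = F.D.σ a⁻¹ * F.D.σ a * (M * F.D.σ a⁻¹) := by rw [e1, one_mul]
      _ = F.D.σ a⁻¹ * (F.D.σ a * M) * F.D.σ a⁻¹ := by simp only [mul_assoc]
      _ = F.D.σ a⁻¹ * (M * F.D.σ a) * F.D.σ a⁻¹ := by rw [iha]
      _ = F.D.σ a⁻¹ * M * (F.D.σ a * F.D.σ a⁻¹) := by simp only [mul_assoc]
      _ = F.D.σ a⁻¹ * M := by rw [e2, mul_one]

/-- `C_G(E4 L) = C_G(L)` -/
theorem line_centralizer {L : Subgroup G} (hL : IsLine L) (c : G)
    (hc : ∀ e ∈ E4 L, c * e = e * c) : ∀ l ∈ L, c * l = l * c := by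
  intro l hl
  apply F.faithful
  rw [map_mul, map_mul]
  apply line_commutant F z hz hL (F.D.σ c) _ l hl
  intro e he
  rw [← map_mul, ← map_mul, hc e he]

lemma E4_nonabelian {L : Subgroup G} (hL : IsLine L) :
    ∃ e₁ ∈ E4 L, ∃ e₂ ∈ E4 L, e₁ * e₂ ≠ e₂ * e₁ := by
  obtain ⟨⟨x₀, y₀, hx₀, hy₀, hLeq⟩, ⟨C⟩⟩ := hL
  have hx₀L : x₀ ∈ L := by
    rw [hLeq]
    exact Subgroup.subset_closure (Set.mem_insert _ _)
  obtain ⟨t, htL, ht⟩ := line_exists_t F z hz C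
  have hsL : x₀ * t * x₀⁻¹ ∈ L := L.mul_mem (L.mul_mem hx₀L htL) (L.inv_mem hx₀L)
  have hso : orderOf (x₀ * t * x₀⁻¹) = 4 := by rw [ord_conj, ht]
  refine ⟨_, ord4_mem_E4 F z hz _ hsL hso, t, ord4_mem_E4 F z hz t htL ht, ?_⟩
  rw [line_quat F z hz C x₀ hx₀L hx₀ t htL ht]
  intro h
  have h1 : z * (t * (x₀ * t * x₀⁻¹)) * (t * (x₀ * t * x₀⁻¹))⁻¹ = 1 := by
    rw [h, mul_inv_cancel]
  rw [mul_assoc, mul_inv_cancel, mul_one] at h1
  rw [h1, orderOf_one] at hz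
  omega

end line

end Cfsg.Agent.Helper56.ZE
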