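import Mathlib
import Cfsg.Agent.Lib.Helper56.ZE2
import Cfsg.Agent.Lib.Helper56.ZE0b

set_option autoImplicit false
set_option linter.unusedSectionVars false
set_option linter.style.haveILetI false
set_option linter.unusedVariables false

/-! Zassenhaus project, part E3: structure of planes. -/

namespace Cfsg.Agent.Helper56.ZE

open Cfsg.Agent.Helper56.ZA Cfsg.Agent.Helper56.ZB Cfsg.Agent.Helper56.ZC Cfsg.Agent.Helper56.ZD
  Cfsg.Agent.Helper56.ZE0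

/-- the centralizer of an element of `A₅` -/
def Ct (τ : A5) : Subgroup A5 where
  carrier := {ρ | ρ * τ = τ * ρ}
  one_mem' := by simp
  mul_mem' := fun {p q} hp hq => by
    show p * q * τ = τ * (p * q)
    rw [mul_assoc, hq, ← mul_assoc, hp, mul_assoc]
  inv_mem' := fun {p} hp => by
    show p⁻¹ * τ = τ * p⁻¹
    have : p * τ = τ * p := hp
    calc p⁻¹ * τ = p⁻¹ * (τ * p) * p⁻¹ := by group
      _ = p⁻¹ * (p * τ) * p⁻¹ := by rw [this]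
      _ = τ * p⁻¹ := by group

lemma mem_Ct (τ ρ : A5) : ρ ∈ Ct τ ↔ ρ * τ = τ * ρ := Iff.rfl

lemma Ct_card (τ : A5) (h1 : τ ≠ 1) (h2 : τ * τ = 1) : Nat.card (Ct τ) = 4 := by
  haveI := Fintype.ofFinite (Ct τ)
  rw [Nat.card_eq_fintype_card]
  refine (Fintype.card_of_subtype (Finset.univ.filter (fun ρ : A5 => ρ * τ = τ * ρ)) ?_).trans
    (a5_cent_card τ h1 h2)
  intro p
  simp [mem_Ct]

lemma Ct_index (τ : A5) (h1 : τ ≠ 1) (h2 : τ * τ = 1) : (Ct τ).index = 15 := by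
  have h := (Ct τ).index_mul_card
  rw [Ct_card τ h1 h2, Nat.card_eq_fintype_card, a5_card] at h
  omega

/-- the Sylow `2`-subgroup of a plane containing a given element of order four -/
def Tt {G : Type*} [Group G] {S : Subgroup G} (C : Cover S A5) (t : G) (htS : t ∈ S) :
    Subgroup G :=
  ((Ct (C.π ⟨t, htS⟩)).comap C.π).map S.subtype

section plane

variable {G : Type*} [Group G] [Finite G] (F : FD G) (z : G) (hz : orderOf z = 2)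

include F hz

omit hz in
lemma mem_Tt {S : Subgroup G} (C : Cover S A5) (t : G) (htS : t ∈ S) (g : G) :
    g ∈ Tt C t htS ↔ ∃ hg : g ∈ S, C.π ⟨g, hg⟩ * C.π ⟨t, htS⟩ = C.π ⟨t, htS⟩ * C.π ⟨g, hg⟩ := by
  rw [Tt, Subgroup.mem_map]
  constructor
  · rintro ⟨g', hg', rfl⟩
    exact ⟨g'.2, hg'⟩
  · rintro ⟨hg, h⟩
    exact ⟨⟨g, hg⟩, h, rfl⟩

omit hz in
lemma Tt_le {S : Subgroup G} (C : Cover S A5) (t : G) (htS : t ∈ S) : Tt C t htS ≤ S := by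
  intro g hg
  rw [mem_Tt F] at hg
  exact hg.1

lemma Tt_card {S : Subgroup G} (C : Cover S A5) (t : G) (htS : t ∈ S) (ht : orderOf t = 4) :
    Nat.card (Tt C t htS) = 8 := by
  obtain ⟨hzS, hπz⟩ := plane_z F z hz C
  obtain ⟨t1, t2⟩ := ord4_map F C z hz ⟨t, htS⟩ ht hzS hπz
  have hK : ((Ct (C.π ⟨t, htS⟩)).comap C.π).index = 15 := by
    rw [Subgroup.index_comap_of_surjective _ C.surj, Ct_index _ t1 t2]
  have h1 := ((Ct (C.π ⟨t, htS⟩)).comap C.π).index_mul_card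
  rw [hK, plane_card F z hz C] at h1
  rw [Tt, Subgroup.card_map_of_injective S.subtype_injective]
  omega

/-- a `2`-subgroup of order eight of a plane is determined by any of its elements of order
four -/
lemma plane_sylow_unique {S : Subgroup G} (C : Cover S A5) (t : G) (htS : t ∈ S)
    (ht : orderOf t = 4) (T : Subgroup G) (hTS : T ≤ S) (hT : Nat.card T = 8) (htT : t ∈ T) :
    T = Tt C t htS := by
  apply Subgroup.eq_of_le_of_card_ge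
  · intro g hg
    rw [mem_Tt F]
    refine ⟨hTS hg, ?_⟩
    have h8 : ∀ k : G, ∀ hk : k ∈ T, C.π ⟨k, hTS hk⟩ * C.π ⟨k, hTS hk⟩ = 1 := by
      intro k hk
      apply a5_two
      rw [← map_pow]
      have : (⟨k, hTS hk⟩ : S) ^ 8 = 1 := by
        apply Subtype.ext
        have h := pow_card_eq_one' (G := T) (x := ⟨k, hk⟩)
        rw [hT] at h
        have := congrArg Subtype.val h
        simpa using this
      rw [this, map_one]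
    have h3 := h8 (g * t) (T.mul_mem hg htT)
    have e : (⟨g * t, hTS (T.mul_mem hg htT)⟩ : S) = ⟨g, hTS hg⟩ * ⟨t, htS⟩ := rfl
    rw [e, map_mul] at h3
    exact comm_of_invol _ _ (h8 g hg) (h8 t htT) h3
  · rw [Tt_card F z hz C t htS ht, hT]

lemma plane_nc {S : Subgroup G} (C : Cover S A5) (t : G) (htS : t ∈ S) (ht : orderOf t = 4)
    (y : G) (hyS : y ∈ S) (hy : orderOf y = 3) : t * y * t⁻¹ ≠ y := by
  obtain ⟨hzS, hπz⟩ := plane_z F z hz C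
  obtain ⟨t1, t2⟩ := ord4_map F C z hz ⟨t, htS⟩ ht hzS hπz
  obtain ⟨c1, c3⟩ := ord3_map F C z hz ⟨y, hyS⟩ hy
  intro h
  apply a5_c _ t1 t2 _ c1 c3
  rw [← map_inv, ← map_mul, ← map_mul]
  congr 1
  exact Subtype.ext h

lemma inv_eq_z_mul (t : G) (ht : orderOf t = 4) : t⁻¹ = z * t := by
  have hc : ∀ g : G, g * z = z * g := F.invol_comm z hz
  apply inv_eq_of_mul_eq_one_right
  rw [← mul_assoc, hc t, mul_assoc, F.sq_eq_invol t z ht hz, zz F z hz]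

/-- the two points of a plane normalized by an element of order four are swapped by the elements
inverting it -/
lemma plane_swap {S : Subgroup G} (C : Cover S A5) (t : G) (htS : t ∈ S) (ht : orderOf t = 4)
    (y₁ y₂ : G) (hy₁S : y₁ ∈ S) (hy₂S : y₂ ∈ S) (hy₁ : orderOf y₁ = 3) (hy₂ : orderOf y₂ = 3)
    (h1 : t * y₁ * t⁻¹ = y₁ ∨ t * y₁ * t⁻¹ = y₁⁻¹) (h2 : t * y₂ * t⁻¹ = y₂ ∨ t * y₂ * t⁻¹ = y₂⁻¹)
    (hne : y₂ ≠ y₁) (hne' : y₂ ≠ y₁⁻¹) (s : G) (hsS : s ∈ S) (hs : s * t * s⁻¹ = t⁻¹) :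
    s * y₁ * s⁻¹ = y₂ ∨ s * y₁ * s⁻¹ = y₂⁻¹ := by
  obtain ⟨hzS, hπz⟩ := plane_z F z hz C
  obtain ⟨t1, t2⟩ := ord4_map F C z hz ⟨t, htS⟩ ht hzS hπz
  obtain ⟨c1, c3⟩ := ord3_map F C z hz ⟨y₁, hy₁S⟩ hy₁
  obtain ⟨d1, d3⟩ := ord3_map F C z hz ⟨y₂, hy₂S⟩ hy₂
  have hc : ∀ g : G, g * z = z * g := F.invol_comm z hz
  have htinv : (C.π ⟨t, htS⟩)⁻¹ = C.π ⟨t, htS⟩ := inv_eq_of_mul_eq_one_left t2
  have hy₁i : orderOf y₁⁻¹ = 3 := by rw [orderOf_inv, hy₁]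
  have hy₂i : orderOf y₂⁻¹ = 3 := by rw [orderOf_inv, hy₂]
  have hmap : ∀ (a b : S) , (a : G) = b → C.π a = C.π b := by
    intro a b hab
    rw [show a = b from Subtype.ext hab]
  have hn1 : C.π ⟨t, htS⟩ * C.π ⟨y₁, hy₁S⟩ * (C.π ⟨t, htS⟩)⁻¹ = C.π ⟨y₁, hy₁S⟩ ∨
      C.π ⟨t, htS⟩ * C.π ⟨y₁, hy₁S⟩ * (C.π ⟨t, htS⟩)⁻¹ = (C.π ⟨y₁, hy₁S⟩)⁻¹ := by
    rcases h1 with h | h
    · left
      rw [← map_inv, ← map_mul, ← map_mul]
      exact hmap _ _ h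
    · right
      rw [← map_inv, ← map_inv, ← map_mul, ← map_mul]
      exact hmap _ _ h
  have hn2 : C.π ⟨t, htS⟩ * C.π ⟨y₂, hy₂S⟩ * (C.π ⟨t, htS⟩)⁻¹ = C.π ⟨y₂, hy₂S⟩ ∨
      C.π ⟨t, htS⟩ * C.π ⟨y₂, hy₂S⟩ * (C.π ⟨t, htS⟩)⁻¹ = (C.π ⟨y₂, hy₂S⟩)⁻¹ := by
    rcases h2 with h | h
    · left
      rw [← map_inv, ← map_mul, ← map_mul]
      exact hmap _ _ h
    · right
      rw [← map_inv, ← map_inv, ← map_mul, ← map_mul]
      exact hmap _ _ h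
  have hd1 : C.π ⟨y₂, hy₂S⟩ ≠ C.π ⟨y₁, hy₁S⟩ := by
    intro h
    exact hne (lift_eq3 F C z hz ⟨y₂, hy₂S⟩ ⟨y₁, hy₁S⟩ hy₂ hy₁ h)
  have hd2 : C.π ⟨y₂, hy₂S⟩ ≠ (C.π ⟨y₁, hy₁S⟩)⁻¹ := by
    intro h
    rw [← map_inv] at h
    exact hne' (lift_eq3 F C z hz ⟨y₂, hy₂S⟩ (⟨y₁, hy₁S⟩⁻¹) hy₂ hy₁i h)
  have hρτ : C.π ⟨s, hsS⟩ * C.π ⟨t, htS⟩ = C.π ⟨t, htS⟩ * C.π ⟨s, hsS⟩ := by
    have e : C.π ⟨s, hsS⟩ * C.π ⟨t, htS⟩ * (C.π ⟨s, hsS⟩)⁻¹ = (C.π ⟨t, htS⟩)⁻¹ := by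
      rw [← map_inv, ← map_inv, ← map_mul, ← map_mul]
      exact hmap _ _ hs
    rw [htinv] at e
    calc C.π ⟨s, hsS⟩ * C.π ⟨t, htS⟩
        = C.π ⟨s, hsS⟩ * C.π ⟨t, htS⟩ * (C.π ⟨s, hsS⟩)⁻¹ * C.π ⟨s, hsS⟩ := by group
      _ = C.π ⟨t, htS⟩ * C.π ⟨s, hsS⟩ := by rw [e]
  have htt : t ≠ t⁻¹ := by
    intro h
    have h2 : t * t = 1 := by
      have := mul_inv_cancel t
      rw [← h] at this
      exact this
    have := F.sq_eq_invol t z ht hz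
    rw [h2] at this
    rw [← this, orderOf_one] at hz
    omega
  have hρ1 : C.π ⟨s, hsS⟩ ≠ 1 := by
    intro h
    apply htt
    rcases ker_cases F C z hz _ h with h3 | h3
    · have : s = 1 := h3
      rw [this] at hs
      simpa using hs
    · have : s = z := h3
      rw [this] at hs
      rw [← hs, ← hc t, mul_assoc, mul_inv_cancel, mul_one]
  have hρt : C.π ⟨s, hsS⟩ ≠ C.π ⟨t, htS⟩ := by
    intro h
    apply htt
    rcases lift_eq F C z hz _ _ h with h3 | h3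
    · have : s = t := h3
      rw [this] at hs
      rw [← hs]
      group
    · have : s = z * t := h3
      rw [this] at hs
      rw [← hs]
      have hcm : z * t * t = t * (z * t) := by rw [← mul_assoc, ← hc t]
      rw [hcm, mul_assoc, mul_inv_cancel, mul_one]
  have key := a5_sw _ ⟨t1, t2⟩ _ ⟨c1, c3, hn1⟩ _ ⟨d1, d3, hn2, hd1, hd2⟩ _ ⟨hρτ, hρ1, hρt⟩
  have hsyS : s * y₁ * s⁻¹ ∈ S := S.mul_mem (S.mul_mem hsS hy₁S) (S.inv_mem hsS)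
  have hsyo : orderOf (s * y₁ * s⁻¹) = 3 := by rw [ord_conj, hy₁]
  have e : C.π ⟨s * y₁ * s⁻¹, hsyS⟩
      = C.π ⟨s, hsS⟩ * C.π ⟨y₁, hy₁S⟩ * (C.π ⟨s, hsS⟩)⁻¹ := by
    rw [← map_inv, ← map_mul, ← map_mul]
    rfl
  rcases key with h | h
  · left
    exact lift_eq3 F C z hz ⟨s * y₁ * s⁻¹, hsyS⟩ ⟨y₂, hy₂S⟩ hsyo hy₂ (e.trans h)
  · right
    exact lift_eq3 F C z hz ⟨s * y₁ * s⁻¹, hsyS⟩ (⟨y₂, hy₂S⟩⁻¹) hsyo hy₂i
      (e.trans (h.trans (map_inv C.π _).symm))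

end plane

end Cfsg.Agent.Helper56.ZE
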