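import Mathlib
import Cfsg.Agent.Lib.Helper56.ZE3

set_option autoImplicit false
set_option linter.unusedSectionVars false
set_option linter.style.haveILetI false
set_option linter.unusedVariables false

/-! Zassenhaus project, part E4: more on planes: normal `2`-subgroups, lines in planes. -/

namespace Cfsg.Agent.Helper56.ZE

open Cfsg.Agent.Helper56.ZA Cfsg.Agent.Helper56.ZB Cfsg.Agent.Helper56.ZC Cfsg.Agent.Helper56.ZD
  Cfsg.Agent.Helper56.ZE0

section plane

variable {G : Type*} [Group G] [Finite G] (F : FD G) (z : G) (hz : orderOf z = 2)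

include F hz

lemma plane_normal_two {S : Subgroup G} (C : Cover S A5) (N : Subgroup G) (hNS : N ≤ S)
    (hnorm : ∀ s ∈ S, ∀ n ∈ N, s * n * s⁻¹ ∈ N) (hN2 : ∀ n ∈ N, ∃ k : ℕ, n ^ (2 ^ k) = 1) :
    ∀ n ∈ N, n = 1 ∨ n = z := by
  haveI : (N.subgroupOf S).Normal := ⟨fun n hn s => by
    rw [Subgroup.mem_subgroupOf] at hn ⊢
    exact hnorm s s.2 n hn⟩
  have hnm : ((N.subgroupOf S).map C.π).Normal := Subgroup.Normal.map inferInstance C.π C.surj
  haveI := alternatingGroup.isSimpleGroup_five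
  rcases hnm.eq_bot_or_eq_top with h | h
  · intro n hn
    have : C.π ⟨n, hNS hn⟩ ∈ (N.subgroupOf S).map C.π :=
      Subgroup.mem_map_of_mem _ (by rw [Subgroup.mem_subgroupOf]; exact hn)
    rw [h, Subgroup.mem_bot] at this
    exact ker_cases F C z hz _ this
  · exfalso
    obtain ⟨c, c1, c3⟩ := a5_ex
    have : c ∈ (N.subgroupOf S).map C.π := by
      rw [h]
      trivial
    obtain ⟨n, hn, rfl⟩ := this
    have hn' : (n : G) ∈ N := Subgroup.mem_subgroupOf.mp hn
    obtain ⟨k, hk⟩ := hN2 _ hn'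
    have h2k : C.π n ^ (2 ^ k) = 1 := by
      rw [← map_pow]
      have : n ^ (2 ^ k) = 1 := Subtype.ext (by simpa using hk)
      rw [this, map_one]
    have h3' : C.π n ^ 3 = 1 := by
      rw [pow_succ, pow_two]
      exact c3
    have hd1 := orderOf_dvd_of_pow_eq_one h2k
    have hd3 := orderOf_dvd_of_pow_eq_one h3'
    have hd : orderOf (C.π n) ∣ Nat.gcd (2 ^ k) 3 := Nat.dvd_gcd hd1 hd3
    have hg : Nat.gcd (2 ^ k) 3 = 1 := Nat.Coprime.pow_left k (by norm_num)
    rw [hg, Nat.dvd_one, orderOf_eq_one_iff] at hd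
    exact c1 hd

lemma plane_exists_inv {S : Subgroup G} (C : Cover S A5) (t : G) (htS : t ∈ S)
    (ht : orderOf t = 4) : ∃ s ∈ S, orderOf s = 4 ∧ s * t * s⁻¹ = t⁻¹ := by
  obtain ⟨hzS, hπz⟩ := plane_z F z hz C
  obtain ⟨t1, t2⟩ := ord4_map F C z hz ⟨t, htS⟩ ht hzS hπz
  obtain ⟨ρ, hρτ, hρ1, hρt⟩ := a5_ex_cent _ t1 t2
  obtain ⟨s, hs⟩ := C.surj ρ
  have hρ2 := a5_cent_exp _ t1 t2 ρ hρτ
  have hso : orderOf (s : G) = 4 :=
    map_ord2 F C z hz s (by rw [hs]; exact hρ1) (by rw [hs]; exact hρ2) hzS hπz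
  refine ⟨s, s.2, hso, ?_⟩
  have e : C.π (s * ⟨t, htS⟩ * s⁻¹) = C.π ⟨t, htS⟩ := by
    rw [map_mul, map_mul, map_inv, hs, hρτ, mul_assoc, mul_inv_cancel, mul_one]
  rcases lift_eq F C z hz _ _ e with h | h
  · exfalso
    have h' : (s : G) * t * (s : G)⁻¹ = t := h
    have hcomm : t * (s : G) = s * t := by
      calc t * (s : G) = (s : G) * t * (s : G)⁻¹ * s := by rw [h']
        _ = s * t := by group
    rcases F.comm4 t s ht hso hcomm with e1 | e1
    · apply hρt
      rw [← hs]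
      congr 1
      exact Subtype.ext e1
    · apply hρt
      rw [← hs, show s = ⟨t, htS⟩⁻¹ from Subtype.ext e1, map_inv]
      exact inv_eq_of_mul_eq_one_left t2
  · rw [inv_eq_z_mul F z hz t ht]
    exact h

lemma plane_exists_sylow {S : Subgroup G} (C : Cover S A5) :
    ∃ T : Subgroup G, T ≤ S ∧ Nat.card T = 8 := by
  haveI : Fact (Nat.Prime 2) := ⟨Nat.prime_two⟩
  have hd : 2 ^ 3 ∣ Nat.card S := by
    rw [plane_card F z hz C]
    norm_num
  obtain ⟨K, hK⟩ := Sylow.exists_subgroup_card_pow_prime 2 hd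
  refine ⟨K.map S.subtype, ?_, ?_⟩
  · intro g hg
    obtain ⟨k, -, rfl⟩ := hg
    exact k.2
  · rw [Subgroup.card_map_of_injective S.subtype_injective, hK]
    norm_num

/-- an element of order four in a `2`-subgroup of order eight of a plane -/
lemma plane_sylow_elt {S : Subgroup G} (C : Cover S A5) (T : Subgroup G) (hTS : T ≤ S)
    (hT : Nat.card T = 8) : ∃ t ∈ T, orderOf t = 4 := by
  obtain ⟨hzS, hπz⟩ := plane_z F z hz C
  have hex : ∃ t ∈ T, t ≠ 1 ∧ t ≠ z := by
    by_contra hcon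
    push_neg at hcon
    have hsub : (T : Set G) ⊆ {1, z} := by
      intro g hg
      by_cases h1 : g = 1
      · left
        exact h1
      · right
        exact hcon g hg h1
    have h2 : Nat.card T ≤ 2 := by
      have e : Nat.card T = (T : Set G).ncard := Nat.card_coe_set_eq (T : Set G)
      rw [e]
      refine (Set.ncard_le_ncard hsub (Set.toFinite _)).trans ?_
      refine (Set.ncard_insert_le _ _).trans ?_
      rw [Set.ncard_singleton]
    omega
  obtain ⟨t, htT, ht1, htz⟩ := hex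
  refine ⟨t, htT, ?_⟩
  have h8 : C.π ⟨t, hTS htT⟩ * C.π ⟨t, hTS htT⟩ = 1 := by
    apply a5_two
    rw [← map_pow]
    have : (⟨t, hTS htT⟩ : S) ^ 8 = 1 := by
      apply Subtype.ext
      have h := pow_card_eq_one' (G := T) (x := ⟨t, htT⟩)
      rw [hT] at h
      have := congrArg Subtype.val h
      simpa using this
    rw [this, map_one]
  have hne : C.π ⟨t, hTS htT⟩ ≠ 1 := by
    intro h
    rcases ker_cases F C z hz _ h with h3 | h3
    · exact ht1 h3
    · exact htz h3
  exact map_ord2 F C z hz ⟨t, hTS htT⟩ hne h8 hzS hπz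

end plane

end Cfsg.Agent.Helper56.ZE
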