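import Mathlib
import Cfsg.Agent.Lib.Helper56.ZE4
import Cfsg.Agent.Lib.Helper56.ZE0c

set_option autoImplicit false
set_option linter.unusedSectionVars false
set_option linter.style.haveILetI false
set_option linter.unusedVariables false

/-! Zassenhaus project, part E5: general lemmas on normalizers and fixed Sylow subgroups; lines
in planes. -/

namespace Cfsg.Agent.Helper56.ZE

open Cfsg.Agent.Helper56.ZA Cfsg.Agent.Helper56.ZB Cfsg.Agent.Helper56.ZC Cfsg.Agent.Helper56.ZD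
  Cfsg.Agent.Helper56.ZE0

open scoped Pointwise

section gen

variable {G : Type*} [Group G] [Finite G]

lemma mem_normalizer_of_conj_le (E : Subgroup G) (g : G) (h : ∀ e ∈ E, g * e * g⁻¹ ∈ E) :
    g ∈ Subgroup.normalizer (E : Set G) := by
  let f : E → E := fun e => ⟨g * e * g⁻¹, h e e.2⟩
  have hinj : Function.Injective f := by
    intro a b hab
    have := congrArg Subtype.val hab
    simp only [f] at this
    apply Subtype.ext
    have h2 : g⁻¹ * (g * (a : G) * g⁻¹) * g = g⁻¹ * (g * (b : G) * g⁻¹) * g := by rw [this]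
    simpa [mul_assoc] using h2
  have hsurj : Function.Surjective f := Finite.surjective_of_injective hinj
  rw [Subgroup.mem_normalizer_iff]
  intro e
  constructor
  · exact h e
  · intro he
    obtain ⟨a, ha⟩ := hsurj ⟨g * e * g⁻¹, he⟩
    have := congrArg Subtype.val ha
    simp only [f] at this
    have h2 : (a : G) = e := by
      have h3 : g⁻¹ * (g * (a : G) * g⁻¹) * g = g⁻¹ * (g * e * g⁻¹) * g := by rw [this]
      simpa [mul_assoc] using h3
    rw [← h2]
    exact a.2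

lemma conj_mem_of_mem_normalizer (E : Subgroup G) (g : G)
    (hg : g ∈ Subgroup.normalizer (E : Set G)) : ∀ e ∈ E, g * e * g⁻¹ ∈ E := by
  intro e he
  exact (Subgroup.mem_normalizer_iff.mp hg e).mp he

lemma sq_mem_of_card (A R : Subgroup G) (hAR : A ≤ R) (h : Nat.card R = 2 * Nat.card A)
    (g : G) (hg : g ∈ R) : g * g ∈ A := by
  have h1 := (A.subgroupOf R).card_mul_index
  rw [Nat.card_congr (Subgroup.subgroupOfEquivOfLe hAR).toEquiv, h] at h1
  have hpos : 0 < Nat.card A := Nat.card_pos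
  have h2 : (A.subgroupOf R).index = 2 := by
    have : Nat.card A * (A.subgroupOf R).index = Nat.card A * 2 := by rw [h1]; ring
    exact Nat.eq_of_mul_eq_mul_left hpos this
  have h3 := Subgroup.sq_mem_of_index_two h2 (⟨g, hg⟩ : R)
  rw [Subgroup.mem_subgroupOf, pow_two] at h3
  exact h3

/-- a `p`-element normalizing a subgroup normalizes one of its Sylow `p`-subgroups -/
lemma exists_fixed_sylow (p : ℕ) [Fact p.Prime] (S : Subgroup G) (g : G)
    (hg : g ∈ Subgroup.normalizer (S : Set G)) (hgp : ∃ k : ℕ, g ^ (p ^ k) = 1) :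
    ∃ P : Sylow p S, ∀ s : S, s ∈ P → ∃ h : g * (s : G) * g⁻¹ ∈ S,
      (⟨g * (s : G) * g⁻¹, h⟩ : S) ∈ P := by
  classical
  set g' : Subgroup.normalizer (S : Set G) := ⟨g, hg⟩ with hg'
  set A : Subgroup (Subgroup.normalizer (S : Set G)) := Subgroup.zpowers g' with hA
  have hAp : IsPGroup p A := by
    obtain ⟨k, hk⟩ := hgp
    have h1 : g' ^ (p ^ k) = 1 := Subtype.ext (by simpa using hk)
    have h2 : orderOf g' ∣ p ^ k := orderOf_dvd_of_pow_eq_one h1
    obtain ⟨j, -, hj⟩ := (Nat.dvd_prime_pow Fact.out).mp h2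
    apply IsPGroup.of_card (n := j)
    rw [hA, Nat.card_zpowers, hj]
  letI : MulDistribMulAction A S := MulDistribMulAction.compHom S A.subtype
  have hnd : ¬ p ∣ Nat.card (Sylow p S) := by
    have h1 := card_sylow_modEq_one p S
    intro h2
    have h3 : Nat.card (Sylow p S) % p = 0 := Nat.mod_eq_zero_of_dvd h2
    have h4 : Nat.card (Sylow p S) % p = 1 % p := h1
    rw [h3, Nat.mod_eq_of_lt (Fact.out : p.Prime).one_lt] at h4
    omega
  obtain ⟨P, hP⟩ := hAp.nonempty_fixed_point_of_prime_not_dvd_card (Sylow p S) hnd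
  refine ⟨P, ?_⟩
  intro s hs
  have ha : (⟨g', Subgroup.mem_zpowers g'⟩ : A) • P = P := hP ⟨g', Subgroup.mem_zpowers g'⟩
  have h1 : (⟨g', Subgroup.mem_zpowers g'⟩ : A) • s ∈
      (⟨g', Subgroup.mem_zpowers g'⟩ : A) • (P : Subgroup S) :=
    Subgroup.smul_mem_pointwise_smul s _ _ hs
  have h2 : (((⟨g', Subgroup.mem_zpowers g'⟩ : A) • P : Sylow p S) : Subgroup S)
      = (P : Subgroup S) := congrArg (fun Q : Sylow p S => (Q : Subgroup S)) ha
  change ((⟨g', Subgroup.mem_zpowers g'⟩ : A) • (P : Subgroup S)) = (P : Subgroup S) at h2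
  rw [h2] at h1
  exact ⟨((⟨g', Subgroup.mem_zpowers g'⟩ : A) • s).2, h1⟩

end gen

section plane2

variable {G : Type*} [Group G] [Finite G] (F : FD G) (z : G) (hz : orderOf z = 2)

include F hz

/-- elements of a subgroup of order eight of a plane -/
lemma plane_sylow_exp {S : Subgroup G} (C : Cover S A5) (T : Subgroup G) (hTS : T ≤ S)
    (hT : Nat.card T = 8) (g : G) (hg : g ∈ T) : g = 1 ∨ g = z ∨ orderOf g = 4 := by
  obtain ⟨hzS, hπz⟩ := plane_z F z hz C
  by_cases h1 : g = 1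
  · exact Or.inl h1
  by_cases h2 : g = z
  · exact Or.inr (Or.inl h2)
  right; right
  have h8 : C.π ⟨g, hTS hg⟩ * C.π ⟨g, hTS hg⟩ = 1 := by
    apply a5_two
    rw [← map_pow]
    have : (⟨g, hTS hg⟩ : S) ^ 8 = 1 := by
      apply Subtype.ext
      have h := pow_card_eq_one' (G := T) (x := ⟨g, hg⟩)
      rw [hT] at h
      have := congrArg Subtype.val h
      simpa using this
    rw [this, map_one]
  have hne : C.π ⟨g, hTS hg⟩ ≠ 1 := by
    intro h
    rcases ker_cases F C z hz _ h with h3 | h3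
    · exact h1 h3
    · exact h2 h3
  exact map_ord2 F C z hz ⟨g, hTS hg⟩ hne h8 hzS hπz

/-- subgroups of order eight of a plane are conjugate -/
lemma plane_sylow_conj {S : Subgroup G} (C : Cover S A5) (T₁ T₂ : Subgroup G) (h₁S : T₁ ≤ S)
    (h₂S : T₂ ≤ S) (h₁ : Nat.card T₁ = 8) (h₂ : Nat.card T₂ = 8) :
    ∃ s ∈ S, ∀ g ∈ T₁, s * g * s⁻¹ ∈ T₂ := by
  obtain ⟨hzS, hπz⟩ := plane_z F z hz C
  obtain ⟨t₁, ht₁T, ht₁⟩ := plane_sylow_elt F z hz C T₁ h₁S h₁
  obtain ⟨t₂, ht₂T, ht₂⟩ := plane_sylow_elt F z hz C T₂ h₂S h₂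
  have e₁ := plane_sylow_unique F z hz C t₁ (h₁S ht₁T) ht₁ T₁ h₁S h₁ ht₁T
  have e₂ := plane_sylow_unique F z hz C t₂ (h₂S ht₂T) ht₂ T₂ h₂S h₂ ht₂T
  obtain ⟨a1, a2⟩ := ord4_map F C z hz ⟨t₁, h₁S ht₁T⟩ ht₁ hzS hπz
  obtain ⟨b1, b2⟩ := ord4_map F C z hz ⟨t₂, h₂S ht₂T⟩ ht₂ hzS hπz
  obtain ⟨ρ, hρ⟩ := a5_conj _ ⟨a1, a2⟩ _ ⟨b1, b2⟩
  obtain ⟨s, hs⟩ := C.surj ρ
  refine ⟨s, s.2, ?_⟩
  intro g hg
  rw [e₁, mem_Tt F] at hg
  obtain ⟨hgS, hcomm⟩ := hg
  rw [e₂, mem_Tt F]
  refine ⟨S.mul_mem (S.mul_mem s.2 hgS) (S.inv_mem s.2), ?_⟩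
  have e : (⟨(s : G) * g * (s : G)⁻¹, S.mul_mem (S.mul_mem s.2 hgS) (S.inv_mem s.2)⟩ : S)
      = s * ⟨g, hgS⟩ * s⁻¹ := rfl
  rw [e, map_mul, map_mul, map_inv, hs, ← hρ]
  have k1 : ρ * C.π ⟨g, hgS⟩ * ρ⁻¹ * (ρ * C.π ⟨t₁, h₁S ht₁T⟩ * ρ⁻¹)
      = ρ * (C.π ⟨g, hgS⟩ * C.π ⟨t₁, h₁S ht₁T⟩) * ρ⁻¹ := by group
  have k2 : ρ * C.π ⟨t₁, h₁S ht₁T⟩ * ρ⁻¹ * (ρ * C.π ⟨g, hgS⟩ * ρ⁻¹)
      = ρ * (C.π ⟨t₁, h₁S ht₁T⟩ * C.π ⟨g, hgS⟩) * ρ⁻¹ := by group
  rw [k1, k2, hcomm]

/-- every subgroup of order eight of a plane is the `E4` of a line of the plane -/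
lemma plane_line {S : Subgroup G} (C : Cover S A5) (T : Subgroup G) (hTS : T ≤ S)
    (hT : Nat.card T = 8) : ∃ L : Subgroup G, L ≤ S ∧ IsLine L ∧ E4 L = T := by
  obtain ⟨hzS, hπz⟩ := plane_z F z hz C
  have hzc : ∀ g : G, g * z = z * g := F.invol_comm z hz
  obtain ⟨t, htT, ht⟩ := plane_sylow_elt F z hz C T hTS hT
  have eT := plane_sylow_unique F z hz C t (hTS htT) ht T hTS hT htT
  obtain ⟨t1, t2⟩ := ord4_map F C z hz ⟨t, hTS htT⟩ ht hzS hπz
  obtain ⟨c, c1, c3, cn1, cn2, cnorm⟩ := a5_n _ t1 t2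
  obtain ⟨a, ha⟩ := C.surj c
  -- an element of order three above `c`
  have hx : ∃ x : S, orderOf (x : G) = 3 ∧ C.π x = c := by
    rcases map_ord3 F C z hz a (by rw [ha]; exact c1) (by rw [ha]; exact c3) with h | h
    · exact ⟨a, h, ha⟩
    · refine ⟨⟨z, hzS⟩ * a, h, ?_⟩
      rw [map_mul, hπz, one_mul, ha]
  obtain ⟨x, hxo, hxc⟩ := hx
  -- `x` normalizes `T`
  have hxT : ∀ g ∈ T, (x : G) * g * (x : G)⁻¹ ∈ T := by
    intro g hg
    rw [eT, mem_Tt F] at hg ⊢
    obtain ⟨hgS, hcomm⟩ := hg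
    refine ⟨S.mul_mem (S.mul_mem x.2 hgS) (S.inv_mem x.2), ?_⟩
    have e : (⟨(x : G) * g * (x : G)⁻¹, S.mul_mem (S.mul_mem x.2 hgS) (S.inv_mem x.2)⟩ : S)
        = x * ⟨g, hgS⟩ * x⁻¹ := rfl
    rw [e, map_mul, map_mul, map_inv, hxc]
    exact cnorm _ hcomm
  have hxT' : ∀ g ∈ T, (x : G)⁻¹ * g * (x : G) ∈ T := by
    intro g hg
    have hn := mem_normalizer_of_conj_le T (x : G) hxT
    have hn' := (Subgroup.normalizer (T : Set G)).inv_mem hn
    have := conj_mem_of_mem_normalizer T _ hn' g hg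
    simpa using this
  set y : G := t * (x : G) * t⁻¹ with hy
  have hyo : orderOf y = 3 := by rw [hy, ord_conj, hxo]
  have hyS : y ∈ S := S.mul_mem (S.mul_mem (hTS htT) x.2) (S.inv_mem (hTS htT))
  have hπy : C.π ⟨y, hyS⟩ = C.π ⟨t, hTS htT⟩ * c * (C.π ⟨t, hTS htT⟩)⁻¹ := by
    have e : (⟨y, hyS⟩ : S) = ⟨t, hTS htT⟩ * x * ⟨t, hTS htT⟩⁻¹ := rfl
    rw [e, map_mul, map_mul, map_inv, hxc]
  have hyT : ∀ g ∈ T, y * g * y⁻¹ ∈ T := by
    intro g hg
    have h1 : t⁻¹ * g * t ∈ T := T.mul_mem (T.mul_mem (T.inv_mem htT) hg) htT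
    have h2 := hxT _ h1
    have h3 : t * ((x : G) * (t⁻¹ * g * t) * (x : G)⁻¹) * t⁻¹ ∈ T :=
      T.mul_mem (T.mul_mem htT h2) (T.inv_mem htT)
    have e : y * g * y⁻¹ = t * ((x : G) * (t⁻¹ * g * t) * (x : G)⁻¹) * t⁻¹ := by
      rw [hy]
      group
    rw [e]
    exact h3
  have hnc : (x : G) * y ≠ y * (x : G) := by
    intro hc
    rcases F.comm3 (x : G) y hxo hyo hc with h | h
    · apply cn1
      have : C.π ⟨y, hyS⟩ = C.π x := by
        congr 1
        exact Subtype.ext h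
      rw [← hπy, this, hxc]
    · apply cn2
      have : C.π ⟨y, hyS⟩ = C.π x⁻¹ := by
        congr 1
        exact Subtype.ext h
      rw [← hπy, this, map_inv, hxc]
  set L : Subgroup G := Subgroup.closure ({(x : G), y} : Set G) with hL
  have hLS : L ≤ S := by
    rw [hL, Subgroup.closure_le]
    intro g hg
    rcases hg with rfl | rfl
    · exact x.2
    · exact hyS
  have hLT : ∀ l ∈ L, ∀ g ∈ T, l * g * l⁻¹ ∈ T := by
    intro l hl
    rw [hL] at hl
    induction hl using Subgroup.closure_induction with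
    | mem k hk =>
      rcases hk with rfl | rfl
      · exact hxT
      · exact hyT
    | one =>
      intro g hg
      simpa using hg
    | mul a b _ _ iha ihb =>
      intro g hg
      have := iha _ (ihb g hg)
      have e : a * b * g * (a * b)⁻¹ = a * (b * g * b⁻¹) * a⁻¹ := by group
      rw [e]
      exact this
    | inv a _ iha =>
      intro g hg
      have hn := mem_normalizer_of_conj_le T a iha
      have hn' := (Subgroup.normalizer (T : Set G)).inv_mem hn
      exact conj_mem_of_mem_normalizer T _ hn' g hg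
  have hxL : (x : G) ∈ L := Subgroup.subset_closure (Set.mem_insert _ _)
  have hyL : y ∈ L := Subgroup.subset_closure (Set.mem_insert_of_mem _ rfl)
  rcases pair33 F (x : G) y hxo hyo with h | ⟨⟨CL⟩⟩ | ⟨⟨CL⟩⟩
  · exact absurd h hnc
  · refine ⟨L, hLS, ⟨⟨x, y, hxo, hyo, rfl⟩, ⟨CL⟩⟩, ?_⟩
    -- `u = y x⁻¹` has order four and lies in both `T` and `L`
    set u : G := y * (x : G)⁻¹ with hu
    have huT : u ∈ T := by
      have h1 : (x : G) * t⁻¹ * (x : G)⁻¹ ∈ T := hxT _ (T.inv_mem htT)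
      have e : u = t * ((x : G) * t⁻¹ * (x : G)⁻¹) := by
        rw [hu, hy]
        group
      rw [e]
      exact T.mul_mem htT h1
    have huL : u ∈ L := L.mul_mem hyL (L.inv_mem hxL)
    have huo : orderOf u = 4 := by
      rcases plane_sylow_exp F z hz C T hTS hT u huT with h | h | h
      · exfalso
        apply hnc
        have : y = (x : G) := by
          have : y * (x : G)⁻¹ * (x : G) = 1 * (x : G) := by rw [← hu, h]
          simpa using this
        rw [this]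
      · exfalso
        have hyz : y = z * (x : G) := by
          have : y * (x : G)⁻¹ * (x : G) = z * (x : G) := by rw [← hu, h]
          simpa using this
        have h3 := cube_of_ord y hyo
        rw [hyz, cube_central z (x : G) hzc, cube_of_ord _ hxo, mul_one, zz F z hz, one_mul] at h3
        rw [h3, orderOf_one] at hz
        omega
      · exact h
    have huE : u ∈ E4 L := ord4_mem_E4 F z hz u huL huo
    have e1 := plane_sylow_unique F z hz C u (hTS huT) huo (E4 L) ((E4_le L).trans hLS)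
      (E4_card F z hz CL) huE
    have e2 := plane_sylow_unique F z hz C u (hTS huT) huo T hTS hT huT
    rw [e1, e2]
  · exfalso
    have hcardL : Nat.card L = 120 := plane_card F z hz CL
    have hLeq : L = S := by
      apply Subgroup.eq_of_le_of_card_ge hLS
      rw [hcardL, plane_card F z hz C]
    have hnorm : ∀ s ∈ S, ∀ n ∈ T, s * n * s⁻¹ ∈ T := by
      intro s hs
      rw [← hLeq] at hs
      exact hLT s hs
    have h2 : ∀ n ∈ T, ∃ k : ℕ, n ^ (2 ^ k) = 1 := by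
      intro n hn
      refine ⟨3, ?_⟩
      have h := pow_card_eq_one' (G := T) (x := ⟨n, hn⟩)
      rw [hT] at h
      have := congrArg Subtype.val h
      simpa using this
    have h3 := plane_normal_two F z hz C T hTS hnorm h2
    rcases h3 t htT with h | h
    · rw [h, orderOf_one] at ht
      omega
    · rw [h, hz] at ht
      omega

end plane2

end Cfsg.Agent.Helper56.ZE
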