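import Mathlib

set_option autoImplicit false
set_option linter.unusedSectionVars false
set_option linter.style.haveILetI false
set_option linter.unusedVariables false

/-! Zassenhaus project, part F1: general group theory: cyclic Sylow subgroups and transfer. -/

namespace Cfsg.Agent.Helper56.ZF

variable {G : Type*} [Group G]

/-- the subgroup generated by the elements of order three -/
def DG (G : Type*) [Group G] : Subgroup G := Subgroup.closure {x : G | orderOf x = 3}

lemma conj_pow_iter (g v : G) (k : ℕ) (h : g * v * g⁻¹ = v ^ k) (i : ℕ) :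
    g ^ i * v * (g ^ i)⁻¹ = v ^ (k ^ i) := by
  induction i with
  | zero => simp
  | succ i ih =>
    have e1 : g ^ (i + 1) * v * (g ^ (i + 1))⁻¹ = g * (g ^ i * v * (g ^ i)⁻¹) * g⁻¹ := by
      rw [pow_succ']
      group
    have e2 : g * v ^ (k ^ i) * g⁻¹ = (g * v * g⁻¹) ^ (k ^ i) := by
      rw [conj_pow]
    rw [e1, ih, e2, h, ← pow_mul, pow_succ']

/-- in a finite cyclic group the solutions of `w ^ p = 1` are the powers of any element of
order `p` -/
lemma cyc_unique' {α : Type*} [Group α] [Finite α] [IsCyclic α] (p : ℕ) [Fact p.Prime] (u w : α)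
    (hu : orderOf u = p) (hw : w ^ p = 1) : w ∈ Subgroup.zpowers u := by
  classical
  haveI := Fintype.ofFinite α
  have hp : 0 < p := (Fact.out : p.Prime).pos
  have h1 : (Finset.univ.filter (fun a : α => a ^ p = 1)).card ≤ p :=
    IsCyclic.card_pow_eq_one_le hp
  set Z : Finset α := (Finset.range p).image (fun i => u ^ i) with hZ
  have hZc : Z.card = p := by
    rw [hZ, Finset.card_image_of_injOn, Finset.card_range]
    intro i hi j hj hij
    simp only [Finset.coe_range, Set.mem_Iio] at hi hj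
    have := pow_injOn_Iio_orderOf (x := u) (by rw [hu]; exact hi) (by rw [hu]; exact hj) hij
    exact this
  have hsub : Z ⊆ Finset.univ.filter (fun a : α => a ^ p = 1) := by
    intro a ha
    rw [hZ, Finset.mem_image] at ha
    obtain ⟨i, -, rfl⟩ := ha
    simp only [Finset.mem_filter, Finset.mem_univ, true_and]
    rw [← pow_mul, mul_comm, pow_mul, ← hu, pow_orderOf_eq_one, one_pow]
  have heq := Finset.eq_of_subset_of_card_le hsub (by rw [hZc]; exact h1)
  have hwZ : w ∈ Z := by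
    rw [heq]
    simp [hw]
  rw [hZ, Finset.mem_image] at hwZ
  obtain ⟨i, -, rfl⟩ := hwZ
  exact Subgroup.npow_mem_zpowers u i

lemma cyc_unique (P : Subgroup G) [Finite P] [IsCyclic P] (p : ℕ) [Fact p.Prime] (u w : G)
    (huP : u ∈ P) (hwP : w ∈ P) (hu : orderOf u = p) (hw : w ^ p = 1) :
    w ∈ Subgroup.zpowers u := by
  have h := cyc_unique' (α := P) p ⟨u, huP⟩ ⟨w, hwP⟩ (by rw [← hu]; exact Subgroup.orderOf_mk u huP)
    (Subtype.ext (by simpa using hw))
  obtain ⟨i, hi⟩ := Subgroup.mem_zpowers_iff.mp h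
  have := congrArg Subtype.val hi
  rw [Subgroup.mem_zpowers_iff]
  exact ⟨i, by simpa using this⟩

variable [Finite G]

/-- a `p'`-element normalizing a cyclic `p`-group `⟨v⟩` and centralizing its subgroup of order
`p` centralizes `v` -/
lemma coprime_cent (p : ℕ) [Fact p.Prime] (n : ℕ) (hn : 1 ≤ n) (v g : G)
    (hv : orderOf v = p ^ n) (hg : (orderOf g).Coprime p) (k : ℕ) (hk : g * v * g⁻¹ = v ^ k)
    (hu : g * v ^ (p ^ (n - 1)) * g⁻¹ = v ^ (p ^ (n - 1))) : g * v * g⁻¹ = v := by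
  have hpp : p.Prime := Fact.out
  have hpn : p ^ n = p ^ (n - 1) * p := by
    rw [← pow_succ]
    congr 1
    omega
  have huo : orderOf (v ^ (p ^ (n - 1))) = p := by
    rw [orderOf_pow_of_dvd (pow_ne_zero _ hpp.ne_zero) (by rw [hv, hpn]; exact dvd_mul_right _ _),
      hv, hpn, Nat.mul_div_cancel_left _ (pow_pos hpp.pos _)]
  -- `k ≡ 1 [MOD p]`
  have h1 : (v ^ (p ^ (n - 1))) ^ k = (v ^ (p ^ (n - 1))) ^ 1 := by
    rw [pow_one]
    have e : g * v ^ (p ^ (n - 1)) * g⁻¹ = (g * v * g⁻¹) ^ (p ^ (n - 1)) := by rw [conj_pow]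
    rw [e, hk, ← pow_mul, mul_comm, pow_mul] at hu
    exact hu
  rw [pow_eq_pow_iff_modEq, huo] at h1
  -- `k ^ m ≡ 1 [MOD p ^ n]`
  have h2 : v ^ (k ^ orderOf g) = v ^ 1 := by
    have := conj_pow_iter g v k hk (orderOf g)
    rw [pow_orderOf_eq_one, one_mul, inv_one, mul_one] at this
    rw [pow_one]
    exact this.symm
  rw [pow_eq_pow_iff_modEq, hv] at h2
  have hκ : ((k : ℕ) : ZMod (p ^ n)) ^ orderOf g = 1 := by
    have := (ZMod.natCast_eq_natCast_iff _ _ _).mpr h2
    simpa using this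
  have hord : orderOf ((k : ℕ) : ZMod (p ^ n)) ∣ orderOf g := orderOf_dvd_of_pow_eq_one hκ
  have hcop : (orderOf ((k : ℕ) : ZMod (p ^ n))).Coprime (p ^ n) :=
    Nat.Coprime.pow_right n (Nat.Coprime.coprime_dvd_left hord hg)
  have hk1 : 1 ≤ k := by
    rcases Nat.eq_zero_or_pos k with h | h
    · exfalso
      rw [h] at h1
      have : (0 : ℕ) % p = 1 % p := h1
      rw [Nat.zero_mod, Nat.mod_eq_of_lt hpp.one_lt] at this
      omega
    · exact h
  rcases ZMod.eq_one_or_isUnit_sub_one rfl ((k : ℕ) : ZMod (p ^ n)) hcop with h | h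
  · have h3 : ((k : ℕ) : ZMod (p ^ n)) = ((1 : ℕ) : ZMod (p ^ n)) := by simpa using h
    rw [ZMod.natCast_eq_natCast_iff] at h3
    have h4 : v ^ k = v ^ 1 := by
      rw [pow_eq_pow_iff_modEq, hv]
      exact h3
    rw [hk, h4, pow_one]
  · exfalso
    have h3 : (((k - 1 : ℕ) : ℕ) : ZMod (p ^ n)) = ((k : ℕ) : ZMod (p ^ n)) - 1 := by
      rw [Nat.cast_sub hk1, Nat.cast_one]
    rw [← h3, ZMod.isUnit_iff_coprime] at h
    have hdvd : p ∣ k - 1 := (Nat.modEq_iff_dvd' hk1).mp h1.symm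
    have hpd : p ∣ p ^ n := dvd_pow_self p (by omega)
    have := Nat.Coprime.eq_one_of_dvd (Nat.Coprime.coprime_dvd_left hdvd h) hpd
    exact hpp.one_lt.ne' this

/-- **Burnside's criterion for cyclic Sylow subgroups**: if the normalizer of the subgroup of
order `p` centralizes it then `N(P) ≤ C(P)` -/
lemma BTcore (p : ℕ) [Fact p.Prime] (P : Sylow p G) [hc : IsCyclic P] (u : G)
    (huP : u ∈ (P : Subgroup G)) (hu : orderOf u = p)
    (h : ∀ g : G, g * u * g⁻¹ ∈ Subgroup.zpowers u → g * u * g⁻¹ = u) :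
    Subgroup.normalizer ((P : Subgroup G) : Set G) ≤ Subgroup.centralizer ((P : Subgroup G) : Set G) := by
  have hpp : p.Prime := Fact.out
  obtain ⟨v', hv'⟩ := IsCyclic.exists_generator (α := (P : Subgroup G))
  set v : G := (v' : G) with hvdef
  have hvP : v ∈ (P : Subgroup G) := v'.2
  have hPv : ∀ w ∈ (P : Subgroup G), ∃ i : ℤ, v ^ i = w := by
    intro w hw
    obtain ⟨i, hi⟩ := Subgroup.mem_zpowers_iff.mp (hv' ⟨w, hw⟩)
    refine ⟨i, ?_⟩
    have := congrArg Subtype.val hi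
    simpa using this
  obtain ⟨n, hn⟩ := P.2.exists_card_eq
  have hvo : orderOf v = p ^ n := by
    rw [hvdef, Subgroup.orderOf_coe, orderOf_eq_card_of_forall_mem_zpowers hv', hn]
  have hn1 : 1 ≤ n := by
    rcases Nat.eq_zero_or_pos n with h0 | h0
    · exfalso
      rw [h0, pow_zero] at hn
      have h1 : orderOf (⟨u, huP⟩ : (P : Subgroup G)) ∣ Nat.card (P : Subgroup G) :=
        orderOf_dvd_natCard _
      rw [Subgroup.orderOf_mk, hu, hn, Nat.dvd_one] at h1
      exact hpp.one_lt.ne' h1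
    · exact h0
  have hpn : p ^ n = p ^ (n - 1) * p := by
    rw [← pow_succ]
    congr 1
    omega
  set u₀ : G := v ^ (p ^ (n - 1)) with hu₀
  have hu₀P : u₀ ∈ (P : Subgroup G) := Subgroup.pow_mem _ hvP _
  have hu₀p : u₀ ^ p = 1 := by
    rw [hu₀, ← pow_mul, ← hpn, ← hvo, pow_orderOf_eq_one]
  obtain ⟨l, hl⟩ := Subgroup.mem_zpowers_iff.mp (cyc_unique (P : Subgroup G) p u u₀ huP hu₀P hu hu₀p)
  -- elements of the normalizer centralize `u`, hence `u₀`
  have hcu : ∀ g ∈ Subgroup.normalizer ((P : Subgroup G) : Set G), g * u * g⁻¹ = u := by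
    intro g hg
    apply h
    have h1 : g * u * g⁻¹ ∈ (P : Subgroup G) := (Subgroup.mem_normalizer_iff.mp hg u).mp huP
    apply cyc_unique (P : Subgroup G) p u _ huP h1 hu
    rw [conj_pow, ← hu, pow_orderOf_eq_one, mul_one, mul_inv_cancel]
  have hcu₀ : ∀ g ∈ Subgroup.normalizer ((P : Subgroup G) : Set G), g * u₀ * g⁻¹ = u₀ := by
    intro g hg
    rw [← hl, ← conj_zpow, hcu g hg]
  -- `p'`-elements of the normalizer centralize `v`
  have hcop : ∀ g ∈ Subgroup.normalizer ((P : Subgroup G) : Set G), (orderOf g).Coprime p →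
      g * v * g⁻¹ = v := by
    intro g hg hgc
    have h1 : g * v * g⁻¹ ∈ (P : Subgroup G) := (Subgroup.mem_normalizer_iff.mp hg v).mp hvP
    obtain ⟨i, hi⟩ := hPv _ h1
    have hi' : g * v * g⁻¹ = v ^ (i % (orderOf v : ℤ)).toNat := by
      rw [← hi, ← zpow_natCast, Int.toNat_of_nonneg, zpow_mod_orderOf]
      apply Int.emod_nonneg
      rw [hvo]
      exact_mod_cast pow_ne_zero n hpp.ne_zero
    exact coprime_cent p n hn1 v g hvo hgc _ hi' (hcu₀ g hg)
  -- `p`-elements of the normalizer lie in `P`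
  have hpel : ∀ g ∈ Subgroup.normalizer ((P : Subgroup G) : Set G), (∃ e : ℕ, orderOf g = p ^ e) →
      g * v * g⁻¹ = v := by
    intro g hg ⟨e, he⟩
    have hZ : IsPGroup p (Subgroup.zpowers g) := IsPGroup.of_card (n := e) (by
      rw [Nat.card_zpowers, he])
    have hle : Subgroup.zpowers g ≤ Subgroup.normalizer ((P : Subgroup G) : Set G) := by
      rw [Subgroup.zpowers_le]
      exact hg
    have hsup := hZ.to_sup_of_normal_right' P.2 hle
    have heq := P.is_maximal' hsup le_sup_right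
    have hgP : g ∈ (P : Subgroup G) := by
      rw [← heq]
      exact (le_sup_left : Subgroup.zpowers g ≤ _) (Subgroup.mem_zpowers g)
    obtain ⟨i, hi⟩ := hPv g hgP
    rw [← hi]
    have : Commute (v ^ i) v := (Commute.refl v).zpow_left i
    rw [this.eq, mul_assoc, mul_inv_cancel, mul_one]
  intro g hg
  -- decompose `g`
  have ho : orderOf g ≠ 0 := (orderOf_pos g).ne'
  obtain ⟨e, m, hm, hom⟩ := Nat.exists_eq_pow_mul_and_not_dvd ho p hpp.ne_one
  have hmpos : 0 < m := by
    rcases Nat.eq_zero_or_pos m with h0 | h0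
    · exfalso
      apply hm
      rw [h0]
      exact dvd_zero p
    · exact h0
  have hmc : m.Coprime p := (Nat.Prime.coprime_iff_not_dvd hpp).mpr hm |>.symm
  have h1o : orderOf (g ^ m) = p ^ e := by
    rw [orderOf_pow_of_dvd hmpos.ne' (by rw [hom]; exact dvd_mul_left _ _), hom,
      Nat.mul_div_cancel _ hmpos]
  have h2o : orderOf (g ^ (p ^ e)) = m := by
    rw [orderOf_pow_of_dvd (pow_ne_zero _ hpp.ne_zero) (by rw [hom]; exact dvd_mul_right _ _), hom,
      Nat.mul_div_cancel_left _ (pow_pos hpp.pos _)]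
  have hN := Subgroup.normalizer ((P : Subgroup G) : Set G)
  have c1 : g ^ m * v * (g ^ m)⁻¹ = v :=
    hpel _ (Subgroup.pow_mem _ hg _) ⟨e, h1o⟩
  have c2 : g ^ (p ^ e) * v * (g ^ (p ^ e))⁻¹ = v :=
    hcop _ (Subgroup.pow_mem _ hg _) (by rw [h2o]; exact hmc)
  have k1 : Commute (g ^ m) v := by
    have : g ^ m * v = v * g ^ m := by
      calc g ^ m * v = g ^ m * v * (g ^ m)⁻¹ * g ^ m := by group
        _ = v * g ^ m := by rw [c1]
    exact this
  have k2 : Commute (g ^ (p ^ e)) v := by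
    have : g ^ (p ^ e) * v = v * g ^ (p ^ e) := by
      calc g ^ (p ^ e) * v = g ^ (p ^ e) * v * (g ^ (p ^ e))⁻¹ * g ^ (p ^ e) := by group
        _ = v * g ^ (p ^ e) := by rw [c2]
    exact this
  have hgcd : Nat.gcd m (p ^ e) = 1 := Nat.Coprime.pow_right e hmc
  have hbez := Nat.gcd_eq_gcd_ab m (p ^ e)
  rw [hgcd] at hbez
  have hg1 : g = (g ^ m) ^ (Nat.gcdA m (p ^ e)) * (g ^ (p ^ e)) ^ (Nat.gcdB m (p ^ e)) := by
    rw [← zpow_natCast, ← zpow_natCast, ← zpow_mul, ← zpow_mul, ← zpow_add, ← hbez]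
    simp
  have kg : Commute g v := by
    rw [hg1]
    exact (k1.zpow_left _).mul_left (k2.zpow_left _)
  rw [Subgroup.mem_centralizer_iff]
  intro w hw
  obtain ⟨i, hi⟩ := hPv w hw
  rw [← hi]
  exact ((kg.zpow_right i).eq).symm

/-- **Burnside**: in a group generated by its elements of order three, the subgroups of prime
order `p ≠ 3` with cyclic Sylow subgroup are not central in their normalizer. -/
theorem BT (hD : DG G = ⊤) (p : ℕ) [Fact p.Prime] (hp3 : p ≠ 3)
    (hcyc : ∀ P : Sylow p G, IsCyclic P) (u : G) (hu : orderOf u = p) :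
    ∃ g : G, g * u * g⁻¹ ∈ Subgroup.zpowers u ∧ g * u * g⁻¹ ≠ u := by
  by_contra hcon
  push_neg at hcon
  have hpp : p.Prime := Fact.out
  have hZ : IsPGroup p (Subgroup.zpowers u) := IsPGroup.of_card (n := 1) (by
    rw [Nat.card_zpowers, hu, pow_one])
  obtain ⟨P, hP⟩ := hZ.exists_le_sylow
  haveI := hcyc P
  have huP : u ∈ (P : Subgroup G) := hP (Subgroup.mem_zpowers u)
  have hN := BTcore p P u huP hu hcon
  have hker : (MonoidHom.transferSylow P hN).ker = ⊤ := by
    rw [eq_top_iff, ← hD, DG, Subgroup.closure_le]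
    intro x hx
    have hx3 : orderOf x = 3 := hx
    rw [SetLike.mem_coe, MonoidHom.mem_ker]
    set y := MonoidHom.transferSylow P hN x with hy
    have h3 : y ^ 3 = 1 := by
      rw [hy, ← map_pow, ← hx3, pow_orderOf_eq_one, map_one]
    obtain ⟨k, hk⟩ := P.2 y
    have hd1 := orderOf_dvd_of_pow_eq_one h3
    have hd2 := orderOf_dvd_of_pow_eq_one hk
    have hd : orderOf y ∣ Nat.gcd 3 (p ^ k) := Nat.dvd_gcd hd1 hd2
    have hg : Nat.gcd 3 (p ^ k) = 1 := by
      apply Nat.Coprime.pow_right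
      rw [Nat.coprime_primes (by norm_num) hpp]
      exact fun h => hp3 h.symm
    rw [hg, Nat.dvd_one, orderOf_eq_one_iff] at hd
    exact hd
  have hcomp := MonoidHom.ker_transferSylow_isComplement' P hN
  rw [hker] at hcomp
  have hcard := hcomp.card_mul_card
  rw [Subgroup.card_top] at hcard
  have hpos : 0 < Nat.card G := Nat.card_pos
  have h1 : Nat.card (P : Subgroup G) = 1 := by
    have : Nat.card G * Nat.card (P : Subgroup G) = Nat.card G * 1 := by rw [hcard, mul_one]
    exact Nat.eq_of_mul_eq_mul_left hpos this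
  have h2 : orderOf (⟨u, huP⟩ : (P : Subgroup G)) ∣ Nat.card (P : Subgroup G) := orderOf_dvd_natCard _
  rw [Subgroup.orderOf_mk, hu, h1, Nat.dvd_one] at h2
  exact hpp.one_lt.ne' h2

/-- the order of an automorphism of a group of prime order -/
lemma aut_order (p r : ℕ) [Fact p.Prime] (hr : r.Prime) (u w : G) (hu : orderOf u = p) (k : ℕ)
    (hk : w * u * w⁻¹ = u ^ k) (hne : w * u * w⁻¹ ≠ u) (hr' : w ^ r * u * (w ^ r)⁻¹ = u) :
    r ∣ p - 1 := by
  have hpp : p.Prime := Fact.out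
  have h1 := conj_pow_iter w u k hk r
  rw [hr'] at h1
  have h2 : u ^ (k ^ r) = u ^ 1 := by rw [pow_one]; exact h1.symm
  rw [pow_eq_pow_iff_modEq, hu] at h2
  have hκ : ((k : ℕ) : ZMod p) ^ r = 1 := by
    have := (ZMod.natCast_eq_natCast_iff _ _ _).mpr h2
    simpa using this
  have hκ1 : ((k : ℕ) : ZMod p) ≠ 1 := by
    intro h
    apply hne
    have h3 : ((k : ℕ) : ZMod p) = ((1 : ℕ) : ZMod p) := by simpa using h
    rw [ZMod.natCast_eq_natCast_iff] at h3
    have h4 : u ^ k = u ^ 1 := by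
      rw [pow_eq_pow_iff_modEq, hu]
      exact h3
    rw [hk, h4, pow_one]
  have hκ0 : ((k : ℕ) : ZMod p) ≠ 0 := by
    intro h
    rw [h, zero_pow hr.ne_zero] at hκ
    exact zero_ne_one hκ
  haveI : Fact r.Prime := ⟨hr⟩
  have ho : orderOf ((k : ℕ) : ZMod p) = r := orderOf_eq_prime hκ hκ1
  rw [← ho]
  exact ZMod.orderOf_dvd_card_sub_one hκ0

end Cfsg.Agent.Helper56.ZF
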