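import Mathlib
import Cfsg.Agent.Lib.Helper56.ZF1
import Cfsg.Agent.Lib.Helper56.ZC2
import Cfsg.Agent.Lib.Helper56.ZE5

set_option autoImplicit false
set_option linter.unusedSectionVars false
set_option linter.style.haveILetI false
set_option linter.unusedVariables false

/-! Zassenhaus project, part F2: elements of order three which are not inverted. -/

namespace Cfsg.Agent.Helper56.ZF

open Cfsg.Agent.Helper56.ZA Cfsg.Agent.Helper56.ZB Cfsg.Agent.Helper56.ZC Cfsg.Agent.Helper56.ZE

open scoped Pointwise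

lemma three_cases {G : Type*} [Group G] (x w : G) (hx : orderOf x = 3)
    (hw : w ∈ Subgroup.zpowers x) : w = 1 ∨ w = x ∨ w = x⁻¹ := by
  obtain ⟨i, rfl⟩ := Subgroup.mem_zpowers_iff.mp hw
  have h3 : x ^ 3 = 1 := by rw [← hx]; exact pow_orderOf_eq_one x
  have e : x ^ i = x ^ (i % 3) := by
    have := zpow_mod_orderOf x i
    rw [hx] at this
    exact_mod_cast this.symm
  have h0 : 0 ≤ i % 3 := Int.emod_nonneg _ (by norm_num)
  have h1 : i % 3 < 3 := Int.emod_lt_of_pos _ (by norm_num)
  rw [e]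
  generalize i % 3 = j at h0 h1
  interval_cases j
  · left; simp
  · right; left; simp
  · right; right
    have : x ^ (2 : ℤ) = x ^ (2 : ℕ) := by norm_cast
    rw [this]
    apply eq_inv_of_mul_eq_one_left
    rw [← pow_succ]
    exact h3

/-- in a group of index a power of two the Sylow `2`-subgroups are transversal -/
lemma sylow_mul_of_index_two_pow {G : Type*} [Group G] [Finite G] (C : Subgroup G) (a : ℕ)
    (ha : C.index = 2 ^ a) (Q : Sylow 2 G) (g : G) : ∃ q ∈ (Q : Subgroup G), ∃ c ∈ C, g = q * c := by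
  haveI : Fact (Nat.Prime 2) := ⟨Nat.prime_two⟩
  set pt : G ⧸ C := QuotientGroup.mk 1 with hpt
  have h1 := MulAction.index_stabilizer (G := (Q : Subgroup G)) (x := pt)
  set st := MulAction.stabilizer (Q : Subgroup G) pt with hst
  -- the stabilizer maps into `C`
  have hstC : ∀ q : (Q : Subgroup G), q ∈ st → (q : G) ∈ C := by
    intro q hq
    rw [hst, MulAction.mem_stabilizer_iff] at hq
    have h2 : (QuotientGroup.mk ((q : G) * 1) : G ⧸ C) = QuotientGroup.mk 1 := hq
    rw [QuotientGroup.eq] at h2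
    have h3 : ((q : G) * 1)⁻¹ * 1 ∈ C := h2
    have h4 : (q : G)⁻¹ ∈ C := by simpa using h3
    simpa using C.inv_mem h4
  obtain ⟨n, hn⟩ := Q.2.exists_card_eq
  have hst2 : IsPGroup 2 st := Q.2.to_subgroup st
  obtain ⟨j, hj⟩ := hst2.exists_card_eq
  have hcard_st : Nat.card st ∣ Nat.card C := by
    have e : Nat.card st = Nat.card ((st.map (Q : Subgroup G).subtype : Subgroup G)) := by
      rw [Subgroup.card_map_of_injective (Subgroup.subtype_injective _)]
    rw [e]
    apply Subgroup.card_dvd_of_le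
    intro y hy
    obtain ⟨q, hq, rfl⟩ := hy
    exact hstC q hq
  have hCG := C.index_mul_card
  have hQG := (Q : Subgroup G).index_mul_card
  have hodd : ¬ 2 ∣ (Q : Subgroup G).index := Q.not_dvd_index
  -- `2 ^ (j + a) ∣ 2 ^ n`
  have hdvd : 2 ^ (j + a) ∣ 2 ^ n * (Q : Subgroup G).index := by
    rw [← hn, mul_comm, hQG, ← hCG, ha, pow_add, mul_comm (2 ^ j)]
    exact mul_dvd_mul_left _ (hj ▸ hcard_st)
  have hcop : Nat.Coprime (2 ^ (j + a)) (Q : Subgroup G).index := by
    apply Nat.Coprime.pow_left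
    exact (Nat.Prime.coprime_iff_not_dvd Nat.prime_two).mpr hodd
  have hdvd' : 2 ^ (j + a) ∣ 2 ^ n := hcop.dvd_of_dvd_mul_right hdvd
  have hle : j + a ≤ n := (Nat.pow_dvd_pow_iff_le_right (by norm_num)).mp hdvd'
  have hidx : st.index = 2 ^ (n - j) := by
    have h5 := st.index_mul_card
    rw [hj, hn] at h5
    have : 2 ^ n = 2 ^ (n - j) * 2 ^ j := by
      rw [← pow_add]
      congr 1
      omega
    rw [this] at h5
    exact Nat.eq_of_mul_eq_mul_right (by positivity) h5
  have hge : Nat.card (G ⧸ C) ≤ (MulAction.orbit (Q : Subgroup G) pt).ncard := by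
    rw [← h1, hidx, ← Subgroup.index_eq_card, ha]
    exact Nat.pow_le_pow_right (by norm_num) (by omega)
  have huniv : MulAction.orbit (Q : Subgroup G) pt = Set.univ := by
    rw [Set.eq_univ_iff_ncard]
    apply le_antisymm
    · rw [← Nat.card_coe_set_eq]
      exact Nat.card_le_card_of_injective _ Subtype.val_injective
    · exact hge
  have hg : (QuotientGroup.mk g : G ⧸ C) ∈ MulAction.orbit (Q : Subgroup G) pt := by
    rw [huniv]
    trivial
  obtain ⟨q, hq⟩ := hg
  have h6 : (QuotientGroup.mk ((q : G) * 1) : G ⧸ C) = QuotientGroup.mk g := hq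
  rw [QuotientGroup.eq] at h6
  refine ⟨q, q.2, ((q : G) * 1)⁻¹ * g, h6, ?_⟩
  group

section P2

variable {G : Type*} [Group G] [Finite G] (F : FD G)

include F

/-- **P2**: if an element `x` of order three is not inverted by any element of `G`, and `G` is
generated by its elements of order three, then some Sylow `2`-subgroup `Q` is normalized by `x`
and all the elements of order three are `Q`-conjugate to `x` or `x⁻¹`. -/
theorem P2 (hD : DG G = ⊤) (x : G) (hx : orderOf x = 3) (hni : ∀ g : G, g * x * g⁻¹ ≠ x⁻¹) :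
    ∃ Q : Sylow 2 G, (∀ q ∈ (Q : Subgroup G), x * q * x⁻¹ ∈ (Q : Subgroup G)) ∧
      ∀ y : G, orderOf y = 3 → ∃ q ∈ (Q : Subgroup G), y = q * x * q⁻¹ ∨ y = q * x⁻¹ * q⁻¹ := by
  classical
  haveI : Fact (Nat.Prime 3) := ⟨by norm_num⟩
  haveI : Fact (Nat.Prime 2) := ⟨Nat.prime_two⟩
  have hx1 : x ≠ 1 := ne_one_of_order x 3 (by norm_num) hx
  have hZ : IsPGroup 3 (Subgroup.zpowers x) :=
    IsPGroup.of_card (n := 1) (by rw [Nat.card_zpowers, hx, pow_one])
  obtain ⟨P, hPle⟩ := hZ.exists_le_sylow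
  have hxP : x ∈ (P : Subgroup G) := hPle (Subgroup.mem_zpowers x)
  haveI hPc : IsCyclic (P : Subgroup G) := F.odd_sub 3 (by norm_num) P P.2
  have hcon : ∀ g : G, g * x * g⁻¹ ∈ Subgroup.zpowers x → g * x * g⁻¹ = x := by
    intro g hg
    rcases three_cases x _ hx hg with h | h | h
    · exfalso
      apply hx1
      have : g⁻¹ * (g * x * g⁻¹) * g = g⁻¹ * 1 * g := by rw [h]
      simpa [mul_assoc] using this
    · exact h
    · exact absurd h (hni g)
  have hN := BTcore 3 P x hxP hx hcon
  set f := MonoidHom.transferSylow P hN with hf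
  have hcomp := MonoidHom.ker_transferSylow_isComplement' P hN
  have hP3 : ∀ w ∈ (P : Subgroup G), w ^ 3 = 1 → w = 1 ∨ w = x ∨ w = x⁻¹ := by
    intro w hw hw3
    exact three_cases x w hx (cyc_unique (P : Subgroup G) 3 x w hxP hw hx hw3)
  -- the Sylow `3`-subgroups have order three
  have hcardP : Nat.card (P : Subgroup G) = 3 := by
    set X' : Subgroup (P : Subgroup G) := Subgroup.zpowers ⟨x, hxP⟩ with hX'
    have hX'card : Nat.card X' = 3 := by rw [hX', Nat.card_zpowers, Subgroup.orderOf_mk, hx]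
    have hrange : f.range ≤ X' := by
      rw [MonoidHom.range_eq_map, Subgroup.map_le_iff_le_comap, ← hD, DG, Subgroup.closure_le]
      intro y hy
      have hy3 : orderOf y = 3 := hy
      rw [SetLike.mem_coe, Subgroup.mem_comap]
      apply cyc_unique' 3 _ _ (by rw [Subgroup.orderOf_mk, hx])
      have hy1 : y ^ 3 = 1 := by
        rw [← hy3]
        exact pow_orderOf_eq_one y
      rw [← map_pow, hy1, map_one]
    have h1 : Nat.card (P : Subgroup G) ≤ 3 := by
      have h2 : Nat.card (P : Subgroup G) = Nat.card f.range := by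
        rw [← hcomp.symm.index_eq_card, Subgroup.index_ker]
      rw [h2]
      exact (Subgroup.card_le_of_le hrange).trans hX'card.le
    have h3 : 3 ∣ Nat.card (P : Subgroup G) := by
      have := orderOf_dvd_natCard (⟨x, hxP⟩ : (P : Subgroup G))
      rwa [Subgroup.orderOf_mk, hx] at this
    have hpos : 0 < Nat.card (P : Subgroup G) := Nat.card_pos
    have := Nat.le_of_dvd hpos h3
    omega
  -- Frattini: elements of order three normalizing Sylow subgroups
  have hC : ∀ (p : ℕ) [Fact p.Prime], p ≠ 3 → ∀ Q : Sylow p G,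
      ∃ x' : G, x' ∈ Subgroup.normalizer ((Q : Subgroup G) : Set G) ∧ orderOf x' = 3 := by
    intro p _ hp3 Q
    have hpp : p.Prime := Fact.out
    have hQker : (Q : Subgroup G) ≤ f.ker := by
      intro q hq
      rw [MonoidHom.mem_ker]
      obtain ⟨k, hk⟩ := Q.2 ⟨q, hq⟩
      have hk' : q ^ (p ^ k) = 1 := by
        have := congrArg Subtype.val hk
        simpa using this
      have h1 : (f q) ^ (p ^ k) = 1 := by rw [← map_pow, hk', map_one]
      have h2 : (f q) ^ 3 = 1 := by
        have := pow_card_eq_one' (G := (P : Subgroup G)) (x := f q)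
        rwa [hcardP] at this
      have hd : orderOf (f q) ∣ Nat.gcd (p ^ k) 3 :=
        Nat.dvd_gcd (orderOf_dvd_of_pow_eq_one h1) (orderOf_dvd_of_pow_eq_one h2)
      have hg : Nat.gcd (p ^ k) 3 = 1 := by
        apply Nat.Coprime.pow_left
        rw [Nat.coprime_primes hpp (by norm_num)]
        exact hp3
      rw [hg, Nat.dvd_one, orderOf_eq_one_iff] at hd
      exact hd
    have hfr : Subgroup.normalizer ((Q : Subgroup G) : Set G) ⊔ f.ker = ⊤ :=
      Sylow.normalizer_sup_eq_top' Q hQker
    have hex : ∃ g ∈ Subgroup.normalizer ((Q : Subgroup G) : Set G), g ∉ f.ker := by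
      by_contra hcon'
      push_neg at hcon'
      have hle : Subgroup.normalizer ((Q : Subgroup G) : Set G) ≤ f.ker := hcon'
      rw [sup_eq_right.mpr hle] at hfr
      rw [hfr] at hcomp
      have hcard := hcomp.card_mul_card
      rw [Subgroup.card_top, hcardP] at hcard
      have hpos : 0 < Nat.card G := Nat.card_pos
      omega
    obtain ⟨g, hgN, hgk⟩ := hex
    have hfg : f g ≠ 1 := fun h => hgk (MonoidHom.mem_ker.mpr h)
    have hfg3 : (f g) ^ 3 = 1 := by
      have := pow_card_eq_one' (G := (P : Subgroup G)) (x := f g)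
      rwa [hcardP] at this
    have hofg : orderOf (f g) = 3 := orderOf_eq_prime hfg3 hfg
    have hdvd : 3 ∣ orderOf g := by
      rw [← hofg]
      exact orderOf_map_dvd f g
    refine ⟨g ^ (orderOf g / 3), Subgroup.pow_mem _ hgN _, ?_⟩
    have hpos : 0 < orderOf g := orderOf_pos g
    obtain ⟨m, hm⟩ := hdvd
    have hm0 : m ≠ 0 := by
      rintro rfl
      omega
    rw [hm, Nat.mul_div_cancel_left _ (by norm_num : 0 < 3)]
    have hm' : orderOf g = 3 * m := hm
    rw [orderOf_pow_of_dvd hm0 (by rw [hm']; exact dvd_mul_left _ _), hm',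
      Nat.mul_div_cancel _ (Nat.pos_of_ne_zero hm0)]
  -- all elements of order three are conjugate to `x` or `x⁻¹`
  have hD' : ∀ y : G, orderOf y = 3 → ∃ g : G, y = g * x * g⁻¹ ∨ y = g * x⁻¹ * g⁻¹ := by
    intro y hy
    have hZy : IsPGroup 3 (Subgroup.zpowers y) :=
      IsPGroup.of_card (n := 1) (by rw [Nat.card_zpowers, hy, pow_one])
    obtain ⟨P', hP'⟩ := hZy.exists_le_sylow
    obtain ⟨g, hg⟩ := MulAction.exists_smul_eq G P P'
    have hyP' : y ∈ (P' : Subgroup G) := hP' (Subgroup.mem_zpowers y)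
    rw [← hg, Sylow.smul_def, Sylow.pointwise_smul_def,
      Subgroup.mem_smul_pointwise_iff_exists] at hyP'
    obtain ⟨s, hs, hsy⟩ := hyP'
    have hsy' : g * s * g⁻¹ = y := by simpa [MulAut.smul_def] using hsy
    have hs3 : s ^ 3 = 1 := by
      have := pow_card_eq_one' (G := (P : Subgroup G)) (x := ⟨s, hs⟩)
      rw [hcardP] at this
      have := congrArg Subtype.val this
      simpa using this
    refine ⟨g, ?_⟩
    rcases hP3 s hs hs3 with h | h | h
    · exfalso
      rw [h, mul_one, mul_inv_cancel] at hsy'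
      rw [← hsy', orderOf_one] at hy
      omega
    · left
      rw [← hsy', h]
    · right
      rw [← hsy', h]
  -- the index of the centralizer of `x` is a power of two
  set C : Subgroup G := Subgroup.centralizer {x} with hCdef
  have hxC : x ∈ C := by
    rw [hCdef, Subgroup.mem_centralizer_iff]
    intro h hh
    rw [Set.mem_singleton_iff.mp hh]
  have hprime : ∀ p : ℕ, p.Prime → p ∣ C.index → p = 2 := by
    intro p hpp hpd
    by_contra hp2
    haveI : Fact p.Prime := ⟨hpp⟩
    have hCG := C.index_mul_card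
    by_cases hp3 : p = 3
    · subst hp3
      have h3C : 3 ∣ Nat.card C := by
        have := orderOf_dvd_natCard (⟨x, hxC⟩ : C)
        rwa [Subgroup.orderOf_mk, hx] at this
      have hPidx : ¬ 3 ∣ (P : Subgroup G).index := P.not_dvd_index
      have hPG := (P : Subgroup G).index_mul_card
      rw [hcardP] at hPG
      obtain ⟨a1, ha1⟩ := hpd
      obtain ⟨a2, ha2⟩ := h3C
      apply hPidx
      rw [ha1, ha2] at hCG
      have : (P : Subgroup G).index * 3 = (3 * (a1 * a2)) * 3 := by
        rw [hPG, ← hCG]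
        ring
      have h5 := Nat.eq_of_mul_eq_mul_right (by norm_num : 0 < 3) this
      rw [h5]
      exact dvd_mul_right _ _
    · have hQex : Nonempty (Sylow p G) := inferInstance
      obtain ⟨Q⟩ := hQex
      obtain ⟨x', hx'N, hx'o⟩ := hC p hp3 Q
      have hQc : IsCyclic (Q : Subgroup G) := F.odd_sub p hp2 Q Q.2
      have hnorm : ∀ c ∈ (Q : Subgroup G), x'⁻¹ * c * x' ∈ (Q : Subgroup G) := by
        intro c hc
        have hn' := (Subgroup.normalizer ((Q : Subgroup G) : Set G)).inv_mem hx'N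
        have := (Subgroup.mem_normalizer_iff.mp hn' c).mp hc
        simpa using this
      have h3n : ¬ 3 ∣ Nat.card (Q : Subgroup G) := by
        obtain ⟨k, hk⟩ := Q.2.exists_card_eq
        rw [hk]
        intro h
        have := (Nat.Prime.dvd_of_dvd_pow (by norm_num : Nat.Prime 3) h)
        rw [Nat.prime_dvd_prime_iff_eq (by norm_num) hpp] at this
        exact hp3 this.symm
      have hcc := F.cc x' 3 hx'o (Q : Subgroup G) (comm_of_isCyclic _ hQc) hnorm h3n
      obtain ⟨g, hg⟩ := hD' x' hx'o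
      -- `g⁻¹ Q g` centralizes `x`
      set R : Subgroup G := (Q : Subgroup G).map (MulAut.conj g⁻¹).toMonoidHom with hR
      have hRcard : Nat.card R = Nat.card (Q : Subgroup G) :=
        Subgroup.card_map_of_injective (MulAut.conj g⁻¹).injective
      have hRC : R ≤ C := by
        intro r hr
        obtain ⟨c, hc, rfl⟩ := hr
        have hc' : x'⁻¹ * c * x' = c := hcc c hc
        have hcx' : c * x' = x' * c := by
          calc c * x' = x' * (x'⁻¹ * c * x') := by group
            _ = x' * c := by rw [hc']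
        rw [hCdef, Subgroup.mem_centralizer_iff]
        intro h hh
        rw [Set.mem_singleton_iff.mp hh]
        simp only [MulEquiv.coe_toMonoidHom, MulAut.conj_apply, inv_inv]
        rcases hg with h1 | h1
        · have e : x = g⁻¹ * x' * g := by rw [h1]; group
          rw [e]
          calc g⁻¹ * x' * g * (g⁻¹ * c * g) = g⁻¹ * (x' * c) * g := by group
            _ = g⁻¹ * (c * x') * g := by rw [hcx']
            _ = g⁻¹ * c * g * (g⁻¹ * x' * g) := by group
        · have e : x = g⁻¹ * x'⁻¹ * g := by rw [h1]; group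
          have hcx'' : c * x'⁻¹ = x'⁻¹ * c := by
            calc c * x'⁻¹ = x'⁻¹ * (x' * c) * x'⁻¹ := by group
              _ = x'⁻¹ * (c * x') * x'⁻¹ := by rw [hcx']
              _ = x'⁻¹ * c := by group
          rw [e]
          calc g⁻¹ * x'⁻¹ * g * (g⁻¹ * c * g) = g⁻¹ * (x'⁻¹ * c) * g := by group
            _ = g⁻¹ * (c * x'⁻¹) * g := by rw [hcx'']
            _ = g⁻¹ * c * g * (g⁻¹ * x'⁻¹ * g) := by group
      have hdvd : Nat.card (Q : Subgroup G) ∣ Nat.card C := by
        rw [← hRcard]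
        exact Subgroup.card_dvd_of_le hRC
      have hQidx : ¬ p ∣ (Q : Subgroup G).index := Q.not_dvd_index
      have hQG := (Q : Subgroup G).index_mul_card
      obtain ⟨c', hc'⟩ := hdvd
      obtain ⟨a1, ha1⟩ := hpd
      apply hQidx
      have hposQ : 0 < Nat.card (Q : Subgroup G) := Nat.card_pos
      have : (Q : Subgroup G).index * Nat.card (Q : Subgroup G)
          = (p * (a1 * c')) * Nat.card (Q : Subgroup G) := by
        rw [hQG, ← hCG, ha1, hc']
        ring
      have h5 := Nat.eq_of_mul_eq_mul_right hposQ this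
      rw [h5]
      exact dvd_mul_right _ _
  have hidx0 : C.index ≠ 0 := Subgroup.index_ne_zero_of_finite
  have ha := Nat.eq_prime_pow_of_unique_prime_dvd hidx0 (fun {d} hd hdd => hprime d hd hdd)
  -- a Sylow `2`-subgroup normalized by `x`
  have hQex : Nonempty (Sylow 2 G) := inferInstance
  obtain ⟨Q''⟩ := hQex
  obtain ⟨x'', hx''N, hx''o⟩ := hC 2 (by norm_num) Q''
  obtain ⟨g, hg⟩ := hD' x'' hx''o
  set Q : Sylow 2 G := g⁻¹ • Q'' with hQ
  have hmemQ : ∀ q, q ∈ (Q : Subgroup G) ↔ g * q * g⁻¹ ∈ (Q'' : Subgroup G) := by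
    intro q
    rw [hQ, Sylow.smul_def, Sylow.pointwise_smul_def, Subgroup.mem_smul_pointwise_iff_exists]
    constructor
    · rintro ⟨s, hs, rfl⟩
      have : g * (MulAut.conj g⁻¹ • s) * g⁻¹ = s := by
        simp [MulAut.smul_def, mul_assoc]
      rw [this]
      exact hs
    · intro h
      exact ⟨g * q * g⁻¹, h, by simp [MulAut.smul_def, mul_assoc]⟩
  have hxe : ∀ q ∈ (Q : Subgroup G), (g⁻¹ * x'' * g) * q * (g⁻¹ * x'' * g)⁻¹ ∈ (Q : Subgroup G) := by
    intro q hq
    rw [hmemQ] at hq ⊢
    have := (Subgroup.mem_normalizer_iff.mp hx''N _).mp hq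
    have e : g * (g⁻¹ * x'' * g * q * (g⁻¹ * x'' * g)⁻¹) * g⁻¹ = x'' * (g * q * g⁻¹) * x''⁻¹ := by
      group
    rw [e]
    exact this
  have hxQ : ∀ q ∈ (Q : Subgroup G), x * q * x⁻¹ ∈ (Q : Subgroup G) := by
    rcases hg with h | h
    · have e : g⁻¹ * x'' * g = x := by rw [h]; group
      rw [e] at hxe
      exact hxe
    · have e : g⁻¹ * x'' * g = x⁻¹ := by rw [h]; group
      rw [e] at hxe
      have hn := mem_normalizer_of_conj_le (Q : Subgroup G) x⁻¹ hxe
      have hn' := (Subgroup.normalizer ((Q : Subgroup G) : Set G)).inv_mem hn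
      rw [inv_inv] at hn'
      exact conj_mem_of_mem_normalizer _ _ hn'
  refine ⟨Q, hxQ, ?_⟩
  intro y hy
  obtain ⟨g', hg'⟩ := hD' y hy
  obtain ⟨q, hq, c, hc, hgqc⟩ := sylow_mul_of_index_two_pow C _ ha Q g'
  have hcx : c * x = x * c := by
    have := (Subgroup.mem_centralizer_iff.mp hc) x rfl
    exact this.symm
  refine ⟨q, hq, ?_⟩
  rcases hg' with h | h
  · left
    rw [h, hgqc]
    calc q * c * x * (q * c)⁻¹ = q * (c * x) * c⁻¹ * q⁻¹ := by group
      _ = q * (x * c) * c⁻¹ * q⁻¹ := by rw [hcx]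
      _ = q * x * q⁻¹ := by group
  · right
    have hcx' : c * x⁻¹ = x⁻¹ * c := by
      calc c * x⁻¹ = x⁻¹ * (x * c) * x⁻¹ := by group
        _ = x⁻¹ * (c * x) * x⁻¹ := by rw [hcx]
        _ = x⁻¹ * c := by group
    rw [h, hgqc]
    calc q * c * x⁻¹ * (q * c)⁻¹ = q * (c * x⁻¹) * c⁻¹ * q⁻¹ := by group
      _ = q * (x⁻¹ * c) * c⁻¹ * q⁻¹ := by rw [hcx']
      _ = q * x⁻¹ * q⁻¹ := by group

end P2

end Cfsg.Agent.Helper56.ZF
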