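import Mathlib
import Cfsg.Agent.Lib.Helper56.ZF2
import Cfsg.Agent.Lib.Helper53.Thompson

set_option autoImplicit false
set_option linter.unusedSectionVars false
set_option linter.style.haveILetI false
set_option linter.unusedVariables false

/-! Zassenhaus project, part G: the minimal counterexample: first properties. -/

namespace Cfsg.Agent.Helper56.ZG

open Cfsg.Agent.Helper56.ZA Cfsg.Agent.Helper56.ZB Cfsg.Agent.Helper56.ZC Cfsg.Agent.Helper56.ZE
  Cfsg.Agent.Helper56.ZF Cfsg.Agent.Helper56.ZE0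

/-- the subgroup generated by the elements of order three of a subgroup -/
def DGs {G : Type*} [Group G] (H : Subgroup G) : Subgroup G :=
  Subgroup.closure {x : G | x ∈ H ∧ orderOf x = 3}

/-- the possible structures of a group generated by elements of order three -/
def Struct {G : Type*} [Group G] (D : Subgroup G) : Prop :=
  D = ⊥ ∨ (∃ x : G, orderOf x = 3 ∧ D = Subgroup.zpowers x) ∨ IsLine D ∨ IsPlane D

lemma DGs_le {G : Type*} [Group G] (H : Subgroup G) : DGs H ≤ H := by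
  rw [DGs, Subgroup.closure_le]
  intro x hx
  exact hx.1

lemma mem_DGs {G : Type*} [Group G] (H : Subgroup G) (x : G) (hxH : x ∈ H) (hx : orderOf x = 3) :
    x ∈ DGs H := Subgroup.subset_closure ⟨hxH, hx⟩

lemma closure_pair_le_DGs {G : Type*} [Group G] (H : Subgroup G) (x y : G) (hxH : x ∈ H)
    (hyH : y ∈ H) (hx : orderOf x = 3) (hy : orderOf y = 3) :
    Subgroup.closure ({x, y} : Set G) ≤ DGs H := by
  rw [Subgroup.closure_le]
  intro g hg
  rcases hg with rfl | rfl
  · exact mem_DGs H _ hxH hx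
  · exact mem_DGs H _ hyH hy

lemma line_le_DGs {G : Type*} [Group G] (H L : Subgroup G) (hL : IsLine L) (hLH : L ≤ H) :
    L ≤ DGs H := by
  obtain ⟨⟨x, y, hx, hy, hLeq⟩, -⟩ := hL
  have hxL : x ∈ L := by rw [hLeq]; exact Subgroup.subset_closure (Set.mem_insert _ _)
  have hyL : y ∈ L := by rw [hLeq]; exact Subgroup.subset_closure (Set.mem_insert_of_mem _ rfl)
  rw [hLeq]
  exact closure_pair_le_DGs H x y (hLH hxL) (hLH hyL) hx hy

/-- conjugation by an element normalizing `H` preserves `DGs H` -/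
lemma DGs_conj {G : Type*} [Group G] (H : Subgroup G) (g : G) (hg : ∀ h ∈ H, g * h * g⁻¹ ∈ H) :
    ∀ d ∈ DGs H, g * d * g⁻¹ ∈ DGs H := by
  intro d hd
  rw [DGs] at hd
  induction hd using Subgroup.closure_induction with
  | mem k hk =>
    apply mem_DGs H _ (hg k hk.1)
    rw [ord_conj, hk.2]
  | one => simp
  | mul a b _ _ iha ihb =>
    have e : g * (a * b) * g⁻¹ = (g * a * g⁻¹) * (g * b * g⁻¹) := by group
    rw [e]
    exact (DGs H).mul_mem iha ihb
  | inv a _ iha =>
    have e : g * a⁻¹ * g⁻¹ = (g * a * g⁻¹)⁻¹ := by group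
    rw [e]
    exact (DGs H).inv_mem iha

section basic

variable {G : Type*} [Group G] [Finite G]

lemma no_index_two (hD : DG G = ⊤) (H : Subgroup G) : H.index ≠ 2 := by
  intro h2
  have hle : DG G ≤ H := by
    rw [DG, Subgroup.closure_le]
    intro y hy
    have hy3 : orderOf y = 3 := hy
    have h1 : y ^ 2 ∈ H := Subgroup.sq_mem_of_index_two h2 y
    have h3 : y ^ 3 = 1 := by rw [← hy3]; exact pow_orderOf_eq_one y
    have e : y = (y ^ 2) ^ 2 := by
      rw [← pow_mul]
      have : y ^ (2 * 2) = y ^ 3 * y := by rw [← pow_succ]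
      rw [this, h3, one_mul]
    rw [SetLike.mem_coe, e]
    exact H.pow_mem h1 2
  rw [hD, top_le_iff] at hle
  rw [hle, Subgroup.index_top] at h2
  omega

variable (F : FD G) (z : G) (hz : orderOf z = 2)

include F hz

/-- **N1**: without subgroups of index two, all cyclic subgroups of order four are conjugate -/
theorem N1 (hD : DG G = ⊤) (E : Subgroup G) (hE2 : IsPGroup 2 E) (hE8 : 8 ≤ Nat.card E)
    (hna : ∃ e₁ ∈ E, ∃ e₂ ∈ E, e₁ * e₂ ≠ e₂ * e₁) (t t' : G) (ht : orderOf t = 4)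
    (ht' : orderOf t' = 4) : ∃ g : G, g * t * g⁻¹ = t' ∨ g * t * g⁻¹ = t'⁻¹ := by
  haveI : Fact (Nat.Prime 2) := ⟨Nat.prime_two⟩
  obtain ⟨S, hES⟩ := hE2.exists_le_sylow
  have hnaS : ∃ e₁ ∈ (S : Subgroup G), ∃ e₂ ∈ (S : Subgroup G), e₁ * e₂ ≠ e₂ * e₁ := by
    obtain ⟨e₁, h1, e₂, h2, hne⟩ := hna
    exact ⟨e₁, hES h1, e₂, hES h2, hne⟩
  obtain ⟨g₀, hg₀S, hcard, hinv, -, -⟩ := exists_gen' F (S : Subgroup G) S.2 hnaS
  have hS8 : 8 ≤ Nat.card (S : Subgroup G) := hE8.trans (Subgroup.card_le_of_le hES)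
  set M : Subgroup G := Subgroup.zpowers g₀ with hM
  have hMS : M ≤ (S : Subgroup G) := by
    rw [hM, Subgroup.zpowers_le]
    exact hg₀S
  have hMcard : Nat.card M = orderOf g₀ := Nat.card_zpowers g₀
  have hrel : M.relIndex (S : Subgroup G) = 2 := by
    have h1 := Subgroup.relIndex_mul_index hMS
    have h2 := M.index_mul_card
    have h3 := (S : Subgroup G).index_mul_card
    rw [hMcard] at h2
    have hSpos : 0 < (S : Subgroup G).index := Nat.pos_of_ne_zero Subgroup.index_ne_zero_of_finite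
    have hopos : 0 < orderOf g₀ := orderOf_pos g₀
    have h4 : M.index * orderOf g₀ = ((S : Subgroup G).index * 2) * orderOf g₀ := by
      rw [h2, ← h3, ← hcard]
      ring
    have h5 := Nat.eq_of_mul_eq_mul_right hopos h4
    rw [h5] at h1
    have h6 : M.relIndex (S : Subgroup G) * (S : Subgroup G).index = 2 * (S : Subgroup G).index := by
      rw [h1, mul_comm]
    exact Nat.eq_of_mul_eq_mul_right hSpos h6
  -- the involution lies in `M`
  have hzM : z ∈ M := by
    have h4 : 4 ≤ orderOf g₀ := by omega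
    have h2d : 2 ∣ orderOf g₀ := by
      obtain ⟨n, hn⟩ := S.2.exists_card_eq
      have hd : orderOf g₀ ∣ 2 ^ n := by
        rw [← hn, ← hcard]
        exact dvd_mul_left _ _
      obtain ⟨j, -, hj⟩ := (Nat.dvd_prime_pow Nat.prime_two).mp hd
      rw [hj]
      rcases Nat.eq_zero_or_pos j with h0 | h0
      · rw [h0, pow_zero] at hj
        omega
      · exact dvd_pow_self 2 (by omega)
    obtain ⟨m, hm⟩ := h2d
    have hm0 : m ≠ 0 := by
      rintro rfl
      omega
    have ho : orderOf (g₀ ^ m) = 2 := by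
      rw [orderOf_pow_of_dvd hm0 (by rw [hm]; exact dvd_mul_left _ _), hm,
        Nat.mul_div_cancel _ (Nat.pos_of_ne_zero hm0)]
    rw [F.invol_unique z _ hz ho]
    exact Subgroup.npow_mem_zpowers _ _
  have hord : ∀ y ∈ (S : Subgroup G), y ∉ M → 2 ^ (2 - 1) < orderOf y := by
    intro y hyS hyM
    obtain ⟨n, hn⟩ := S.2.exists_card_eq
    have hd : orderOf y ∣ 2 ^ n := by
      rw [← hn]
      have := orderOf_dvd_natCard (⟨y, hyS⟩ : (S : Subgroup G))
      rwa [Subgroup.orderOf_mk] at this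
    obtain ⟨j, -, hj⟩ := (Nat.dvd_prime_pow Nat.prime_two).mp hd
    rw [hj]
    rcases Nat.lt_or_ge j 2 with h | h
    · exfalso
      interval_cases j
      · rw [pow_zero, orderOf_eq_one_iff] at hj
        apply hyM
        rw [hj]
        exact M.one_mem
      · rw [pow_one] at hj
        apply hyM
        rw [F.invol_unique y z hj hz]
        exact hzM
    · show 2 ^ 1 < 2 ^ j
      exact Nat.pow_lt_pow_right (by norm_num) (by omega)
  have hexc : ∀ s : G, orderOf s = 4 → ∃ g : G, g * s * g⁻¹ ∈ M := by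
    intro s hs
    by_contra hcon
    push_neg at hcon
    obtain ⟨H, hH, -⟩ := Cfsg.Agent.Helper53.thompson_transfer S M hrel 2 (by norm_num) hord s
      (by rw [hs]; norm_num) hcon
    exact no_index_two hD H hH
  obtain ⟨g, hg⟩ := hexc t ht
  obtain ⟨g', hg'⟩ := hexc t' ht'
  have hcomm : (g * t * g⁻¹) * (g' * t' * g'⁻¹) = (g' * t' * g'⁻¹) * (g * t * g⁻¹) := by
    obtain ⟨i, hi⟩ := Subgroup.mem_zpowers_iff.mp hg
    obtain ⟨j, hj⟩ := Subgroup.mem_zpowers_iff.mp hg'
    rw [← hi, ← hj, ← zpow_add, ← zpow_add, add_comm]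
  have h1 : orderOf (g * t * g⁻¹) = 4 := by rw [ord_conj, ht]
  have h2 : orderOf (g' * t' * g'⁻¹) = 4 := by rw [ord_conj, ht']
  refine ⟨g'⁻¹ * g, ?_⟩
  rcases F.comm4 _ _ h1 h2 hcomm with h | h
  · left
    have : g'⁻¹ * (g' * t' * g'⁻¹) * g' = g'⁻¹ * (g * t * g⁻¹) * g' := by rw [h]
    have e : g'⁻¹ * g * t * (g'⁻¹ * g)⁻¹ = g'⁻¹ * (g * t * g⁻¹) * g' := by group
    rw [e, ← this]
    group
  · right
    have : g'⁻¹ * (g' * t' * g'⁻¹) * g' = g'⁻¹ * (g * t * g⁻¹)⁻¹ * g' := by rw [h]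
    have e : g'⁻¹ * g * t * (g'⁻¹ * g)⁻¹ = (g'⁻¹ * (g * t * g⁻¹)⁻¹ * g')⁻¹ := by group
    rw [e, ← this]
    group

end basic

end Cfsg.Agent.Helper56.ZG
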