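import Mathlib
import Cfsg.Agent.Lib.Helper56.ZG

set_option autoImplicit false
set_option linter.unusedSectionVars false
set_option linter.style.haveILetI false
set_option linter.unusedVariables false

/-! Zassenhaus project, part G2: inverted points. -/

namespace Cfsg.Agent.Helper56.ZG

open Cfsg.Agent.Helper56.ZA Cfsg.Agent.Helper56.ZB Cfsg.Agent.Helper56.ZC Cfsg.Agent.Helper56.ZE
  Cfsg.Agent.Helper56.ZF Cfsg.Agent.Helper56.ZE0

lemma conj_pow_parity {G : Type*} [Group G] (g x : G) (h : g * x * g⁻¹ = x⁻¹) (k : ℕ) :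
    g ^ k * x * (g ^ k)⁻¹ = if Even k then x else x⁻¹ := by
  induction k with
  | zero => simp
  | succ k ih =>
    have e1 : g ^ (k + 1) * x * (g ^ (k + 1))⁻¹ = g * (g ^ k * x * (g ^ k)⁻¹) * g⁻¹ := by
      rw [pow_succ']
      group
    rw [e1, ih]
    by_cases hk : Even k
    · have : ¬ Even (k + 1) := by
        rw [Nat.even_add_one]
        exact not_not.mpr hk
      rw [if_pos hk, if_neg this, h]
    · have : Even (k + 1) := by
        rw [Nat.even_add_one]
        exact hk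
      rw [if_neg hk, if_pos this]
      have e2 : g * x⁻¹ * g⁻¹ = (g * x * g⁻¹)⁻¹ := by group
      rw [e2, h, inv_inv]

lemma inv_of_inv_inv {G : Type*} [Group G] (t w : G) (h : t⁻¹ * w * t = w⁻¹) :
    t * w * t⁻¹ = w⁻¹ := by
  have h1 : w = t * w⁻¹ * t⁻¹ := by
    rw [← h]
    group
  calc t * w * t⁻¹ = (t * w⁻¹ * t⁻¹)⁻¹ := by group
    _ = w⁻¹ := by rw [← h1]

section lines

variable {G : Type*} [Group G] [Finite G] (F : FD G) (z : G) (hz : orderOf z = 2)

include F hz

/-- if an element of order three of a line is not inverted in `G = D(G)` then `G` is the line -/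
theorem P2_line (hD : DG G = ⊤) (L₀ : Subgroup G) (hL : IsLine L₀) (x : G) (hxL : x ∈ L₀)
    (hx : orderOf x = 3) (hni : ∀ g : G, g * x * g⁻¹ ≠ x⁻¹) :
    ∀ y : G, orderOf y = 3 → y ∈ L₀ := by
  haveI : Fact (Nat.Prime 2) := ⟨Nat.prime_two⟩
  haveI : Fact (Nat.Prime 3) := ⟨by norm_num⟩
  obtain ⟨Q, hxQ, hall⟩ := P2 F hD x hx hni
  obtain ⟨⟨x₀, y₀, hx₀, hy₀, hLeq⟩, ⟨CL⟩⟩ := id hL
  have hxN : x ∈ Subgroup.normalizer ((Q : Subgroup G) : Set G) :=
    mem_normalizer_of_conj_le (Q : Subgroup G) x hxQ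
  have hnorm : Subgroup.normalizer ((Q : Subgroup G) : Set G) = ⊤ := by
    rw [eq_top_iff, ← hD, DG, Subgroup.closure_le]
    intro y hy
    obtain ⟨q, hq, h | h⟩ := hall y hy
    · rw [h]
      exact Subgroup.mul_mem _ (Subgroup.mul_mem _ (Subgroup.le_normalizer hq) hxN)
        (Subgroup.inv_mem _ (Subgroup.le_normalizer hq))
    · rw [h]
      exact Subgroup.mul_mem _ (Subgroup.mul_mem _ (Subgroup.le_normalizer hq)
        (Subgroup.inv_mem _ hxN)) (Subgroup.inv_mem _ (Subgroup.le_normalizer hq))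
  haveI hQn : (Q : Subgroup G).Normal := Subgroup.normalizer_eq_top_iff.mp hnorm
  -- `E4 L₀ ≤ Q`
  have hT2 : IsPGroup 2 (E4 L₀) := IsPGroup.of_card (n := 3) (by rw [E4_card F z hz CL]; norm_num)
  have hTQ : E4 L₀ ≤ (Q : Subgroup G) := by
    obtain ⟨Q', hQ'⟩ := hT2.exists_le_sylow
    obtain ⟨g, hg⟩ := MulAction.exists_smul_eq G Q Q'
    rw [Sylow.smul_eq_of_normal] at hg
    rw [hg]
    exact hQ'
  have hnaQ : ∃ e₁ ∈ (Q : Subgroup G), ∃ e₂ ∈ (Q : Subgroup G), e₁ * e₂ ≠ e₂ * e₁ := by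
    obtain ⟨e₁, h1, e₂, h2, hne⟩ := E4_nonabelian F z hz hL
    exact ⟨e₁, hTQ h1, e₂, hTQ h2, hne⟩
  have h8 : 8 ≤ Nat.card (Q : Subgroup G) := by
    rw [← E4_card F z hz CL]
    exact Subgroup.card_le_of_le hTQ
  intro y hy
  by_cases hc8 : Nat.card (Q : Subgroup G) = 8
  · have hTeq : E4 L₀ = (Q : Subgroup G) := by
      apply Subgroup.eq_of_le_of_card_ge hTQ
      rw [hc8, E4_card F z hz CL]
    obtain ⟨q, hq, h | h⟩ := hall y hy
    · rw [h]
      have hqL : q ∈ L₀ := E4_le L₀ (hTeq ▸ hq)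
      exact L₀.mul_mem (L₀.mul_mem hqL hxL) (L₀.inv_mem hqL)
    · rw [h]
      have hqL : q ∈ L₀ := E4_le L₀ (hTeq ▸ hq)
      exact L₀.mul_mem (L₀.mul_mem hqL (L₀.inv_mem hxL)) (L₀.inv_mem hqL)
  · exfalso
    obtain ⟨g₀, hg₀Q, hcard, hinv, ⟨b, hbQ, hb⟩, hbig⟩ := exists_gen' F (Q : Subgroup G) Q.2 hnaQ
    obtain ⟨n, hn⟩ := Q.2.exists_card_eq
    have hn4 : 4 ≤ n := by
      by_contra hlt
      push_neg at hlt
      have : 2 ^ n ≤ 2 ^ 3 := Nat.pow_le_pow_right (by norm_num) (by omega)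
      have h3 : n = 3 := by
        rcases Nat.lt_or_ge n 3 with h | h
        · exfalso
          have : 2 ^ n ≤ 2 ^ 2 := Nat.pow_le_pow_right (by norm_num) (by omega)
          omega
        · omega
      apply hc8
      rw [hn, h3]
      norm_num
    have h16 : 16 ≤ Nat.card (Q : Subgroup G) := by
      rw [hn]
      calc 16 = 2 ^ 4 := by norm_num
        _ ≤ 2 ^ n := Nat.pow_le_pow_right (by norm_num) hn4
    have ho8 : 8 ≤ orderOf g₀ := by omega
    have hxg : x * g₀ * x⁻¹ ∈ Subgroup.zpowers g₀ := by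
      apply hbig _ (hxQ g₀ hg₀Q)
      rw [ord_conj]
      exact ho8
    have hZn : ∀ c ∈ Subgroup.zpowers g₀, (x⁻¹)⁻¹ * c * x⁻¹ ∈ Subgroup.zpowers g₀ := by
      intro c hc
      obtain ⟨i, rfl⟩ := Subgroup.mem_zpowers_iff.mp hc
      rw [inv_inv, ← conj_zpow]
      exact Subgroup.zpow_mem _ hxg i
    have hZc : ∀ a ∈ Subgroup.zpowers g₀, ∀ b ∈ Subgroup.zpowers g₀, a * b = b * a := by
      intro a ha b hb
      obtain ⟨i, rfl⟩ := Subgroup.mem_zpowers_iff.mp ha
      obtain ⟨j, rfl⟩ := Subgroup.mem_zpowers_iff.mp hb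
      rw [← zpow_add, ← zpow_add, add_comm]
    have h3n : ¬ 3 ∣ Nat.card (Subgroup.zpowers g₀) := by
      rw [Nat.card_zpowers]
      intro h3
      have hd : orderOf g₀ ∣ 2 ^ n := by
        rw [← hn, ← hcard]
        exact dvd_mul_left _ _
      have := (Nat.Prime.dvd_of_dvd_pow (by norm_num : Nat.Prime 3) (h3.trans hd))
      omega
    have hxc := F.cc x⁻¹ 3 (by rw [orderOf_inv, hx]) (Subgroup.zpowers g₀) hZc hZn h3n g₀
      (Subgroup.mem_zpowers g₀)
    rw [inv_inv] at hxc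
    have hxg₀ : x * g₀ = g₀ * x := by
      calc x * g₀ = x * g₀ * x⁻¹ * x := by group
        _ = g₀ * x := by rw [hxc]
    -- all elements of order three centralize `g₀`
    have hcent : ∀ y : G, orderOf y = 3 → y * g₀ = g₀ * y := by
      intro y hy
      have key : ∀ q ∈ (Q : Subgroup G), ∀ w : G, w * g₀ = g₀ * w →
          (q * w * q⁻¹) * g₀ = g₀ * (q * w * q⁻¹) := by
        intro q hq w hw
        have hw' : w * g₀⁻¹ = g₀⁻¹ * w := by
          calc w * g₀⁻¹ = g₀⁻¹ * (g₀ * w) * g₀⁻¹ := by group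
            _ = g₀⁻¹ * (w * g₀) * g₀⁻¹ := by rw [hw]
            _ = g₀⁻¹ * w := by group
        rcases hinv q hq with h | h
        · have hq' : Commute q g₀ := h
          have hw'' : Commute w g₀ := hw
          exact ((hq'.mul_left hw'').mul_left hq'.inv_left).eq
        · have h' : q⁻¹ * g₀ * q = g₀⁻¹ := by
            have : g₀ = q⁻¹ * g₀⁻¹ * q := by
              rw [← h]
              group
            calc q⁻¹ * g₀ * q = (q⁻¹ * g₀⁻¹ * q)⁻¹ := by group
              _ = g₀⁻¹ := by rw [← this]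
          calc q * w * q⁻¹ * g₀ = q * w * (q⁻¹ * g₀ * q) * q⁻¹ := by group
            _ = q * (w * g₀⁻¹) * q⁻¹ := by rw [h']; group
            _ = q * (g₀⁻¹ * w) * q⁻¹ := by rw [hw']
            _ = (q * g₀⁻¹ * q⁻¹) * (q * w * q⁻¹) := by group
            _ = (q * g₀ * q⁻¹)⁻¹ * (q * w * q⁻¹) := by group
            _ = g₀ * (q * w * q⁻¹) := by rw [h, inv_inv]
      obtain ⟨q, hq, h | h⟩ := hall y hy
      · rw [h]
        exact key q hq x hxg₀
      · rw [h]
        apply key q hq x⁻¹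
        calc x⁻¹ * g₀ = x⁻¹ * (g₀ * x) * x⁻¹ := by group
          _ = x⁻¹ * (x * g₀) * x⁻¹ := by rw [hxg₀]
          _ = g₀ * x⁻¹ := by group
    have hall' : ∀ g : G, g * g₀ = g₀ * g := by
      have hle : DG G ≤ Subgroup.centralizer {g₀} := by
        rw [DG, Subgroup.closure_le]
        intro y hy
        rw [SetLike.mem_coe, Subgroup.mem_centralizer_iff]
        intro h hh
        rw [Set.mem_singleton_iff.mp hh]
        exact (hcent y hy).symm
      intro g
      have : g ∈ Subgroup.centralizer {g₀} := hle (hD ▸ Subgroup.mem_top g)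
      exact ((Subgroup.mem_centralizer_iff.mp this) g₀ rfl).symm
    have h1 : g₀ = g₀⁻¹ := by
      rw [← hb]
      calc g₀ = g₀ * b * b⁻¹ := by group
        _ = b * g₀ * b⁻¹ := by rw [hall' b]
    have h2 : g₀ ^ 2 = 1 := by
      rw [pow_two]
      nth_rewrite 2 [h1]
      exact mul_inv_cancel g₀
    have := orderOf_le_of_pow_eq_one (by norm_num) h2
    omega

/-- an element of order four inverting an element of order three, if no element of order four
centralizes an element of order three -/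
theorem inv_point (hD : DG G = ⊤) (L₀ : Subgroup G) (hL : IsLine L₀) (hLtop : L₀ ≠ ⊤)
    (hA : ∀ t y : G, orderOf t = 4 → orderOf y = 3 → t * y ≠ y * t) :
    ∃ t y : G, orderOf t = 4 ∧ orderOf y = 3 ∧ t * y * t⁻¹ = y⁻¹ := by
  obtain ⟨⟨x, y₀, hx, hy₀, hLeq⟩, ⟨CL⟩⟩ := id hL
  have hxL : x ∈ L₀ := by rw [hLeq]; exact Subgroup.subset_closure (Set.mem_insert _ _)
  have hx1 : x ≠ x⁻¹ := by
    intro h
    have h3 := cube_of_ord x hx
    have h2 : x * x = 1 := by
      nth_rewrite 2 [h]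
      exact mul_inv_cancel x
    rw [h2, one_mul] at h3
    rw [h3, orderOf_one] at hx
    omega
  have hex : ∃ g : G, g * x * g⁻¹ = x⁻¹ := by
    by_contra hcon
    push_neg at hcon
    apply hLtop
    rw [eq_top_iff, ← hD, DG, Subgroup.closure_le]
    intro y hy
    exact P2_line F z hz hD L₀ hL x hxL hx hcon y hy
  obtain ⟨g, hg⟩ := hex
  have ho : orderOf g ≠ 0 := (orderOf_pos g).ne'
  obtain ⟨e, m, hm, hom⟩ := Nat.exists_eq_pow_mul_and_not_dvd ho 2 (by norm_num)
  have hmodd : ¬ Even m := fun h => hm (even_iff_two_dvd.mp h)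
  have hmpos : 0 < m := by
    rcases Nat.eq_zero_or_pos m with h0 | h0
    · exfalso
      apply hm
      rw [h0]
      exact dvd_zero 2
    · exact h0
  set u : G := g ^ m with hu
  have hux : u * x * u⁻¹ = x⁻¹ := by
    rw [hu, conj_pow_parity g x hg m, if_neg hmodd]
  have huo : orderOf u = 2 ^ e := by
    rw [hu, orderOf_pow_of_dvd hmpos.ne' (by rw [hom]; exact dvd_mul_left _ _), hom,
      Nat.mul_div_cancel _ hmpos]
  have he2 : 2 ≤ e := by
    by_contra hlt
    push_neg at hlt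
    interval_cases e
    · rw [pow_zero, orderOf_eq_one_iff] at huo
      rw [huo] at hux
      apply hx1
      simpa using hux
    · rw [pow_one] at huo
      have huz : u = z := F.invol_unique u z huo hz
      rw [huz] at hux
      apply hx1
      have hc := F.invol_comm z hz x
      calc x = x * z * z⁻¹ := by group
        _ = z * x * z⁻¹ := by rw [hc]
        _ = x⁻¹ := hux
  rcases Nat.eq_or_lt_of_le he2 with h2 | h2
  · refine ⟨u, x, ?_, hx, hux⟩
    rw [huo, ← h2]
    norm_num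
  · exfalso
    -- `u ^ (2 ^ (e - 2))` has order four and centralizes `x`
    have hk0 : 2 ^ (e - 2) ≠ 0 := by positivity
    have hkd : 2 ^ (e - 2) ∣ orderOf u := by
      rw [huo]
      exact pow_dvd_pow 2 (by omega)
    have hto : orderOf (u ^ (2 ^ (e - 2))) = 4 := by
      rw [orderOf_pow_of_dvd hk0 hkd, huo]
      have : 2 ^ e = 2 ^ (e - 2) * 2 ^ 2 := by
        rw [← pow_add]
        congr 1
        omega
      rw [this, Nat.mul_div_cancel_left _ (by positivity)]
      norm_num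
    have hev : Even (2 ^ (e - 2)) := by
      rw [Nat.even_pow]
      exact ⟨even_two, by omega⟩
    have hcx := conj_pow_parity u x hux (2 ^ (e - 2))
    rw [if_pos hev] at hcx
    apply hA _ x hto hx
    calc u ^ (2 ^ (e - 2)) * x = u ^ (2 ^ (e - 2)) * x * (u ^ (2 ^ (e - 2)))⁻¹ * u ^ (2 ^ (e - 2)) := by
          group
      _ = x * u ^ (2 ^ (e - 2)) := by rw [hcx]

end lines

end Cfsg.Agent.Helper56.ZG
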