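import Mathlib
import Cfsg.Agent.Lib.Helper56.ZG2

set_option autoImplicit false
set_option linter.unusedSectionVars false
set_option linter.style.haveILetI false
set_option linter.unusedVariables false

/-! Zassenhaus project, part H1: lemmas shared by the two cases of the minimal counterexample. -/

namespace Cfsg.Agent.Helper56.ZG

open Cfsg.Agent.Helper56.ZA Cfsg.Agent.Helper56.ZB Cfsg.Agent.Helper56.ZC Cfsg.Agent.Helper56.ZD
  Cfsg.Agent.Helper56.ZE Cfsg.Agent.Helper56.ZF Cfsg.Agent.Helper56.ZE0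

/-- the minimal counterexample -/
structure MC {G : Type*} [Group G] [Finite G] (F : FD G) : Prop where
  hD : DG G = ⊤
  ih : ∀ H : Subgroup G, H ≠ ⊤ → Struct (DGs H)
  hnl : ∀ L : Subgroup G, IsLine L → L ≠ ⊤
  hnp : ∀ S : Subgroup G, IsPlane S → S ≠ ⊤

/-- the group elements commuting with an operator -/
def Cm {G : Type*} [Group G] {K W : Type*} [Field K] [AddCommGroup W] [Module K W]
    (D : SRK G K W) (M : Module.End K W) : Subgroup G where
  carrier := {g | M * D.σ g = D.σ g * M}
  one_mem' := by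
    show M * D.σ 1 = D.σ 1 * M
    rw [map_one, mul_one, one_mul]
  mul_mem' := fun {a b} ha hb => by
    show M * D.σ (a * b) = D.σ (a * b) * M
    have ha' : M * D.σ a = D.σ a * M := ha
    have hb' : M * D.σ b = D.σ b * M := hb
    rw [map_mul, ← mul_assoc, ha', mul_assoc, hb', mul_assoc]
  inv_mem' := fun {a} ha => by
    show M * D.σ a⁻¹ = D.σ a⁻¹ * M
    have iha : M * D.σ a = D.σ a * M := ha
    have e1 : D.σ a⁻¹ * D.σ a = 1 := by rw [← map_mul, inv_mul_cancel, map_one]
    have e2 : D.σ a * D.σ a⁻¹ = 1 := by rw [← map_mul, mul_inv_cancel, map_one]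
    calc M * D.σ a⁻¹ = D.σ a⁻¹ * D.σ a * (M * D.σ a⁻¹) := by rw [e1, one_mul]
      _ = D.σ a⁻¹ * (D.σ a * M) * D.σ a⁻¹ := by simp only [mul_assoc]
      _ = D.σ a⁻¹ * (M * D.σ a) * D.σ a⁻¹ := by rw [iha]
      _ = D.σ a⁻¹ * M * (D.σ a * D.σ a⁻¹) := by simp only [mul_assoc]
      _ = D.σ a⁻¹ * M := by rw [e2, mul_one]

lemma mem_Cm {G : Type*} [Group G] {K W : Type*} [Field K] [AddCommGroup W] [Module K W]
    (D : SRK G K W) (M : Module.End K W) (g : G) : g ∈ Cm D M ↔ M * D.σ g = D.σ g * M := Iff.rfl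

section shared

variable {G : Type*} [Group G] [Finite G] (F : FD G) (z : G) (hz : orderOf z = 2)

include F hz

lemma order_four_of_mem_E4 {L : Subgroup G} (C : Cover L A4) (e : G) (he : e ∈ E4 L)
    (h1 : e ≠ 1) (hz' : e ≠ z) : orderOf e = 4 := by
  have h4 : e ^ 4 = 1 := ((mem_E4 F z hz C e).mp he).2
  have hd : orderOf e ∣ 2 ^ 2 := orderOf_dvd_of_pow_eq_one (by simpa using h4)
  obtain ⟨j, hj, hj'⟩ := (Nat.dvd_prime_pow Nat.prime_two).mp hd
  interval_cases j
  · rw [pow_zero, orderOf_eq_one_iff] at hj'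
    exact absurd hj' h1
  · rw [pow_one] at hj'
    exact absurd (F.invol_unique e z hj' hz) hz'
  · rw [hj']
    norm_num

/-- two non-commuting elements generate `E4 L` -/
lemma E4_gen {L : Subgroup G} (C : Cover L A4) (t b : G) (ht : t ∈ E4 L) (hb : b ∈ E4 L)
    (hne : t * b ≠ b * t) : E4 L ≤ Subgroup.closure {t, b} := by
  haveI : Fact (Nat.Prime 2) := ⟨Nat.prime_two⟩
  set K : Subgroup G := Subgroup.closure {t, b} with hK
  have hKE : K ≤ E4 L := by
    rw [hK, Subgroup.closure_le]
    intro g hg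
    rcases hg with rfl | rfl
    · exact ht
    · exact hb
  have htK : t ∈ K := Subgroup.subset_closure (Set.mem_insert _ _)
  have hbK : b ∈ K := Subgroup.subset_closure (Set.mem_insert_of_mem _ rfl)
  have hd : Nat.card K ∣ 2 ^ 3 := by
    have := Subgroup.card_dvd_of_le hKE
    rw [E4_card F z hz C] at this
    simpa using this
  obtain ⟨j, hj, hj'⟩ := (Nat.dvd_prime_pow Nat.prime_two).mp hd
  have hcomm : j ≤ 2 → t * b = b * t := by
    intro hj2
    interval_cases j
    · rw [pow_zero] at hj'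
      have hs : Subsingleton K := (Nat.card_eq_one_iff_unique.mp hj').1
      have : (⟨t, htK⟩ : K) = ⟨b, hbK⟩ := Subsingleton.elim _ _
      have := congrArg Subtype.val this
      simp only at this
      rw [this]
    · rw [pow_one] at hj'
      have hc : IsCyclic K := isCyclic_of_prime_card hj'
      exact comm_of_isCyclic K hc t htK b hbK
    · have := IsPGroup.commutative_of_card_eq_prime_sq hj' (⟨t, htK⟩ : K) ⟨b, hbK⟩
      exact congrArg Subtype.val this
  have hj3 : j = 3 := by
    by_contra h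
    exact hne (hcomm (by omega))
  have heq : K = E4 L := by
    apply Subgroup.eq_of_le_of_card_ge hKE
    rw [hj', hj3, E4_card F z hz C]
    norm_num
  rw [heq]

/-- an element of order four centralizes at most one subgroup of order three -/
lemma cent_at_most_one (s : G) (hs : orderOf s = 4) (y y' : G) (hy : orderOf y = 3)
    (hy' : orderOf y' = 3) (h1 : s * y = y * s) (h2 : s * y' = y' * s) : y' = y ∨ y' = y⁻¹ := by
  by_contra hcon
  push_neg at hcon
  have hnc : y * y' ≠ y' * y := by
    intro h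
    rcases F.comm3 y y' hy hy' h with h3 | h3
    · exact hcon.1 h3
    · exact hcon.2 h3
  set H : Subgroup G := Subgroup.closure ({y, y'} : Set G) with hH
  have hyH : y ∈ H := Subgroup.subset_closure (Set.mem_insert _ _)
  have hsH : ∀ h ∈ H, s * h = h * s := by
    intro h hh
    have : H ≤ Subgroup.centralizer {s} := by
      rw [hH, Subgroup.closure_le]
      intro g hg
      rw [SetLike.mem_coe, Subgroup.mem_centralizer_iff]
      intro k hk
      rw [Set.mem_singleton_iff.mp hk]
      rcases hg with rfl | rfl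
      · exact h1
      · exact h2
    exact (Subgroup.mem_centralizer_iff.mp (this hh)) s rfl
  have key : ∀ w ∈ H, orderOf w = 4 → s ∈ H := by
    intro w hw hwo
    rcases F.comm4 s w hs hwo (hsH w hw) with h | h
    · rw [← h]
      exact hw
    · have : s = w⁻¹ := by rw [h, inv_inv]
      rw [this]
      exact H.inv_mem hw
  rcases pair33 F y y' hy hy' with h | ⟨⟨C⟩⟩ | ⟨⟨C⟩⟩
  · exact hnc h
  · obtain ⟨w, hw, hwo⟩ := line_exists_t F z hz C
    have hsH' := key w hw hwo
    exact line_nc F z hz C y hyH hy s hsH' hs h1.symm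
  · obtain ⟨T, hTS, hT⟩ := plane_exists_sylow F z hz C
    obtain ⟨w, hw, hwo⟩ := plane_sylow_elt F z hz C T hTS hT
    have hsH' := key w (hTS hw) hwo
    apply plane_nc F z hz C s hsH' hs y hyH hy
    rw [h1]
    group

/-- the Sylow `2`-subgroups of a plane have order eight -/
lemma plane_sylow_card {S : Subgroup G} (C : Cover S A5) (P : Sylow 2 S) : Nat.card P = 8 := by
  haveI : Fact (Nat.Prime 2) := ⟨Nat.prime_two⟩
  have h8 : 2 ^ 3 ∣ Nat.card P := by
    apply P.pow_dvd_card_of_pow_dvd_card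
    rw [plane_card F z hz C]
    norm_num
  obtain ⟨k, hk⟩ := P.2.exists_card_eq
  have hd : Nat.card P ∣ 120 := by
    rw [← plane_card F z hz C]
    exact Subgroup.card_subgroup_dvd_card _
  rw [hk] at hd h8 ⊢
  have hk3 : k ≤ 3 := by
    by_contra h
    push_neg at h
    have : 2 ^ 4 ∣ 2 ^ k := pow_dvd_pow 2 h
    have := this.trans hd
    omega
  have hk3' : 3 ≤ k := (Nat.pow_dvd_pow_iff_le_right (by norm_num)).mp h8
  have : k = 3 := le_antisymm hk3 hk3'
  rw [this]
  norm_num

end shared

section ih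

variable {G : Type*} [Group G] [Finite G] (F : FD G) (z : G) (hz : orderOf z = 2)

include F hz

lemma ih_line (M : MC F) (H : Subgroup G) (hH : H ≠ ⊤) (L : Subgroup G) (hL : IsLine L)
    (hLH : L ≤ H) : DGs H = L ∨ (IsPlane (DGs H) ∧ L ≤ DGs H) := by
  obtain ⟨-, ⟨CL⟩⟩ := id hL
  have hLD : L ≤ DGs H := line_le_DGs H L hL hLH
  have hcard : Nat.card L = 24 := line_card F z hz CL
  have hle := Subgroup.card_le_of_le hLD
  rcases M.ih H hH with h | ⟨x, hx, h⟩ | h | h
  · exfalso
    rw [h, Subgroup.card_bot] at hle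
    omega
  · exfalso
    rw [h, Nat.card_zpowers, hx] at hle
    omega
  · left
    obtain ⟨-, ⟨CD⟩⟩ := id h
    symm
    apply Subgroup.eq_of_le_of_card_ge hLD
    rw [hcard, line_card F z hz CD]
  · exact Or.inr ⟨h, hLD⟩

end ih

end Cfsg.Agent.Helper56.ZG
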