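import Mathlib
import Cfsg.Agent.Lib.Helper56.ZH1

set_option autoImplicit false
set_option linter.unusedSectionVars false
set_option linter.style.haveILetI false
set_option linter.unusedVariables false

/-! Zassenhaus project, part H2: an element of order eight against an element of order three. -/

namespace Cfsg.Agent.Helper56.ZG

open Cfsg.Agent.Helper56.ZA Cfsg.Agent.Helper56.ZB Cfsg.Agent.Helper56.ZC Cfsg.Agent.Helper56.ZD
  Cfsg.Agent.Helper56.ZE Cfsg.Agent.Helper56.ZF Cfsg.Agent.Helper56.ZE0

open DihedralGroup in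
lemma pair_false {G : Type*} [Group G] (a y : G) (ha : orderOf a = 8) (hy : orderOf y = 3)
    (hty : (a * a) * y * (a * a)⁻¹ = y ∨ (a * a) * y * (a * a)⁻¹ = y⁻¹) (hnc : a * y ≠ y * a)
    (h : PairConcl a y) : False := by
  set H : Subgroup G := Subgroup.closure ({a, y} : Set G) with hH
  have haH : a ∈ H := Subgroup.subset_closure (Set.mem_insert _ _)
  have hyH : y ∈ H := Subgroup.subset_closure (Set.mem_insert_of_mem _ rfl)
  set a' : H := ⟨a, haH⟩ with ha'
  set y' : H := ⟨y, hyH⟩ with hy'
  have ha8 : a' ^ 8 = 1 := by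
    apply Subtype.ext
    have : a ^ 8 = 1 := by rw [← ha]; exact pow_orderOf_eq_one a
    simpa using this
  have key : ∀ {X : Type} [Group X] (π : H →* X), (∀ k, π k = 1 → k * k = 1) →
      π a' * π a' = 1 → False := by
    intro X _ π hker h1
    have h2 : π (a' * a') = 1 := by rw [map_mul, h1]
    have h3 := hker _ h2
    have h4 : a * a * (a * a) = 1 := congrArg Subtype.val h3
    have h5 : a ^ 4 = 1 := by
      rw [← h4]
      simp only [pow_succ, pow_zero, one_mul, mul_assoc]
    have := orderOf_le_of_pow_eq_one (by norm_num) h5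
    omega
  have hy1 : ∀ {X : Type} [Group X] (π : H →* X), (∀ k, π k = 1 → k * k = 1) → π y' ≠ 1 := by
    intro X _ π hker h1
    have h3 := hker _ h1
    have h4 : y * y = 1 := congrArg Subtype.val h3
    have h5 : y ^ 2 = 1 := by rw [pow_two]; exact h4
    have := orderOf_le_of_pow_eq_one (by norm_num) h5
    omega
  have hy3 : ∀ {X : Type} [Group X] (π : H →* X), π y' * π y' * π y' = 1 := by
    intro X _ π
    rw [← map_mul, ← map_mul]
    have : y' * y' * y' = 1 := Subtype.ext (cube_of_ord y hy)
    rw [this, map_one]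
  rcases h with h | ⟨n, hn, π, hsurj, hker⟩ | ⟨π, hsurj, hker⟩ | ⟨π, hsurj, hker⟩ | ⟨π, hsurj, hker⟩
  · exact hnc h
  · -- dihedral
    have hra : ∃ i, π a' = r i := by
      cases hq : π a' with
      | r i => exact ⟨i, rfl⟩
      | sr i =>
        exfalso
        apply key π hker
        rw [hq, sr_mul_self]
    have hry : ∃ i, π y' = r i := by
      cases hq : π y' with
      | r i => exact ⟨i, rfl⟩
      | sr i =>
        exfalso
        have := hy3 π
        rw [hq, sr_mul_self, one_mul] at this
        rw [one_def] at this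
        cases this
    have hall : ∀ (g : G) (hg : g ∈ H), ∃ i, π ⟨g, hg⟩ = r i := by
      intro g hg
      induction hg using Subgroup.closure_induction with
      | mem k hk =>
        rcases hk with rfl | rfl
        · exact hra
        · exact hry
      | one => exact ⟨0, by rw [show (⟨1, H.one_mem⟩ : H) = 1 from rfl, map_one, one_def]⟩
      | mul u v hu hv ihu ihv =>
        obtain ⟨i, hi⟩ := ihu
        obtain ⟨j, hj⟩ := ihv
        refine ⟨i + j, ?_⟩
        have e : (⟨u * v, H.mul_mem hu hv⟩ : H) = ⟨u, hu⟩ * ⟨v, hv⟩ := rfl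
        rw [e, map_mul, hi, hj, r_mul_r]
      | inv u hu ihu =>
        obtain ⟨i, hi⟩ := ihu
        refine ⟨-i, ?_⟩
        have e : (⟨u⁻¹, H.inv_mem hu⟩ : H) = (⟨u, hu⟩ : H)⁻¹ := rfl
        rw [e, map_inv, hi, inv_r]
    obtain ⟨k, hk⟩ := hsurj (sr 0)
    obtain ⟨i, hi⟩ := hall k k.2
    rw [hk] at hi
    cases hi
  · -- A4
    apply key π hker
    apply a4_two
    rw [← map_pow, ha8, map_one]
  · -- S4
    apply key π hker
    apply s4_key (π a') (by rw [← map_pow, ha8, map_one]) (π y')
    refine ⟨hy1 π hker, hy3 π, ?_⟩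
    have htH : (a * a) * y * (a * a)⁻¹ ∈ H :=
      H.mul_mem (H.mul_mem (H.mul_mem haH haH) hyH) (H.inv_mem (H.mul_mem haH haH))
    have e : π a' * π a' * π y' * (π a' * π a')⁻¹ = π ⟨(a * a) * y * (a * a)⁻¹, htH⟩ := by
      rw [← map_mul, ← map_mul, ← map_inv, ← map_mul]
      rfl
    rw [e]
    rcases hty with h1 | h1
    · left
      congr 1
      exact Subtype.ext h1
    · right
      rw [← map_inv]
      congr 1
      exact Subtype.ext h1
  · -- A5
    apply key π hker
    apply a5_two
    rw [← map_pow, ha8, map_one]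

end Cfsg.Agent.Helper56.ZG
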