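import Mathlib
import Cfsg.Agent.Lib.Helper56.ZH2

set_option autoImplicit false
set_option linter.unusedSectionVars false
set_option linter.style.haveILetI false
set_option linter.unusedVariables false

/-! Zassenhaus project, part H3: the case of a `2`-subgroup of order at least `16`. -/

namespace Cfsg.Agent.Helper56.ZG

open Cfsg.Agent.Helper56.ZA Cfsg.Agent.Helper56.ZB Cfsg.Agent.Helper56.ZC Cfsg.Agent.Helper56.ZD
  Cfsg.Agent.Helper56.ZE Cfsg.Agent.Helper56.ZF Cfsg.Agent.Helper56.ZE0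

lemma sq_conj {G : Type*} [Group G] (a y : G) (h : a * y * a⁻¹ = y ∨ a * y * a⁻¹ = y⁻¹) :
    (a * a) * y * (a * a)⁻¹ = y := by
  have e : (a * a) * y * (a * a)⁻¹ = a * (a * y * a⁻¹) * a⁻¹ := by group
  rw [e]
  rcases h with h | h
  · rw [h, h]
  · rw [h]
    have e2 : a * y⁻¹ * a⁻¹ = (a * y * a⁻¹)⁻¹ := by group
    rw [e2, h, inv_inv]

lemma ne_inv_of_three {G : Type*} [Group G] (y : G) (hy : orderOf y = 3) : y ≠ y⁻¹ := by
  intro h
  have h3 := cube_of_ord y hy
  have h2 : y * y = 1 := by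
    nth_rewrite 2 [h]
    exact mul_inv_cancel y
  rw [h2, one_mul] at h3
  rw [h3, orderOf_one] at hy
  omega

section nk

variable {G : Type*} [Group G] [Finite G] (F : FD G) (z : G) (hz : orderOf z = 2)

include F hz

/-- no element of order three centralizes the `E4` of a line -/
lemma no_cent_E4 {L : Subgroup G} (hL : IsLine L) (y : G) (hy : orderOf y = 3)
    (hc : ∀ e ∈ E4 L, y * e = e * y) : False := by
  obtain ⟨⟨x₀, y₀, hx₀, hy₀, hLeq⟩, ⟨C⟩⟩ := id hL
  have hx₀L : x₀ ∈ L := by rw [hLeq]; exact Subgroup.subset_closure (Set.mem_insert _ _)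
  have hy₀L : y₀ ∈ L := by rw [hLeq]; exact Subgroup.subset_closure (Set.mem_insert_of_mem _ rfl)
  have hcl := line_centralizer F z hz hL y hc
  have h1 := F.comm3 y x₀ hy hx₀ (hcl x₀ hx₀L)
  have h2 := F.comm3 y y₀ hy hy₀ (hcl y₀ hy₀L)
  have hle : L ≤ Subgroup.zpowers y := by
    rw [hLeq, Subgroup.closure_le]
    intro g hg
    rcases hg with rfl | rfl
    · rcases h1 with h | h
      · rw [h]; exact Subgroup.mem_zpowers y
      · rw [h]; exact Subgroup.inv_mem _ (Subgroup.mem_zpowers y)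
    · rcases h2 with h | h
      · rw [h]; exact Subgroup.mem_zpowers y
      · rw [h]; exact Subgroup.inv_mem _ (Subgroup.mem_zpowers y)
  have := Subgroup.card_le_of_le hle
  rw [line_card F z hz C, Nat.card_zpowers, hy] at this
  omega

/-- an element of order eight normalizing a quaternion group of order eight -/
lemma sq_mem_of_normalizes (E : Subgroup G) (hE : Nat.card E = 8)
    (hna : ∃ e₁ ∈ E, ∃ e₂ ∈ E, e₁ * e₂ ≠ e₂ * e₁) (hexp : ∀ e ∈ E, e ^ 4 = 1) (a : G)
    (ha : orderOf a = 8) (haE : ∀ e ∈ E, a * e * a⁻¹ ∈ E) :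
    a * a ∈ E ∧ ∀ e ∈ E, e * a = a * e ∨ e * a * e⁻¹ = a⁻¹ := by
  haveI : Fact (Nat.Prime 2) := ⟨Nat.prime_two⟩
  have hE2 : IsPGroup 2 E := IsPGroup.of_card (n := 3) (by rw [hE]; norm_num)
  have hZ2 : IsPGroup 2 (Subgroup.zpowers a) :=
    IsPGroup.of_card (n := 3) (by rw [Nat.card_zpowers, ha]; norm_num)
  have hZn : Subgroup.zpowers a ≤ Subgroup.normalizer (E : Set G) := by
    rw [Subgroup.zpowers_le]
    exact mem_normalizer_of_conj_le E a haE
  set R : Subgroup G := Subgroup.zpowers a ⊔ E with hR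
  have hR2 : IsPGroup 2 R := hZ2.to_sup_of_normal_right' hE2 hZn
  have hRn : R ≤ Subgroup.normalizer (E : Set G) := sup_le hZn Subgroup.le_normalizer
  have hER : E ≤ R := le_sup_right
  have haR : a ∈ R := (le_sup_left : Subgroup.zpowers a ≤ R) (Subgroup.mem_zpowers a)
  have hnaR : ∃ e₁ ∈ R, ∃ e₂ ∈ R, e₁ * e₂ ≠ e₂ * e₁ := by
    obtain ⟨e₁, h1, e₂, h2, hne⟩ := hna
    exact ⟨e₁, hER h1, e₂, hER h2, hne⟩
  have hbound := normal_q8_bound F R E hR2 hER
    (fun p hp e he => conj_mem_of_mem_normalizer E p (hRn hp) e he) hexp hna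
  obtain ⟨k, hk⟩ := hR2.exists_card_eq
  have hdvd : 2 ^ 3 ∣ 2 ^ k := by
    rw [← hk]
    have := Subgroup.card_dvd_of_le hER
    rw [hE] at this
    simpa using this
  have hk3 : 3 ≤ k := (Nat.pow_dvd_pow_iff_le_right (by norm_num)).mp hdvd
  have hk4 : k ≤ 4 := by
    by_contra h
    push_neg at h
    have : 2 ^ 5 ≤ 2 ^ k := Nat.pow_le_pow_right (by norm_num) h
    omega
  have hk' : k = 4 := by
    by_contra h
    have h3 : k = 3 := by omega
    have hEeq : E = R := by
      apply Subgroup.eq_of_le_of_card_ge hER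
      rw [hk, h3, hE]
      norm_num
    have := hexp a (hEeq ▸ haR)
    have := orderOf_le_of_pow_eq_one (by norm_num) this
    omega
  have hcard : Nat.card R = 2 * Nat.card E := by
    rw [hk, hk', hE]
    norm_num
  refine ⟨sq_mem_of_card E R hER hcard a haR, ?_⟩
  intro e he
  exact gen_inv F R hR2 hnaR a haR (by omega) e (hER he)

end nk

end Cfsg.Agent.Helper56.ZG
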