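import Mathlib
import Cfsg.Agent.Lib.Helper56.ZH3

set_option autoImplicit false
set_option linter.unusedSectionVars false
set_option linter.style.haveILetI false
set_option linter.unusedVariables false
set_option maxHeartbeats 1000000

/-! Zassenhaus project, part H4: the case of a `2`-subgroup of order at least `16`: main
argument. -/

namespace Cfsg.Agent.Helper56.ZG

open Cfsg.Agent.Helper56.ZA Cfsg.Agent.Helper56.ZB Cfsg.Agent.Helper56.ZC Cfsg.Agent.Helper56.ZD
  Cfsg.Agent.Helper56.ZE Cfsg.Agent.Helper56.ZF Cfsg.Agent.Helper56.ZE0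

section nk

variable {G : Type*} [Group G] [Finite G] (F : FD G) (z : G) (hz : orderOf z = 2)

include F hz

/-- the configuration reached in the non-Klein case is contradictory -/
lemma nonklein_core (M : MC F) (L₀ : Subgroup G) (hL₀ : IsLine L₀) (R₁ : Subgroup G)
    (hTR : E4 L₀ ≤ R₁) (a b t y : G) (hao : orderOf a = 8) (ht : t = a * a)
    (hainv : ∀ e ∈ R₁, e * a = a * e ∨ e * a * e⁻¹ = a⁻¹) (htT₀ : t ∈ E4 L₀)
    (hbT : b ∈ E4 L₀) (hbo : orderOf b = 4) (hba : b * a * b⁻¹ = a⁻¹) (hy : orderOf y = 3)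
    (hty : t * y * t⁻¹ = y ∨ t * y * t⁻¹ = y⁻¹)
    (hay : a * y * a⁻¹ ≠ y ∧ a * y * a⁻¹ ≠ y⁻¹)
    (hcase : b * y = y * b ∨ ((∀ t' y' : G, orderOf t' = 4 → orderOf y' = 3 → t' * y' ≠ y' * t') ∧
      t * y * t⁻¹ = y⁻¹)) : False := by
  haveI : Fact (Nat.Prime 2) := ⟨Nat.prime_two⟩
  obtain ⟨-, ⟨C₀⟩⟩ := id hL₀
  have hzc : ∀ g : G, g * z = z * g := F.invol_comm z hz
  have hzz := zz F z hz
  have hT₀card : Nat.card (E4 L₀) = 8 := E4_card F z hz C₀
  have hto : orderOf t = 4 := by
    rw [ht, ← pow_two, orderOf_pow_of_dvd (by norm_num) (by rw [hao]; norm_num), hao]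
  have hbb : b * b = z := F.sq_eq_invol b z hbo hz
  have hbtb : b * t * b⁻¹ = t⁻¹ := by
    rw [ht]
    calc b * (a * a) * b⁻¹ = (b * a * b⁻¹) * (b * a * b⁻¹) := by group
      _ = (a * a)⁻¹ := by rw [hba]; group
  obtain ⟨y', hy'⟩ : ∃ y' : G, y' = a * y * a⁻¹ := ⟨_, rfl⟩
  have hy'o : orderOf y' = 3 := by rw [hy', ord_conj, hy]
  have hay' : a * y' * a⁻¹ = t * y * t⁻¹ := by
    rw [hy', ht]
    group
  set Pl : Subgroup G := Subgroup.closure ({y, y'} : Set G) with hPl
  have hyPl : y ∈ Pl := Subgroup.subset_closure (Set.mem_insert _ _)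
  have hy'Pl : y' ∈ Pl := Subgroup.subset_closure (Set.mem_insert_of_mem _ rfl)
  have haPl : ∀ pe ∈ Pl, a * pe * a⁻¹ ∈ Pl := by
    intro pe hpi
    induction hpi using Subgroup.closure_induction with
    | mem k hk =>
      rcases hk with rfl | rfl
      · rw [← hy']
        exact hy'Pl
      · rw [hay']
        rcases hty with h | h
        · rw [h]; exact hyPl
        · rw [h]; exact Pl.inv_mem hyPl
    | one => simp
    | mul u v _ _ ihu ihv =>
      have e : a * (u * v) * a⁻¹ = (a * u * a⁻¹) * (a * v * a⁻¹) := by group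
      rw [e]
      exact Pl.mul_mem ihu ihv
    | inv u _ ihu =>
      have e : a * u⁻¹ * a⁻¹ = (a * u * a⁻¹)⁻¹ := by group
      rw [e]
      exact Pl.inv_mem ihu
  have hncyy' : y * y' ≠ y' * y := by
    intro h
    rcases F.comm3 y y' hy hy'o h with h3 | h3
    · exact hay.1 (hy' ▸ h3)
    · exact hay.2 (hy' ▸ h3)
  have hnc_ay : a * y ≠ y * a := by
    intro h
    apply hay.1
    rw [h]
    group
  rcases pair33 F y y' hy hy'o with h | ⟨⟨C'⟩⟩ | ⟨⟨C''⟩⟩
  · exact hncyy' h
  · -- the line case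
    have hLPl : IsLine Pl := ⟨⟨y, y', hy, hy'o, rfl⟩, ⟨C'⟩⟩
    have hE := E4_conj F z hz C' a haPl
    have hexp : ∀ e ∈ E4 Pl, e ^ 4 = 1 := fun e he => ((mem_E4 F z hz C' e).mp he).2
    obtain ⟨htE, -⟩ := sq_mem_of_normalizes F z hz (E4 Pl) (E4_card F z hz C')
      (E4_nonabelian F z hz hLPl) hexp a hao hE
    rw [← ht] at htE
    have hn := line_nn F z hz C' y hyPl hy t (E4_le Pl htE) hto
    rcases hty with h | h
    · exact hn.1 h
    · exact hn.2 h
  · -- the plane case
    have ha8 : a ^ (2 ^ 3) = 1 := by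
      have : a ^ 8 = 1 := by rw [← hao]; exact pow_orderOf_eq_one a
      simpa using this
    obtain ⟨Psy, hPsy⟩ := exists_fixed_sylow 2 Pl a (mem_normalizer_of_conj_le Pl a haPl) ⟨3, ha8⟩
    set T : Subgroup G := (Psy : Subgroup Pl).map Pl.subtype with hT
    have hTPl : T ≤ Pl := by
      intro g hg
      obtain ⟨s, -, rfl⟩ := hg
      exact s.2
    have hTcard : Nat.card T = 8 := by
      rw [hT, Subgroup.card_map_of_injective Pl.subtype_injective]
      exact plane_sylow_card F z hz C'' Psy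
    have haT : ∀ g ∈ T, a * g * a⁻¹ ∈ T := by
      intro g hg
      obtain ⟨s, hs, rfl⟩ := hg
      obtain ⟨h1, h2⟩ := hPsy s hs
      exact ⟨_, h2, rfl⟩
    obtain ⟨L'', hL''Pl, hL'', hE''⟩ := plane_line F z hz C'' T hTPl hTcard
    obtain ⟨-, ⟨CL''⟩⟩ := id hL''
    have hnaT : ∃ e₁ ∈ T, ∃ e₂ ∈ T, e₁ * e₂ ≠ e₂ * e₁ := by
      rw [← hE'']
      exact E4_nonabelian F z hz hL''
    have hexpT : ∀ e ∈ T, e ^ 4 = 1 := by
      intro e he
      rw [← hE''] at he
      exact ((mem_E4 F z hz CL'' e).mp he).2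
    obtain ⟨htT, hinvT⟩ := sq_mem_of_normalizes F z hz T hTcard hnaT hexpT a hao haT
    rw [← ht] at htT
    have hta : t * a = a * t := by
      rw [ht]
      group
    -- `T ≠ E4 L₀`
    have hTne : T ≠ E4 L₀ := by
      intro hTeq
      have hbPl : b ∈ Pl := hTPl (hTeq ▸ hbT)
      rcases hcase with hby | ⟨hA, htinv⟩
      · apply plane_nc F z hz C'' b hbPl hbo y hyPl hy
        rw [hby]
        group
      · have hty' : t * y' * t⁻¹ = y'⁻¹ := by
          rw [hy']
          calc t * (a * y * a⁻¹) * t⁻¹ = (t * a) * y * (t * a)⁻¹ := by group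
            _ = (a * t) * y * (a * t)⁻¹ := by rw [hta]
            _ = a * (t * y * t⁻¹) * a⁻¹ := by group
            _ = (a * y * a⁻¹)⁻¹ := by rw [htinv]; group
        have hne1 : y' ≠ y := fun h => hay.1 (hy' ▸ h)
        have hne2 : y' ≠ y⁻¹ := fun h => hay.2 (hy' ▸ h)
        have hsw := plane_swap F z hz C'' t (hTPl htT) hto y y' hyPl hy'Pl hy hy'o (Or.inr htinv)
          (Or.inr hty') hne1 hne2 b hbPl hbtb
        have hab2 : (a * b) * (a * b) = z := by
          calc (a * b) * (a * b) = a * (b * a * b⁻¹) * (b * b) := by group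
            _ = a * a⁻¹ * z := by rw [hba, hbb]
            _ = z := by group
        have hz1 : z ≠ 1 := ne_one_of_order z 2 (by norm_num) hz
        have hab4 : orderOf (a * b) = 4 :=
          ord_four_of _ (by rw [hab2]; exact hz1) (by rw [hab2]; exact hzz)
        have habn : (a * b) * y * (a * b)⁻¹ = y ∨ (a * b) * y * (a * b)⁻¹ = y⁻¹ := by
          have e : (a * b) * y * (a * b)⁻¹ = a * (b * y * b⁻¹) * a⁻¹ := by group
          rw [e]
          rcases hsw with h | h
          · right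
            rw [h, hay', htinv]
          · left
            rw [h]
            have e2 : a * y'⁻¹ * a⁻¹ = (a * y' * a⁻¹)⁻¹ := by group
            rw [e2, hay', htinv, inv_inv]
        rcases habn with h | h
        · apply hA (a * b) y hab4 hy
          calc a * b * y = (a * b) * y * (a * b)⁻¹ * (a * b) := by group
            _ = y * (a * b) := by rw [h]
        · have htab2 : (t * (a * b)) * (t * (a * b)) = z := by
            rw [ht]
            calc (a * a * (a * b)) * (a * a * (a * b))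
                = a * a * a * ((b * a * b⁻¹) * (b * a * b⁻¹) * (b * a * b⁻¹)) * (b * b) := by group
              _ = a * a * a * (a⁻¹ * a⁻¹ * a⁻¹) * z := by rw [hba, hbb]
              _ = z := by group
          have htab4 : orderOf (t * (a * b)) = 4 :=
            ord_four_of _ (by rw [htab2]; exact hz1) (by rw [htab2]; exact hzz)
          apply hA (t * (a * b)) y htab4 hy
          have e : (t * (a * b)) * y * (t * (a * b))⁻¹ = y := by
            calc (t * (a * b)) * y * (t * (a * b))⁻¹ = t * ((a * b) * y * (a * b)⁻¹) * t⁻¹ := by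
                  group
              _ = (t * y * t⁻¹)⁻¹ := by rw [h]; group
              _ = y := by rw [htinv, inv_inv]
          calc t * (a * b) * y = (t * (a * b)) * y * (t * (a * b))⁻¹ * (t * (a * b)) := by group
            _ = y * (t * (a * b)) := by rw [e]
    -- the operator `d = σ a + σ a⁻¹` commutes with both lines
    have hgp : ∀ e : G, (e * a = a * e ∨ e * a * e⁻¹ = a⁻¹) →
        (F.D.σ a + F.D.σ a⁻¹) * F.D.σ e = F.D.σ e * (F.D.σ a + F.D.σ a⁻¹) := by
      intro e he
      apply gp_comm F.D a e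
      rcases he with h | h
      · left
        rw [h]
        group
      · exact Or.inr h
    have hd₀ : L₀ ≤ Cm F.D (F.D.σ a + F.D.σ a⁻¹) := by
      intro l hl
      exact line_commutant F z hz hL₀ _ (fun e he => hgp e (hainv e (hTR he))) l hl
    have hd'' : L'' ≤ Cm F.D (F.D.σ a + F.D.σ a⁻¹) := by
      intro l hl
      exact line_commutant F z hz hL'' _ (fun e he => hgp e (hinvT e (hE'' ▸ he))) l hl
    have htop : L₀ ⊔ L'' = ⊤ := by
      by_contra hne
      rcases ih_line F z hz M (L₀ ⊔ L'') hne L₀ hL₀ le_sup_left with h | ⟨hpl, hle⟩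
      · have hL''le : L'' ≤ L₀ := h ▸ line_le_DGs _ L'' hL'' le_sup_right
        have heq : L'' = L₀ := by
          apply Subgroup.eq_of_le_of_card_ge hL''le
          rw [line_card F z hz C₀, line_card F z hz CL'']
        apply hTne
        rw [← hE'', heq]
      · obtain ⟨-, ⟨CS⟩⟩ := id hpl
        have h1 : E4 L₀ ≤ DGs (L₀ ⊔ L'') := (E4_le L₀).trans hle
        have h2 : T ≤ DGs (L₀ ⊔ L'') := by
          rw [← hE'']
          exact (E4_le L'').trans (line_le_DGs _ L'' hL'' le_sup_right)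
        have e1 := plane_sylow_unique F z hz CS t (h1 htT₀) hto (E4 L₀) h1 hT₀card htT₀
        have e2 := plane_sylow_unique F z hz CS t (h1 htT₀) hto T h2 hTcard htT
        apply hTne
        rw [e2, e1]
    have hcen : ∀ k : G, (F.D.σ a + F.D.σ a⁻¹) * F.D.σ k = F.D.σ k * (F.D.σ a + F.D.σ a⁻¹) := by
      intro k
      have : k ∈ Cm F.D (F.D.σ a + F.D.σ a⁻¹) := (sup_le hd₀ hd'') (htop ▸ Subgroup.mem_top k)
      exact this
    have hpc := central_quad F.D F.q F.not_dvd a hcen y (-1) (F.D.quad_three y hy)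
    have hty2 : (a * a) * y * (a * a)⁻¹ = y ∨ (a * a) * y * (a * a)⁻¹ = y⁻¹ := by
      rw [← ht]
      exact hty
    exact pair_false a y hao hy hty2 hnc_ay hpc

end nk

end Cfsg.Agent.Helper56.ZG
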