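import Mathlib
import Cfsg.Agent.Lib.Helper56.ZH4

set_option autoImplicit false
set_option linter.unusedSectionVars false
set_option linter.style.haveILetI false
set_option linter.unusedVariables false
set_option maxHeartbeats 1000000

/-! Zassenhaus project, part H5: the case of a `2`-subgroup of order at least `16`: set-up. -/

namespace Cfsg.Agent.Helper56.ZG

open Cfsg.Agent.Helper56.ZA Cfsg.Agent.Helper56.ZB Cfsg.Agent.Helper56.ZC Cfsg.Agent.Helper56.ZD
  Cfsg.Agent.Helper56.ZE Cfsg.Agent.Helper56.ZF Cfsg.Agent.Helper56.ZE0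

section nk

variable {G : Type*} [Group G] [Finite G] (F : FD G) (z : G) (hz : orderOf z = 2)

include F hz

theorem nonklein (M : MC F) (L₀ : Subgroup G) (hL₀ : IsLine L₀) (P : Subgroup G)
    (hP2 : IsPGroup 2 P) (hP16 : 16 ≤ Nat.card P) : False := by
  haveI : Fact (Nat.Prime 2) := ⟨Nat.prime_two⟩
  obtain ⟨-, ⟨C₀⟩⟩ := id hL₀
  have hzc : ∀ g : G, g * z = z * g := F.invol_comm z hz
  have hT₀card : Nat.card (E4 L₀) = 8 := E4_card F z hz C₀
  have hT₀2 : IsPGroup 2 (E4 L₀) := IsPGroup.of_card (n := 3) (by rw [hT₀card]; norm_num)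
  have hna₀ := E4_nonabelian F z hz hL₀
  have h16 : 2 ^ (3 + 1) ∣ Nat.card G := by
    obtain ⟨m, hm⟩ := hP2.exists_card_eq
    have hm4 : 4 ≤ m := by
      by_contra h
      push_neg at h
      have : 2 ^ m ≤ 2 ^ 3 := Nat.pow_le_pow_right (by norm_num) (by omega)
      omega
    have h1 : 2 ^ 4 ∣ Nat.card P := by
      rw [hm]
      exact pow_dvd_pow 2 hm4
    exact h1.trans (Subgroup.card_subgroup_dvd_card P)
  obtain ⟨R₁, hR₁card, hTR⟩ := Sylow.exists_subgroup_card_pow_succ h16 (H := E4 L₀)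
    (by rw [hT₀card]; norm_num)
  have hR₁2 : IsPGroup 2 R₁ := IsPGroup.of_card hR₁card
  have hnaR : ∃ e₁ ∈ R₁, ∃ e₂ ∈ R₁, e₁ * e₂ ≠ e₂ * e₁ := by
    obtain ⟨e₁, h1, e₂, h2, hne⟩ := hna₀
    exact ⟨e₁, hTR h1, e₂, hTR h2, hne⟩
  obtain ⟨a, haR, hacard, hainv, -, -⟩ := exists_gen' F R₁ hR₁2 hnaR
  have hao : orderOf a = 8 := by
    rw [hR₁card] at hacard
    norm_num at hacard
    omega
  obtain ⟨t, ht⟩ : ∃ t : G, t = a * a := ⟨_, rfl⟩
  have htT : t ∈ E4 L₀ := by
    rw [ht]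
    exact sq_mem_of_card (E4 L₀) R₁ hTR (by rw [hR₁card, hT₀card]; norm_num) a haR
  have hto : orderOf t = 4 := by
    rw [ht, ← pow_two, orderOf_pow_of_dvd (by norm_num) (by rw [hao]; norm_num), hao]
  -- an element `b` of `E4 L₀` inverting `a`
  have hex_b : ∃ b ∈ E4 L₀, b * t ≠ t * b ∧ orderOf b = 4 := by
    obtain ⟨e₁, he₁, e₂, he₂, hne⟩ := hna₀
    have ho : ∀ e ∈ E4 L₀, (∃ e' ∈ E4 L₀, e * e' ≠ e' * e) → orderOf e = 4 := by
      intro e he ⟨e', he', hn⟩
      apply order_four_of_mem_E4 F z hz C₀ e he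
      · rintro rfl
        exact hn (by simp)
      · rintro rfl
        exact hn ((hzc e').symm)
    by_contra hcon
    push_neg at hcon
    have h1 : orderOf e₁ = 4 := ho e₁ he₁ ⟨e₂, he₂, hne⟩
    have h2 : orderOf e₂ = 4 := ho e₂ he₂ ⟨e₁, he₁, fun h => hne h.symm⟩
    have c1 : e₁ * t = t * e₁ := by
      by_contra h
      exact hcon e₁ he₁ h h1
    have c2 : e₂ * t = t * e₂ := by
      by_contra h
      exact hcon e₂ he₂ h h2
    apply hne
    rcases F.comm4 t e₁ hto h1 c1.symm with h | h <;>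
      rcases F.comm4 t e₂ hto h2 c2.symm with h' | h' <;> rw [h, h'] <;> group
  obtain ⟨b, hbT, hbt, hbo⟩ := hex_b
  have hbR : b ∈ R₁ := hTR hbT
  have hba : b * a * b⁻¹ = a⁻¹ := by
    rcases hainv b hbR with h | h
    · exfalso
      apply hbt
      rw [ht, ← mul_assoc, h, mul_assoc, h, ← mul_assoc]
    · exact h
  have hbb : b * b = z := F.sq_eq_invol b z hbo hz
  have htt : t * t = z := F.sq_eq_invol t z hto hz
  have hbtb : b * t * b⁻¹ = t⁻¹ := by
    rw [ht]
    calc b * (a * a) * b⁻¹ = (b * a * b⁻¹) * (b * a * b⁻¹) := by group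
      _ = (a * a)⁻¹ := by rw [hba]; group
  have htb : t * b⁻¹ * t⁻¹ = b := by
    have h1 : t⁻¹ * z * t⁻¹ = 1 := by
      rw [← htt]
      group
    have h2 : b⁻¹ = z * b := by
      have : z * b * b = 1 := by
        rw [mul_assoc, hbb, zz F z hz]
      exact (eq_inv_of_mul_eq_one_left this).symm ▸ rfl
    have h3 : b * t = t⁻¹ * b := by
      calc b * t = b * t * b⁻¹ * b := by group
        _ = t⁻¹ * b := by rw [hbtb]
    -- `t b⁻¹ t⁻¹ = t z b t⁻¹ = z t b t⁻¹`
    have h4 : t * b = b * t⁻¹ := by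
      have : t * (b * t) = t * (t⁻¹ * b) := by rw [h3]
      have h5 : t * b * t = b := by
        rw [mul_assoc, this]
        group
      calc t * b = t * b * t * t⁻¹ := by group
        _ = b * t⁻¹ := by rw [h5]
    calc t * b⁻¹ * t⁻¹ = t * (z * b) * t⁻¹ := by rw [h2]
      _ = z * (t * b) * t⁻¹ := by rw [← mul_assoc, hzc t, mul_assoc z]
      _ = z * (b * t⁻¹) * t⁻¹ := by rw [h4]
      _ = b * (z * (t⁻¹ * t⁻¹)) := by
        rw [← mul_assoc z, ← hzc b]
        group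
      _ = b := by
        have : z * (t⁻¹ * t⁻¹) = 1 := by
          rw [← htt]
          group
        rw [this, mul_one]
  -- the element `y`
  have hex_y : ∃ y : G, orderOf y = 3 ∧ (t * y * t⁻¹ = y ∨ t * y * t⁻¹ = y⁻¹) ∧
      (a * y * a⁻¹ ≠ y ∧ a * y * a⁻¹ ≠ y⁻¹) ∧
      (b * y = y * b ∨ ((∀ t' y' : G, orderOf t' = 4 → orderOf y' = 3 → t' * y' ≠ y' * t') ∧
        t * y * t⁻¹ = y⁻¹)) := by
    by_cases hB : ∃ t₁ y₁ : G, orderOf t₁ = 4 ∧ orderOf y₁ = 3 ∧ t₁ * y₁ = y₁ * t₁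
    · obtain ⟨t₁, y₁, ht₁, hy₁, hc₁⟩ := hB
      obtain ⟨g, hg⟩ := N1 F z hz M.hD (E4 L₀) hT₀2 (by rw [hT₀card]) hna₀ t₁ b ht₁ hbo
      obtain ⟨y, hyd⟩ : ∃ y : G, y = g * y₁ * g⁻¹ := ⟨_, rfl⟩
      have hyo : orderOf y = 3 := by rw [hyd, ord_conj, hy₁]
      have hby : b * y = y * b := by
        have key : (g * t₁ * g⁻¹) * y = y * (g * t₁ * g⁻¹) := by
          rw [hyd]
          calc g * t₁ * g⁻¹ * (g * y₁ * g⁻¹) = g * (t₁ * y₁) * g⁻¹ := by group
            _ = g * (y₁ * t₁) * g⁻¹ := by rw [hc₁]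
            _ = g * y₁ * g⁻¹ * (g * t₁ * g⁻¹) := by group
        rcases hg with h | h
        · rw [h] at key
          exact key
        · rw [h] at key
          calc b * y = b * (y * b⁻¹) * b := by group
            _ = b * (b⁻¹ * y) * b := by rw [key]
            _ = y * b := by group
      have hty : t * y * t⁻¹ = y ∨ t * y * t⁻¹ = y⁻¹ := by
        apply cent_at_most_one F z hz b hbo y (t * y * t⁻¹) hyo (by rw [ord_conj, hyo]) hby
        have hby' : b⁻¹ * y = y * b⁻¹ := by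
          calc b⁻¹ * y = b⁻¹ * (y * b) * b⁻¹ := by group
            _ = b⁻¹ * (b * y) * b⁻¹ := by rw [hby]
            _ = y * b⁻¹ := by group
        calc b * (t * y * t⁻¹) = (t * b⁻¹ * t⁻¹) * (t * y * t⁻¹) := by rw [htb]
          _ = t * (b⁻¹ * y) * t⁻¹ := by group
          _ = t * (y * b⁻¹) * t⁻¹ := by rw [hby']
          _ = (t * y * t⁻¹) * (t * b⁻¹ * t⁻¹) := by group
          _ = (t * y * t⁻¹) * b := by rw [htb]
      refine ⟨y, hyo, hty, ?_, Or.inl hby⟩
      have hno : ¬ (a * y * a⁻¹ = y ∨ a * y * a⁻¹ = y⁻¹) := by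
        intro h
        have h1 := sq_conj a y h
        rw [← ht] at h1
        have hty' : t * y = y * t := by
          calc t * y = t * y * t⁻¹ * t := by group
            _ = y * t := by rw [h1]
        apply no_cent_E4 F z hz hL₀ y hyo
        intro e he
        have hle := E4_gen F z hz C₀ t b htT hbT (fun h => hbt h.symm)
        have hcen : Subgroup.closure {t, b} ≤ Subgroup.centralizer {y} := by
          rw [Subgroup.closure_le]
          intro k hk
          rw [SetLike.mem_coe, Subgroup.mem_centralizer_iff]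
          intro w hw
          rw [Set.mem_singleton_iff.mp hw]
          rcases hk with rfl | rfl
          · exact hty'.symm
          · exact hby.symm
        exact (Subgroup.mem_centralizer_iff.mp (hcen (hle he))) y rfl
      exact ⟨fun h => hno (Or.inl h), fun h => hno (Or.inr h)⟩
    · push_neg at hB
      have hA : ∀ t' y' : G, orderOf t' = 4 → orderOf y' = 3 → t' * y' ≠ y' * t' :=
        fun t' y' h1 h2 => hB t' y' h1 h2
      obtain ⟨t₁, y₁, ht₁, hy₁, hinv₁⟩ := inv_point F z hz M.hD L₀ hL₀ (M.hnl L₀ hL₀) hA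
      obtain ⟨g, hg⟩ := N1 F z hz M.hD (E4 L₀) hT₀2 (by rw [hT₀card]) hna₀ t₁ t ht₁ hto
      obtain ⟨y, hyd⟩ : ∃ y : G, y = g * y₁ * g⁻¹ := ⟨_, rfl⟩
      have hyo : orderOf y = 3 := by rw [hyd, ord_conj, hy₁]
      have key : (g * t₁ * g⁻¹) * y * (g * t₁ * g⁻¹)⁻¹ = y⁻¹ := by
        rw [hyd]
        calc g * t₁ * g⁻¹ * (g * y₁ * g⁻¹) * (g * t₁ * g⁻¹)⁻¹ = g * (t₁ * y₁ * t₁⁻¹) * g⁻¹ := by
              group
          _ = (g * y₁ * g⁻¹)⁻¹ := by rw [hinv₁]; group
      have htinv : t * y * t⁻¹ = y⁻¹ := by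
        rcases hg with h | h
        · rw [h] at key
          exact key
        · rw [h] at key
          apply inv_of_inv_inv
          simpa using key
      refine ⟨y, hyo, Or.inr htinv, ?_, Or.inr ⟨hA, htinv⟩⟩
      have hno : ¬ (a * y * a⁻¹ = y ∨ a * y * a⁻¹ = y⁻¹) := by
        intro h
        have h1 := sq_conj a y h
        rw [← ht, htinv] at h1
        exact ne_inv_of_three y hyo h1.symm
      exact ⟨fun h => hno (Or.inl h), fun h => hno (Or.inr h)⟩
  obtain ⟨y, hyo, hty, hay, hcase⟩ := hex_y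
  exact nonklein_core F z hz M L₀ hL₀ R₁ hTR a b t y hao ht hainv htT hbT hbo hba hyo hty hay hcase

end nk

end Cfsg.Agent.Helper56.ZG
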