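import Mathlib
import Cfsg.Agent.Lib.Helper56.ZH5

set_option autoImplicit false
set_option linter.unusedSectionVars false
set_option linter.style.haveILetI false
set_option linter.unusedVariables false

/-! Zassenhaus project, part I1: the Klein case: first lemmas. -/

namespace Cfsg.Agent.Helper56.ZG

open Cfsg.Agent.Helper56.ZA Cfsg.Agent.Helper56.ZB Cfsg.Agent.Helper56.ZC Cfsg.Agent.Helper56.ZD
  Cfsg.Agent.Helper56.ZE Cfsg.Agent.Helper56.ZF Cfsg.Agent.Helper56.ZE0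

lemma zpow_pow_comm {G : Type*} [Group G] (a : G) (i : ℤ) (n : ℕ) : (a ^ i) ^ n = (a ^ n) ^ i := by
  rw [← zpow_natCast (a ^ i) n, ← zpow_mul, mul_comm, zpow_mul, zpow_natCast]

/-- the `2`-part and the odd part of an element -/
lemma oddpart {G : Type*} [Group G] [Finite G] (w : G) :
    ∃ w₂ wo : G, (∃ k : ℕ, w₂ ^ (2 ^ k) = 1) ∧ Odd (orderOf wo) ∧ w = w₂ * wo ∧
      w₂ ∈ Subgroup.zpowers w ∧ wo ∈ Subgroup.zpowers w := by
  have ho : orderOf w ≠ 0 := (orderOf_pos w).ne'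
  obtain ⟨e, m, hm, hom⟩ := Nat.exists_eq_pow_mul_and_not_dvd ho 2 (by norm_num)
  have hmodd : Odd m := Nat.odd_iff.mpr (by omega)
  have hgcd : Nat.gcd m (2 ^ e) = 1 := by
    apply Nat.Coprime.pow_right
    exact (Nat.coprime_two_right).mpr hmodd
  have hbez := Nat.gcd_eq_gcd_ab m (2 ^ e)
  rw [hgcd] at hbez
  refine ⟨(w ^ m) ^ (Nat.gcdA m (2 ^ e)), (w ^ (2 ^ e)) ^ (Nat.gcdB m (2 ^ e)), ⟨e, ?_⟩, ?_, ?_, ?_, ?_⟩
  · have h1 : (w ^ m) ^ (2 ^ e) = 1 := by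
      rw [← pow_mul, mul_comm, ← hom, pow_orderOf_eq_one]
    rw [zpow_pow_comm, h1, one_zpow]
  · have h1 : (w ^ (2 ^ e)) ^ m = 1 := by
      rw [← pow_mul, ← hom, pow_orderOf_eq_one]
    have h2 : ((w ^ (2 ^ e)) ^ (Nat.gcdB m (2 ^ e))) ^ m = 1 := by
      rw [zpow_pow_comm, h1, one_zpow]
    have hd := orderOf_dvd_of_pow_eq_one h2
    exact Odd.of_dvd_nat hmodd hd
  · rw [← zpow_natCast, ← zpow_natCast, ← zpow_mul, ← zpow_mul, ← zpow_add, ← hbez]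
    simp
  · exact Subgroup.zpow_mem _ (Subgroup.pow_mem _ (Subgroup.mem_zpowers w) _) _
  · exact Subgroup.zpow_mem _ (Subgroup.pow_mem _ (Subgroup.mem_zpowers w) _) _

section klein

variable {G : Type*} [Group G] [Finite G] (F : FD G) (z : G) (hz : orderOf z = 2)

include F hz

/-- the quaternion group of a line -/
lemma line_Q8 {L : Subgroup G} (C : Cover L A4) (x : G) (hxL : x ∈ L) (hx : orderOf x = 3)
    (t : G) (htL : t ∈ L) (ht : orderOf t = 4) :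
    (∀ w ∈ L, orderOf w = 4 → w = t ∨ w = t⁻¹ ∨ w = x * t * x⁻¹ ∨ w = (x * t * x⁻¹)⁻¹ ∨
      w = x * (x * t * x⁻¹) * x⁻¹ ∨ w = (x * (x * t * x⁻¹) * x⁻¹)⁻¹) ∧
    (∀ u ∈ E4 L, ∀ w ∈ L, orderOf w = 4 → u * w * u⁻¹ = w ∨ u * w * u⁻¹ = w⁻¹) ∧
    (x * t * x⁻¹) * t ≠ t * (x * t * x⁻¹) ∧
    (x * (x * t * x⁻¹) * x⁻¹) * (x * t * x⁻¹) ≠ (x * t * x⁻¹) * (x * (x * t * x⁻¹) * x⁻¹) ∧
    t * (x * (x * t * x⁻¹) * x⁻¹) ≠ (x * (x * t * x⁻¹) * x⁻¹) * t := by
  obtain ⟨hzL, hπz⟩ := line_z F z hz C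
  have hz1 : z ≠ 1 := ne_one_of_order z 2 (by norm_num) hz
  have hsL : x * t * x⁻¹ ∈ L := L.mul_mem (L.mul_mem hxL htL) (L.inv_mem hxL)
  have hso : orderOf (x * t * x⁻¹) = 4 := by rw [ord_conj, ht]
  have hrL : x * (x * t * x⁻¹) * x⁻¹ ∈ L := L.mul_mem (L.mul_mem hxL hsL) (L.inv_mem hxL)
  have hro : orderOf (x * (x * t * x⁻¹) * x⁻¹) = 4 := by rw [ord_conj, hso]
  have hxr : x * (x * (x * t * x⁻¹) * x⁻¹) * x⁻¹ = t := by
    have h3 := cube_of_ord x hx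
    calc x * (x * (x * t * x⁻¹) * x⁻¹) * x⁻¹ = (x * x * x) * t * (x * x * x)⁻¹ := by group
      _ = t := by rw [h3]; group
  obtain ⟨t1, t2⟩ := ord4_map F C z hz ⟨t, htL⟩ ht hzL hπz
  obtain ⟨c1, c3⟩ := ord3_map F C z hz ⟨x, hxL⟩ hx
  have hnc : ∀ (v : G) (hvL : v ∈ L), orderOf v = 4 → (x * v * x⁻¹) * v ≠ v * (x * v * x⁻¹) := by
    intro v hvL hv h
    have hq := line_quat F z hz C x hxL hx v hvL hv
    rw [h] at hq
    apply hz1
    have : z * (v * (x * v * x⁻¹)) * (v * (x * v * x⁻¹))⁻¹ = 1 := by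
      rw [← hq, mul_inv_cancel]
    rw [mul_assoc, mul_inv_cancel, mul_one] at this
    exact this
  refine ⟨?_, ?_, hnc t htL ht, hnc _ hsL hso, ?_⟩
  · intro w hwL hw
    obtain ⟨w1, w2⟩ := ord4_map F C z hz ⟨w, hwL⟩ hw hzL hπz
    have key : ∀ (v : G) (hvL : v ∈ L), orderOf v = 4 → C.π ⟨w, hwL⟩ = C.π ⟨v, hvL⟩ →
        w = v ∨ w = v⁻¹ := by
      intro v hvL hv hπ
      rcases lift_eq F C z hz _ _ hπ with h | h
      · exact Or.inl h
      · right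
        rw [inv_eq_z_mul F z hz v hv]
        exact h
    have e2 : (⟨x * t * x⁻¹, hsL⟩ : L) = ⟨x, hxL⟩ * ⟨t, htL⟩ * ⟨x, hxL⟩⁻¹ := rfl
    have e1 : (⟨x * (x * t * x⁻¹) * x⁻¹, hrL⟩ : L)
        = ⟨x, hxL⟩ * (⟨x, hxL⟩ * ⟨t, htL⟩ * ⟨x, hxL⟩⁻¹) * ⟨x, hxL⟩⁻¹ := rfl
    rcases a4_e _ c1 c3 _ t1 t2 _ w1 w2 with h | h | h
    · rcases key t htL ht h with h' | h'
      · exact Or.inl h'
      · exact Or.inr (Or.inl h')
    · have : C.π ⟨w, hwL⟩ = C.π ⟨x * t * x⁻¹, hsL⟩ := by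
        rw [e2, map_mul, map_mul, map_inv]
        exact h
      rcases key _ hsL hso this with h' | h'
      · exact Or.inr (Or.inr (Or.inl h'))
      · exact Or.inr (Or.inr (Or.inr (Or.inl h')))
    · have : C.π ⟨w, hwL⟩ = C.π ⟨x * (x * t * x⁻¹) * x⁻¹, hrL⟩ := by
        rw [e1]
        simp only [map_mul, map_inv]
        exact h
      rcases key _ hrL hro this with h' | h'
      · exact Or.inr (Or.inr (Or.inr (Or.inr (Or.inl h'))))
      · exact Or.inr (Or.inr (Or.inr (Or.inr (Or.inr h'))))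
  · intro u hu w hwL hw
    obtain ⟨huL, hu4⟩ := (mem_E4 F z hz C u).mp hu
    obtain ⟨w1, w2⟩ := ord4_map F C z hz ⟨w, hwL⟩ hw hzL hπz
    have hu2 : C.π ⟨u, huL⟩ * C.π ⟨u, huL⟩ = 1 := (key4 F z hz C ⟨u, huL⟩).mp hu4
    have hcomm := comm_of_invol _ _ hu2 w2 (a4_v_mul _ hu2 _ w2)
    have hcL : u * w * u⁻¹ ∈ L := L.mul_mem (L.mul_mem huL hwL) (L.inv_mem huL)
    have hπ : C.π ⟨u * w * u⁻¹, hcL⟩ = C.π ⟨w, hwL⟩ := by
      have e : (⟨u * w * u⁻¹, hcL⟩ : L) = ⟨u, huL⟩ * ⟨w, hwL⟩ * ⟨u, huL⟩⁻¹ := rfl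
      rw [e, map_mul, map_mul, map_inv, hcomm]
      group
    rcases lift_eq F C z hz _ _ hπ with h | h
    · exact Or.inl h
    · right
      rw [inv_eq_z_mul F z hz w hw]
      exact h
  · have := hnc _ hrL hro
    rw [hxr] at this
    exact this

/-- **K0** -/
lemma K0 (hK : ∀ P : Subgroup G, IsPGroup 2 P → Nat.card P < 16) (E : Subgroup G)
    (hE : Nat.card E = 8) (g : G) (hg2 : ∃ k : ℕ, g ^ (2 ^ k) = 1)
    (hgE : ∀ e ∈ E, g * e * g⁻¹ ∈ E) : g ∈ E := by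
  haveI : Fact (Nat.Prime 2) := ⟨Nat.prime_two⟩
  have hE2 : IsPGroup 2 E := IsPGroup.of_card (n := 3) (by rw [hE]; norm_num)
  obtain ⟨k, hk⟩ := hg2
  obtain ⟨j, -, hj⟩ := (Nat.dvd_prime_pow Nat.prime_two).mp (orderOf_dvd_of_pow_eq_one hk)
  have hZ2 : IsPGroup 2 (Subgroup.zpowers g) :=
    IsPGroup.of_card (n := j) (by rw [Nat.card_zpowers, hj])
  have hZn : Subgroup.zpowers g ≤ Subgroup.normalizer (E : Set G) := by
    rw [Subgroup.zpowers_le]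
    exact mem_normalizer_of_conj_le E g hgE
  have hR2 : IsPGroup 2 (Subgroup.zpowers g ⊔ E : Subgroup G) := hZ2.to_sup_of_normal_right' hE2 hZn
  have hER : E ≤ Subgroup.zpowers g ⊔ E := le_sup_right
  have hlt := hK _ hR2
  obtain ⟨m, hm⟩ := hR2.exists_card_eq
  have hdvd : 2 ^ 3 ∣ 2 ^ m := by
    rw [← hm]
    have := Subgroup.card_dvd_of_le hER
    rw [hE] at this
    simpa using this
  have hm3 : 3 ≤ m := (Nat.pow_dvd_pow_iff_le_right (by norm_num)).mp hdvd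
  have hm3' : m ≤ 3 := by
    by_contra h
    push_neg at h
    have : 2 ^ 4 ≤ 2 ^ m := Nat.pow_le_pow_right (by norm_num) h
    omega
  have heq : E = Subgroup.zpowers g ⊔ E := by
    apply Subgroup.eq_of_le_of_card_ge hER
    rw [hm, hE, le_antisymm hm3' hm3]
    norm_num
  rw [heq]
  exact (le_sup_left : Subgroup.zpowers g ≤ _) (Subgroup.mem_zpowers g)

/-- **K0'** -/
lemma K0' (hK : ∀ P : Subgroup G, IsPGroup 2 P → Nat.card P < 16) {S : Subgroup G}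
    (C : Cover S A5) (g : G) (hg2 : ∃ k : ℕ, g ^ (2 ^ k) = 1)
    (hgS : ∀ s ∈ S, g * s * g⁻¹ ∈ S) : g ∈ S := by
  haveI : Fact (Nat.Prime 2) := ⟨Nat.prime_two⟩
  obtain ⟨Psy, hPsy⟩ := exists_fixed_sylow 2 S g (mem_normalizer_of_conj_le S g hgS) hg2
  set T : Subgroup G := (Psy : Subgroup S).map S.subtype with hT
  have hTS : T ≤ S := by
    intro w hw
    obtain ⟨s, -, rfl⟩ := hw
    exact s.2
  have hTcard : Nat.card T = 8 := by
    rw [hT, Subgroup.card_map_of_injective S.subtype_injective]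
    exact plane_sylow_card F z hz C Psy
  have hgT : ∀ w ∈ T, g * w * g⁻¹ ∈ T := by
    intro w hw
    obtain ⟨s, hs, rfl⟩ := hw
    obtain ⟨h1, h2⟩ := hPsy s hs
    exact ⟨_, h2, rfl⟩
  exact hTS (K0 F z hz hK T hTcard g hg2 hgT)

/-- a `2`-element centralizing an element of order three is central -/
lemma two_elt_cent (hA : ∀ t y : G, orderOf t = 4 → orderOf y = 3 → t * y ≠ y * t) (w : G)
    (hw2 : ∃ k : ℕ, w ^ (2 ^ k) = 1) (y : G) (hy : orderOf y = 3) (hc : w * y = y * w) :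
    w = 1 ∨ w = z := by
  obtain ⟨k, hk⟩ := hw2
  obtain ⟨j, -, hj⟩ := (Nat.dvd_prime_pow Nat.prime_two).mp (orderOf_dvd_of_pow_eq_one hk)
  rcases Nat.lt_or_ge j 2 with h | h
  · interval_cases j
    · left
      rw [pow_zero, orderOf_eq_one_iff] at hj
      exact hj
    · right
      rw [pow_one] at hj
      exact F.invol_unique w z hj hz
  · exfalso
    have hk0 : 2 ^ (j - 2) ≠ 0 := by positivity
    have hkd : 2 ^ (j - 2) ∣ orderOf w := by
      rw [hj]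
      exact pow_dvd_pow 2 (by omega)
    have hto : orderOf (w ^ (2 ^ (j - 2))) = 4 := by
      rw [orderOf_pow_of_dvd hk0 hkd, hj]
      have : 2 ^ j = 2 ^ (j - 2) * 2 ^ 2 := by
        rw [← pow_add]
        congr 1
        omega
      rw [this, Nat.mul_div_cancel_left _ (by positivity)]
      norm_num
    apply hA _ y hto hy
    have : Commute w y := hc
    exact (this.pow_left _).eq

/-- **K2**: two points normalized by an element of order four span a plane containing it -/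
lemma K2 (hK : ∀ P : Subgroup G, IsPGroup 2 P → Nat.card P < 16) (t : G) (ht : orderOf t = 4)
    (y₁ y₂ : G) (hy₁ : orderOf y₁ = 3) (hy₂ : orderOf y₂ = 3)
    (h1 : t * y₁ * t⁻¹ = y₁ ∨ t * y₁ * t⁻¹ = y₁⁻¹) (h2 : t * y₂ * t⁻¹ = y₂ ∨ t * y₂ * t⁻¹ = y₂⁻¹)
    (hne : y₂ ≠ y₁) (hne' : y₂ ≠ y₁⁻¹) :
    Nonempty (Cover (Subgroup.closure ({y₁, y₂} : Set G)) A5) ∧
      t ∈ Subgroup.closure ({y₁, y₂} : Set G) := by
  set Pl : Subgroup G := Subgroup.closure ({y₁, y₂} : Set G) with hPl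
  have hy₁P : y₁ ∈ Pl := Subgroup.subset_closure (Set.mem_insert _ _)
  have hy₂P : y₂ ∈ Pl := Subgroup.subset_closure (Set.mem_insert_of_mem _ rfl)
  have htP : ∀ pe ∈ Pl, t * pe * t⁻¹ ∈ Pl := by
    intro pe hpe
    induction hpe using Subgroup.closure_induction with
    | mem k hk =>
      rcases hk with rfl | rfl
      · rcases h1 with h | h
        · rw [h]; exact hy₁P
        · rw [h]; exact Pl.inv_mem hy₁P
      · rcases h2 with h | h
        · rw [h]; exact hy₂P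
        · rw [h]; exact Pl.inv_mem hy₂P
    | one => simp
    | mul u v _ _ ihu ihv =>
      have e : t * (u * v) * t⁻¹ = (t * u * t⁻¹) * (t * v * t⁻¹) := by group
      rw [e]
      exact Pl.mul_mem ihu ihv
    | inv u _ ihu =>
      have e : t * u⁻¹ * t⁻¹ = (t * u * t⁻¹)⁻¹ := by group
      rw [e]
      exact Pl.inv_mem ihu
  have ht2 : ∃ k : ℕ, t ^ (2 ^ k) = 1 := ⟨2, by
    have : t ^ 4 = 1 := by rw [← ht]; exact pow_orderOf_eq_one t
    simpa using this⟩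
  rcases pair33 F y₁ y₂ hy₁ hy₂ with h | ⟨⟨C'⟩⟩ | ⟨⟨C''⟩⟩
  · exfalso
    rcases F.comm3 y₁ y₂ hy₁ hy₂ h with h3 | h3
    · exact hne h3
    · exact hne' h3
  · exfalso
    have hE := E4_conj F z hz C' t htP
    have htE := K0 F z hz hK (E4 Pl) (E4_card F z hz C') t ht2 hE
    have hn := line_nn F z hz C' y₁ hy₁P hy₁ t (E4_le Pl htE) ht
    rcases h1 with h | h
    · exact hn.1 h
    · exact hn.2 h
  · exact ⟨⟨C''⟩, K0' F z hz hK C'' t ht2 htP⟩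

end klein

end Cfsg.Agent.Helper56.ZG
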