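import Mathlib
import Cfsg.Agent.Lib.Helper56.ZI1

set_option autoImplicit false
set_option linter.unusedSectionVars false
set_option linter.style.haveILetI false
set_option linter.unusedVariables false
set_option maxHeartbeats 1000000

/-! Zassenhaus project, part I2: the Klein case: the normalizer of the `E4` of a line. -/

namespace Cfsg.Agent.Helper56.ZG

open Cfsg.Agent.Helper56.ZA Cfsg.Agent.Helper56.ZB Cfsg.Agent.Helper56.ZC Cfsg.Agent.Helper56.ZD
  Cfsg.Agent.Helper56.ZE Cfsg.Agent.Helper56.ZF Cfsg.Agent.Helper56.ZE0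

lemma conj_comm_back {G : Type*} [Group G] (g a b : G)
    (h : (g * a * g⁻¹) * (g * b * g⁻¹) = (g * b * g⁻¹) * (g * a * g⁻¹)) : a * b = b * a := by
  have h1 : g * (a * b) * g⁻¹ = g * (b * a) * g⁻¹ := by
    calc g * (a * b) * g⁻¹ = (g * a * g⁻¹) * (g * b * g⁻¹) := by group
      _ = (g * b * g⁻¹) * (g * a * g⁻¹) := h
      _ = g * (b * a) * g⁻¹ := by group
  have h2 : g⁻¹ * (g * (a * b) * g⁻¹) * g = g⁻¹ * (g * (b * a) * g⁻¹) * g := by rw [h1]
  simpa [mul_assoc] using h2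

lemma pm_comm {G : Type*} [Group G] (u w v : G) (hu : u = v ∨ u = v⁻¹) (hw : w = v ∨ w = v⁻¹) :
    u * w = w * u := by
  rcases hu with rfl | rfl <;> rcases hw with rfl | rfl <;> group

lemma conj_pm {G : Type*} [Group G] (g a b : G) (h : g * a * g⁻¹ = b ∨ g * a * g⁻¹ = b⁻¹) :
    (g * a⁻¹ * g⁻¹ = b ∨ g * a⁻¹ * g⁻¹ = b⁻¹) := by
  have e : g * a⁻¹ * g⁻¹ = (g * a * g⁻¹)⁻¹ := by group
  rw [e]
  rcases h with h | h
  · right; rw [h]
  · left; rw [h, inv_inv]

section klein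

variable {G : Type*} [Group G] [Finite G] (F : FD G) (z : G) (hz : orderOf z = 2)

include F hz

/-- **NE'**: in the Klein case the normalizer of `E4 L` is `L C(L)` -/
theorem NE' (hK : ∀ P : Subgroup G, IsPGroup 2 P → Nat.card P < 16) {L : Subgroup G}
    (hL : IsLine L) (g : G) (hg : ∀ e ∈ E4 L, g * e * g⁻¹ ∈ E4 L) :
    ∃ l ∈ L, ∃ c : G, (∀ e ∈ E4 L, c * e = e * c) ∧ g = l * c := by
  obtain ⟨⟨x, y₀, hx, hy₀, hLeq⟩, ⟨C⟩⟩ := id hL
  have hxL : x ∈ L := by rw [hLeq]; exact Subgroup.subset_closure (Set.mem_insert _ _)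
  obtain ⟨t, htL, ht⟩ := line_exists_t F z hz C
  obtain ⟨q1, q3, n_st, n_rs, n_tr⟩ := line_Q8 F z hz C x hxL hx t htL ht
  obtain ⟨s, hs⟩ : ∃ s : G, s = x * t * x⁻¹ := ⟨_, rfl⟩
  rw [← hs] at q1 n_st n_rs n_tr
  obtain ⟨r, hr⟩ : ∃ r : G, r = x * s * x⁻¹ := ⟨_, rfl⟩
  rw [← hr] at q1 n_rs n_tr
  have hsL : s ∈ L := by rw [hs]; exact L.mul_mem (L.mul_mem hxL htL) (L.inv_mem hxL)
  have hso : orderOf s = 4 := by rw [hs, ord_conj, ht]
  have hrL : r ∈ L := by rw [hr]; exact L.mul_mem (L.mul_mem hxL hsL) (L.inv_mem hxL)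
  have hro : orderOf r = 4 := by rw [hr, ord_conj, hso]
  have htT : t ∈ E4 L := ord4_mem_E4 F z hz t htL ht
  have hsT : s ∈ E4 L := ord4_mem_E4 F z hz s hsL hso
  have hrT : r ∈ E4 L := ord4_mem_E4 F z hz r hrL hro
  have hTL := E4_le L
  -- conjugates of elements of order four of `E4 L`
  have six : ∀ (h : G), (∀ e ∈ E4 L, h * e * h⁻¹ ∈ E4 L) → ∀ v ∈ E4 L, orderOf v = 4 →
      (h * v * h⁻¹ = t ∨ h * v * h⁻¹ = t⁻¹) ∨ (h * v * h⁻¹ = s ∨ h * v * h⁻¹ = s⁻¹) ∨
        (h * v * h⁻¹ = r ∨ h * v * h⁻¹ = r⁻¹) := by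
    intro h hh v hv hvo
    have := q1 _ (hTL (hh v hv)) (by rw [ord_conj, hvo])
    tauto
  have hsts : s * t * s⁻¹ = t⁻¹ := by
    rcases q3 s hsT t htL ht with h | h
    · exfalso
      apply n_st
      calc s * t = s * t * s⁻¹ * s := by group
        _ = t * s := by rw [h]
    · exact h
  have htst : t * s * t⁻¹ = s⁻¹ := by
    rcases q3 t htT s hsL hso with h | h
    · exfalso
      apply n_st
      calc s * t = (t * s * t⁻¹) * t := by rw [h]
        _ = t * s := by group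
    · exact h
  -- Step 1
  have step1 : ∃ l₁ ∈ L, (l₁⁻¹ * g) * t * (l₁⁻¹ * g)⁻¹ = t ∨ (l₁⁻¹ * g) * t * (l₁⁻¹ * g)⁻¹ = t⁻¹ := by
    rcases six g hg t htT ht with h | h | h
    · refine ⟨1, L.one_mem, ?_⟩
      simpa using h
    · refine ⟨x, hxL, ?_⟩
      have e : (x⁻¹ * g) * t * (x⁻¹ * g)⁻¹ = x⁻¹ * (g * t * g⁻¹) * x := by group
      rw [e]
      rcases h with h | h
      · left
        rw [h, hs]
        group
      · right
        rw [h, hs]
        group
    · refine ⟨x * x, L.mul_mem hxL hxL, ?_⟩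
      have e : ((x * x)⁻¹ * g) * t * ((x * x)⁻¹ * g)⁻¹
          = x⁻¹ * (x⁻¹ * (g * t * g⁻¹) * x) * x := by
        simp only [mul_inv_rev, inv_inv, mul_assoc]
      rw [e]
      rcases h with h | h
      · left
        rw [h, hr, hs]
        simp only [mul_assoc, inv_mul_cancel_left, inv_mul_cancel, mul_one]
      · right
        rw [h, hr, hs]
        simp only [mul_inv_rev, inv_inv, mul_assoc, inv_mul_cancel_left, inv_mul_cancel, mul_one]
  obtain ⟨l₁, hl₁L, hg₁t⟩ := step1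
  obtain ⟨g₁, hg₁⟩ : ∃ g₁ : G, g₁ = l₁⁻¹ * g := ⟨_, rfl⟩
  rw [← hg₁] at hg₁t
  have hg₁T : ∀ e ∈ E4 L, g₁ * e * g₁⁻¹ ∈ E4 L := by
    intro e he
    have h1 := E4_conj F z hz C l₁⁻¹ (fun l hl => L.mul_mem (L.mul_mem (L.inv_mem hl₁L) hl)
      (L.inv_mem (L.inv_mem hl₁L))) _ (hg e he)
    have e1 : g₁ * e * g₁⁻¹ = l₁⁻¹ * (g * e * g⁻¹) * l₁⁻¹⁻¹ := by
      rw [hg₁]
      group
    rw [e1]
    exact h1
  -- Step 2
  rcases six g₁ hg₁T s hsT hso with h | h | h
  · exfalso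
    apply n_st
    apply conj_comm_back g₁
    exact pm_comm _ _ t h hg₁t
  · -- the good case
    obtain ⟨e₁, he₁T, hg₂t, hg₂s⟩ : ∃ e₁ ∈ E4 L, (e₁⁻¹ * g₁) * t * (e₁⁻¹ * g₁)⁻¹ = t ∧
        ((e₁⁻¹ * g₁) * s * (e₁⁻¹ * g₁)⁻¹ = s ∨ (e₁⁻¹ * g₁) * s * (e₁⁻¹ * g₁)⁻¹ = s⁻¹) := by
      rcases hg₁t with h1 | h1
      · exact ⟨1, (E4 L).one_mem, by simpa using h1, by simpa using h⟩
      · refine ⟨s, hsT, ?_, ?_⟩
        · have e : (s⁻¹ * g₁) * t * (s⁻¹ * g₁)⁻¹ = s⁻¹ * (g₁ * t * g₁⁻¹) * s := by group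
          rw [e, h1]
          calc s⁻¹ * t⁻¹ * s = s⁻¹ * (s * t * s⁻¹) * s := by rw [hsts]
            _ = t := by group
        · have e : (s⁻¹ * g₁) * s * (s⁻¹ * g₁)⁻¹ = s⁻¹ * (g₁ * s * g₁⁻¹) * s := by group
          rw [e]
          rcases h with h | h
          · left; rw [h]; group
          · right; rw [h]; group
    obtain ⟨g₂, hg₂⟩ : ∃ g₂ : G, g₂ = e₁⁻¹ * g₁ := ⟨_, rfl⟩
    rw [← hg₂] at hg₂t hg₂s
    obtain ⟨e₂, he₂T, hg₃t, hg₃s⟩ : ∃ e₂ ∈ E4 L, (e₂⁻¹ * g₂) * t * (e₂⁻¹ * g₂)⁻¹ = t ∧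
        (e₂⁻¹ * g₂) * s * (e₂⁻¹ * g₂)⁻¹ = s := by
      rcases hg₂s with h1 | h1
      · exact ⟨1, (E4 L).one_mem, by simpa using hg₂t, by simpa using h1⟩
      · refine ⟨t, htT, ?_, ?_⟩
        · have e : (t⁻¹ * g₂) * t * (t⁻¹ * g₂)⁻¹ = t⁻¹ * (g₂ * t * g₂⁻¹) * t := by group
          rw [e, hg₂t]
          group
        · have e : (t⁻¹ * g₂) * s * (t⁻¹ * g₂)⁻¹ = t⁻¹ * (g₂ * s * g₂⁻¹) * t := by group
          rw [e, h1]
          calc t⁻¹ * s⁻¹ * t = t⁻¹ * (t * s * t⁻¹) * t := by rw [htst]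
            _ = s := by group
    obtain ⟨c, hc⟩ : ∃ c : G, c = e₂⁻¹ * g₂ := ⟨_, rfl⟩
    rw [← hc] at hg₃t hg₃s
    refine ⟨l₁ * e₁ * e₂, L.mul_mem (L.mul_mem hl₁L (hTL he₁T)) (hTL he₂T), c, ?_, ?_⟩
    · have hct : c * t = t * c := by
        calc c * t = c * t * c⁻¹ * c := by group
          _ = t * c := by rw [hg₃t]
      have hcs : c * s = s * c := by
        calc c * s = c * s * c⁻¹ * c := by group
          _ = s * c := by rw [hg₃s]
      have hle := E4_gen F z hz C t s htT hsT (fun h => n_st h.symm)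
      have hcen : Subgroup.closure {t, s} ≤ Subgroup.centralizer {c} := by
        rw [Subgroup.closure_le]
        intro k hk
        rw [SetLike.mem_coe, Subgroup.mem_centralizer_iff]
        intro w hw
        rw [Set.mem_singleton_iff.mp hw]
        rcases hk with rfl | rfl
        · exact hct
        · exact hcs
      intro e he
      exact (Subgroup.mem_centralizer_iff.mp (hcen (hle he))) c rfl
    · rw [hc, hg₂, hg₁]
      group
  · -- the bad case
    exfalso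
    have hg₁r : g₁ * r * g₁⁻¹ = s ∨ g₁ * r * g₁⁻¹ = s⁻¹ := by
      rcases six g₁ hg₁T r hrT hro with h' | h' | h'
      · exfalso
        apply n_tr
        apply conj_comm_back g₁
        exact pm_comm _ _ t hg₁t h'
      · exact h'
      · exfalso
        apply n_rs
        apply conj_comm_back g₁
        exact pm_comm _ _ r h' h
    have par : ∀ k : ℕ, (Even k → (g₁ ^ k * s * (g₁ ^ k)⁻¹ = s ∨ g₁ ^ k * s * (g₁ ^ k)⁻¹ = s⁻¹)) ∧
        (¬ Even k → (g₁ ^ k * s * (g₁ ^ k)⁻¹ = r ∨ g₁ ^ k * s * (g₁ ^ k)⁻¹ = r⁻¹)) := by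
      intro k
      induction k with
      | zero =>
        refine ⟨fun _ => Or.inl (by simp), fun h => absurd (by decide : Even 0) h⟩
      | succ k ih =>
        have e1 : g₁ ^ (k + 1) * s * (g₁ ^ (k + 1))⁻¹ = g₁ * (g₁ ^ k * s * (g₁ ^ k)⁻¹) * g₁⁻¹ := by
          rw [pow_succ']
          group
        rw [e1]
        constructor
        · intro hev
          have hk : ¬ Even k := by
            intro h'
            rw [Nat.even_add_one] at hev
            exact hev h'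
          rcases ih.2 hk with h' | h'
          · rw [h']
            exact hg₁r
          · rw [h']
            exact conj_pm g₁ r s hg₁r
        · intro hev
          have hk : Even k := by
            by_contra h'
            apply hev
            rw [Nat.even_add_one]
            exact h'
          rcases ih.1 hk with h' | h'
          · rw [h']
            exact h
          · rw [h']
            exact conj_pm g₁ s r h
    have ho : orderOf g₁ ≠ 0 := (orderOf_pos g₁).ne'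
    obtain ⟨e, m, hm, hom⟩ := Nat.exists_eq_pow_mul_and_not_dvd ho 2 (by norm_num)
    have hmodd : ¬ Even m := fun h => hm (even_iff_two_dvd.mp h)
    have hu2 : ∃ k : ℕ, (g₁ ^ m) ^ (2 ^ k) = 1 := ⟨e, by
      rw [← pow_mul, mul_comm, ← hom, pow_orderOf_eq_one]⟩
    have hg₁N : g₁ ∈ Subgroup.normalizer ((E4 L : Subgroup G) : Set G) :=
      mem_normalizer_of_conj_le (E4 L) g₁ hg₁T
    have huN : g₁ ^ m ∈ Subgroup.normalizer ((E4 L : Subgroup G) : Set G) :=
      Subgroup.pow_mem _ hg₁N m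
    have huT := K0 F z hz hK (E4 L) (E4_card F z hz C) (g₁ ^ m) hu2
      (conj_mem_of_mem_normalizer _ _ huN)
    have h1 := q3 _ huT s hsL hso
    have h2 := (par m).2 hmodd
    apply n_rs
    have : r = s ∨ r = s⁻¹ := by
      rcases h2 with h2 | h2
      · rw [← h2]
        exact h1
      · have e : r = (g₁ ^ m * s * (g₁ ^ m)⁻¹)⁻¹ := by rw [h2, inv_inv]
        rw [e]
        rcases h1 with h1 | h1
        · right; rw [h1]
        · left; rw [h1, inv_inv]
    exact pm_comm _ _ s this (Or.inl rfl)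

end klein

end Cfsg.Agent.Helper56.ZG
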