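import Mathlib
import Cfsg.Agent.Lib.Helper56.ZI2

set_option autoImplicit false
set_option linter.unusedSectionVars false
set_option linter.style.haveILetI false
set_option linter.unusedVariables false
set_option maxHeartbeats 1000000

/-! Zassenhaus project, part I3: the Klein case: centralizers of elements of order four. -/

namespace Cfsg.Agent.Helper56.ZG

open Cfsg.Agent.Helper56.ZA Cfsg.Agent.Helper56.ZB Cfsg.Agent.Helper56.ZC Cfsg.Agent.Helper56.ZD
  Cfsg.Agent.Helper56.ZE Cfsg.Agent.Helper56.ZF Cfsg.Agent.Helper56.ZE0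

lemma nz_pow {G : Type*} [Group G] (g y : G) (h : g * y * g⁻¹ = y ∨ g * y * g⁻¹ = y⁻¹) (k : ℕ) :
    g ^ k * y * (g ^ k)⁻¹ = y ∨ g ^ k * y * (g ^ k)⁻¹ = y⁻¹ := by
  induction k with
  | zero => left; simp
  | succ k ih =>
    have e1 : g ^ (k + 1) * y * (g ^ (k + 1))⁻¹ = g * (g ^ k * y * (g ^ k)⁻¹) * g⁻¹ := by
      rw [pow_succ']
      group
    rw [e1]
    rcases ih with h' | h'
    · rw [h']
      exact h
    · rw [h']
      have := conj_pm g y y h
      tauto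

lemma comm_of_conj_eq {G : Type*} [Group G] (g y : G) (h : g * y * g⁻¹ = y) : g * y = y * g := by
  calc g * y = g * y * g⁻¹ * g := by group
    _ = y * g := by rw [h]

section klein

variable {G : Type*} [Group G] [Finite G] (F : FD G) (z : G) (hz : orderOf z = 2)

include F hz

/-- in the Klein case no element of order four centralizes an element of order three -/
theorem kA (M : MC F) (hK : ∀ P : Subgroup G, IsPGroup 2 P → Nat.card P < 16)
    (L₀ : Subgroup G) (hL₀ : IsLine L₀) :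
    ∀ t y : G, orderOf t = 4 → orderOf y = 3 → t * y ≠ y * t := by
  intro t₁ y₁ ht₁ hy₁ hc₁
  haveI : Fact (Nat.Prime 2) := ⟨Nat.prime_two⟩
  obtain ⟨⟨x, y₀, hx, hy₀, hLeq⟩, ⟨C⟩⟩ := id hL₀
  have hxL : x ∈ L₀ := by rw [hLeq]; exact Subgroup.subset_closure (Set.mem_insert _ _)
  obtain ⟨t, htL, ht⟩ := line_exists_t F z hz C
  have hT₀card : Nat.card (E4 L₀) = 8 := E4_card F z hz C
  have hT₀2 : IsPGroup 2 (E4 L₀) := IsPGroup.of_card (n := 3) (by rw [hT₀card]; norm_num)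
  have hna₀ := E4_nonabelian F z hz hL₀
  obtain ⟨g, hg⟩ := N1 F z hz M.hD (E4 L₀) hT₀2 (by rw [hT₀card]) hna₀ t₁ t ht₁ ht
  obtain ⟨y, hyd⟩ : ∃ y : G, y = g * y₁ * g⁻¹ := ⟨_, rfl⟩
  have hyo : orderOf y = 3 := by rw [hyd, ord_conj, hy₁]
  have hty : t * y = y * t := by
    have key : (g * t₁ * g⁻¹) * y = y * (g * t₁ * g⁻¹) := by
      rw [hyd]
      calc g * t₁ * g⁻¹ * (g * y₁ * g⁻¹) = g * (t₁ * y₁) * g⁻¹ := by group
        _ = g * (y₁ * t₁) * g⁻¹ := by rw [hc₁]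
        _ = g * y₁ * g⁻¹ * (g * t₁ * g⁻¹) := by group
    rcases hg with h | h
    · rw [h] at key
      exact key
    · rw [h] at key
      calc t * y = t * (y * t⁻¹) * t := by group
        _ = t * (t⁻¹ * y) * t := by rw [key]
        _ = y * t := by group
  obtain ⟨q1, q3, n_st, -, -⟩ := line_Q8 F z hz C x hxL hx t htL ht
  obtain ⟨s, hs⟩ : ∃ s : G, s = x * t * x⁻¹ := ⟨_, rfl⟩
  rw [← hs] at n_st
  have hsL : s ∈ L₀ := by rw [hs]; exact L₀.mul_mem (L₀.mul_mem hxL htL) (L₀.inv_mem hxL)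
  have hso : orderOf s = 4 := by rw [hs, ord_conj, ht]
  have htT : t ∈ E4 L₀ := ord4_mem_E4 F z hz t htL ht
  have hsT : s ∈ E4 L₀ := ord4_mem_E4 F z hz s hsL hso
  have htst : t * s * t⁻¹ = s⁻¹ := by
    rcases q3 t htT s hsL hso with h | h
    · exfalso
      apply n_st
      calc s * t = (t * s * t⁻¹) * t := by rw [h]
        _ = t * s := by group
    · exact h
  obtain ⟨ys, hys⟩ : ∃ ys : G, ys = x * y * x⁻¹ := ⟨_, rfl⟩
  have hyso : orderOf ys = 3 := by rw [hys, ord_conj, hyo]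
  have hsys : s * ys = ys * s := by
    rw [hs, hys]
    calc x * t * x⁻¹ * (x * y * x⁻¹) = x * (t * y) * x⁻¹ := by group
      _ = x * (y * t) * x⁻¹ := by rw [hty]
      _ = x * y * x⁻¹ * (x * t * x⁻¹) := by group
  have hsys' : s⁻¹ * ys = ys * s⁻¹ := by
    calc s⁻¹ * ys = s⁻¹ * (ys * s) * s⁻¹ := by group
      _ = s⁻¹ * (s * ys) * s⁻¹ := by rw [hsys]
      _ = ys * s⁻¹ := by group
  have hts' : t * s⁻¹ * t⁻¹ = s := by
    calc t * s⁻¹ * t⁻¹ = (t * s * t⁻¹)⁻¹ := by group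
      _ = s := by rw [htst, inv_inv]
  have htys : t * ys * t⁻¹ = ys ∨ t * ys * t⁻¹ = ys⁻¹ := by
    apply cent_at_most_one F z hz s hso ys (t * ys * t⁻¹) hyso (by rw [ord_conj, hyso]) hsys
    calc s * (t * ys * t⁻¹) = (t * s⁻¹ * t⁻¹) * (t * ys * t⁻¹) := by rw [hts']
      _ = t * (s⁻¹ * ys) * t⁻¹ := by group
      _ = t * (ys * s⁻¹) * t⁻¹ := by rw [hsys']
      _ = (t * ys * t⁻¹) * (t * s⁻¹ * t⁻¹) := by group
      _ = (t * ys * t⁻¹) * s := by rw [hts']
  have hne : ¬ (ys = y ∨ ys = y⁻¹) := by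
    intro h
    have hsy : s * y = y * s := by
      rcases h with h | h
      · rw [← h]
        exact hsys
      · have : y = ys⁻¹ := by rw [h, inv_inv]
        rw [this]
        calc s * ys⁻¹ = ys⁻¹ * (ys * s) * ys⁻¹ := by group
          _ = ys⁻¹ * (s * ys) * ys⁻¹ := by rw [hsys]
          _ = ys⁻¹ * s := by group
    apply no_cent_E4 F z hz hL₀ y hyo
    intro e he
    have hle := E4_gen F z hz C t s htT hsT (fun h => n_st h.symm)
    have hcen : Subgroup.closure {t, s} ≤ Subgroup.centralizer {y} := by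
      rw [Subgroup.closure_le]
      intro k hk
      rw [SetLike.mem_coe, Subgroup.mem_centralizer_iff]
      intro w hw
      rw [Set.mem_singleton_iff.mp hw]
      rcases hk with rfl | rfl
      · exact hty.symm
      · exact hsy.symm
    exact (Subgroup.mem_centralizer_iff.mp (hcen (hle he))) y rfl
  have h1 : t * y * t⁻¹ = y := by
    rw [hty]
    group
  obtain ⟨⟨C''⟩, htP⟩ := K2 F z hz hK t ht y ys hyo hyso (Or.inl h1) htys
    (fun h => hne (Or.inl h)) (fun h => hne (Or.inr h))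
  have hyP : y ∈ Subgroup.closure ({y, ys} : Set G) := Subgroup.subset_closure (Set.mem_insert _ _)
  exact plane_nc F z hz C'' t htP ht y hyP hyo h1

/-- every element of order four inverts an element of order three -/
theorem inv_t (M : MC F) (L₀ : Subgroup G) (hL₀ : IsLine L₀)
    (hA : ∀ t y : G, orderOf t = 4 → orderOf y = 3 → t * y ≠ y * t) (t : G) (ht : orderOf t = 4) :
    ∃ y : G, orderOf y = 3 ∧ t * y * t⁻¹ = y⁻¹ := by
  haveI : Fact (Nat.Prime 2) := ⟨Nat.prime_two⟩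
  obtain ⟨-, ⟨C⟩⟩ := id hL₀
  have hT₀card : Nat.card (E4 L₀) = 8 := E4_card F z hz C
  have hT₀2 : IsPGroup 2 (E4 L₀) := IsPGroup.of_card (n := 3) (by rw [hT₀card]; norm_num)
  have hna₀ := E4_nonabelian F z hz hL₀
  obtain ⟨t₁, y₁, ht₁, hy₁, hinv₁⟩ := inv_point F z hz M.hD L₀ hL₀ (M.hnl L₀ hL₀) hA
  obtain ⟨g, hg⟩ := N1 F z hz M.hD (E4 L₀) hT₀2 (by rw [hT₀card]) hna₀ t₁ t ht₁ ht
  obtain ⟨y, hyd⟩ : ∃ y : G, y = g * y₁ * g⁻¹ := ⟨_, rfl⟩
  have hyo : orderOf y = 3 := by rw [hyd, ord_conj, hy₁]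
  have key : (g * t₁ * g⁻¹) * y * (g * t₁ * g⁻¹)⁻¹ = y⁻¹ := by
    rw [hyd]
    calc g * t₁ * g⁻¹ * (g * y₁ * g⁻¹) * (g * t₁ * g⁻¹)⁻¹ = g * (t₁ * y₁ * t₁⁻¹) * g⁻¹ := by
          group
      _ = (g * y₁ * g⁻¹)⁻¹ := by rw [hinv₁]; group
  refine ⟨y, hyo, ?_⟩
  rcases hg with h | h
  · rw [h] at key
    exact key
  · rw [h] at key
    apply inv_of_inv_inv
    simpa using key

/-- the centralizer of an element of order four normalizes the points it inverts -/
theorem Cfix (hK : ∀ P : Subgroup G, IsPGroup 2 P → Nat.card P < 16)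
    (hA : ∀ t y : G, orderOf t = 4 → orderOf y = 3 → t * y ≠ y * t) (t : G) (ht : orderOf t = 4)
    (y : G) (hy : orderOf y = 3) (hty : t * y * t⁻¹ = y⁻¹) (c : G) (hc : c * t = t * c) :
    c * y * c⁻¹ = y ∨ c * y * c⁻¹ = y⁻¹ := by
  by_contra hcon
  push_neg at hcon
  obtain ⟨hne1, hne2⟩ := hcon
  have hz1 : z ≠ 1 := ne_one_of_order z 2 (by norm_num) hz
  have htt : t * t = z := F.sq_eq_invol t z ht hz
  have htne : t ≠ t⁻¹ := by
    intro h
    apply hz1
    rw [← htt]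
    nth_rewrite 2 [h]
    exact mul_inv_cancel t
  obtain ⟨y₂, hy₂⟩ : ∃ y₂ : G, y₂ = c * y * c⁻¹ := ⟨_, rfl⟩
  have hy₂o : orderOf y₂ = 3 := by rw [hy₂, ord_conj, hy]
  have hty₂ : t * y₂ * t⁻¹ = y₂⁻¹ := by
    rw [hy₂]
    calc t * (c * y * c⁻¹) * t⁻¹ = (t * c) * y * (t * c)⁻¹ := by group
      _ = (c * t) * y * (c * t)⁻¹ := by rw [hc]
      _ = c * (t * y * t⁻¹) * c⁻¹ := by group
      _ = (c * y * c⁻¹)⁻¹ := by rw [hty]; group
  obtain ⟨⟨C''⟩, htS⟩ := K2 F z hz hK t ht y y₂ hy hy₂o (Or.inr hty) (Or.inr hty₂)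
    (fun h => hne1 (hy₂ ▸ h)) (fun h => hne2 (hy₂ ▸ h))
  have hyS : y ∈ Subgroup.closure ({y, y₂} : Set G) := Subgroup.subset_closure (Set.mem_insert _ _)
  have hy₂S : y₂ ∈ Subgroup.closure ({y, y₂} : Set G) :=
    Subgroup.subset_closure (Set.mem_insert_of_mem _ rfl)
  obtain ⟨s, hsS, hso, hsts⟩ := plane_exists_inv F z hz C'' t htS ht
  have hsw := plane_swap F z hz C'' t htS ht y₂ y hy₂S hyS hy₂o hy (Or.inr hty₂) (Or.inr hty)
    (fun h => hne1 (by rw [← hy₂, ← h])) (fun h => hne2 (by rw [← hy₂, h, inv_inv])) s hsS hsts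
  -- `o = s c` normalizes `y` and inverts `t`
  have hoy : (s * c) * y * (s * c)⁻¹ = y ∨ (s * c) * y * (s * c)⁻¹ = y⁻¹ := by
    have e : (s * c) * y * (s * c)⁻¹ = s * (c * y * c⁻¹) * s⁻¹ := by group
    rw [e, ← hy₂]
    exact hsw
  have hot : (s * c) * t * (s * c)⁻¹ = t⁻¹ := by
    calc (s * c) * t * (s * c)⁻¹ = s * (c * t) * c⁻¹ * s⁻¹ := by group
      _ = s * (t * c) * c⁻¹ * s⁻¹ := by rw [hc]
      _ = s * t * s⁻¹ := by group
      _ = t⁻¹ := hsts
  have ho : orderOf (s * c) ≠ 0 := (orderOf_pos _).ne'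
  obtain ⟨e, m, hm, hom⟩ := Nat.exists_eq_pow_mul_and_not_dvd ho 2 (by norm_num)
  have hmodd : ¬ Even m := fun h => hm (even_iff_two_dvd.mp h)
  obtain ⟨u, hu⟩ : ∃ u : G, u = (s * c) ^ m := ⟨_, rfl⟩
  have hu2 : u ^ (2 ^ e) = 1 := by
    rw [hu, ← pow_mul, mul_comm, ← hom, pow_orderOf_eq_one]
  have hut : u * t * u⁻¹ = t⁻¹ := by
    rw [hu, conj_pow_parity (s * c) t hot m, if_neg hmodd]
  have huy : u * y * u⁻¹ = y ∨ u * y * u⁻¹ = y⁻¹ := by
    rw [hu]
    exact nz_pow (s * c) y hoy m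
  have hcentral : ∀ w : G, (w = 1 ∨ w = z) → w * t * w⁻¹ = t := by
    intro w hw
    rcases hw with h | h
    · rw [h]
      simp
    · rw [h, ← F.invol_comm z hz t]
      group
  rcases huy with h | h
  · have := two_elt_cent F z hz hA u ⟨e, hu2⟩ y hy (comm_of_conj_eq u y h)
    have h2 := hcentral u this
    rw [hut] at h2
    exact htne h2.symm
  · -- `w = t u` centralizes `y`
    have hwy : (t * u) * y * (t * u)⁻¹ = y := by
      calc (t * u) * y * (t * u)⁻¹ = t * (u * y * u⁻¹) * t⁻¹ := by group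
        _ = (t * y * t⁻¹)⁻¹ := by rw [h]; group
        _ = y := by rw [hty, inv_inv]
    have hww : (t * u) * (t * u) = u * u := by
      calc (t * u) * (t * u) = t * (u * t * u⁻¹) * u * u := by group
        _ = u * u := by rw [hut]; group
    have hw2 : (t * u) ^ (2 ^ (e + 1)) = 1 := by
      rw [pow_succ, mul_comm, pow_mul, pow_two, hww, ← pow_two, ← pow_mul, mul_comm, pow_mul, hu2,
        one_pow]
    have := two_elt_cent F z hz hA (t * u) ⟨e + 1, hw2⟩ y hy (comm_of_conj_eq _ y hwy)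
    have hucomm : u * t * u⁻¹ = t := by
      have h3 := hcentral (t * u) this
      calc u * t * u⁻¹ = t⁻¹ * ((t * u) * t * (t * u)⁻¹) * t := by group
        _ = t := by rw [h3]; group
    rw [hut] at hucomm
    exact htne hucomm.symm

end klein

end Cfsg.Agent.Helper56.ZG
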