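import Mathlib
import Cfsg.Agent.Lib.Helper56.ZI3

set_option autoImplicit false
set_option linter.unusedSectionVars false
set_option linter.style.haveILetI false
set_option linter.unusedVariables false
set_option maxHeartbeats 1000000

/-! Zassenhaus project, part I4: the Klein case: no element of prime order at least five
centralizes a line. -/

namespace Cfsg.Agent.Helper56.ZG

open Cfsg.Agent.Helper56.ZA Cfsg.Agent.Helper56.ZB Cfsg.Agent.Helper56.ZC Cfsg.Agent.Helper56.ZD
  Cfsg.Agent.Helper56.ZE Cfsg.Agent.Helper56.ZF Cfsg.Agent.Helper56.ZE0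

lemma conj_eq_of_comm_zpowers {G : Type*} [Group G] (k u v : G) (hk : k * u = u * k)
    (hv : v ∈ Subgroup.zpowers u) : k * v * k⁻¹ = v := by
  obtain ⟨i, rfl⟩ := Subgroup.mem_zpowers_iff.mp hv
  have : Commute k u := hk
  have h2 : k * u ^ i = u ^ i * k := (this.zpow_right i).eq
  rw [h2]
  group

section klein

variable {G : Type*} [Group G] [Finite G] (F : FD G) (z : G) (hz : orderOf z = 2)

include F hz

theorem K4 (M : MC F) (hK : ∀ P : Subgroup G, IsPGroup 2 P → Nat.card P < 16)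
    (hA : ∀ t y : G, orderOf t = 4 → orderOf y = 3 → t * y ≠ y * t) :
    ∀ p : ℕ, p.Prime → 5 ≤ p → ∀ (u : G) (L : Subgroup G), orderOf u = p → IsLine L →
      (∀ l ∈ L, u * l = l * u) → False := by
  intro p
  induction p using Nat.strong_induction_on with
  | _ p ih =>
  intro hpp hp5 u L hu hL hcl
  haveI : Fact p.Prime := ⟨hpp⟩
  have hcyc : ∀ P : Sylow p G, IsCyclic P := fun P => F.odd_sub p (by omega) P P.2
  obtain ⟨g, hgz, hgne⟩ := BT M.hD p (by omega) hcyc u hu
  obtain ⟨⟨x, y₀, hx, hy₀, hLeq⟩, ⟨CL⟩⟩ := id hL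
  have hxL : x ∈ L := by rw [hLeq]; exact Subgroup.subset_closure (Set.mem_insert _ _)
  set H : Subgroup G := Subgroup.centralizer {u} with hH
  have hmemH : ∀ k : G, k ∈ H ↔ u * k = k * u := by
    intro k
    rw [hH, Subgroup.mem_centralizer_iff]
    constructor
    · intro h
      exact h u rfl
    · intro h w hw
      rw [Set.mem_singleton_iff.mp hw]
      exact h
  have hLH : L ≤ H := fun l hl => (hmemH l).mpr (hcl l hl)
  have hHtop : H ≠ ⊤ := by
    intro h
    have : g ∈ H := h ▸ Subgroup.mem_top g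
    apply hgne
    rw [← (hmemH g).mp this]
    group
  -- `g` normalizes `H`
  have hgZ : ∀ w ∈ Subgroup.zpowers u, g * w * g⁻¹ ∈ Subgroup.zpowers u := by
    intro w hw
    obtain ⟨i, rfl⟩ := Subgroup.mem_zpowers_iff.mp hw
    rw [← conj_zpow]
    exact Subgroup.zpow_mem _ hgz i
  have hgN := mem_normalizer_of_conj_le (Subgroup.zpowers u) g hgZ
  have hgN' := (Subgroup.normalizer ((Subgroup.zpowers u : Subgroup G) : Set G)).inv_mem hgN
  have hu' : g⁻¹ * u * g ∈ Subgroup.zpowers u := by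
    have := conj_mem_of_mem_normalizer _ _ hgN' u (Subgroup.mem_zpowers u)
    simpa using this
  have hgH : ∀ h ∈ H, g * h * g⁻¹ ∈ H := by
    intro h hh
    rw [hmemH] at hh ⊢
    have h1 := conj_eq_of_comm_zpowers h u (g⁻¹ * u * g) hh.symm hu'
    have h2 : h * (g⁻¹ * u * g) = (g⁻¹ * u * g) * h := by
      calc h * (g⁻¹ * u * g) = h * (g⁻¹ * u * g) * h⁻¹ * h := by group
        _ = (g⁻¹ * u * g) * h := by rw [h1]
    calc u * (g * h * g⁻¹) = g * ((g⁻¹ * u * g) * h) * g⁻¹ := by group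
      _ = g * (h * (g⁻¹ * u * g)) * g⁻¹ := by rw [h2]
      _ = g * h * g⁻¹ * u := by group
  have hgD := DGs_conj H g hgH
  -- an element of `C(L)` acting on `u` like `g`
  have hex : ∃ c : G, (∀ e ∈ E4 L, c * e = e * c) ∧ c * u * c⁻¹ = g * u * g⁻¹ := by
    rcases ih_line F z hz M H hHtop L hL hLH with hD | ⟨hpl, hle⟩
    · have hgL : ∀ l ∈ L, g * l * g⁻¹ ∈ L := by
        intro l hl
        rw [← hD] at hl ⊢
        exact hgD l hl
      have hgT := E4_conj F z hz CL g hgL
      obtain ⟨l, hl, c, hc, hglc⟩ := NE' F z hz hK hL g hgT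
      refine ⟨c, hc, ?_⟩
      have hcl' : c = l⁻¹ * g := by rw [hglc]; group
      have hlu : l⁻¹ * u = u * l⁻¹ := by
        have := hcl l hl
        calc l⁻¹ * u = l⁻¹ * (u * l) * l⁻¹ := by group
          _ = l⁻¹ * (l * u) * l⁻¹ := by rw [this]
          _ = u * l⁻¹ := by group
      have := conj_eq_of_comm_zpowers l⁻¹ u (g * u * g⁻¹) hlu hgz
      rw [hcl']
      calc l⁻¹ * g * u * (l⁻¹ * g)⁻¹ = l⁻¹ * (g * u * g⁻¹) * l⁻¹⁻¹ := by group
        _ = g * u * g⁻¹ := this
    · obtain ⟨-, ⟨CS⟩⟩ := id hpl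
      set T' : Subgroup G := (E4 L).map (MulAut.conj g).toMonoidHom with hT'
      have hT'S : T' ≤ DGs H := by
        intro w hw
        obtain ⟨e, he, rfl⟩ := hw
        simp only [MulEquiv.coe_toMonoidHom, MulAut.conj_apply]
        exact hgD e (hle (E4_le L he))
      have hT'card : Nat.card T' = 8 := by
        rw [hT', Subgroup.card_map_of_injective (MulAut.conj g).injective, E4_card F z hz CL]
      obtain ⟨s, hsS, hsT⟩ := plane_sylow_conj F z hz CS T' (E4 L) hT'S ((E4_le L).trans hle)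
        hT'card (E4_card F z hz CL)
      have hg₁T : ∀ e ∈ E4 L, (s * g) * e * (s * g)⁻¹ ∈ E4 L := by
        intro e he
        have e1 : (s * g) * e * (s * g)⁻¹ = s * (g * e * g⁻¹) * s⁻¹ := by group
        rw [e1]
        apply hsT
        exact ⟨e, he, by simp [MulAut.conj_apply]⟩
      obtain ⟨l, hl, c, hc, hglc⟩ := NE' F z hz hK hL (s * g) hg₁T
      refine ⟨c, hc, ?_⟩
      have hcl' : c = (l⁻¹ * s) * g := by
        have : c = l⁻¹ * (s * g) := by rw [hglc]; group
        rw [this]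
        group
      have hkH : l⁻¹ * s ∈ H := H.mul_mem (H.inv_mem (hLH hl)) (DGs_le H hsS)
      have hku : (l⁻¹ * s) * u = u * (l⁻¹ * s) := ((hmemH _).mp hkH).symm
      have := conj_eq_of_comm_zpowers (l⁻¹ * s) u (g * u * g⁻¹) hku hgz
      rw [hcl']
      calc l⁻¹ * s * g * u * (l⁻¹ * s * g)⁻¹ = (l⁻¹ * s) * (g * u * g⁻¹) * (l⁻¹ * s)⁻¹ := by group
        _ = g * u * g⁻¹ := this
  obtain ⟨c, hcT, hcu⟩ := hex
  have hcL := line_centralizer F z hz hL c hcT
  -- pass to the odd part of `c`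
  obtain ⟨c₂, co, hc₂2, hodd, hc_eq, hc₂z, hcoz⟩ := oddpart c
  have hzpL : ∀ w ∈ Subgroup.zpowers c, ∀ l ∈ L, w * l = l * w := by
    intro w hw l hl
    obtain ⟨i, rfl⟩ := Subgroup.mem_zpowers_iff.mp hw
    have : Commute c l := hcL l hl
    exact (this.zpow_left i).eq
  have hc₂c : c₂ = 1 ∨ c₂ = z := two_elt_cent F z hz hA c₂ hc₂2 x hx (hzpL c₂ hc₂z x hxL)
  have hc₂cen : ∀ w : G, c₂ * w * c₂⁻¹ = w := by
    intro w
    rcases hc₂c with h | h
    · rw [h]
      simp
    · rw [h, ← F.invol_comm z hz w]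
      group
  have hcou : co * u * co⁻¹ = g * u * g⁻¹ := by
    rw [← hcu, hc_eq]
    calc co * u * co⁻¹ = c₂ * (co * u * co⁻¹) * c₂⁻¹ := (hc₂cen _).symm
      _ = c₂ * co * u * (c₂ * co)⁻¹ := by group
  -- an element of minimal order
  have hP : ∃ n : ℕ, ∃ w : G, orderOf w = n ∧ Odd n ∧ (∀ l ∈ L, w * l = l * w) ∧
      w * u * w⁻¹ ∈ Subgroup.zpowers u ∧ w * u * w⁻¹ ≠ u :=
    ⟨orderOf co, co, rfl, hodd, hzpL co hcoz, by rw [hcou]; exact hgz, by rw [hcou]; exact hgne⟩
  classical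
  obtain ⟨w, hwo, hwodd, hwL, hwz, hwne⟩ := Nat.find_spec hP
  have hmin := fun m (hm : m < Nat.find hP) => Nat.find_min hP hm
  set n := Nat.find hP with hn
  have hn1 : n ≠ 1 := by
    intro h
    rw [h, orderOf_eq_one_iff] at hwo
    apply hwne
    rw [hwo]
    simp
  have hr : (n.minFac).Prime := Nat.minFac_prime hn1
  have hrn : n.minFac ∣ n := Nat.minFac_dvd n
  set r := n.minFac with hrdef
  have hnpos : 0 < n := by rw [← hwo]; exact orderOf_pos w
  have hr2 : r ≠ 2 := by
    intro h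
    rw [h] at hrn
    have := hwodd
    rw [Nat.odd_iff] at this
    omega
  -- `w ^ r` centralizes `u`
  have hwN : ∀ v ∈ Subgroup.zpowers u, w * v * w⁻¹ ∈ Subgroup.zpowers u := by
    intro v hv
    obtain ⟨i, rfl⟩ := Subgroup.mem_zpowers_iff.mp hv
    rw [← conj_zpow]
    exact Subgroup.zpow_mem _ hwz i
  have hwNm := mem_normalizer_of_conj_le (Subgroup.zpowers u) w hwN
  have hwr : w ^ r * u * (w ^ r)⁻¹ = u := by
    by_contra hne
    have ho : orderOf (w ^ r) = n / r := by
      rw [orderOf_pow_of_dvd hr.ne_zero (by rw [hwo]; exact hrn), hwo]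
    have hlt : n / r < n := Nat.div_lt_self hnpos hr.one_lt
    apply hmin (n / r) hlt
    refine ⟨w ^ r, ho, ?_, ?_, ?_, hne⟩
    · exact Odd.of_dvd_nat hwodd (Nat.div_dvd_of_dvd hrn)
    · intro l hl
      have : Commute w l := hwL l hl
      exact (this.pow_left r).eq
    · exact conj_mem_of_mem_normalizer _ _ (Subgroup.pow_mem _ hwNm r) u (Subgroup.mem_zpowers u)
  obtain ⟨i, hi⟩ := Subgroup.mem_zpowers_iff.mp hwz
  have hi' : w * u * w⁻¹ = u ^ (i % (orderOf u : ℤ)).toNat := by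
    rw [← hi, ← zpow_natCast, Int.toNat_of_nonneg, zpow_mod_orderOf]
    apply Int.emod_nonneg
    rw [hu]
    exact_mod_cast hpp.ne_zero
  have hrp := aut_order p r hr u w hu _ hi' hwne hwr
  -- the element of order `r`
  obtain ⟨v, hv⟩ : ∃ v : G, v = w ^ (n / r) := ⟨_, rfl⟩
  have hvo : orderOf v = r := by
    have hd : n / r ∣ orderOf w := by rw [hwo]; exact Nat.div_dvd_of_dvd hrn
    have h0 : n / r ≠ 0 := by
      have := Nat.div_pos (Nat.le_of_dvd hnpos hrn) hr.pos
      omega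
    rw [hv, orderOf_pow_of_dvd h0 hd, hwo, Nat.div_div_self hrn hnpos.ne']
  have hvL : ∀ l ∈ L, v * l = l * v := by
    intro l hl
    rw [hv]
    have : Commute w l := hwL l hl
    exact (this.pow_left _).eq
  by_cases hr3 : r = 3
  · apply no_cent_E4 F z hz hL v (by rw [hvo, hr3])
    intro e he
    exact hvL e (E4_le L he)
  · have hr5 : 5 ≤ r := by
      have h2 := hr.two_le
      by_contra h
      push_neg at h
      have : r = 4 := by omega
      rw [this] at hr
      norm_num at hr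
    have hrlt : r < p := by
      have := Nat.le_of_dvd (by omega) hrp
      omega
    exact ih r hrlt hr hr5 v L hvo hL hvL

end klein

end Cfsg.Agent.Helper56.ZG
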