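import Mathlib
import Cfsg.Agent.Lib.Helper56.ZI4

set_option autoImplicit false
set_option linter.unusedSectionVars false
set_option linter.style.haveILetI false
set_option linter.unusedVariables false
set_option maxHeartbeats 1000000

/-! Zassenhaus project, part I5: the Klein case: the normalizer of a cyclic subgroup of order
four. -/

namespace Cfsg.Agent.Helper56.ZG

open Cfsg.Agent.Helper56.ZA Cfsg.Agent.Helper56.ZB Cfsg.Agent.Helper56.ZC Cfsg.Agent.Helper56.ZD
  Cfsg.Agent.Helper56.ZE Cfsg.Agent.Helper56.ZF Cfsg.Agent.Helper56.ZE0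

lemma four_cases {G : Type*} [Group G] (t w : G) (ht : orderOf t = 4)
    (hw : w ∈ Subgroup.zpowers t) : w = 1 ∨ w = t ∨ w = t * t ∨ w = t⁻¹ := by
  obtain ⟨i, rfl⟩ := Subgroup.mem_zpowers_iff.mp hw
  have h4 : t ^ 4 = 1 := by rw [← ht]; exact pow_orderOf_eq_one t
  have e : t ^ i = t ^ (i % 4) := by
    have := zpow_mod_orderOf t i
    rw [ht] at this
    exact_mod_cast this.symm
  have h0 : 0 ≤ i % 4 := Int.emod_nonneg _ (by norm_num)
  have h1 : i % 4 < 4 := Int.emod_lt_of_pos _ (by norm_num)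
  rw [e]
  generalize i % 4 = j at h0 h1
  interval_cases j
  · left; simp
  · right; left; simp
  · right; right; left
    have : t ^ (2 : ℤ) = t ^ (2 : ℕ) := by norm_cast
    rw [this, pow_two]
  · right; right; right
    have : t ^ (3 : ℤ) = t ^ (3 : ℕ) := by norm_cast
    rw [this]
    apply eq_inv_of_mul_eq_one_left
    rw [← pow_succ]
    exact h4

lemma card_comap_mk {G : Type*} [Group G] [Finite G] (N : Subgroup G) [N.Normal]
    (H : Subgroup (G ⧸ N)) :
    Nat.card (H.comap (QuotientGroup.mk' N)) = Nat.card N * Nat.card H := by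
  have h1 := Subgroup.index_comap_of_surjective H (QuotientGroup.mk'_surjective N)
  have h2 := (H.comap (QuotientGroup.mk' N)).index_mul_card
  have h3 := H.index_mul_card
  have h4 := Subgroup.card_eq_card_quotient_mul_card_subgroup N
  rw [h1, h4, ← h3] at h2
  have hpos : 0 < H.index := Nat.pos_of_ne_zero Subgroup.index_ne_zero_of_finite
  have : H.index * Nat.card (H.comap (QuotientGroup.mk' N))
      = H.index * (Nat.card N * Nat.card H) := by
    rw [h2]
    ring
  exact Nat.eq_of_mul_eq_mul_left hpos this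

section klein

variable {G : Type*} [Group G] [Finite G] (F : FD G) (z : G) (hz : orderOf z = 2)

include F hz

/-- the configuration of the Klein case -/
theorem klein_config (M : MC F) (hK : ∀ P : Subgroup G, IsPGroup 2 P → Nat.card P < 16)
    (L₀ : Subgroup G) (hL₀ : IsLine L₀) :
    ∃ (t s₀ : G) (S : Subgroup G), orderOf t = 4 ∧ orderOf s₀ = 4 ∧ t ∈ E4 L₀ ∧ s₀ ∈ E4 L₀ ∧
      s₀ * t ≠ t * s₀ ∧ IsPlane S ∧ t ∈ S ∧
      Subgroup.normalizer ((Subgroup.zpowers t : Subgroup G) : Set G) = E4 L₀ := by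
  haveI : Fact (Nat.Prime 2) := ⟨Nat.prime_two⟩
  have hA := kA F z hz M hK L₀ hL₀
  obtain ⟨⟨x, y₀, hx, hy₀, hLeq⟩, ⟨C⟩⟩ := id hL₀
  have hxL : x ∈ L₀ := by rw [hLeq]; exact Subgroup.subset_closure (Set.mem_insert _ _)
  obtain ⟨t, htL, ht⟩ := line_exists_t F z hz C
  obtain ⟨q1, q3, n_st, -, -⟩ := line_Q8 F z hz C x hxL hx t htL ht
  obtain ⟨s, hs⟩ : ∃ s : G, s = x * t * x⁻¹ := ⟨_, rfl⟩
  rw [← hs] at n_st
  have hsL : s ∈ L₀ := by rw [hs]; exact L₀.mul_mem (L₀.mul_mem hxL htL) (L₀.inv_mem hxL)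
  have hso : orderOf s = 4 := by rw [hs, ord_conj, ht]
  have htT : t ∈ E4 L₀ := ord4_mem_E4 F z hz t htL ht
  have hsT : s ∈ E4 L₀ := ord4_mem_E4 F z hz s hsL hso
  have hz1 : z ≠ 1 := ne_one_of_order z 2 (by norm_num) hz
  have hzz := zz F z hz
  have hss : s * s = z := F.sq_eq_invol s z hso hz
  have hsts : s * t * s⁻¹ = t⁻¹ := by
    rcases q3 s hsT t htL ht with h | h
    · exfalso
      apply n_st
      calc s * t = s * t * s⁻¹ * s := by group
        _ = t * s := by rw [h]
    · exact h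
  have hsts' : s⁻¹ * t * s = t⁻¹ := by
    have : t = s⁻¹ * t⁻¹ * s := by
      rw [← hsts]
      group
    calc s⁻¹ * t * s = (s⁻¹ * t⁻¹ * s)⁻¹ := by group
      _ = t⁻¹ := by rw [← this]
  obtain ⟨y, hy, hty⟩ := inv_t F z hz M L₀ hL₀ hA t ht
  have hty' : t⁻¹ * y * t = y⁻¹ := by
    have : y = t⁻¹ * y⁻¹ * t := by
      rw [← hty]
      group
    calc t⁻¹ * y * t = (t⁻¹ * y⁻¹ * t)⁻¹ := by group
      _ = y⁻¹ := by rw [← this]
  obtain ⟨y₂, hy₂⟩ : ∃ y₂ : G, y₂ = s * y * s⁻¹ := ⟨_, rfl⟩
  have hy₂o : orderOf y₂ = 3 := by rw [hy₂, ord_conj, hy]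
  have hty₂ : t * y₂ * t⁻¹ = y₂⁻¹ := by
    rw [hy₂]
    calc t * (s * y * s⁻¹) * t⁻¹ = s * ((s⁻¹ * t * s) * y * (s⁻¹ * t * s)⁻¹) * s⁻¹ := by group
      _ = s * (t⁻¹ * y * t) * s⁻¹ := by rw [hsts']; group
      _ = (s * y * s⁻¹)⁻¹ := by rw [hty']; group
  have hne : ¬ (y₂ = y ∨ y₂ = y⁻¹) := by
    intro h
    rw [hy₂] at h
    rcases h with h | h
    · exact hA s y hso hy (comm_of_conj_eq s y h)
    · have hts2 : (t * s) * (t * s) = z := by
        calc (t * s) * (t * s) = t * (s * t * s⁻¹) * (s * s) := by group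
          _ = t * t⁻¹ * z := by rw [hsts, hss]
          _ = z := by group
      have hts4 : orderOf (t * s) = 4 :=
        ord_four_of _ (by rw [hts2]; exact hz1) (by rw [hts2]; exact hzz)
      apply hA (t * s) y hts4 hy
      apply comm_of_conj_eq
      calc (t * s) * y * (t * s)⁻¹ = t * (s * y * s⁻¹) * t⁻¹ := by group
        _ = (t * y * t⁻¹)⁻¹ := by rw [h]; group
        _ = y := by rw [hty, inv_inv]
  obtain ⟨⟨C''⟩, htS⟩ := K2 F z hz hK t ht y y₂ hy hy₂o (Or.inr hty) (Or.inr hty₂)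
    (fun h => hne (Or.inl h)) (fun h => hne (Or.inr h))
  set S : Subgroup G := Subgroup.closure ({y, y₂} : Set G) with hS
  have hSplane : IsPlane S := ⟨⟨y, y₂, hy, hy₂o, rfl⟩, ⟨C''⟩⟩
  -- elements of odd prime order do not centralize `t`
  have hno_odd : ∀ (c : G) (p : ℕ), p.Prime → p ≠ 2 → orderOf c = p → c * t = t * c → False := by
    intro c p hpp hp2 hcp hct
    have hodd : ¬ Even p := by
      intro h
      exact hp2 ((Nat.Prime.even_iff hpp).mp h)
    have hcen : ∀ w : G, orderOf w = 3 → t * w * t⁻¹ = w⁻¹ → c * w = w * c := by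
      intro w hw htw
      rcases Cfix F z hz hK hA t ht w hw htw c hct with h | h
      · exact comm_of_conj_eq c w h
      · exfalso
        have := conj_pow_parity c w h p
        rw [if_neg hodd, ← hcp, pow_orderOf_eq_one] at this
        apply ne_inv_of_three w hw
        simpa using this
    have hcS : S ≤ Subgroup.centralizer {c} := by
      rw [hS, Subgroup.closure_le]
      intro k hk
      rw [SetLike.mem_coe, Subgroup.mem_centralizer_iff]
      intro w hw
      rw [Set.mem_singleton_iff.mp hw]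
      rcases hk with rfl | rfl
      · exact hcen _ hy hty
      · exact hcen _ hy₂o hty₂
    obtain ⟨T, hTS, hTcard⟩ := plane_exists_sylow F z hz C''
    obtain ⟨L, hLS, hL, -⟩ := plane_line F z hz C'' T hTS hTcard
    have hcL : ∀ l ∈ L, c * l = l * c := by
      intro l hl
      exact (Subgroup.mem_centralizer_iff.mp (hcS (hLS hl))) c rfl
    by_cases hp3 : p = 3
    · apply no_cent_E4 F z hz hL c (by rw [hcp, hp3])
      intro e he
      exact hcL e (E4_le L he)
    · have hp5 : 5 ≤ p := by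
        have h2 := hpp.two_le
        by_contra h
        push_neg at h
        have : p = 4 := by omega
        rw [this] at hpp
        norm_num at hpp
      exact K4 F z hz M hK hA p hpp hp5 c L hcp hL hcL
  -- the normalizer of `⟨t⟩`
  set NT : Subgroup G := Subgroup.normalizer ((Subgroup.zpowers t : Subgroup G) : Set G) with hNT
  have htne : t ≠ t⁻¹ := by
    intro h
    apply hz1
    rw [← F.sq_eq_invol t z ht hz]
    nth_rewrite 2 [h]
    exact mul_inv_cancel t
  have hNTt : ∀ g ∈ NT, g * t * g⁻¹ = t ∨ g * t * g⁻¹ = t⁻¹ := by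
    intro g hg
    have h1 := conj_mem_of_mem_normalizer _ g hg t (Subgroup.mem_zpowers t)
    have ho : orderOf (g * t * g⁻¹) = 4 := by rw [ord_conj, ht]
    rcases four_cases t _ ht h1 with h | h | h | h
    · rw [h, orderOf_one] at ho
      omega
    · exact Or.inl h
    · rw [h, F.sq_eq_invol t z ht hz, hz] at ho
      omega
    · exact Or.inr h
  have hNT2 : ∀ g ∈ NT, ∃ k : ℕ, g ^ (2 ^ k) = 1 := by
    intro g hg
    have hprime : ∀ {d : ℕ}, d.Prime → d ∣ orderOf g → d = 2 := by
      intro d hd hdd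
      by_contra hd2
      obtain ⟨m, hm⟩ := hdd
      have hm0 : m ≠ 0 := by
        rintro rfl
        have := orderOf_pos g
        omega
      have hco : orderOf (g ^ m) = d := by
        rw [orderOf_pow_of_dvd hm0 (by rw [hm]; exact dvd_mul_left _ _), hm,
          Nat.mul_div_cancel _ (Nat.pos_of_ne_zero hm0)]
      have hcN : g ^ m ∈ NT := Subgroup.pow_mem _ hg m
      have hodd : ¬ Even d := by
        intro h
        exact hd2 ((Nat.Prime.even_iff hd).mp h)
      rcases hNTt _ hcN with h | h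
      · exact hno_odd (g ^ m) d hd hd2 hco (comm_of_conj_eq _ t h)
      · have := conj_pow_parity (g ^ m) t h d
        rw [if_neg hodd, ← hco, pow_orderOf_eq_one] at this
        apply htne
        simpa using this
    refine ⟨(orderOf g).primeFactorsList.length, ?_⟩
    rw [← Nat.eq_prime_pow_of_unique_prime_dvd (orderOf_pos g).ne' hprime]
    exact pow_orderOf_eq_one g
  have hNTp : IsPGroup 2 NT := by
    intro g
    obtain ⟨k, hk⟩ := hNT2 g g.2
    exact ⟨k, Subtype.ext (by simpa using hk)⟩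
  have hTle : E4 L₀ ≤ NT := by
    intro e he
    apply mem_normalizer_of_conj_le
    intro w hw
    obtain ⟨i, rfl⟩ := Subgroup.mem_zpowers_iff.mp hw
    rw [← conj_zpow]
    apply Subgroup.zpow_mem
    rcases q3 e he t htL ht with h | h
    · rw [h]
      exact Subgroup.mem_zpowers t
    · rw [h]
      exact Subgroup.inv_mem _ (Subgroup.mem_zpowers t)
  have hNTeq : NT = E4 L₀ := by
    symm
    apply Subgroup.eq_of_le_of_card_ge hTle
    have hlt := hK NT hNTp
    obtain ⟨m, hm⟩ := hNTp.exists_card_eq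
    rw [hm] at hlt ⊢
    rw [E4_card F z hz C]
    have hm3 : m ≤ 3 := by
      by_contra h
      push_neg at h
      have : 2 ^ 4 ≤ 2 ^ m := Nat.pow_le_pow_right (by norm_num) h
      omega
    calc 2 ^ m ≤ 2 ^ 3 := Nat.pow_le_pow_right (by norm_num) hm3
      _ = 8 := by norm_num
  exact ⟨t, s, S, ht, hso, htT, hsT, n_st, hSplane, htS, hNTeq⟩

end klein

end Cfsg.Agent.Helper56.ZG
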