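import Mathlib
import Cfsg.Agent.Lib.Helper56.ZI5
import Cfsg.Agent.S3277

set_option autoImplicit false
set_option linter.unusedSectionVars false
set_option linter.style.haveILetI false
set_option linter.unusedVariables false
set_option maxHeartbeats 1000000

/-! Zassenhaus project, part I6: the Klein case: conclusion. -/

namespace Cfsg.Agent.Helper56.ZG

open Cfsg.Agent.Helper56.ZA Cfsg.Agent.Helper56.ZB Cfsg.Agent.Helper56.ZC Cfsg.Agent.Helper56.ZD
  Cfsg.Agent.Helper56.ZE Cfsg.Agent.Helper56.ZF Cfsg.Agent.Helper56.ZE0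

lemma two_cases {G : Type*} [Group G] (z w : G) (hz : orderOf z = 2)
    (hw : w ∈ Subgroup.zpowers z) : w = 1 ∨ w = z := by
  obtain ⟨i, rfl⟩ := Subgroup.mem_zpowers_iff.mp hw
  have e : z ^ i = z ^ (i % 2) := by
    have := zpow_mod_orderOf z i
    rw [hz] at this
    exact_mod_cast this.symm
  have h0 : 0 ≤ i % 2 := Int.emod_nonneg _ (by norm_num)
  have h1 : i % 2 < 2 := Int.emod_lt_of_pos _ (by norm_num)
  rw [e]
  generalize i % 2 = j at h0 h1
  interval_cases j
  · left; simp
  · right; simp

section klein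

variable {G : Type*} [Group G] [Finite G] (F : FD G) (z : G) (hz : orderOf z = 2)

include F hz

theorem klein (M : MC F) (hK : ∀ P : Subgroup G, IsPGroup 2 P → Nat.card P < 16)
    (L₀ : Subgroup G) (hL₀ : IsLine L₀) : False := by
  haveI : Fact (Nat.Prime 2) := ⟨Nat.prime_two⟩
  obtain ⟨t, s₀, S, ht, hs₀, htT, hs₀T, hnc, hSplane, htS, hNT⟩ :=
    klein_config F z hz M hK L₀ hL₀
  obtain ⟨-, ⟨C⟩⟩ := id hL₀
  obtain ⟨-, ⟨CS⟩⟩ := id hSplane
  have hA := kA F z hz M hK L₀ hL₀
  have hzc : ∀ g : G, g * z = z * g := F.invol_comm z hz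
  have hz1 : z ≠ 1 := ne_one_of_order z 2 (by norm_num) hz
  have hzz := zz F z hz
  have htt : t * t = z := F.sq_eq_invol t z ht hz
  have htinv : t⁻¹ = z * t := inv_eq_z_mul F z hz t ht
  have hT₀card : Nat.card (E4 L₀) = 8 := E4_card F z hz C
  have hT₀2 : IsPGroup 2 (E4 L₀) := IsPGroup.of_card (n := 3) (by rw [hT₀card]; norm_num)
  have hna₀ := E4_nonabelian F z hz hL₀
  set N : Subgroup G := Subgroup.zpowers z with hN
  haveI hNn : N.Normal := by
    refine ⟨fun n hn g => ?_⟩
    rcases two_cases z n hz hn with h | h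
    · rw [h]
      simp
    · rw [h, hzc g]
      simp only [mul_inv_cancel_right]
      exact Subgroup.mem_zpowers z
  have hzN : z ∈ N := Subgroup.mem_zpowers z
  have hNcard : Nat.card N = 2 := by rw [hN, Nat.card_zpowers, hz]
  have hπz : (QuotientGroup.mk' N z) = 1 := (QuotientGroup.eq_one_iff z).mpr hzN
  have mem_NT_of : ∀ g : G, (g * t * g⁻¹ = t ∨ g * t * g⁻¹ = t⁻¹) →
      g ∈ Subgroup.normalizer ((Subgroup.zpowers t : Subgroup G) : Set G) := by
    intro g h
    apply mem_normalizer_of_conj_le
    intro w hw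
    obtain ⟨i, rfl⟩ := Subgroup.mem_zpowers_iff.mp hw
    rw [← conj_zpow]
    apply Subgroup.zpow_mem
    rcases h with h | h
    · rw [h]
      exact Subgroup.mem_zpowers t
    · rw [h]
      exact Subgroup.inv_mem _ (Subgroup.mem_zpowers t)
  have hNTt : ∀ g ∈ Subgroup.normalizer ((Subgroup.zpowers t : Subgroup G) : Set G),
      g * t * g⁻¹ = t ∨ g * t * g⁻¹ = t⁻¹ := by
    intro g hg
    have h1 := conj_mem_of_mem_normalizer _ g hg t (Subgroup.mem_zpowers t)
    have ho : orderOf (g * t * g⁻¹) = 4 := by rw [ord_conj, ht]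
    rcases four_cases t _ ht h1 with h | h | h | h
    · rw [h, orderOf_one] at ho
      omega
    · exact Or.inl h
    · rw [h, htt, hz] at ho
      omega
    · exact Or.inr h
  set xb : G ⧸ N := QuotientGroup.mk' N t with hxb
  have hxb1 : xb ≠ 1 := by
    intro h
    have : t ∈ N := (QuotientGroup.eq_one_iff t).mp h
    rcases two_cases z t hz this with h' | h'
    · rw [h', orderOf_one] at ht
      omega
    · rw [h', hz] at ht
      omega
  have hxb2 : xb ^ 2 = 1 := by
    rw [hxb, ← map_pow, pow_two, htt]
    exact hπz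
  have hxbo : orderOf xb = 2 := orderOf_eq_prime hxb2 hxb1
  -- the centralizer of `xb`
  set CC : Subgroup (G ⧸ N) := Subgroup.centralizer {xb} with hCC
  have hcomap : CC.comap (QuotientGroup.mk' N) = E4 L₀ := by
    rw [← hNT]
    ext g
    rw [Subgroup.mem_comap, hCC, Subgroup.mem_centralizer_iff]
    constructor
    · intro h
      have h1 := h xb rfl
      rw [hxb, ← map_mul, ← map_mul] at h1
      have h2 : (t * g)⁻¹ * (g * t) ∈ N := QuotientGroup.eq.mp h1
      apply mem_NT_of
      rcases two_cases z _ hz h2 with h3 | h3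
      · left
        have : g * t = t * g := by
          calc g * t = (t * g) * ((t * g)⁻¹ * (g * t)) := by group
            _ = t * g := by rw [h3, mul_one]
        rw [this]
        group
      · right
        have : g * t = t * g * z := by
          calc g * t = (t * g) * ((t * g)⁻¹ * (g * t)) := by group
            _ = t * g * z := by rw [h3]
        rw [this, htinv]
        calc t * g * z * g⁻¹ = t * (g * z) * g⁻¹ := by group
          _ = t * (z * g) * g⁻¹ := by rw [hzc g]
          _ = (t * z) * (g * g⁻¹) := by group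
          _ = z * t := by rw [hzc t, mul_inv_cancel, mul_one]
    · intro hg h hh
      rw [Set.mem_singleton_iff.mp hh, hxb, ← map_mul, ← map_mul]
      apply QuotientGroup.eq.mpr
      rcases hNTt g hg with h3 | h3
      · have : g * t = t * g := comm_of_conj_eq g t h3
        rw [this, inv_mul_cancel]
        exact N.one_mem
      · have : g * t = t⁻¹ * g := by
          calc g * t = g * t * g⁻¹ * g := by group
            _ = t⁻¹ * g := by rw [h3]
        rw [this, htinv]
        have e : (t * g)⁻¹ * (z * t * g) = z := by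
          calc (t * g)⁻¹ * (z * t * g) = g⁻¹ * (t⁻¹ * z * t) * g := by group
            _ = g⁻¹ * (z * (t⁻¹ * t)) * g := by rw [hzc t⁻¹, mul_assoc z]
            _ = g⁻¹ * z * g := by rw [inv_mul_cancel, mul_one]
            _ = z := by rw [mul_assoc, ← hzc g]; group
        rw [e]
        exact hzN
  have hCCcard : Nat.card CC = 4 := by
    have := card_comap_mk N CC
    rw [hcomap, hT₀card, hNcard] at this
    omega
  have hCCexp : ∀ c ∈ CC, c ^ 2 = 1 := by
    intro c hc
    obtain ⟨c', rfl⟩ := QuotientGroup.mk'_surjective N c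
    have hc' : c' ∈ E4 L₀ := by
      rw [← hcomap]
      exact hc
    have h4 : c' ^ 4 = 1 := ((mem_E4 F z hz C c').mp hc').2
    rw [← map_pow]
    apply (QuotientGroup.eq_one_iff _).mpr
    by_cases h1 : c' ^ 2 = 1
    · rw [h1]
      exact N.one_mem
    · have h2 : (c' ^ 2) ^ 2 = 1 := by
        rw [← pow_mul]
        exact h4
      have ho : orderOf (c' ^ 2) = 2 := orderOf_eq_prime h2 h1
      rw [F.invol_unique _ z ho hz]
      exact hzN
  -- no normal `2`-complement
  have hnc' : ¬ Cfsg.HasNormalPComplement 2 (G ⧸ N) := by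
    rintro ⟨Pb, Nb, hNbn, hcomp⟩
    haveI := hNbn
    obtain ⟨k, hk⟩ := Pb.2.exists_card_eq
    have hidx : Nb.index = 2 ^ k := by rw [hcomp.symm.index_eq_card, hk]
    have h3mem : ∀ y : G, orderOf y = 3 → QuotientGroup.mk' N y ∈ Nb := by
      intro y hy
      rw [← QuotientGroup.eq_one_iff]
      set w : (G ⧸ N) ⧸ Nb := ((QuotientGroup.mk' N y : G ⧸ N) : (G ⧸ N) ⧸ Nb) with hw
      have h3 : w ^ 3 = 1 := by
        rw [hw, ← QuotientGroup.mk_pow, ← map_pow]
        have : y ^ 3 = 1 := by rw [← hy]; exact pow_orderOf_eq_one y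
        rw [this, map_one]
        rfl
      have h2 : w ^ (2 ^ k) = 1 := by
        have := pow_card_eq_one' (G := (G ⧸ N) ⧸ Nb) (x := w)
        rwa [← Subgroup.index_eq_card, hidx] at this
      have hd : orderOf w ∣ Nat.gcd 3 (2 ^ k) :=
        Nat.dvd_gcd (orderOf_dvd_of_pow_eq_one h3) (orderOf_dvd_of_pow_eq_one h2)
      have hg : Nat.gcd 3 (2 ^ k) = 1 := Nat.Coprime.pow_right k (by norm_num)
      rw [hg, Nat.dvd_one, orderOf_eq_one_iff] at hd
      exact hd
    have hle : DG G ≤ Nb.comap (QuotientGroup.mk' N) := by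
      rw [DG, Subgroup.closure_le]
      intro y hy
      exact h3mem y hy
    rw [M.hD, top_le_iff] at hle
    have hNbtop : Nb = ⊤ := by
      rw [eq_top_iff]
      intro q _
      obtain ⟨g, rfl⟩ := QuotientGroup.mk'_surjective N q
      have : g ∈ Nb.comap (QuotientGroup.mk' N) := hle ▸ Subgroup.mem_top g
      exact this
    rw [hNbtop] at hcomp
    have hcard := hcomp.card_mul_card
    rw [Subgroup.card_top] at hcard
    have hpos : 0 < Nat.card (G ⧸ N) := Nat.card_pos
    have hPb1 : Nat.card (Pb : Subgroup (G ⧸ N)) = 1 := by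
      have : Nat.card (G ⧸ N) * Nat.card (Pb : Subgroup (G ⧸ N)) = Nat.card (G ⧸ N) * 1 := by
        rw [hcard, mul_one]
      exact Nat.eq_of_mul_eq_mul_left hpos this
    have h2d : 2 ∣ Nat.card (G ⧸ N) := by
      rw [← hxbo]
      exact orderOf_dvd_natCard xb
    have := Pb.dvd_card_of_dvd_card h2d
    rw [hPb1] at this
    omega
  -- no small normal `2`-subgroups
  have hne' : ∀ E : Subgroup (G ⧸ N), E.Normal → Cfsg.IsElementaryAbelian 2 E →
      Nat.card E ≠ 2 ∧ Nat.card E ≠ 4 := by
    intro Eb hEbn _
    haveI := hEbn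
    set E : Subgroup G := Eb.comap (QuotientGroup.mk' N) with hE
    haveI hEn : E.Normal := Subgroup.Normal.comap hEbn _
    have hEcard : Nat.card E = 2 * Nat.card Eb := by
      rw [hE, card_comap_mk N Eb, hNcard]
    have key : t ∈ E → (∃ k : ℕ, Nat.card E = 2 ^ k) → False := by
      intro htE ⟨k, hk⟩
      have h := plane_normal_two F z hz CS (E ⊓ S) inf_le_right
        (fun s hs n hn => ⟨hEn.conj_mem n hn.1 s, S.mul_mem (S.mul_mem hs hn.2) (S.inv_mem hs)⟩)
        (fun n hn => ⟨k, by
          have := pow_card_eq_one' (G := E) (x := ⟨n, hn.1⟩)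
          rw [hk] at this
          have := congrArg Subtype.val this
          simpa using this⟩) t ⟨htE, htS⟩
      rcases h with h | h
      · rw [h, orderOf_one] at ht
        omega
      · rw [h, hz] at ht
        omega
    constructor
    · intro h2
      have hE4 : Nat.card E = 4 := by rw [hEcard, h2]
      -- an element of order four of `E`
      have hex : ∃ t' ∈ E, t' ≠ 1 ∧ t' ≠ z := by
        by_contra hcon
        push_neg at hcon
        have hsub : (E : Set G) ⊆ {1, z} := by
          intro g hg
          by_cases h1 : g = 1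
          · left
            exact h1
          · right
            exact hcon g hg h1
        have hle : Nat.card E ≤ 2 := by
          have e : Nat.card E = (E : Set G).ncard := Nat.card_coe_set_eq (E : Set G)
          rw [e]
          refine (Set.ncard_le_ncard hsub (Set.toFinite _)).trans ?_
          refine (Set.ncard_insert_le _ _).trans ?_
          rw [Set.ncard_singleton]
        omega
      obtain ⟨t', ht'E, ht'1, ht'z⟩ := hex
      have ht'o : orderOf t' = 4 := by
        have h4 : t' ^ 4 = 1 := by
          have := pow_card_eq_one' (G := E) (x := ⟨t', ht'E⟩)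
          rw [hE4] at this
          have := congrArg Subtype.val this
          simpa using this
        have hd : orderOf t' ∣ 2 ^ 2 := orderOf_dvd_of_pow_eq_one (by simpa using h4)
        obtain ⟨j, hj, hj'⟩ := (Nat.dvd_prime_pow Nat.prime_two).mp hd
        interval_cases j
        · rw [pow_zero, orderOf_eq_one_iff] at hj'
          exact absurd hj' ht'1
        · rw [pow_one] at hj'
          exact absurd (F.invol_unique t' z hj' hz) ht'z
        · rw [hj']
          norm_num
      obtain ⟨g, hg⟩ := N1 F z hz M.hD (E4 L₀) hT₀2 (by rw [hT₀card]) hna₀ t' t ht'o ht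
      apply key _ ⟨2, by rw [hE4]; norm_num⟩
      have hc := hEn.conj_mem t' ht'E g
      rcases hg with h | h
      · rw [← h]
        exact hc
      · have : t = (g * t' * g⁻¹)⁻¹ := by rw [h, inv_inv]
        rw [this]
        exact E.inv_mem hc
    · intro h4
      have hE8 : Nat.card E = 8 := by rw [hEcard, h4]
      apply key _ ⟨3, by rw [hE8]; norm_num⟩
      apply K0 F z hz hK E hE8 t ⟨2, by
        have : t ^ 4 = 1 := by rw [← ht]; exact pow_orderOf_eq_one t
        simpa using this⟩
      intro e he
      exact hEn.conj_mem e he t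
  obtain ⟨e⟩ := Cfsg.Agent.S3277.result xb hxbo hCCcard hCCexp hnc' hne'
  have hQcard : Nat.card (G ⧸ N) = 60 := by
    rw [Nat.card_congr e.toEquiv, Nat.card_eq_fintype_card]
    exact a5_card
  have hGcard : Nat.card G = 120 := by
    rw [Subgroup.card_eq_card_quotient_mul_card_subgroup N, hQcard, hNcard]
  have hStop : S = ⊤ := by
    apply Subgroup.eq_top_of_card_eq
    rw [plane_card F z hz CS, hGcard]
  exact M.hnp S hSplane hStop

end klein

end Cfsg.Agent.Helper56.ZG
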