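import Mathlib
import Cfsg.Agent.Lib.Helper56.ZI6

set_option autoImplicit false
set_option linter.unusedSectionVars false
set_option linter.style.haveILetI false
set_option linter.unusedVariables false
set_option maxHeartbeats 1000000

/-! Zassenhaus project, part J: the structure of the subgroup generated by the elements of order
three of a fixed-point-free group. -/

namespace Cfsg.Agent.Helper56.ZG

open Cfsg.Agent.Helper56.ZA Cfsg.Agent.Helper56.ZB Cfsg.Agent.Helper56.ZC Cfsg.Agent.Helper56.ZD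
  Cfsg.Agent.Helper56.ZE Cfsg.Agent.Helper56.ZF Cfsg.Agent.Helper56.ZE0

universe u

section transport

variable {G H : Type*} [Group G] [Group H]

lemma cover_map {P : Type*} [Group P] (f : H →* G) (hf : Function.Injective f) (D : Subgroup H)
    (C : Cover D P) : Nonempty (Cover (D.map f) P) := by
  let e := D.equivMapOfInjective f hf
  refine ⟨⟨C.π.comp e.symm.toMonoidHom, C.surj.comp e.symm.surjective, ?_⟩⟩
  intro k hk
  have h1 := C.ker (e.symm k) hk
  have h2 := congrArg e h1
  rw [map_mul, MulEquiv.apply_symm_apply, map_one] at h2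
  exact h2

lemma struct_map (f : H →* G) (hf : Function.Injective f) (D : Subgroup H) (hD : Struct D) :
    Struct (D.map f) := by
  rcases hD with h | ⟨x, hx, h⟩ | ⟨⟨x, y, hx, hy, h⟩, ⟨C⟩⟩ | ⟨⟨x, y, hx, hy, h⟩, ⟨C⟩⟩
  · left
    rw [h, Subgroup.map_bot]
  · right; left
    refine ⟨f x, ?_, ?_⟩
    · rw [orderOf_injective f hf, hx]
    · rw [h, MonoidHom.map_zpowers]
  · right; right; left
    refine ⟨⟨f x, f y, by rw [orderOf_injective f hf, hx], by rw [orderOf_injective f hf, hy], ?_⟩,
      cover_map f hf D C⟩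
    rw [h, MonoidHom.map_closure, Set.image_pair]
  · right; right; right
    refine ⟨⟨f x, f y, by rw [orderOf_injective f hf, hx], by rw [orderOf_injective f hf, hy], ?_⟩,
      cover_map f hf D C⟩
    rw [h, MonoidHom.map_closure, Set.image_pair]

lemma DG_map_subtype (H : Subgroup G) : (DG H).map H.subtype = DGs H := by
  rw [DG, MonoidHom.map_closure, DGs]
  congr 1
  ext x
  constructor
  · rintro ⟨y, hy, rfl⟩
    refine ⟨y.2, ?_⟩
    rw [Subgroup.coe_subtype, Subgroup.orderOf_coe]
    exact hy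
  · rintro ⟨hxH, hx⟩
    refine ⟨⟨x, hxH⟩, ?_, rfl⟩
    show orderOf (⟨x, hxH⟩ : H) = 3
    rw [← Subgroup.orderOf_coe]
    exact hx

lemma DGs_DG : DGs (DG G) = DG G := by
  show Subgroup.closure {x : G | x ∈ DG G ∧ orderOf x = 3} = Subgroup.closure {x : G | orderOf x = 3}
  congr 1
  ext x
  constructor
  · rintro ⟨-, hx⟩
    exact hx
  · intro hx
    exact ⟨Subgroup.subset_closure hx, hx⟩

lemma two_dvd_of_cover [Finite G] {L : Subgroup G} {P : Type*} [Group P] (C : Cover L P)
    (hex : ∃ τ : P, τ ≠ 1 ∧ τ * τ = 1) : 2 ∣ Nat.card G := by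
  obtain ⟨τ, h1, h2⟩ := hex
  obtain ⟨k, hk⟩ := C.surj τ
  have h3 : orderOf τ = 2 := ord_of_sq τ h1 h2
  have h4 : orderOf (C.π k) ∣ orderOf k := orderOf_map_dvd C.π k
  rw [hk, h3] at h4
  exact (h4.trans (orderOf_dvd_natCard k)).trans (Subgroup.card_subgroup_dvd_card L)

end transport

/-- **Zassenhaus**: in a fixed-point-free group the elements of order three generate the trivial
group, a group of order three, a binary tetrahedral group or a binary icosahedral group. -/
theorem MZ_aux : ∀ (n : ℕ) (G : Type u) [Group G] [Finite G] (F : FD G), Nat.card G = n →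
    Struct (DG G) := by
  intro n
  induction n using Nat.strong_induction_on with
  | _ n IH =>
  intro G _ _ F hn
  have ihH : ∀ H : Subgroup G, H ≠ ⊤ → Struct (DGs H) := by
    intro H hH
    have hlt : Nat.card H < n := by
      rw [← hn]
      have hle : Nat.card H ≤ Nat.card G := Subgroup.card_le_card_group H
      rcases hle.lt_or_eq with h | h
      · exact h
      · exact (hH (Subgroup.card_eq_iff_eq_top H |>.mp h)).elim
    have := IH (Nat.card H) hlt H (F.comap H.subtype H.subtype_injective) rfl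
    rw [← DG_map_subtype]
    exact struct_map H.subtype H.subtype_injective _ this
  by_cases hD : DG G = ⊤
  swap
  · have := ihH (DG G) hD
    rwa [DGs_DG] at this
  by_cases hcomm : ∀ x y : G, orderOf x = 3 → orderOf y = 3 → x * y = y * x
  · by_cases hex : ∃ x : G, orderOf x = 3
    · obtain ⟨x, hx⟩ := hex
      right; left
      refine ⟨x, hx, le_antisymm ?_ ?_⟩
      · rw [DG, Subgroup.closure_le]
        intro y hy
        rcases F.comm3 x y hx hy (hcomm x y hx hy) with h | h
        · rw [h]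
          exact Subgroup.mem_zpowers x
        · rw [h]
          exact Subgroup.inv_mem _ (Subgroup.mem_zpowers x)
      · rw [Subgroup.zpowers_le]
        exact Subgroup.subset_closure hx
    · left
      rw [DG, Subgroup.closure_eq_bot_iff]
      intro y hy
      exact (hex ⟨y, hy⟩).elim
  · push_neg at hcomm
    obtain ⟨x, y, hx, hy, hxy⟩ := hcomm
    have h2 : 2 ∣ Nat.card G := by
      rcases pair33 F x y hx hy with h | ⟨⟨C⟩⟩ | ⟨⟨C⟩⟩
      · exact (hxy h).elim
      · obtain ⟨τ, τ', h1, h2, -⟩ := a4_ex2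
        exact two_dvd_of_cover C ⟨τ, h1, h2⟩
      · obtain ⟨τ, τ', h1, h2, -⟩ := a5_ex2
        exact two_dvd_of_cover C ⟨τ, h1, h2⟩
    obtain ⟨z, hz⟩ := F.exists_invol h2
    have hline : ∃ L₀ : Subgroup G, IsLine L₀ := by
      rcases pair33 F x y hx hy with h | ⟨⟨C⟩⟩ | ⟨⟨C⟩⟩
      · exact (hxy h).elim
      · exact ⟨_, ⟨x, y, hx, hy, rfl⟩, ⟨C⟩⟩
      · obtain ⟨T, hTS, hT⟩ := plane_exists_sylow F z hz C
        obtain ⟨L, -, hL, -⟩ := plane_line F z hz C T hTS hT
        exact ⟨L, hL⟩
    obtain ⟨L₀, hL₀⟩ := hline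
    by_cases hl : ∃ L : Subgroup G, IsLine L ∧ L = ⊤
    · obtain ⟨L, hL, hLtop⟩ := hl
      right; right; left
      rw [hD, ← hLtop]
      exact hL
    by_cases hp : ∃ S : Subgroup G, IsPlane S ∧ S = ⊤
    · obtain ⟨S, hS, hStop⟩ := hp
      right; right; right
      rw [hD, ← hStop]
      exact hS
    exfalso
    have M : MC F := ⟨hD, ihH, fun L hL h => hl ⟨L, hL, h⟩, fun S hS h => hp ⟨S, hS, h⟩⟩
    by_cases hP : ∃ P : Subgroup G, IsPGroup 2 P ∧ 16 ≤ Nat.card P
    · obtain ⟨P, hP2, hP16⟩ := hP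
      exact nonklein F z hz M L₀ hL₀ P hP2 hP16
    · push_neg at hP
      exact klein F z hz M hP L₀ hL₀

theorem MZ {G : Type u} [Group G] [Finite G] (F : FD G) : Struct (DG G) :=
  MZ_aux (Nat.card G) G F rfl

end Cfsg.Agent.Helper56.ZG
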