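import Mathlib
import Cfsg.Agent.Lib.Helper56.ZJ
import Cfsg.Agent.S0106
import Cfsg.Agent.S3378

set_option autoImplicit false
set_option linter.unusedSectionVars false
set_option linter.style.haveILetI false
set_option linter.unusedVariables false
set_option maxHeartbeats 1000000

/-! Zassenhaus project, part K1: a perfect fixed-point-free group is `SL(2,5)`. -/

namespace Cfsg.Agent.Helper56.ZG

open Cfsg.Agent.Helper56.ZA Cfsg.Agent.Helper56.ZB Cfsg.Agent.Helper56.ZC Cfsg.Agent.Helper56.ZD
  Cfsg.Agent.Helper56.ZE Cfsg.Agent.Helper56.ZF Cfsg.Agent.Helper56.ZE0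

universe u

section gen

variable {G : Type*} [Group G]

lemma DG_normal : (DG G).Normal := by
  constructor
  intro n hn g
  rw [DG] at hn
  induction hn using Subgroup.closure_induction with
  | mem k hk =>
    apply Subgroup.subset_closure
    show orderOf (g * k * g⁻¹) = 3
    rw [ord_conj]
    exact hk
  | one => simp
  | mul a b _ _ iha ihb =>
    have : g * (a * b) * g⁻¹ = (g * a * g⁻¹) * (g * b * g⁻¹) := by group
    rw [this]
    exact Subgroup.mul_mem _ iha ihb
  | inv a _ iha =>
    have : g * a⁻¹ * g⁻¹ = (g * a * g⁻¹)⁻¹ := by group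
    rw [this]
    exact Subgroup.inv_mem _ iha

lemma perfect_of_surjective {H : Type*} [Group H] (f : G →* H) (hf : Function.Surjective f)
    (h : commutator G = ⊤) : commutator H = ⊤ := by
  rw [commutator_def] at h ⊢
  have h1 := Subgroup.map_commutator (⊤ : Subgroup G) ⊤ f
  rw [h, Subgroup.map_top_of_surjective f hf] at h1
  exact h1.symm

lemma perfect_ker_top {A : Type*} [Group A] (f : G →* A) (hA : ∀ a b : A, a * b = b * a)
    (hperf : commutator G = ⊤) : f.ker = ⊤ := by
  rw [eq_top_iff, ← hperf, commutator_def, Subgroup.commutator_le]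
  intro g₁ _ g₂ _
  rw [MonoidHom.mem_ker, map_commutatorElement, commutatorElement_eq_one_iff_commute]
  exact hA _ _

lemma zgroup_perfect [Finite G] [IsZGroup G] (hperf : commutator G = ⊤) : Subsingleton G := by
  by_contra h
  rw [not_subsingleton_iff_nontrivial] at h
  have := IsZGroup.commutator_lt (G := G)
  rw [hperf] at this
  exact lt_irrefl _ this

lemma solvable_perfect [Group.IsSolvable G] (hperf : commutator G = ⊤) : Subsingleton G := by
  by_contra h
  rw [not_subsingleton_iff_nontrivial] at h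
  have := IsSolvable.commutator_lt_top_of_nontrivial G
  rw [hperf] at this
  exact lt_irrefl _ this

lemma mem_or_mul_mem [Finite G] (A R : Subgroup G) (hAR : A ≤ R) (h : Nat.card R = 2 * Nat.card A)
    (e : G) (heR : e ∈ R) (heA : e ∉ A) (q : G) (hq : q ∈ R) : q ∈ A ∨ e⁻¹ * q ∈ A := by
  have h1 := (A.subgroupOf R).card_mul_index
  rw [Nat.card_congr (Subgroup.subgroupOfEquivOfLe hAR).toEquiv, h] at h1
  have hpos : 0 < Nat.card A := Nat.card_pos
  have h2 : (A.subgroupOf R).index = 2 := by
    have : Nat.card A * (A.subgroupOf R).index = Nat.card A * 2 := by rw [h1]; ring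
    exact Nat.eq_of_mul_eq_mul_left hpos this
  by_cases hqA : q ∈ A
  · exact Or.inl hqA
  · right
    have h3 := Subgroup.mul_mem_iff_of_index_two h2 (a := (⟨e, heR⟩ : R)⁻¹) (b := (⟨q, hq⟩ : R))
    rw [Subgroup.mem_subgroupOf, Subgroup.mem_subgroupOf, Subgroup.mem_subgroupOf] at h3
    have h4 : ((⟨e, heR⟩ : R)⁻¹ : R).1 ∈ A ↔ (⟨q, hq⟩ : R).1 ∈ A := by
      constructor
      · intro h'
        exact (heA (by simpa using A.inv_mem h')).elim
      · intro h'
        exact (hqA h').elim
    exact h3.mpr h4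

end gen

section sl23

/-- an element of order three of `SL(2,3)` -/
def c3 : Matrix.SpecialLinearGroup (Fin 2) (ZMod 3) := ⟨!![1, 1; 0, 1], by decide⟩

lemma c3_ne : c3 ≠ 1 := by decide

lemma c3_cube : c3 * c3 * c3 = 1 := by decide

end sl23

section main

variable {G : Type u} [Group G] [Finite G] (F : FD G)

include F

/-- a fixed-point-free group of order prime to three is not perfect -/
lemma no_three_perfect (h3 : ¬ 3 ∣ Nat.card G) (hperf : commutator G = ⊤) : Subsingleton G := by
  haveI : Fact (Nat.Prime 2) := ⟨Nat.prime_two⟩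
  by_cases hcyc : ∀ P : Sylow 2 G, IsCyclic P
  · haveI : IsZGroup G := by
      constructor
      intro p hp P
      haveI := Fact.mk hp
      by_cases hp2 : p = 2
      · subst hp2
        exact hcyc P
      · exact F.odd_sub p hp2 P P.2
    exact zgroup_perfect hperf
  · push_neg at hcyc
    obtain ⟨P, hP⟩ := hcyc
    rcases F.two_sub P P.2 with hc | ⟨k, hk, hT⟩
    · exact (hP hc).elim
    · obtain ⟨e⟩ := id hT
      rcases Cfsg.Agent.S0106.result P k hk hT with ⟨P', N, hN, hcomp⟩ | ⟨H, K, hK, ⟨e'⟩⟩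
      · exfalso
        haveI := hN
        have hidx : N.index = Nat.card (P' : Subgroup G) := hcomp.symm.index_eq_card
        have hQ2 : IsPGroup 2 (G ⧸ N) := by
          obtain ⟨n, hn⟩ := P'.2.exists_card_eq
          apply IsPGroup.of_card (n := n)
          rw [← hn, ← hidx]
          rfl
        haveI : Group.IsNilpotent (G ⧸ N) := hQ2.isNilpotent
        have hsub := solvable_perfect
          (perfect_of_surjective (QuotientGroup.mk' N) (QuotientGroup.mk'_surjective N) hperf)
        have h1 : N.index = 1 := by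
          rw [Subgroup.index, Nat.card_eq_one_iff_unique]
          exact ⟨hsub, ⟨1⟩⟩
        rw [h1] at hidx
        have hc1 := P'.card_eq_multiplicity
        have hc2 := P.card_eq_multiplicity
        rw [← hc1, ← hidx] at hc2
        rw [Nat.card_congr e.toEquiv, Nat.card_eq_fintype_card, QuaternionGroup.card] at hc2
        have : 0 < 2 ^ k := by positivity
        omega
      · exfalso
        apply h3
        set c : H ⧸ K.subgroupOf H := e'.symm c3 with hc
        have hc1 : c ≠ 1 := by
          intro h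
          apply c3_ne
          have := congrArg e' h
          rw [hc, e'.apply_symm_apply, map_one] at this
          exact this
        have hc3 : c * c * c = 1 := by
          rw [hc, ← map_mul, ← map_mul, c3_cube, map_one]
        have ho : orderOf c = 3 := ord_of_cube c hc1 hc3
        have hd1 : 3 ∣ Nat.card (H ⧸ K.subgroupOf H) := ho ▸ orderOf_dvd_natCard c
        exact (hd1.trans (Subgroup.card_quotient_dvd_card _)).trans
          (Subgroup.card_subgroup_dvd_card H)

/-- in a perfect fixed-point-free group the elements of order three do not generate a group of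
order three -/
lemma point_perfect_false (x : G) (hx : orderOf x = 3) (hD : DG G = Subgroup.zpowers x)
    (hperf : commutator G = ⊤) : False := by
  haveI : Fact (Nat.Prime 3) := ⟨by norm_num⟩
  haveI hn : (Subgroup.zpowers x).Normal := hD ▸ DG_normal
  -- `x` is central
  have hcen : ∀ g : G, g * x * g⁻¹ = x := by
    let φ : G →* MulAut (Subgroup.zpowers x) := MulAut.conjNormal
    have hA : ∀ a b : MulAut (Subgroup.zpowers x), a * b = b * a := by
      intro a b
      apply (IsCyclic.mulAutMulEquiv (Subgroup.zpowers x)).injective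
      rw [map_mul, map_mul, mul_comm]
    have hker := perfect_ker_top φ hA hperf
    intro g
    have hg : g ∈ φ.ker := by rw [hker]; trivial
    rw [MonoidHom.mem_ker] at hg
    have h1 := congrArg (fun a : MulAut (Subgroup.zpowers x) =>
      ((a ⟨x, Subgroup.mem_zpowers x⟩ : Subgroup.zpowers x) : G)) hg
    simpa [φ] using h1
  have hZ : IsPGroup 3 (Subgroup.zpowers x) := IsPGroup.of_card (n := 1) (by
    rw [Nat.card_zpowers, hx, pow_one])
  obtain ⟨P, hP⟩ := hZ.exists_le_sylow
  haveI : IsCyclic P := F.odd_sub 3 (by norm_num) P P.2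
  have hxP : x ∈ (P : Subgroup G) := hP (Subgroup.mem_zpowers x)
  have hN := BTcore 3 P x hxP hx (fun g _ => hcen g)
  have hker : (MonoidHom.transferSylow P hN).ker = ⊤ := by
    apply perfect_ker_top _ _ hperf
    intro a b
    exact Subtype.ext (comm_of_isCyclic (P : Subgroup G) inferInstance (a : G) a.2 (b : G) b.2)
  have hcomp := MonoidHom.ker_transferSylow_isComplement' P hN
  rw [hker] at hcomp
  have hcard := hcomp.card_mul_card
  rw [Subgroup.card_top] at hcard
  have hpos : 0 < Nat.card G := Nat.card_pos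
  have h1 : Nat.card (P : Subgroup G) = 1 := by
    have : Nat.card G * Nat.card (P : Subgroup G) = Nat.card G * 1 := by rw [hcard, mul_one]
    exact Nat.eq_of_mul_eq_mul_left hpos this
  have h2 : orderOf (⟨x, hxP⟩ : (P : Subgroup G)) ∣ Nat.card (P : Subgroup G) :=
    orderOf_dvd_natCard _
  rw [Subgroup.orderOf_mk, hx, h1, Nat.dvd_one] at h2
  omega

/-- the quotient by a normal subgroup containing a non-commutative `2`-subgroup has cyclic Sylow
subgroups -/
lemma quot_zgroup (S : Subgroup G) [S.Normal] (T : Subgroup G) (hTS : T ≤ S)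
    (hT2 : IsPGroup 2 T) (hna : ∃ e₁ ∈ T, ∃ e₂ ∈ T, e₁ * e₂ ≠ e₂ * e₁) : IsZGroup (G ⧸ S) := by
  haveI : Fact (Nat.Prime 2) := ⟨Nat.prime_two⟩
  constructor
  intro p hp P'
  haveI := Fact.mk hp
  obtain ⟨Q, rfl⟩ := Sylow.mapSurjective_surjective (QuotientGroup.mk'_surjective S) p P'
  by_cases hp2 : p = 2
  · subst hp2
    obtain ⟨Q₀, hQ₀⟩ := hT2.exists_le_sylow
    obtain ⟨g, rfl⟩ := MulAction.exists_smul_eq G Q₀ Q
    obtain ⟨e₁, he₁, e₂, he₂, hne⟩ := hna
    have hmem : ∀ e ∈ T, g * e * g⁻¹ ∈ ((g • Q₀ : Sylow 2 G) : Subgroup G) := by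
      intro e he
      rw [Sylow.coe_subgroup_smul]
      exact Subgroup.smul_mem_pointwise_smul e (MulAut.conj g) _ (hQ₀ he)
    set Q := (g • Q₀ : Sylow 2 G) with hQdef
    have hS : ∀ e ∈ T, g * e * g⁻¹ ∈ S := fun e he => (inferInstance : S.Normal).conj_mem e (hTS he) g
    have hne' : (g * e₁ * g⁻¹) * (g * e₂ * g⁻¹) ≠ (g * e₂ * g⁻¹) * (g * e₁ * g⁻¹) := by
      intro h
      apply hne
      have : g * (e₁ * e₂) * g⁻¹ = g * (e₂ * e₁) * g⁻¹ := by
        calc g * (e₁ * e₂) * g⁻¹ = (g * e₁ * g⁻¹) * (g * e₂ * g⁻¹) := by group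
          _ = (g * e₂ * g⁻¹) * (g * e₁ * g⁻¹) := h
          _ = g * (e₂ * e₁) * g⁻¹ := by group
      exact mul_left_cancel (mul_right_cancel this)
    obtain ⟨g₀, hg₀Q, hcard, hact⟩ := exists_gen F Q Q.2 ⟨_, hmem e₁ he₁, _, hmem e₂ he₂, hne'⟩
    have hex : ∃ e ∈ (Q : Subgroup G), e ∈ S ∧ e ∉ Subgroup.zpowers g₀ := by
      by_contra hcon
      push_neg at hcon
      apply hne'
      have h1 := hcon _ (hmem e₁ he₁) (hS e₁ he₁)
      have h2 := hcon _ (hmem e₂ he₂) (hS e₂ he₂)
      obtain ⟨i, hi⟩ := Subgroup.mem_zpowers_iff.mp h1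
      obtain ⟨j, hj⟩ := Subgroup.mem_zpowers_iff.mp h2
      rw [← hi, ← hj, ← zpow_add, ← zpow_add, add_comm]
    obtain ⟨e, heQ, heS, heg⟩ := hex
    have hzle : Subgroup.zpowers g₀ ≤ (Q : Subgroup G) := by
      rw [Subgroup.zpowers_le]
      exact hg₀Q
    have hcard' : Nat.card (Q : Subgroup G) = 2 * Nat.card (Subgroup.zpowers g₀) := by
      rw [Nat.card_zpowers, hcard]
    show IsCyclic ((Q : Subgroup G).map (QuotientGroup.mk' S))
    refine ⟨⟨⟨QuotientGroup.mk' S g₀, Subgroup.mem_map_of_mem _ hg₀Q⟩, ?_⟩⟩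
    rintro ⟨y, hy⟩
    obtain ⟨q, hq, rfl⟩ := hy
    have hπe : QuotientGroup.mk' S e⁻¹ = 1 := (QuotientGroup.eq_one_iff e⁻¹).mpr (S.inv_mem heS)
    rcases mem_or_mul_mem _ _ hzle hcard' e heQ heg q hq with h | h
    · obtain ⟨i, hi⟩ := Subgroup.mem_zpowers_iff.mp h
      refine ⟨i, Subtype.ext ?_⟩
      show ((⟨QuotientGroup.mk' S g₀, Subgroup.mem_map_of_mem _ hg₀Q⟩ :
        (Q : Subgroup G).map (QuotientGroup.mk' S)) ^ i).1 = _
      rw [Subgroup.coe_zpow, ← map_zpow, hi]
    · obtain ⟨i, hi⟩ := Subgroup.mem_zpowers_iff.mp h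
      refine ⟨i, Subtype.ext ?_⟩
      show ((⟨QuotientGroup.mk' S g₀, Subgroup.mem_map_of_mem _ hg₀Q⟩ :
        (Q : Subgroup G).map (QuotientGroup.mk' S)) ^ i).1 = _
      rw [Subgroup.coe_zpow, ← map_zpow, hi, map_mul, hπe, one_mul]
  · haveI : IsCyclic Q := F.odd_sub p hp2 Q Q.2
    exact isCyclic_of_surjective _ ((QuotientGroup.mk' S).subgroupMap_surjective Q)

end main

end Cfsg.Agent.Helper56.ZG
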