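import Mathlib
import Cfsg.Agent.Lib.Helper56.ZK1

set_option autoImplicit false
set_option linter.unusedSectionVars false
set_option linter.style.haveILetI false
set_option linter.unusedVariables false
set_option maxHeartbeats 1000000
set_option maxRecDepth 100000

/-! Zassenhaus project, part K2: a perfect fixed-point-free group is `SL(2,5)`. -/

namespace Cfsg.Agent.Helper56.ZG

open Cfsg.Agent.Helper56.ZA Cfsg.Agent.Helper56.ZB Cfsg.Agent.Helper56.ZC Cfsg.Agent.Helper56.ZD
  Cfsg.Agent.Helper56.ZE Cfsg.Agent.Helper56.ZF Cfsg.Agent.Helper56.ZE0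

universe u

theorem a4_comm_sq : ∀ a b : A4, (a * b * a⁻¹ * b⁻¹) * (a * b * a⁻¹ * b⁻¹) = 1 := by decide

lemma a4_not_perfect : commutator A4 ≠ ⊤ := by
  intro h
  have hle : commutator A4 ≤ Vs := by
    rw [commutator_def, Subgroup.commutator_le]
    intro a _ b _
    rw [mem_Vs, commutatorElement_def]
    exact a4_comm_sq a b
  rw [h, top_le_iff] at hle
  have := Vs_index
  rw [hle, Subgroup.index_top] at this
  omega

/-- **Zassenhaus**: a perfect nontrivial fixed-point-free group is isomorphic to `SL(2,5)` -/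
theorem Z {G : Type u} [Group G] [Finite G] (F : FD G) (hperf : commutator G = ⊤)
    (hnt : Nontrivial G) : Nonempty (G ≃* Matrix.SpecialLinearGroup (Fin 2) (ZMod 5)) := by
  haveI : Fact (Nat.Prime 2) := ⟨Nat.prime_two⟩
  haveI : Fact (Nat.Prime 3) := ⟨by norm_num⟩
  haveI hDn : (DG G).Normal := DG_normal
  have common : ∀ L₀ : Subgroup G, IsLine L₀ → L₀ ≤ DG G → DG G = ⊤ := by
    intro L₀ hL₀ hle
    obtain ⟨-, ⟨C₀⟩⟩ := id hL₀
    have h2 : 2 ∣ Nat.card G := by
      obtain ⟨τ, τ', h1, h2, -⟩ := a4_ex2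
      exact two_dvd_of_cover C₀ ⟨τ, h1, h2⟩
    obtain ⟨z, hz⟩ := F.exists_invol h2
    have hT2 : IsPGroup 2 (E4 L₀) := IsPGroup.of_card (n := 3) (by
      rw [E4_card F z hz C₀]; norm_num)
    haveI := quot_zgroup F (DG G) (E4 L₀) ((E4_le L₀).trans hle) hT2 (E4_nonabelian F z hz hL₀)
    have hsub := zgroup_perfect (perfect_of_surjective (QuotientGroup.mk' (DG G))
      (QuotientGroup.mk'_surjective _) hperf)
    rw [← Subgroup.index_eq_one, Subgroup.index, Nat.card_eq_one_iff_unique]
    exact ⟨hsub, ⟨1⟩⟩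
  rcases MZ F with h | ⟨x, hx, h⟩ | hL | hP
  · exfalso
    have h3 : ¬ 3 ∣ Nat.card G := by
      intro hd
      obtain ⟨x, hx⟩ := exists_prime_orderOf_dvd_card' 3 hd
      have hxD : x ∈ DG G := Subgroup.subset_closure hx
      rw [h, Subgroup.mem_bot] at hxD
      rw [hxD, orderOf_one] at hx
      omega
    exact not_subsingleton G (no_three_perfect F h3 hperf)
  · exact (point_perfect_false F x hx h hperf).elim
  · exfalso
    have htop := common _ hL le_rfl
    obtain ⟨-, ⟨C⟩⟩ := id hL
    let ι : G →* DG G := MonoidHom.codRestrict (MonoidHom.id G) (DG G) (fun g => by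
      rw [htop]; trivial)
    have hι : Function.Surjective ι := by
      intro k
      exact ⟨k, Subtype.ext rfl⟩
    exact a4_not_perfect (perfect_of_surjective (C.π.comp ι) (C.surj.comp hι) hperf)
  · obtain ⟨-, ⟨C⟩⟩ := id hP
    have h2 : 2 ∣ Nat.card G := by
      obtain ⟨τ, τ', h1, h2, -⟩ := a5_ex2
      exact two_dvd_of_cover C ⟨τ, h1, h2⟩
    obtain ⟨z, hz⟩ := F.exists_invol h2
    obtain ⟨T, hTS, hT⟩ := plane_exists_sylow F z hz C
    obtain ⟨L, hLS, hL, -⟩ := plane_line F z hz C T hTS hT
    have htop := common L hL hLS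
    have hcard : Nat.card G = 120 := by
      rw [← plane_card F z hz C, htop, Subgroup.card_top]
    have hns : ¬ Group.IsSolvable G := by
      intro hs
      haveI := hs
      exact not_subsingleton G (solvable_perfect hperf)
    apply Cfsg.Agent.S3378.result.1 G hcard hns
    intro P
    have hP8 : Nat.card (P : Subgroup G) = 8 := by
      have h8 : 2 ^ 3 ∣ Nat.card P := by
        apply P.pow_dvd_card_of_pow_dvd_card
        rw [hcard]
        norm_num
      obtain ⟨k, hk⟩ := P.2.exists_card_eq
      have hd : Nat.card P ∣ 120 := by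
        rw [← hcard]
        exact Subgroup.card_subgroup_dvd_card _
      rw [hk] at hd h8 ⊢
      have hk3 : k ≤ 3 := by
        by_contra h
        push_neg at h
        have : 2 ^ 4 ∣ 2 ^ k := pow_dvd_pow 2 h
        have := this.trans hd
        omega
      have hk3' : 3 ≤ k := (Nat.pow_dvd_pow_iff_le_right (by norm_num)).mp h8
      have : k = 3 := le_antisymm hk3 hk3'
      rw [this]
      norm_num
    rcases F.two_sub P P.2 with hc | ⟨k, hk, ⟨e⟩⟩
    · exfalso
      haveI := hc
      obtain ⟨g, hg⟩ := IsCyclic.exists_ofOrder_eq_natCard (α := (P : Subgroup G))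
      rw [hP8, ← Subgroup.orderOf_coe] at hg
      rcases plane_sylow_exp F z hz C (P : Subgroup G) (by rw [htop]; exact le_top) hP8 g g.2
        with h | h | h
      · rw [h, orderOf_one] at hg
        omega
      · rw [h, hz] at hg
        omega
      · rw [h] at hg
        omega
    · have hc := Nat.card_congr e.toEquiv
      rw [hP8, Nat.card_eq_fintype_card, QuaternionGroup.card] at hc
      have h2k : 2 ^ k = 2 := by omega
      rw [h2k] at e
      exact ⟨e⟩

end Cfsg.Agent.Helper56.ZG
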