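import Mathlib
import Cfsg.Agent.Lib.Helper56.ZK2

set_option autoImplicit false
set_option linter.unusedSectionVars false
set_option linter.style.haveILetI false
set_option linter.unusedVariables false
set_option maxHeartbeats 1000000

/-! Zassenhaus project, part K3: a semiregular representation over a prime field extends to a
semiregular representation with enough eigenvectors over a finite field. -/

namespace Cfsg.Agent.Helper56.ZG

open Cfsg.Agent.Helper56.ZA Cfsg.Agent.Helper56.ZB Cfsg.Agent.Helper56.ZC Cfsg.Agent.Helper56.ZD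
  Cfsg.Agent.Helper56.ZE Cfsg.Agent.Helper56.ZF Cfsg.Agent.Helper56.ZE0 Cfsg.Agent.Helper56.FC

open scoped TensorProduct

universe u

/-- a finite field of characteristic `q` containing a primitive `m`-th root of unity -/
lemma exists_prim_root (q : ℕ) [Fact q.Prime] (m : ℕ) (hm : 0 < m) (hqm : Nat.Coprime q m) :
    ∃ ζ : GaloisField q (Nat.totient m), IsPrimitiveRoot ζ m := by
  set k := Nat.totient m with hkdef
  have hq : q.Prime := Fact.out
  have hk : k ≠ 0 := (Nat.totient_pos.mpr hm).ne'
  have hcard := GaloisField.card q k hk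
  obtain ⟨g, hg⟩ := IsCyclic.exists_ofOrder_eq_natCard (α := (GaloisField q k)ˣ)
  have hcu : Nat.card (GaloisField q k)ˣ = q ^ k - 1 := by
    rw [Nat.card_units, hcard]
  have hdvd : m ∣ q ^ k - 1 := by
    have := Nat.ModEq.pow_totient hqm
    exact (Nat.modEq_iff_dvd' (Nat.one_le_pow _ _ hq.pos)).mp this.symm
  obtain ⟨d, hd⟩ := hdvd
  have hpos : 0 < q ^ k - 1 := by
    have : 2 ≤ q ^ k := by
      calc 2 ≤ q := hq.two_le
        _ = q ^ 1 := (pow_one q).symm
        _ ≤ q ^ k := Nat.pow_le_pow_right hq.pos (Nat.one_le_iff_ne_zero.mpr hk)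
    omega
  have hd0 : d ≠ 0 := by
    rintro rfl
    rw [mul_zero] at hd
    omega
  refine ⟨((g ^ d : (GaloisField q k)ˣ) : GaloisField q k), ?_⟩
  rw [IsPrimitiveRoot.coe_units_iff]
  have hord : orderOf (g ^ d) = m := by
    rw [orderOf_pow_of_dvd hd0 (by rw [hg, hcu, hd]; exact dvd_mul_left d m), hg, hcu, hd]
    exact Nat.mul_div_cancel m (Nat.pos_of_ne_zero hd0)
  rw [← hord]
  exact IsPrimitiveRoot.orderOf _

/-- an operator of finite order over a field with enough roots of unity has an eigenvector in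
every nonzero invariant subspace -/
lemma exists_eigenvector {K W : Type*} [Field K] [AddCommGroup W] [Module K W]
    (T : Module.End K W) (m : ℕ) (hm : 0 < m) (hT : T ^ m = 1) (ζ : K)
    (hζ : IsPrimitiveRoot ζ m) (U : Submodule K W) (hU : U ≠ ⊥) (hinv : ∀ u ∈ U, T u ∈ U) :
    ∃ u ∈ U, u ≠ 0 ∧ ∃ μ : K, T u = μ • u := by
  classical
  obtain ⟨u, huU, hu0⟩ := (Submodule.ne_bot_iff U).mp hU
  have hprod := Polynomial.X_pow_sub_one_eq_prod hm hζ
  have h0 : Polynomial.aeval T (Polynomial.X ^ m - 1 : Polynomial K) u = 0 := by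
    simp [hT]
  rw [hprod] at h0
  have claim : ∀ s : Finset K, ∀ u ∈ U, u ≠ 0 →
      Polynomial.aeval T (∏ a ∈ s, (Polynomial.X - Polynomial.C a)) u = 0 →
      ∃ v ∈ U, v ≠ 0 ∧ ∃ μ : K, T v = μ • v := by
    intro s
    induction s using Finset.induction_on with
    | empty =>
      intro u _ hu0 h
      simp at h
      exact (hu0 h).elim
    | insert a s ha ih =>
      intro u huU hu0 h
      rw [Finset.prod_insert ha, map_mul, Module.End.mul_apply] at h
      set v := Polynomial.aeval T (∏ a ∈ s, (Polynomial.X - Polynomial.C a)) u with hv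
      by_cases hv0 : v = 0
      · exact ih u huU hu0 hv0
      · refine ⟨v, ?_, hv0, a, ?_⟩
        · exact Polynomial.aeval_apply_smul_mem_of_le_comap huU _ T (fun x hx => hinv x hx)
        · have h' : T v - a • v = 0 := by
            simpa using h
          exact sub_eq_zero.mp h'
  exact claim _ u huU hu0 h0

section build

variable {G : Type u} [Group G] [Finite G] (q : ℕ) [Fact q.Prime] (V : Type) [AddCommGroup V]
  [Module (ZMod q) V] [Finite V] [Nontrivial V] (ρ : G →* (V ≃ₗ[ZMod q] V))
  (hsr : ∀ v : V, v ≠ 0 → ∀ g : G, ρ g v = v → g = 1)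

/-- the representation as a homomorphism to the endomorphism ring -/
def endHom : G →* Module.End (ZMod q) V where
  toFun := fun x => ((ρ x : V ≃ₗ[ZMod q] V) : V →ₗ[ZMod q] V)
  map_one' := by
    ext v
    simp
  map_mul' := by
    intro x y
    ext v
    simp

lemma endHom_apply (g : G) (v : V) : endHom q V ρ g v = ρ g v := rfl

include hsr in
theorem exists_FD_aux (K : Type) [Field K] [Finite K] [CharP K q] [Algebra (ZMod q) K] (ζ : K)
    (hζ : IsPrimitiveRoot ζ (Nat.card G)) : Nonempty (FD G) := by
  have hq : q.Prime := Fact.out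
  have hm : 0 < Nat.card G := Nat.card_pos
  let Φ : Module.End (ZMod q) V →+* Module.End K (K ⊗[ZMod q] V) :=
    (Module.End.baseChangeHom (ZMod q) K V).toRingHom
  let σ : G →* Module.End K (K ⊗[ZMod q] V) := Φ.toMonoidHom.comp (endHom q V ρ)
  have hσ : ∀ g, σ g = Φ (endHom q V ρ g) := fun g => rfl
  have hsrK : ∀ g : G, g ≠ 1 → ∀ w : K ⊗[ZMod q] V, σ g w = w → w = 0 := by
    intro g hg w hw
    set T : Module.End (ZMod q) V := endHom q V ρ g - 1 with hT
    have hinj : Function.Injective T := by
      rw [injective_iff_map_eq_zero]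
      intro v hv
      by_contra hv0
      apply hg
      apply hsr v hv0 g
      have : endHom q V ρ g v - v = 0 := hv
      rw [endHom_apply] at this
      exact sub_eq_zero.mp this
    have hbij : Function.Bijective T := Finite.injective_iff_bijective.mp hinj
    have hU : IsUnit T := (Module.End.isUnit_iff T).mpr hbij
    have hU' : IsUnit (Φ T) := hU.map Φ
    have hΦT : Φ T = σ g - 1 := by
      rw [hT, map_sub, map_one, hσ]
    have h1 : (Φ T) w = 0 := by
      rw [hΦT]
      show σ g w - w = 0
      rw [hw, sub_self]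
    have hinj' := ((Module.End.isUnit_iff _).mp hU').injective
    apply hinj'
    rw [h1, map_zero]
  have hntr : ∃ w : K ⊗[ZMod q] V, w ≠ 0 := by
    have h1 : 0 < Module.finrank (ZMod q) V := Module.finrank_pos
    have h2 : Module.finrank K (K ⊗[ZMod q] V) = Module.finrank (ZMod q) V :=
      Module.finrank_baseChange
    rw [← h2] at h1
    haveI := Module.nontrivial_of_finrank_pos h1
    exact exists_ne 0
  have heig : ∀ g : G, ∀ U : Submodule K (K ⊗[ZMod q] V), U ≠ ⊥ → (∀ u ∈ U, σ g u ∈ U) →
      ∃ u ∈ U, u ≠ 0 ∧ ∃ μ : K, σ g u = μ • u := by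
    intro g U hU hinv
    apply exists_eigenvector (σ g) (Nat.card G) hm _ ζ hζ U hU hinv
    rw [← map_pow, pow_card_eq_one', map_one]
  exact ⟨{ q := q, V := V, ρ := ρ, hsr := hsr, K := K, W := K ⊗[ZMod q] V,
           D := ⟨σ, hsrK, heig, hntr⟩ }⟩

include hsr in
/-- the bundled data of a group with a semiregular representation over a prime field -/
theorem exists_FD : Nonempty (FD G) := by
  have hq : q.Prime := Fact.out
  have hm : 0 < Nat.card G := Nat.card_pos
  have hqm : Nat.Coprime q (Nat.card G) :=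
    (Nat.Prime.coprime_iff_not_dvd hq).mpr (sr_not_dvd ρ hsr)
  obtain ⟨ζ, hζ⟩ := exists_prim_root q (Nat.card G) hm hqm
  exact exists_FD_aux q V ρ hsr (GaloisField q (Nat.totient (Nat.card G))) ζ hζ

end build

end Cfsg.Agent.Helper56.ZG
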