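import Mathlib
import Cfsg.Agent.Lib.Helper56.ZK3
import Cfsg.Agent.Lib.Helper56.FrobComplB
import Cfsg.Agent.Lib.Helper71.Frobenius

set_option autoImplicit false
set_option linter.unusedSectionVars false
set_option linter.style.haveILetI false
set_option linter.unusedVariables false
set_option maxHeartbeats 1000000

/-! Zassenhaus project, part K4: fixed-point-free automorphism groups and Frobenius complements
carry the bundled data `FD`. -/

namespace Cfsg.Agent.Helper56.ZG

open Cfsg.Agent.Helper56.ZA Cfsg.Agent.Helper56.ZB Cfsg.Agent.Helper56.ZC Cfsg.Agent.Helper56.ZD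
  Cfsg.Agent.Helper56.ZE Cfsg.Agent.Helper56.ZF Cfsg.Agent.Helper56.ZE0 Cfsg.Agent.Helper56.FC

universe u

/-- a Frobenius complement (in a group of the lowest universe) carries the data `FD` -/
theorem exists_FD_of_frobenius {L : Type} [Group L] [Finite L] (H : Subgroup L)
    (hH : Cfsg.IsFrobeniusComplement H) : Nonempty (FD H) := by
  obtain ⟨q, hq, V, i1, i2, i3, i4, ρ, hsr⟩ := exists_sr_of_frobenius H hH
  exact exists_FD q V ρ hsr

/-- a group isomorphic to a Frobenius complement carries the data `FD` -/
theorem exists_FD_of_iso {G : Type u} [Group G] {L : Type} [Group L] [Finite L] (H : Subgroup L)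
    (hH : Cfsg.IsFrobeniusComplement H) (e : G ≃* H) : Nonempty (FD G) := by
  obtain ⟨F⟩ := exists_FD_of_frobenius H hH
  exact ⟨F.comap e.toMonoidHom e.injective⟩

/-- a nontrivial group of fixed-point-free automorphisms of a finite group carries the data
`FD` -/
theorem exists_FD_of_fpf {K : Type u} [Group K] [Finite K] (G : Subgroup (MulAut K))
    (hfpf : ∀ φ ∈ G, φ ≠ 1 → ∀ k : K, φ k = k → k = 1) (hne : G ≠ ⊥) : Nonempty (FD G) := by
  haveI : Small.{0} K := Countable.toSmall K
  let K' := Shrink.{0} K
  let me : K' ≃* K := Shrink.mulEquiv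
  let c : MulAut K ≃* MulAut K' := MulAut.congr me.symm
  have hc : ∀ (f : MulAut K) (k' : K'), c f k' = me.symm (f (me k')) := fun f k' => rfl
  let G' : Subgroup (MulAut K') := G.map c.toMonoidHom
  let eG : G ≃* G' := G.equivMapOfInjective c.toMonoidHom c.injective
  haveI : Finite K' := Finite.of_equiv K me.symm.toEquiv
  haveI hGnt : Nontrivial G := (Subgroup.nontrivial_iff_ne_bot G).mpr hne
  haveI : Nontrivial G' := eG.symm.toEquiv.nontrivial
  haveI : Nontrivial K' := by
    by_contra h
    rw [not_nontrivial_iff_subsingleton] at h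
    haveI : Subsingleton K := me.symm.toEquiv.subsingleton
    obtain ⟨a, b, hab⟩ := hGnt
    apply hab
    apply Subtype.ext
    ext k
    exact Subsingleton.elim _ _
  haveI : Finite G' := Finite.of_injective (fun g : G' => ((g : MulAut K') : K' → K'))
    (fun a b h => Subtype.ext (DFunLike.coe_injective h))
  let φ : G' →* MulAut K' := G'.subtype
  have hfpf' : ∀ h : G', h ≠ 1 → ∀ k : K', φ h k = k → k = 1 := by
    rintro ⟨h, f, hf, rfl⟩ hh k hk
    have hf1 : f ≠ 1 := by
      rintro rfl
      apply hh
      apply Subtype.ext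
      exact map_one c.toMonoidHom
    have h1 : me.symm (f (me k)) = k := hk
    have h2 : f (me k) = me k := by
      have := congrArg me h1
      rwa [me.apply_symm_apply] at this
    have h3 := hfpf f hf hf1 (me k) h2
    have h4 := congrArg me.symm h3
    rwa [me.symm_apply_apply, map_one] at h4
  have hFC := Cfsg.Agent.Helper71.isFrobeniusComplement_range_inr φ hfpf'
  haveI : Finite (K' ⋊[φ] G') := Finite.of_equiv _ (SemidirectProduct.equivProd).symm
  let j : G' ≃* (SemidirectProduct.inr : G' →* K' ⋊[φ] G').range :=
    MonoidHom.ofInjective SemidirectProduct.inr_injective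
  exact exists_FD_of_iso _ hFC (eG.trans j)

end Cfsg.Agent.Helper56.ZG
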