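import Mathlib
import Cfsg.Agent.Lib.Helper56.ZK4

set_option autoImplicit false
set_option linter.unusedSectionVars false
set_option linter.style.haveILetI false
set_option linter.unusedVariables false
set_option maxHeartbeats 1000000

/-! Zassenhaus project, part L1: a non-solvable fixed-point-free group has a normal subgroup which
is a "plane". -/

namespace Cfsg.Agent.Helper56.ZG

open Cfsg.Agent.Helper56.ZA Cfsg.Agent.Helper56.ZB Cfsg.Agent.Helper56.ZC Cfsg.Agent.Helper56.ZD
  Cfsg.Agent.Helper56.ZE Cfsg.Agent.Helper56.ZF Cfsg.Agent.Helper56.ZE0 Cfsg.Agent.Helper56.FC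

universe u

lemma exists_stable (G : Type*) [Group G] [Finite G] :
    ∃ n, derivedSeries G (n + 1) = derivedSeries G n := by
  by_contra hcon
  push_neg at hcon
  have hlt : ∀ n, Nat.card (derivedSeries G (n + 1)) < Nat.card (derivedSeries G n) := by
    intro n
    have hle : derivedSeries G (n + 1) ≤ derivedSeries G n :=
      derivedSeries_antitone G (Nat.le_succ n)
    have := Subgroup.card_le_of_le hle
    rcases this.lt_or_eq with h | h
    · exact h
    · exact (hcon n (Subgroup.eq_of_le_of_card_ge hle h.ge)).elim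
  have hbound : ∀ n, Nat.card (derivedSeries G n) + n ≤ Nat.card G := by
    intro n
    induction n with
    | zero => simp [derivedSeries_zero]
    | succ n ih =>
      have := hlt n
      omega
  have := hbound (Nat.card G + 1)
  omega

/-- a finite non-solvable group has a nontrivial perfect normal subgroup -/
theorem exists_perfect_normal {G : Type*} [Group G] [Finite G] (hns : ¬ Group.IsSolvable G) :
    ∃ S : Subgroup G, S.Normal ∧ S ≠ ⊥ ∧ commutator S = ⊤ := by
  obtain ⟨n, hn⟩ := exists_stable G
  refine ⟨derivedSeries G n, derivedSeries_normal G n, ?_, ?_⟩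
  · intro h
    exact hns ((isSolvable_def G).mpr ⟨n, h⟩)
  · rw [derivedSeries_succ] at hn
    apply Subgroup.map_injective (derivedSeries G n).subtype_injective
    rw [Subgroup.map_subtype_commutator, hn, ← MonoidHom.range_eq_map, Subgroup.range_subtype]

lemma plane_map {G H : Type*} [Group G] [Group H] (f : H →* G) (hf : Function.Injective f)
    (D : Subgroup H) (hD : IsPlane D) : IsPlane (D.map f) := by
  obtain ⟨⟨x, y, hx, hy, h⟩, ⟨C⟩⟩ := hD
  refine ⟨⟨f x, f y, by rw [orderOf_injective f hf, hx], by rw [orderOf_injective f hf, hy], ?_⟩,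
    cover_map f hf D C⟩
  rw [h, MonoidHom.map_closure, Set.image_pair]

/-- a perfect nontrivial fixed-point-free group is a plane -/
theorem perfect_plane {G : Type u} [Group G] [Finite G] (F : FD G) (hperf : commutator G = ⊤)
    (hnt : Nontrivial G) : IsPlane (⊤ : Subgroup G) := by
  haveI : Fact (Nat.Prime 2) := ⟨Nat.prime_two⟩
  haveI : Fact (Nat.Prime 3) := ⟨by norm_num⟩
  haveI hDn : (DG G).Normal := DG_normal
  have common : ∀ L₀ : Subgroup G, IsLine L₀ → L₀ ≤ DG G → DG G = ⊤ := by
    intro L₀ hL₀ hle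
    obtain ⟨-, ⟨C₀⟩⟩ := id hL₀
    have h2 : 2 ∣ Nat.card G := by
      obtain ⟨τ, τ', h1, h2, -⟩ := a4_ex2
      exact two_dvd_of_cover C₀ ⟨τ, h1, h2⟩
    obtain ⟨z, hz⟩ := F.exists_invol h2
    have hT2 : IsPGroup 2 (E4 L₀) := IsPGroup.of_card (n := 3) (by
      rw [E4_card F z hz C₀]; norm_num)
    haveI := quot_zgroup F (DG G) (E4 L₀) ((E4_le L₀).trans hle) hT2 (E4_nonabelian F z hz hL₀)
    have hsub := zgroup_perfect (perfect_of_surjective (QuotientGroup.mk' (DG G))
      (QuotientGroup.mk'_surjective _) hperf)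
    rw [← Subgroup.index_eq_one, Subgroup.index, Nat.card_eq_one_iff_unique]
    exact ⟨hsub, ⟨1⟩⟩
  rcases MZ F with h | ⟨x, hx, h⟩ | hL | hP
  · exfalso
    have h3 : ¬ 3 ∣ Nat.card G := by
      intro hd
      obtain ⟨x, hx⟩ := exists_prime_orderOf_dvd_card' 3 hd
      have hxD : x ∈ DG G := Subgroup.subset_closure hx
      rw [h, Subgroup.mem_bot] at hxD
      rw [hxD, orderOf_one] at hx
      omega
    exact not_subsingleton G (no_three_perfect F h3 hperf)
  · exact (point_perfect_false F x hx h hperf).elim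
  · exfalso
    have htop := common _ hL le_rfl
    obtain ⟨-, ⟨C⟩⟩ := id hL
    let ι : G →* DG G := MonoidHom.codRestrict (MonoidHom.id G) (DG G) (fun g => by
      rw [htop]; trivial)
    have hι : Function.Surjective ι := by
      intro k
      exact ⟨k, Subtype.ext rfl⟩
    exact a4_not_perfect (perfect_of_surjective (C.π.comp ι) (C.surj.comp hι) hperf)
  · obtain ⟨-, ⟨C⟩⟩ := id hP
    have h2 : 2 ∣ Nat.card G := by
      obtain ⟨τ, τ', h1, h2, -⟩ := a5_ex2
      exact two_dvd_of_cover C ⟨τ, h1, h2⟩
    obtain ⟨z, hz⟩ := F.exists_invol h2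
    obtain ⟨T, hTS, hT⟩ := plane_exists_sylow F z hz C
    obtain ⟨L, hLS, hL, -⟩ := plane_line F z hz C T hTS hT
    have htop := common L hL hLS
    rw [← htop]
    exact hP

/-- a non-solvable fixed-point-free group has a perfect normal subgroup which is a plane -/
theorem exists_normal_plane {G : Type u} [Group G] [Finite G] (F : FD G)
    (hns : ¬ Group.IsSolvable G) :
    ∃ S : Subgroup G, S.Normal ∧ IsPlane S ∧ commutator S = ⊤ := by
  obtain ⟨S, hSn, hSne, hSp⟩ := exists_perfect_normal hns
  refine ⟨S, hSn, ?_, hSp⟩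
  have hnt : Nontrivial S := (Subgroup.nontrivial_iff_ne_bot S).mpr hSne
  have h1 := perfect_plane (F.comap S.subtype S.subtype_injective) hSp hnt
  have h2 := plane_map S.subtype S.subtype_injective _ h1
  rwa [← MonoidHom.range_eq_map, Subgroup.range_subtype] at h2

end Cfsg.Agent.Helper56.ZG
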