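import Mathlib
import Cfsg.Agent.Lib.Helper56.ZL1

set_option autoImplicit false
set_option linter.unusedSectionVars false
set_option linter.style.haveILetI false
set_option linter.unusedVariables false
set_option maxHeartbeats 1000000
set_option maxRecDepth 100000

/-! Zassenhaus project, part L2: the centralizer of a normal plane. -/

namespace Cfsg.Agent.Helper56.ZG

open Cfsg.Agent.Helper56.ZA Cfsg.Agent.Helper56.ZB Cfsg.Agent.Helper56.ZC Cfsg.Agent.Helper56.ZD
  Cfsg.Agent.Helper56.ZE Cfsg.Agent.Helper56.ZF Cfsg.Agent.Helper56.ZE0 Cfsg.Agent.Helper56.FC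

universe u

theorem a5_center : ∀ a : A5, (∀ b : A5, a * b = b * a) → a = 1 := by decide

section cent

variable {G : Type u} [Group G] [Finite G] (F : FD G) (z : G) (hz : orderOf z = 2)
  (S : Subgroup G) (C : Cover S A5)

include F hz C

/-- elements of the plane centralizing it are of order at most two -/
lemma cent_inter (g : G) (hgS : g ∈ S) (hgC : g ∈ Subgroup.centralizer (S : Set G)) :
    g * g = 1 := by
  have h1 : C.π ⟨g, hgS⟩ = 1 := by
    apply a5_center
    intro b
    obtain ⟨k, rfl⟩ := C.surj b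
    rw [← map_mul, ← map_mul]
    congr 1
    apply Subtype.ext
    exact ((Subgroup.mem_centralizer_iff.mp hgC) k k.2).symm
  exact congrArg Subtype.val (C.ker _ h1)

lemma cent_inter' (g : G) (hgS : g ∈ S) (hgC : g ∈ Subgroup.centralizer (S : Set G)) :
    g = 1 ∨ g = z := by
  have h := cent_inter F z hz S C g hgS hgC
  by_cases h1 : g = 1
  · exact Or.inl h1
  · exact Or.inr (F.invol_unique _ _ (ord_of_sq _ h1 h) hz)

lemma cent_no3 (hS : IsPlane S) (y : G) (hyC : y ∈ Subgroup.centralizer (S : Set G))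
    (hy : orderOf y = 3) : False := by
  obtain ⟨⟨x, x', hx, -, hSeq⟩, -⟩ := hS
  have hxS : x ∈ S := by
    rw [hSeq]
    exact Subgroup.subset_closure (Set.mem_insert _ _)
  have hc : x * y = y * x := (Subgroup.mem_centralizer_iff.mp hyC) x hxS
  have hyS : y ∈ S := by
    rcases F.comm3 x y hx hy hc with h | h
    · rw [h]; exact hxS
    · rw [h]; exact S.inv_mem hxS
  have h2 := cent_inter F z hz S C y hyS hyC
  have hd : orderOf y ∣ 2 := orderOf_dvd_of_pow_eq_one (by rw [pow_two]; exact h2)
  rw [hy] at hd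
  omega

lemma cent_no4 (t : G) (htC : t ∈ Subgroup.centralizer (S : Set G))
    (ht : orderOf t = 4) : False := by
  obtain ⟨T, hTS, hT⟩ := plane_exists_sylow F z hz C
  obtain ⟨s, hsT, hs⟩ := plane_sylow_elt F z hz C T hTS hT
  have hsS : s ∈ S := hTS hsT
  have hc : t * s = s * t := ((Subgroup.mem_centralizer_iff.mp htC) s hsS).symm
  have htS : t ∈ S := by
    rcases F.comm4 t s ht hs hc with h | h
    · rw [← h]; exact hsS
    · have : t = s⁻¹ := by rw [h, inv_inv]
      rw [this]; exact S.inv_mem hsS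
  have h2 := cent_inter F z hz S C t htS htC
  have hd : orderOf t ∣ 2 := orderOf_dvd_of_pow_eq_one (by rw [pow_two]; exact h2)
  rw [ht] at hd
  omega

lemma cent_no5 (y : G) (hyC : y ∈ Subgroup.centralizer (S : Set G))
    (hy : orderOf y = 5) : False := by
  haveI : Fact (Nat.Prime 5) := ⟨by norm_num⟩
  have h5 : 5 ∣ Nat.card S := by
    rw [plane_card F z hz C]
    norm_num
  obtain ⟨u', hu'⟩ := exists_prime_orderOf_dvd_card' 5 h5
  set u : G := (u' : G) with hudef
  have hu : orderOf u = 5 := by rw [hudef, Subgroup.orderOf_coe]; exact hu'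
  have huS : u ∈ S := u'.2
  have hc : u * y = y * u := (Subgroup.mem_centralizer_iff.mp hyC) u huS
  have hY : IsPGroup 5 (Subgroup.zpowers y) := IsPGroup.of_card (n := 1) (by
    rw [Nat.card_zpowers, hy, pow_one])
  have hU : IsPGroup 5 (Subgroup.zpowers u) := IsPGroup.of_card (n := 1) (by
    rw [Nat.card_zpowers, hu, pow_one])
  have hle : Subgroup.zpowers y ≤ Subgroup.normalizer (Subgroup.zpowers u : Set G) := by
    rw [Subgroup.zpowers_le]
    apply mem_normalizer_of_conj_le
    rintro e ⟨i, rfl⟩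
    refine ⟨i, ?_⟩
    show u ^ i = y * u ^ i * y⁻¹
    have : y * u ^ i = u ^ i * y := by
      have hcm : Commute y u := hc.symm
      exact (hcm.zpow_right i).eq
    rw [this]
    group
  have hA := IsPGroup.to_sup_of_normal_right' hY hU hle
  haveI : IsCyclic (Subgroup.zpowers y ⊔ Subgroup.zpowers u : Subgroup G) :=
    F.odd_sub 5 (by norm_num) _ hA
  have hyA : y ∈ (Subgroup.zpowers y ⊔ Subgroup.zpowers u : Subgroup G) :=
    (le_sup_left : Subgroup.zpowers y ≤ _) (Subgroup.mem_zpowers y)
  have huA : u ∈ (Subgroup.zpowers y ⊔ Subgroup.zpowers u : Subgroup G) :=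
    (le_sup_right : Subgroup.zpowers u ≤ _) (Subgroup.mem_zpowers u)
  have hy5 : y ^ 5 = 1 := by rw [← hy]; exact pow_orderOf_eq_one y
  have hyu := cyc_unique _ 5 u y huA hyA hu hy5
  have hyS : y ∈ S := by
    have : Subgroup.zpowers u ≤ S := by
      rw [Subgroup.zpowers_le]
      exact huS
    exact this hyu
  have h2 := cent_inter F z hz S C y hyS hyC
  have hd : orderOf y ∣ 2 := orderOf_dvd_of_pow_eq_one (by rw [pow_two]; exact h2)
  rw [hy] at hd
  omega

/-- the order of the centralizer of a plane is twice an odd number -/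
lemma cent_not_four : ¬ 4 ∣ Nat.card (Subgroup.centralizer (S : Set G)) := by
  haveI : Fact (Nat.Prime 2) := ⟨Nat.prime_two⟩
  intro h4
  have h4' : 2 ^ 2 ∣ Nat.card (Subgroup.centralizer (S : Set G)) := by
    norm_num
    exact h4
  obtain ⟨P, hP⟩ := Sylow.exists_subgroup_card_pow_prime 2 h4'
  set P' : Subgroup G := P.map (Subgroup.centralizer (S : Set G)).subtype with hP'def
  have hP'card : Nat.card P' = 4 := by
    rw [hP'def, Subgroup.card_map_of_injective (Subgroup.subtype_injective _), hP]
    norm_num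
  have hP'2 : IsPGroup 2 P' := IsPGroup.of_card (n := 2) (by rw [hP'card]; norm_num)
  have hP'C : P' ≤ Subgroup.centralizer (S : Set G) := Subgroup.map_subtype_le _
  rcases F.two_sub P' hP'2 with hc | ⟨k, hk, ⟨e⟩⟩
  · haveI := hc
    obtain ⟨g, hg⟩ := IsCyclic.exists_ofOrder_eq_natCard (α := P')
    rw [hP'card, ← Subgroup.orderOf_coe] at hg
    exact cent_no4 F z hz S C g (hP'C g.2) hg
  · have hc := Nat.card_congr e.toEquiv
    rw [hP'card, Nat.card_eq_fintype_card, QuaternionGroup.card] at hc
    have : 2 ≤ 2 ^ k := by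
      calc 2 = 2 ^ 1 := (pow_one 2).symm
        _ ≤ 2 ^ k := Nat.pow_le_pow_right (by norm_num) hk
    omega

end cent

end Cfsg.Agent.Helper56.ZG
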