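import Mathlib
import Cfsg.Agent.Lib.Helper56.ZL2

set_option autoImplicit false
set_option linter.unusedSectionVars false
set_option linter.style.haveILetI false
set_option linter.unusedVariables false
set_option maxHeartbeats 1000000
set_option maxRecDepth 100000

/-! Zassenhaus project, part L3: enumeration facts on pairs of elements of order three of `A₅`. -/

namespace Cfsg.Agent.Helper56.ZG

open Cfsg.Agent.Helper56.ZA Cfsg.Agent.Helper56.ZB Cfsg.Agent.Helper56.ZC Cfsg.Agent.Helper56.ZD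
  Cfsg.Agent.Helper56.ZE Cfsg.Agent.Helper56.ZF Cfsg.Agent.Helper56.ZE0 Cfsg.Agent.Helper56.FC

universe u

/-- the fifth power -/
def pw5 {α : Type*} [Mul α] (a : α) : α := a * a * a * a * a

lemma pw5_eq {α : Type*} [Monoid α] (a : α) : pw5 a = a ^ 5 := by
  simp [pw5, pow_succ]

/-- the pairs of elements of order three of `A₅` whose product has order five -/
def Om' : Finset (A5 × A5) :=
  Finset.univ.filter (fun q => q.1 ≠ 1 ∧ q.1 * q.1 * q.1 = 1 ∧ q.2 ≠ 1 ∧ q.2 * q.2 * q.2 = 1 ∧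
    pw5 (q.1 * q.2) = 1 ∧ q.1 * q.2 ≠ 1)

theorem Om'_card : Om'.card = 120 := by decide +kernel

theorem a5_pair : ∀ α β : A5, (α ≠ 1 ∧ α * α * α = 1 ∧ β ≠ 1 ∧ β * β * β = 1) →
    (pw5 (α * β) = 1 ∧ α * β ≠ 1) ∨
      ∃ i : Fin 5, (α : Equiv.Perm (Fin 5)) i = i ∧ (β : Equiv.Perm (Fin 5)) i = i := by
  decide +kernel

theorem a5_moves : ∀ i : Fin 5, ∃ a : A5, (a : Equiv.Perm (Fin 5)) i ≠ i := by decide +kernel

end Cfsg.Agent.Helper56.ZG
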