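import Mathlib
import Cfsg.Agent.Lib.Helper56.ZL3

set_option autoImplicit false
set_option linter.unusedSectionVars false
set_option linter.style.haveILetI false
set_option linter.unusedVariables false
set_option maxHeartbeats 1000000
set_option maxRecDepth 100000

/-! Zassenhaus project, part L4: a normal plane times its centralizer has index at most two. -/

namespace Cfsg.Agent.Helper56.ZG

open Cfsg.Agent.Helper56.ZA Cfsg.Agent.Helper56.ZB Cfsg.Agent.Helper56.ZC Cfsg.Agent.Helper56.ZD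
  Cfsg.Agent.Helper56.ZE Cfsg.Agent.Helper56.ZF Cfsg.Agent.Helper56.ZE0 Cfsg.Agent.Helper56.FC

universe u

/-- the pairs of elements of order three of a plane whose product has order five or ten -/
def Om {G : Type*} [Group G] (z : G) (S : Subgroup G) : Set (G × G) :=
  {p | p.1 ∈ S ∧ p.2 ∈ S ∧ orderOf p.1 = 3 ∧ orderOf p.2 = 3 ∧
    ((p.1 * p.2) ^ 5 = 1 ∨ (p.1 * p.2) ^ 5 = z) ∧ p.1 * p.2 ≠ 1 ∧ p.1 * p.2 ≠ z}

section idx

variable {G : Type u} [Group G] [Finite G] (F : FD G) (z : G) (hz : orderOf z = 2)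
  (S : Subgroup G) (C : Cover S A5)

include F hz C

lemma Om_mem' (a b : G) (haS : a ∈ S) (hbS : b ∈ S) (ha : orderOf a = 3) (hb : orderOf b = 3)
    (h5 : (a * b) ^ 5 = 1 ∨ (a * b) ^ 5 = z) (hn1 : a * b ≠ 1) (hnz : a * b ≠ z) :
    (C.π ⟨a, haS⟩, C.π ⟨b, hbS⟩) ∈ Om' := by
  obtain ⟨hzS, hπz⟩ := plane_z F z hz C
  obtain ⟨a1, a3⟩ := ord3_map F C z hz ⟨a, haS⟩ ha
  obtain ⟨b1, b3⟩ := ord3_map F C z hz ⟨b, hbS⟩ hb
  have h5' : pw5 (C.π ⟨a, haS⟩ * C.π ⟨b, hbS⟩) = 1 := by
    rw [pw5_eq, ← map_mul, ← map_pow]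
    have hv : (((⟨a, haS⟩ * ⟨b, hbS⟩ : S) ^ 5 : S) : G) = (a * b) ^ 5 := by simp
    rcases h5 with h | h
    · have : ((⟨a, haS⟩ * ⟨b, hbS⟩ : S) ^ 5 : S) = 1 := Subtype.ext (by rw [hv, h]; rfl)
      rw [this, map_one]
    · have : ((⟨a, haS⟩ * ⟨b, hbS⟩ : S) ^ 5 : S) = ⟨z, hzS⟩ := Subtype.ext (by rw [hv, h])
      rw [this, hπz]
  have hne : C.π ⟨a, haS⟩ * C.π ⟨b, hbS⟩ ≠ 1 := by
    rw [← map_mul]
    intro h
    rcases ker_cases F C z hz _ h with h' | h'
    · exact hn1 h'
    · exact hnz h'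
  unfold Om'
  rw [Finset.mem_filter]
  exact ⟨Finset.mem_univ _, a1, a3, b1, b3, h5', hne⟩

lemma Om_card : Nat.card (Om z S) ≤ 120 := by
  classical
  let f : Om z S → Om' := fun p =>
    ⟨(C.π ⟨p.1.1, p.2.1⟩, C.π ⟨p.1.2, p.2.2.1⟩),
      Om_mem' F z hz S C p.1.1 p.1.2 p.2.1 p.2.2.1 p.2.2.2.1 p.2.2.2.2.1 p.2.2.2.2.2.1
        p.2.2.2.2.2.2.1 p.2.2.2.2.2.2.2⟩
  have hf : Function.Injective f := by
    rintro ⟨⟨a, b⟩, haS, hbS, ha, hb, hrest⟩ ⟨⟨a', b'⟩, haS', hbS', ha', hb', hrest'⟩ h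
    have h1 : C.π ⟨a, haS⟩ = C.π ⟨a', haS'⟩ := congrArg (fun q : Om' => q.1.1) h
    have h2 : C.π ⟨b, hbS⟩ = C.π ⟨b', hbS'⟩ := congrArg (fun q : Om' => q.1.2) h
    have e1 := lift_eq3 F C z hz ⟨a, haS⟩ ⟨a', haS'⟩ ha ha' h1
    have e2 := lift_eq3 F C z hz ⟨b, hbS⟩ ⟨b', hbS'⟩ hb hb' h2
    simp only at e1 e2
    subst e1 e2
    rfl
  have := Nat.card_le_card_of_injective f hf
  rw [Nat.card_eq_fintype_card (α := Om'), Fintype.card_coe, Om'_card] at this
  exact this

lemma Om_conj [hSn : S.Normal] (g : G) (p : G × G) (hp : p ∈ Om z S) :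
    (g * p.1 * g⁻¹, g * p.2 * g⁻¹) ∈ Om z S := by
  obtain ⟨haS, hbS, ha, hb, h5, hn1, hnz⟩ := hp
  have hzc : ∀ g : G, g * z = z * g := F.invol_comm z hz
  have hprod : g * p.1 * g⁻¹ * (g * p.2 * g⁻¹) = g * (p.1 * p.2) * g⁻¹ := by group
  refine ⟨hSn.conj_mem _ haS g, hSn.conj_mem _ hbS g, by rw [ord_conj]; exact ha,
    by rw [ord_conj]; exact hb, ?_, ?_, ?_⟩
  · show (g * p.1 * g⁻¹ * (g * p.2 * g⁻¹)) ^ 5 = 1 ∨ (g * p.1 * g⁻¹ * (g * p.2 * g⁻¹)) ^ 5 = z
    rw [hprod, conj_pow]
    rcases h5 with h | h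
    · left
      rw [h]
      group
    · right
      rw [h, hzc g]
      group
  · show g * p.1 * g⁻¹ * (g * p.2 * g⁻¹) ≠ 1
    rw [hprod]
    intro h
    apply hn1
    have : p.1 * p.2 = g⁻¹ * (g * (p.1 * p.2) * g⁻¹) * g := by group
    rw [this, h]
    group
  · show g * p.1 * g⁻¹ * (g * p.2 * g⁻¹) ≠ z
    rw [hprod]
    intro h
    apply hnz
    have : p.1 * p.2 = g⁻¹ * (g * (p.1 * p.2) * g⁻¹) * g := by group
    rw [this, h, mul_assoc, ← hzc g]
    group

/-- the generators of a plane form a pair of `Om` -/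
lemma Om_base (x y : G) (hx : orderOf x = 3) (hy : orderOf y = 3)
    (hS : S = Subgroup.closure {x, y}) : (x, y) ∈ Om z S := by
  obtain ⟨hzS, hπz⟩ := plane_z F z hz C
  have hxS : x ∈ S := by
    rw [hS]; exact Subgroup.subset_closure (Set.mem_insert _ _)
  have hyS : y ∈ S := by
    rw [hS]; exact Subgroup.subset_closure (Set.mem_insert_of_mem _ rfl)
  obtain ⟨a1, a3⟩ := ord3_map F C z hz ⟨x, hxS⟩ hx
  obtain ⟨b1, b3⟩ := ord3_map F C z hz ⟨y, hyS⟩ hy
  rcases a5_pair _ _ ⟨a1, a3, b1, b3⟩ with ⟨h5, hne⟩ | ⟨i, hi1, hi2⟩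
  · refine ⟨hxS, hyS, hx, hy, ?_, ?_, ?_⟩
    · show (x * y) ^ 5 = 1 ∨ (x * y) ^ 5 = z
      rw [pw5_eq, ← map_mul, ← map_pow] at h5
      have := ker_cases F C z hz _ h5
      simpa using this
    · show x * y ≠ 1
      intro h
      apply hne
      rw [← map_mul]
      have : (⟨x, hxS⟩ * ⟨y, hyS⟩ : S) = 1 := Subtype.ext h
      rw [this, map_one]
    · show x * y ≠ z
      intro h
      apply hne
      rw [← map_mul]
      have : (⟨x, hxS⟩ * ⟨y, hyS⟩ : S) = ⟨z, hzS⟩ := Subtype.ext h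
      rw [this, hπz]
  · exfalso
    let Hi : Subgroup A5 :=
      { carrier := {a | (a : Equiv.Perm (Fin 5)) i = i}
        mul_mem' := by
          intro a b ha hb
          show ((a * b : A5) : Equiv.Perm (Fin 5)) i = i
          rw [Subgroup.coe_mul, Equiv.Perm.mul_apply]
          rw [show (b : Equiv.Perm (Fin 5)) i = i from hb, show (a : Equiv.Perm (Fin 5)) i = i from ha]
        one_mem' := by
          show ((1 : A5) : Equiv.Perm (Fin 5)) i = i
          simp
        inv_mem' := by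
          intro a ha
          show ((a⁻¹ : A5) : Equiv.Perm (Fin 5)) i = i
          rw [Subgroup.coe_inv, Equiv.Perm.inv_eq_iff_eq]
          exact (show (a : Equiv.Perm (Fin 5)) i = i from ha).symm }
    have hle0 : Subgroup.closure ({x, y} : Set G) ≤ (Hi.comap C.π).map S.subtype := by
      rw [Subgroup.closure_le]
      intro g hg
      rcases hg with rfl | rfl
      · exact ⟨⟨g, hxS⟩, hi1, rfl⟩
      · exact ⟨⟨g, hyS⟩, hi2, rfl⟩
    have hle : S ≤ (Hi.comap C.π).map S.subtype := fun s hs => hle0 (by rw [← hS]; exact hs)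
    obtain ⟨a, ha⟩ := a5_moves i
    obtain ⟨k, rfl⟩ := C.surj a
    obtain ⟨k', hk', hkk⟩ := hle k.2
    have : k' = k := Subtype.ext hkk
    rw [this] at hk'
    exact ha hk'

/-- the order of the group is at most `120` times the order of the centralizer of the plane -/
lemma card_le_cent [hSn : S.Normal] (hS : IsPlane S) :
    Nat.card G ≤ 120 * Nat.card (Subgroup.centralizer (S : Set G)) := by
  classical
  obtain ⟨⟨x, y, hx, hy, hSeq⟩, -⟩ := id hS
  have hbase := Om_base F z hz S C x y hx hy hSeq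
  let φ : G → G × G := fun g => (g * x * g⁻¹, g * y * g⁻¹)
  let r : G × G → G := fun ω => if h : ∃ g, φ g = ω then Classical.choose h else 1
  have hr : ∀ g, φ (r (φ g)) = φ g := by
    intro g
    have h : ∃ g', φ g' = φ g := ⟨g, rfl⟩
    simp only [r, dif_pos h]
    exact Classical.choose_spec h
  have hmem : ∀ g, (r (φ g))⁻¹ * g ∈ Subgroup.centralizer (S : Set G) := by
    intro g
    set c := (r (φ g))⁻¹ * g with hc
    have h1 := congrArg Prod.fst (hr g)
    have h2 := congrArg Prod.snd (hr g)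
    simp only [φ] at h1 h2
    have hcx : c * x = x * c := by
      have : x = (r (φ g))⁻¹ * (r (φ g) * x * (r (φ g))⁻¹) * r (φ g) := by group
      calc c * x = (r (φ g))⁻¹ * (g * x * g⁻¹) * g := by rw [hc]; group
        _ = (r (φ g))⁻¹ * (r (φ g) * x * (r (φ g))⁻¹) * g := by rw [h1]
        _ = x * c := by rw [hc]; group
    have hcy : c * y = y * c := by
      calc c * y = (r (φ g))⁻¹ * (g * y * g⁻¹) * g := by rw [hc]; group
        _ = (r (φ g))⁻¹ * (r (φ g) * y * (r (φ g))⁻¹) * g := by rw [h2]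
        _ = y * c := by rw [hc]; group
    have hle : S ≤ Subgroup.centralizer ({c} : Set G) := by
      rw [hSeq, Subgroup.closure_le]
      intro s hs
      rw [SetLike.mem_coe, Subgroup.mem_centralizer_iff]
      intro h hh
      rw [Set.mem_singleton_iff.mp hh]
      rcases hs with rfl | rfl
      · exact hcx
      · exact hcy
    rw [Subgroup.mem_centralizer_iff]
    intro s hs
    have := Subgroup.mem_centralizer_iff.mp (hle hs) c rfl
    exact this.symm
  let ψ : G → Om z S × Subgroup.centralizer (S : Set G) := fun g =>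
    (⟨φ g, Om_conj F z hz S C g (x, y) hbase⟩, ⟨(r (φ g))⁻¹ * g, hmem g⟩)
  have hψ : Function.Injective ψ := by
    intro g g' h
    have h1 : φ g = φ g' := congrArg (fun q : Om z S × Subgroup.centralizer (S : Set G) => q.1.1) h
    have h2 : (r (φ g))⁻¹ * g = (r (φ g'))⁻¹ * g' :=
      congrArg (fun q : Om z S × Subgroup.centralizer (S : Set G) => q.2.1) h
    rw [h1] at h2
    exact mul_left_cancel h2
  have hcard := Nat.card_le_card_of_injective ψ hψ
  rw [Nat.card_prod] at hcard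
  calc Nat.card G ≤ Nat.card (Om z S) * Nat.card (Subgroup.centralizer (S : Set G)) := hcard
    _ ≤ 120 * Nat.card (Subgroup.centralizer (S : Set G)) :=
      Nat.mul_le_mul_right _ (Om_card F z hz S C)

/-- the product of the plane and its centralizer has at least `60` times the order of the
centralizer -/
lemma card_sup_ge :
    60 * Nat.card (Subgroup.centralizer (S : Set G)) ≤
      Nat.card (S ⊔ Subgroup.centralizer (S : Set G) : Subgroup G) := by
  classical
  obtain ⟨hzS, hπz⟩ := plane_z F z hz C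
  let lift : A5 → S := Function.surjInv C.surj
  have hlift : ∀ a, C.π (lift a) = a := Function.surjInv_eq C.surj
  let θ : A5 × Subgroup.centralizer (S : Set G) →
      (S ⊔ Subgroup.centralizer (S : Set G) : Subgroup G) := fun q =>
    ⟨(lift q.1 : G) * (q.2 : G), Subgroup.mul_mem _
      ((le_sup_left : S ≤ S ⊔ Subgroup.centralizer (S : Set G)) (lift q.1).2)
      ((le_sup_right : Subgroup.centralizer (S : Set G) ≤ S ⊔ Subgroup.centralizer (S : Set G))
        q.2.2)⟩
  have hθ : Function.Injective θ := by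
    rintro ⟨α, c⟩ ⟨β, c'⟩ h
    have h1 : (lift α : G) * (c : G) = (lift β : G) * (c' : G) := congrArg Subtype.val h
    have h2 : ((lift β)⁻¹ * lift α : S).1 = (c' : G) * (c : G)⁻¹ := by
      have : ((lift β)⁻¹ * lift α : S).1 = (lift β : G)⁻¹ * (lift α : G) := by simp
      rw [this]
      calc (lift β : G)⁻¹ * (lift α : G) = (lift β : G)⁻¹ * ((lift α : G) * (c : G)) * (c : G)⁻¹ := by
            group
        _ = (c' : G) * (c : G)⁻¹ := by rw [h1]; group
    have hdC : ((lift β)⁻¹ * lift α : S).1 ∈ Subgroup.centralizer (S : Set G) := by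
      rw [h2]
      exact Subgroup.mul_mem _ c'.2 (Subgroup.inv_mem _ c.2)
    have hπ1 : C.π ((lift β)⁻¹ * lift α) = 1 := by
      rcases cent_inter' F z hz S C _ ((lift β)⁻¹ * lift α : S).2 hdC with h' | h'
      · have : ((lift β)⁻¹ * lift α : S) = 1 := Subtype.ext h'
        rw [this, map_one]
      · have : ((lift β)⁻¹ * lift α : S) = ⟨z, hzS⟩ := Subtype.ext h'
        rw [this, hπz]
    rw [map_mul, map_inv, hlift, hlift] at hπ1
    have hαβ : α = β := by
      have := inv_mul_eq_one.mp hπ1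
      exact this.symm
    subst hαβ
    have hc : (c : G) = (c' : G) := mul_left_cancel h1
    have : c = c' := Subtype.ext hc
    rw [this]
  have hcard := Nat.card_le_card_of_injective θ hθ
  rw [Nat.card_prod, Nat.card_eq_fintype_card (α := A5), a5_card] at hcard
  exact hcard

/-- **the plane times its centralizer has index at most two** -/
theorem index_sup_cent [hSn : S.Normal] (hS : IsPlane S) :
    (S ⊔ Subgroup.centralizer (S : Set G) : Subgroup G).index = 1 ∨
      (S ⊔ Subgroup.centralizer (S : Set G) : Subgroup G).index = 2 := by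
  have h1 := card_le_cent F z hz S C hS
  have h2 := card_sup_ge F z hz S C
  have h3 := (S ⊔ Subgroup.centralizer (S : Set G) : Subgroup G).index_mul_card
  have hpos : 0 < Nat.card (S ⊔ Subgroup.centralizer (S : Set G) : Subgroup G) := Nat.card_pos
  have h0 : (S ⊔ Subgroup.centralizer (S : Set G) : Subgroup G).index ≠ 0 :=
    Subgroup.index_ne_zero_of_finite
  set i := (S ⊔ Subgroup.centralizer (S : Set G) : Subgroup G).index with hi
  set n := Nat.card (S ⊔ Subgroup.centralizer (S : Set G) : Subgroup G) with hn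
  have h4 : i * n ≤ 2 * n := by
    rw [h3]
    omega
  have h5 : i ≤ 2 := Nat.le_of_mul_le_mul_right h4 hpos
  omega

end idx

end Cfsg.Agent.Helper56.ZG
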