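import Mathlib
import Cfsg.Agent.Lib.Helper56.ZL4

set_option autoImplicit false
set_option linter.unusedSectionVars false
set_option linter.style.haveILetI false
set_option linter.unusedVariables false
set_option maxHeartbeats 1000000

/-! Zassenhaus project, part L5: the structure of the non-solvable fixed-point-free groups. -/

namespace Cfsg.Agent.Helper56.ZG

open Cfsg.Agent.Helper56.ZA Cfsg.Agent.Helper56.ZB Cfsg.Agent.Helper56.ZC Cfsg.Agent.Helper56.ZD
  Cfsg.Agent.Helper56.ZE Cfsg.Agent.Helper56.ZF Cfsg.Agent.Helper56.ZE0 Cfsg.Agent.Helper56.FC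

universe u

/-- **Zassenhaus**: a non-solvable fixed-point-free group has a normal subgroup of index at most
two which is the direct product of `SL(2,5)` and a group of order prime to `30` with cyclic Sylow
subgroups -/
theorem nonsolvable_structure {G : Type u} [Group G] [Finite G] (F : FD G)
    (hns : ¬ Group.IsSolvable G) :
    ∃ G₀ : Subgroup G, G₀.Normal ∧ (G₀.index = 1 ∨ G₀.index = 2) ∧
      ∃ S M : Subgroup G, S ⊔ M = G₀ ∧ S ⊓ M = ⊥ ∧ (∀ s ∈ S, ∀ x ∈ M, s * x = x * s) ∧
        Nonempty (S ≃* Matrix.SpecialLinearGroup (Fin 2) (ZMod 5)) ∧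
        (∀ (p : ℕ) [Fact p.Prime] (P : Sylow p M), IsCyclic P) ∧ (Nat.card M).Coprime 30 := by
  classical
  haveI : Fact (Nat.Prime 2) := ⟨Nat.prime_two⟩
  haveI : Fact (Nat.Prime 3) := ⟨by norm_num⟩
  haveI : Fact (Nat.Prime 5) := ⟨by norm_num⟩
  obtain ⟨S, hSn, hSplane, hSperf⟩ := exists_normal_plane F hns
  haveI := hSn
  obtain ⟨-, ⟨C⟩⟩ := id hSplane
  have h2 : 2 ∣ Nat.card G := by
    obtain ⟨τ, τ', h1, h2, -⟩ := a5_ex2
    exact two_dvd_of_cover C ⟨τ, h1, h2⟩
  obtain ⟨z, hz⟩ := F.exists_invol h2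
  obtain ⟨hzS, hπz⟩ := plane_z F z hz C
  have hzc : ∀ g : G, g * z = z * g := F.invol_comm z hz
  set Cn : Subgroup G := Subgroup.centralizer (S : Set G) with hCn
  have hzCn : z ∈ Cn := by
    rw [hCn, Subgroup.mem_centralizer_iff]
    intro h _
    exact hzc h
  -- the complement of `⟨z⟩` in the centralizer
  let zc : Cn := ⟨z, hzCn⟩
  have hzc_ord : orderOf zc = 2 := by
    rw [← hz]
    exact Subgroup.orderOf_mk z hzCn
  let N : Subgroup Cn := Subgroup.zpowers zc
  haveI hNn : N.Normal := by
    constructor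
    rintro n ⟨i, rfl⟩ g
    refine ⟨i, ?_⟩
    show zc ^ i = g * zc ^ i * g⁻¹
    have hcm : Commute g zc := by
      apply Subtype.ext
      exact hzc (g : G)
    have : g * zc ^ i = zc ^ i * g := (hcm.zpow_right i).eq
    rw [this]
    group
  have hNcard : Nat.card N = 2 := by
    rw [Nat.card_zpowers, hzc_ord]
  have h4 : ¬ 4 ∣ Nat.card Cn := cent_not_four F z hz S C
  have hNidx : N.index * 2 = Nat.card Cn := by
    rw [← hNcard]
    exact N.index_mul_card
  have hcop : Nat.Coprime (Nat.card N) N.index := by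
    rw [hNcard, Nat.coprime_two_left]
    rw [Nat.odd_iff]
    by_contra hodd
    apply h4
    have : N.index % 2 = 0 := by omega
    omega
  obtain ⟨M₀, hM₀⟩ := Subgroup.exists_left_complement'_of_coprime hcop
  set M : Subgroup G := M₀.map Cn.subtype with hM
  have hMCn : M ≤ Cn := Subgroup.map_subtype_le _
  have hMcard : Nat.card M * 2 = Nat.card Cn := by
    rw [hM, Subgroup.card_map_of_injective (Subgroup.subtype_injective _), ← hNcard]
    exact hM₀.card_mul_card
  have hModd : ¬ 2 ∣ Nat.card M := by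
    intro hd
    apply h4
    omega
  have hM3 : ¬ 3 ∣ Nat.card M := by
    intro hd
    obtain ⟨y, hy⟩ := exists_prime_orderOf_dvd_card' 3 hd
    rw [← Subgroup.orderOf_coe] at hy
    exact cent_no3 F z hz S C hSplane y (hMCn y.2) hy
  have hM5 : ¬ 5 ∣ Nat.card M := by
    intro hd
    obtain ⟨y, hy⟩ := exists_prime_orderOf_dvd_card' 5 hd
    rw [← Subgroup.orderOf_coe] at hy
    exact cent_no5 F z hz S C y (hMCn y.2) hy
  have hsup : S ⊔ M = S ⊔ Cn := by
    apply le_antisymm
    · exact sup_le le_sup_left (hMCn.trans le_sup_right)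
    · apply sup_le le_sup_left
      have h1 : M₀ ⊔ N = ⊤ := hM₀.sup_eq_top
      have h2 : (⊤ : Subgroup Cn).map Cn.subtype = Cn := by
        rw [← MonoidHom.range_eq_map, Subgroup.range_subtype]
      rw [← h2, ← h1, Subgroup.map_sup]
      apply sup_le
      · exact le_sup_right
      · have : N.map Cn.subtype = Subgroup.zpowers z := by
          rw [MonoidHom.map_zpowers]
          rfl
        rw [this]
        refine le_trans ?_ (le_sup_left : S ≤ S ⊔ M)
        rw [Subgroup.zpowers_le]
        exact hzS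
  refine ⟨S ⊔ Cn, inferInstance, index_sup_cent F z hz S C hSplane, S, M, hsup, ?_, ?_, ?_, ?_, ?_⟩
  · rw [eq_bot_iff]
    rintro g ⟨hgS, hgM⟩
    rw [Subgroup.mem_bot]
    have hgg := cent_inter F z hz S C g hgS (hMCn hgM)
    have hd1 : orderOf g ∣ 2 := orderOf_dvd_of_pow_eq_one (by rw [pow_two]; exact hgg)
    have hd2 : orderOf g ∣ Nat.card M := by
      have := orderOf_dvd_natCard (⟨g, hgM⟩ : M)
      rwa [Subgroup.orderOf_mk] at this
    have hd : orderOf g ∣ Nat.gcd 2 (Nat.card M) := Nat.dvd_gcd hd1 hd2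
    have hg1 : Nat.gcd 2 (Nat.card M) = 1 :=
      (Nat.Prime.coprime_iff_not_dvd Nat.prime_two).mpr hModd
    rw [hg1, Nat.dvd_one, orderOf_eq_one_iff] at hd
    exact hd
  · intro s hs x hx
    exact (Subgroup.mem_centralizer_iff.mp (hMCn hx)) s hs
  · have hnt : Nontrivial S := by
      refine ⟨⟨⟨z, hzS⟩, 1, ?_⟩⟩
      intro h
      have := congrArg Subtype.val h
      simp only [Subgroup.coe_one] at this
      rw [this, orderOf_one] at hz
      omega
    exact Z (F.comap S.subtype S.subtype_injective) hSperf hnt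
  · intro p hp P
    set P' : Subgroup G := (P : Subgroup M).map M.subtype with hP'
    have hP'p : IsPGroup p P' := P.2.map _
    have e : (P : Subgroup M) ≃* P' :=
      Subgroup.equivMapOfInjective _ _ M.subtype_injective
    by_cases hp2 : p = 2
    · subst hp2
      obtain ⟨k, hk⟩ := P.2.exists_card_eq
      have hd : Nat.card (P : Subgroup M) ∣ Nat.card M := Subgroup.card_subgroup_dvd_card _
      have hk0 : k = 0 := by
        by_contra hk0
        apply hModd
        refine dvd_trans ?_ hd
        rw [hk]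
        exact dvd_pow_self 2 hk0
      rw [hk0, pow_zero] at hk
      haveI : Subsingleton (P : Subgroup M) := (Nat.card_eq_one_iff_unique.mp hk).1
      exact isCyclic_of_subsingleton
    · haveI : IsCyclic P' := F.odd_sub p hp2 P' hP'p
      exact isCyclic_of_surjective e.symm.toMonoidHom e.symm.surjective
  · show Nat.Coprime (Nat.card M) (2 * 3 * 5)
    apply Nat.Coprime.mul_right
    apply Nat.Coprime.mul_right
    · exact ((Nat.Prime.coprime_iff_not_dvd Nat.prime_two).mpr hModd).symm
    · exact ((Nat.Prime.coprime_iff_not_dvd (by norm_num)).mpr hM3).symm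
    · exact ((Nat.Prime.coprime_iff_not_dvd (by norm_num)).mpr hM5).symm

end Cfsg.Agent.Helper56.ZG
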